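import Mathlib
import Cfsg.Prelude.Def_OddOrderLocal
import Cfsg.Prelude.Def_Local
import Cfsg.Prelude.Def_PLocal

/-!
# Vocabulary for the Bender–Glauberman project (relative / ambient style)

Everything is a subgroup of one ambient group `G` (MathComp style).  Definitions only.
-/

set_option autoImplicit false

namespace H24

open Cfsg

universe u v

/-! ## Notation for the standard subgroups -/

/-- normalizer of a subgroup -/
scoped notation:max "N[" H "]" => Subgroup.normalizer (SetLike.coe (H : Subgroup _))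
/-- centralizer of a subgroup -/
scoped notation:max "C[" H "]" => Subgroup.centralizer (SetLike.coe (H : Subgroup _))
/-- centralizer of an element -/
scoped notation:max "C{" x "}" => Subgroup.centralizer (Singleton.singleton x : Set _)
/-- centre of a subgroup, inside the ambient group -/
scoped notation:max "Z[" H "]" =>
  (H : Subgroup _) ⊓ Subgroup.centralizer (SetLike.coe (H : Subgroup _))
/-- `O_π(H)` -/
scoped notation:max "O[" π ", " H "]" => Cfsg.piCoreOf π H
/-- Fitting subgroup `F(H)` -/
scoped notation:max "F[" H "]" => Cfsg.fittingOf H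
set_option quotPrecheck false in
/-- order of a subgroup -/
scoped notation:max "♯" H:max => Nat.card ↥(H : Subgroup _)

variable {G : Type u} [Group G] {G' : Type v} [Group G']

/-- `K ⊴ H` : `K` is a normal subgroup of `H`. -/
structure Nml (K H : Subgroup G) : Prop where
  le : K ≤ H
  norm : H ≤ N[K]

@[inherit_doc] scoped infix:50 " ⊴ " => Nml

/-- The conjugate `g H g⁻¹`. -/
def cj (g : G) (H : Subgroup G) : Subgroup G := H.map (MulAut.conj g).toMonoidHom

/-- solvable subgroup -/
abbrev Sol (H : Subgroup G) : Prop := Group.IsSolvable H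
/-- nilpotent subgroup -/
abbrev Nil (H : Subgroup G) : Prop := Group.IsNilpotent H
/-- cyclic subgroup -/
abbrev Cyc (H : Subgroup G) : Prop := IsCyclic H
/-- abelian subgroup -/
abbrev Abl (H : Subgroup G) : Prop := IsMulCommutative H

/-- `n` is a `π`-number. -/
def PiNat (π : Set ℕ) (n : ℕ) : Prop := ∀ p : ℕ, p.Prime → p ∣ n → p ∈ π

/-- `H` is a `π`-group. A `p`-group is `IsPi {p} H`, a `p'`-group is `IsPi {p}ᶜ H`. -/
def IsPi (π : Set ℕ) (H : Subgroup G) : Prop := PiNat π (Nat.card H)

/-- `x` is a `π`-element. -/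
def PiElt (π : Set ℕ) (x : G) : Prop := PiNat π (orderOf x)

/-- `π(H)`: the prime divisors of the order of `H`. -/
def primesOf (H : Subgroup G) : Set ℕ := {p | p.Prime ∧ p ∣ Nat.card H}

/-- `H` is a Hall `π`-subgroup of `M` (MathComp `pi.-Hall(M) H`); definitionally
`Cfsg.IsPiHallOf π H M`. -/
def Hall (π : Set ℕ) (M H : Subgroup G) : Prop := IsPiHallOf π H M

/-- `P` is a Sylow `p`-subgroup of `M`. -/
abbrev Syl (p : ℕ) (M P : Subgroup G) : Prop := Hall {p} M P

/-- `H` is a Hall subgroup of `M` (for some set of primes). -/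
def IsHall (M H : Subgroup G) : Prop := H ≤ M ∧ (Nat.card H).Coprime (H.relIndex M)

/-- `M = A B` as sets. -/
structure IsProd (A B M : Subgroup G) : Prop where
  left_le : A ≤ M
  right_le : B ≤ M
  mul : ∀ m ∈ M, ∃ a ∈ A, ∃ b ∈ B, m = a * b

/-- `M = K ⋊ H` (MathComp `K ><| H = M`). -/
structure SD (K H M : Subgroup G) : Prop where
  norm : H ≤ N[K]
  inf : K ⊓ H = ⊥
  sup : K ⊔ H = M

/-- `M = A ∘ B`, a central product (MathComp `A \* B = M`). -/
structure CP (A B M : Subgroup G) : Prop where
  cent : B ≤ C[A]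
  sup : A ⊔ B = M

/-- `M = A × B` (MathComp `A \x B = M`). -/
structure DP (A B M : Subgroup G) : Prop where
  cent : B ≤ C[A]
  inf : A ⊓ B = ⊥
  sup : A ⊔ B = M

/-- `H` is a characteristic subgroup of `K`. -/
def Chr (H K : Subgroup G) : Prop := H ≤ K ∧ (H.subgroupOf K).Characteristic

/-- `H` is subnormal in `K`. -/
def Sbn (H K : Subgroup G) : Prop := H ≤ K ∧ (H.subgroupOf K).IsSubnormal

/-- `V` is minimal among the nontrivial subgroups normalised by `A` (MathComp `minnormal V A`). -/
structure MinNml (V A : Subgroup G) : Prop where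
  ne_bot : V ≠ ⊥
  norm : A ≤ N[V]
  min : ∀ W : Subgroup G, W ≤ V → W ≠ ⊥ → A ≤ N[W] → W = V

/-- `U / V` is a chief factor of `H` (MathComp `chief_factor H V U`). -/
structure Chief (H V U : Subgroup G) : Prop where
  lt : V < U
  nmlV : V ⊴ H
  nmlU : U ⊴ H
  max : ∀ W : Subgroup G, V ≤ W → W ≤ U → H ≤ N[W] → W = V ∨ W = U

/-- Frattini subgroup `Φ(H)` inside the ambient group. -/
noncomputable def Phi (H : Subgroup G) : Subgroup G := (frattini H).map H.subtype

/-- `n`-th derived subgroup of `H`. -/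
def der : ℕ → Subgroup G → Subgroup G
  | 0, H => H
  | n + 1, H => ⁅der n H, der n H⁆

/-- `n`-th term `Z_n(H)` of the upper central series of `H`, inside the ambient group. -/
def ucn (n : ℕ) (H : Subgroup G) : Subgroup G := (Subgroup.upperCentralSeries H n).map H.subtype

/-- `Ω_n(H)` for the prime `p`: generated by the elements of `H` of order dividing `p ^ n`.
`Ω₁` is `Cfsg.omegaOne p H`. -/
def omegaN (p n : ℕ) (H : Subgroup G) : Subgroup G :=
  Subgroup.closure {x : G | x ∈ H ∧ x ^ p ^ n = 1}

/-! ## Partial morphisms and quotients -/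

open scoped Classical in
/-- value of a morphism defined on `D` at an arbitrary element (junk `1` outside `D`). -/
noncomputable def ap {D : Subgroup G} (f : D →* G') (x : G) : G' :=
  if h : x ∈ D then f ⟨x, h⟩ else 1

/-- image `f @* A` of `A ⊓ D` under a morphism defined on `D`. -/
def img {D : Subgroup G} (f : D →* G') (A : Subgroup G) : Subgroup G' := (A.subgroupOf D).map f

/-- preimage `f @*^-1 B`. -/
def pre {D : Subgroup G} (f : D →* G') (B : Subgroup G') : Subgroup G := (B.comap f).map D.subtype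

/-- the group `N(K) / K` (MathComp `coset_of K`). -/
def QN (K : Subgroup G) : Type u := N[K] ⧸ K.subgroupOf N[K]

instance instGroupQN (K : Subgroup G) : Group (QN K) :=
  inferInstanceAs (Group (N[K] ⧸ K.subgroupOf N[K]))

instance instFiniteQN [Finite G] (K : Subgroup G) : Finite (QN K) :=
  inferInstanceAs (Finite (N[K] ⧸ K.subgroupOf N[K]))

/-- the quotient morphism `N(K) → N(K)/K`. -/
def coset (K : Subgroup G) : N[K] →* QN K := QuotientGroup.mk' (K.subgroupOf N[K])

/-- `A / K` (the image of `A ⊓ N(K)` in `N(K)/K`). -/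
abbrev quo (A K : Subgroup G) : Subgroup (QN K) := img (coset K) A

/-- the preimage of `B ≤ N(K)/K`. -/
abbrev coq (K : Subgroup G) (B : Subgroup (QN K)) : Subgroup G := pre (coset K) B

/-- the coset `x K` as an element of `N(K)/K` (for `x ∈ N(K)`). -/
noncomputable abbrev cs (K : Subgroup G) (x : G) : QN K := ap (coset K) x

/-- the preimage of `O_π(H / K)` (MathComp `pcore_mod`). -/
def coreMod (π : Set ℕ) (H K : Subgroup G) : Subgroup G := coq K O[π, quo H K]

/-- `O_{π, ρ}(H)`. -/
def core2 (π ρ : Set ℕ) (H : Subgroup G) : Subgroup G := coreMod ρ H O[π, H]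

/-- `O_{p', p}(H)`. -/
abbrev Opp (p : ℕ) (H : Subgroup G) : Subgroup G := core2 {p}ᶜ {p} H

/-- `H` has `p`-length at most one: `H / O_{p',p}(H)` is a `p'`-group. -/
def PLen1 (p : ℕ) (H : Subgroup G) : Prop := PiNat {p}ᶜ ((Opp p H).relIndex H)

/-- `C_G(U / V)`: the elements of `N(V)` that centralise `U / V` (for `V ⊴ U`). -/
def centQ (U V : Subgroup G) : Subgroup G := coq V C[quo U V]

/-! ## Elementary abelian subgroups and rank -/

/-- `A ∈ E_p(H)`. -/
structure PElem (p : ℕ) (H A : Subgroup G) : Prop where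
  le : A ≤ H
  elem : IsElementaryAbelian p A

/-- `A ∈ E_p^n(H)`. -/
structure PnElem (p n : ℕ) (H A : Subgroup G) : Prop where
  le : A ≤ H
  elem : IsElementaryAbelian p A
  card : Nat.card A = p ^ n

/-- `A ∈ E*_p(H)`: a maximal elementary abelian `p`-subgroup of `H`. -/
structure PmaxElem (p : ℕ) (H A : Subgroup G) : Prop where
  le : A ≤ H
  elem : IsElementaryAbelian p A
  max : ∀ B : Subgroup G, B ≤ H → IsElementaryAbelian p B → A ≤ B → B = A

/-- the `p`-rank `r_p(H)` (meaningful for `p` prime, `G` finite). -/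
noncomputable def prank (p : ℕ) (H : Subgroup G) : ℕ := sSup {n | ∃ A, PnElem p n H A}

/-- the rank `r(H)`: the largest `p`-rank. -/
noncomputable def rank (H : Subgroup G) : ℕ :=
  sSup {n | ∃ p : ℕ, p.Prime ∧ ∃ A, PnElem p n H A}

/-- narrow `p`-group in the MathComp form: rank at most two or a maximal elementary abelian
subgroup of order `p ^ 2`. -/
def Narrow (p : ℕ) (R : Subgroup G) : Prop :=
  2 < prank p R → ∃ E, PnElem p 2 R E ∧ PmaxElem p R E

/-- `A ∈ SCN_n(P)`. -/
def SCNn (n : ℕ) (P A : Subgroup G) : Prop := IsSCN P A ∧ n ≤ rank A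

/-- extraspecial subgroup (MathComp `extraspecial S`, with the prime explicit). -/
structure Extraspecial (p : ℕ) (S : Subgroup G) : Prop where
  pgroup : IsPi {p} S
  phi : Phi S = Z[S]
  der : ⁅S, S⁆ = Z[S]
  card : Nat.card ↥Z[S] = p

/-- `H` has a normal `π`-complement, i.e. `O_{π'}(H)` is a Hall `π'`-subgroup of `H`. -/
abbrev NCompl (π : Set ℕ) (H : Subgroup G) : Prop := Hall πᶜ H O[πᶜ, H]

/-! ## Actions by conjugation, Frobenius groups, TI sets -/

/-- no non-identity element of `H` centralises a non-identity element of `K`. -/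
def Semireg (K H : Subgroup G) : Prop := ∀ x ∈ H, x ≠ 1 → K ⊓ C{x} = ⊥

/-- `H` acts on `K` in a prime manner. -/
def Semiprime (K H : Subgroup G) : Prop := ∀ x ∈ H, x ≠ 1 → K ⊓ C{x} = K ⊓ C[H]

/-- `M = K ⋊ H` is a Frobenius group with kernel `K` and complement `H`. -/
structure Frob (M K H : Subgroup G) : Prop where
  sd : SD K H M
  ker_ne : K ≠ ⊥
  compl_ne : H ≠ ⊥
  reg : Semireg K H

/-- MathComp `normedTI A G L` with `G = ⊤`: `A` is a nonempty TI set with normaliser `L`. -/
structure NormedTI (A : Set G) (L : Subgroup G) : Prop where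
  nonempty : A.Nonempty
  norm : L ≤ Subgroup.normalizer A
  ti : ∀ a ∈ A, ∀ g : G, g * a * g⁻¹ ∈ A → g ∈ L

/-- the union of the `H`-conjugates of the elements of `A` (MathComp `class_support A H`). -/
def classSupp (A : Set G) (H : Subgroup G) : Set G := {y | ∃ a ∈ A, ∃ h ∈ H, y = h * a * h⁻¹}

/-! ## Maximal subgroups -/

/-- `𝓜(X) = {M}`. -/
structure UniqMax (X M : Subgroup G) : Prop where
  coatom : IsCoatom M
  le : X ≤ M
  uniq : ∀ L : Subgroup G, IsCoatom L → X ≤ L → L = M

/-- `X ∈ 𝓤`. -/
abbrev Uniq (X : Subgroup G) : Prop := InUniqueMaximal X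

/-- `A ∈ SCN_n[p]`: self-centralising normal of rank at least `n` in some Sylow `p`-subgroup. -/
def SCNnp (n p : ℕ) (A : Subgroup G) : Prop := ∃ P : Subgroup G, Syl p ⊤ P ∧ SCNn n P A

/-- `M_β`. -/
def betaCore (M : Subgroup G) : Subgroup G := O[beta M, M]

/-- `β(G)`: the ideal primes. -/
def betaG (G : Type u) [Group G] : Set ℕ := {p | IsIdealPrime p G}

end H24
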