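import Mathlib
import Cfsg.Agent.H24.Defs

/-!
# Base library 1: normalisers, centralisers, commutators, products, conjugation, orders
-/

set_option autoImplicit false

namespace H24

open Cfsg Subgroup

universe u v

variable {G : Type u} [Group G] {G' : Type v} [Group G']

section NC
variable {A B H K L X : Subgroup G} {g x y : G}

theorem mem_N : g ∈ N[H] ↔ ∀ h, h ∈ H ↔ g * h * g⁻¹ ∈ H := mem_normalizer_iff

theorem conj_mem (hg : g ∈ N[H]) (hx : x ∈ H) : g * x * g⁻¹ ∈ H := (mem_N.1 hg x).1 hx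

theorem conj_mem' (hg : g ∈ N[H]) (hx : x ∈ H) : g⁻¹ * x * g ∈ H := by
  simpa using conj_mem (inv_mem hg) hx

theorem conj_mem_iff (hg : g ∈ N[H]) : g * x * g⁻¹ ∈ H ↔ x ∈ H := (mem_N.1 hg x).symm

theorem conj_mem_iff' (hg : g ∈ N[H]) : g⁻¹ * x * g ∈ H ↔ x ∈ H := by
  simpa using conj_mem_iff (x := x) (inv_mem hg)

theorem le_N_iff : A ≤ N[H] ↔ ∀ a ∈ A, ∀ x ∈ H, a * x * a⁻¹ ∈ H := le_normalizer_iff

theorem mem_N_of_finite [Finite G] (h : ∀ x ∈ H, g * x * g⁻¹ ∈ H) : g ∈ N[H] :=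
  mem_normalizer_fintype h

theorem mem_C : g ∈ C[H] ↔ ∀ h ∈ H, h * g = g * h := mem_centralizer_iff

theorem mem_C' : g ∈ C[H] ↔ ∀ h ∈ H, g * h = h * g := by
  rw [mem_C]; exact ⟨fun h a ha => (h a ha).symm, fun h a ha => (h a ha).symm⟩

theorem mem_C1 : g ∈ C{x} ↔ g * x = x * g := mem_centralizer_singleton_iff

theorem mem_C1_comm : g ∈ C{x} ↔ x ∈ C{g} := by
  rw [mem_C1, mem_C1]; exact eq_comm

theorem mem_C1_iff_conj : g ∈ C{x} ↔ g * x * g⁻¹ = x := by
  rw [mem_C1, mul_inv_eq_iff_eq_mul]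

theorem self_mem_C1 (x : G) : x ∈ C{x} := mem_C1.2 rfl

theorem le_C_iff : A ≤ C[B] ↔ ∀ a ∈ A, ∀ b ∈ B, a * b = b * a :=
  ⟨fun h _ ha => mem_C'.1 (h ha), fun h a ha => mem_C'.2 (h a ha)⟩

theorem centsC : A ≤ C[B] ↔ B ≤ C[A] := le_centralizer_iff

theorem cents_symm (h : A ≤ C[B]) : B ≤ C[A] := centsC.1 h

theorem comm_of_cent (h : A ≤ C[B]) (ha : x ∈ A) (hb : y ∈ B) : x * y = y * x :=
  le_C_iff.1 h x ha y hb

theorem conj_eq_of_mem_C (hg : g ∈ C[H]) (hx : x ∈ H) : g * x * g⁻¹ = x := by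
  rw [mem_C'.1 hg x hx]; simp

theorem C_anti (h : A ≤ B) : C[B] ≤ C[A] := centralizer_le h

theorem cents_of_le (h : X ≤ C[B]) (hA : A ≤ B) : X ≤ C[A] := h.trans (C_anti hA)

theorem C_le_N (H : Subgroup G) : C[H] ≤ N[H] := centralizer_le_normalizer _

theorem norm_of_cent (h : X ≤ C[A]) : X ≤ N[A] := h.trans (C_le_N A)

theorem norm_self (H : Subgroup G) : H ≤ N[H] := le_normalizer

theorem norm_of_le (h : X ≤ A) : X ≤ N[A] := h.trans (norm_self A)

theorem C_le_C1 (hx : x ∈ H) : C[H] ≤ C{x} :=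
  centralizer_le (Set.singleton_subset_iff.2 hx)

theorem mem_C_iff_le_C1 : x ∈ C[H] ↔ H ≤ C{x} := by
  rw [mem_C]; exact ⟨fun h a ha => mem_C1.2 (h a ha), fun h a ha => mem_C1.1 (h ha)⟩

theorem C_zpowers (x : G) : C[zpowers x] = C{x} := by
  rw [zpowers_eq_closure, centralizer_closure]

theorem zpowers_le_C1 (x : G) : zpowers x ≤ C{x} := zpowers_le.2 (self_mem_C1 x)

theorem C1_le_C1_of_mem_zpowers (hy : y ∈ zpowers x) : C{x} ≤ C{y} := by
  rw [← C_zpowers x]; exact C_le_C1 hy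

@[simp] theorem C1_one : C{(1 : G)} = ⊤ := by
  ext; simp [mem_C1]

theorem C_bot : C[(⊥ : Subgroup G)] = ⊤ := C1_one

theorem N_bot : N[(⊥ : Subgroup G)] = ⊤ := normalizer_eq_top _

theorem N_top : N[(⊤ : Subgroup G)] = ⊤ := normalizer_eq_top _

@[simp] theorem N_one : normalizer ({1} : Set G) = ⊤ := N_bot

@[simp] theorem N_univ : normalizer (Set.univ : Set G) = ⊤ := N_top

theorem C_sup (A B : Subgroup G) : C[A ⊔ B] = C[A] ⊓ C[B] := by
  apply le_antisymm (le_inf (C_anti le_sup_left) (C_anti le_sup_right))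
  exact centsC.1 (sup_le (centsC.1 inf_le_left) (centsC.1 inf_le_right))

theorem cents_sup (hA : X ≤ C[A]) (hB : X ≤ C[B]) : X ≤ C[A ⊔ B] := by
  rw [C_sup]; exact le_inf hA hB

theorem le_CC (A : Subgroup G) : A ≤ C[C[A]] := centsC.1 le_rfl

theorem abl_iff : Abl A ↔ A ≤ C[A] := le_centralizer_iff_isMulCommutative.symm

theorem Abl.le_C (h : Abl A) : A ≤ C[A] := abl_iff.1 h

theorem Abl.comm (h : Abl A) (hx : x ∈ A) (hy : y ∈ A) : x * y = y * x :=
  comm_of_cent h.le_C hx hy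

theorem Abl.of_le (h : Abl B) (hAB : A ≤ B) : Abl A :=
  abl_iff.2 (hAB.trans (h.le_C.trans (C_anti hAB)))

theorem Abl.cents (h : Abl H) (hA : A ≤ H) (hB : B ≤ H) : A ≤ C[B] :=
  hA.trans (h.le_C.trans (C_anti hB))

theorem Abl.norm (h : Abl H) (hA : A ≤ H) (hB : B ≤ H) : A ≤ N[B] :=
  norm_of_cent (h.cents hA hB)

theorem Abl.sup (hA : Abl A) (hB : Abl B) (h : A ≤ C[B]) : Abl (A ⊔ B) :=
  abl_iff.2 (sup_le (cents_sup hA.le_C h) (cents_sup (cents_symm h) hB.le_C))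

theorem abl_bot : Abl (⊥ : Subgroup G) := abl_iff.2 bot_le

theorem abl_zpowers (x : G) : Abl (zpowers x) := by
  rw [abl_iff, C_zpowers]; exact zpowers_le_C1 x

theorem abl_center (A : Subgroup G) : Abl Z[A] :=
  abl_iff.2 (inf_le_right.trans (C_anti inf_le_left))

theorem Abl.center_eq (h : Abl A) : Z[A] = A := inf_eq_left.2 h.le_C

theorem le_C_center (A : Subgroup G) : A ≤ C[Z[A]] := centsC.1 inf_le_right

theorem norm_inf (hA : X ≤ N[A]) (hB : X ≤ N[B]) : X ≤ N[A ⊓ B] :=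
  (le_inf hA hB).trans inf_normalizer_le_normalizer_inf

theorem norm_sup (hA : X ≤ N[A]) (hB : X ≤ N[B]) : X ≤ N[A ⊔ B] :=
  (le_inf hA hB).trans (normalizer_inf_normalizer_le_normalizer_sup A B)

theorem norm_C (hA : X ≤ N[A]) : X ≤ N[C[A]] := by
  rw [le_N_iff]
  intro a ha c hc
  rw [mem_C]
  intro h hh
  have := mem_C.1 hc _ (conj_mem' (hA ha) hh)
  calc h * (a * c * a⁻¹) = a * ((a⁻¹ * h * a) * c) * a⁻¹ := by group
    _ = a * c * a⁻¹ * h := by rw [this]; group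

theorem norm_N (hA : X ≤ N[A]) : X ≤ N[N[A]] := norm_of_le hA

theorem N_le_NC (A : Subgroup G) : N[A] ≤ N[C[A]] := norm_C le_rfl

theorem norm_Z (hA : X ≤ N[A]) : X ≤ N[Z[A]] := norm_inf hA (norm_C hA)

theorem norm_C1 (h : X ≤ C{x}) : X ≤ N[C{x}] := norm_of_le h

theorem norm_zpowers_of_cent (h : X ≤ C{x}) : X ≤ N[zpowers x] :=
  norm_of_cent (by rwa [C_zpowers])

theorem norm_closure {S : Set G} (h : ∀ a ∈ X, ∀ s ∈ S, a * s * a⁻¹ ∈ closure S) :
    X ≤ N[closure S] := by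
  rw [le_N_iff]
  intro a ha y hy
  have : closure S ≤ (closure S).comap (MulAut.conj a).toMonoidHom := by
    rw [closure_le]; intro s hs; exact h a ha s hs
  exact this hy

theorem norm_sSup {S : Set (Subgroup G)} (h : ∀ Y ∈ S, X ≤ N[Y]) : X ≤ N[sSup S] := by
  rw [sSup_eq_iSup']
  exact (le_iInf fun Y : S => h Y Y.2).trans (iInf_normalizer_le_normalizer_iSup _)

theorem norm_iSup {ι : Sort*} {Y : ι → Subgroup G} (h : ∀ i, X ≤ N[Y i]) : X ≤ N[⨆ i, Y i] :=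
  (le_iInf h).trans (iInf_normalizer_le_normalizer_iSup _)

theorem norm_iInf {ι : Sort*} {Y : ι → Subgroup G} (h : ∀ i, X ≤ N[Y i]) : X ≤ N[⨅ i, Y i] :=
  (le_iInf h).trans (iInf_normalizer_le_normalizer_iInf _)

theorem norm_comm (hA : X ≤ N[A]) (hB : X ≤ N[B]) : X ≤ N[⁅A, B⁆] := by
  rw [Subgroup.commutator_def]
  apply norm_closure
  rintro a ha s ⟨g₁, h₁, g₂, h₂, rfl⟩
  rw [conjugate_commutatorElement]
  exact subset_closure ⟨_, conj_mem (hA ha) h₁, _, conj_mem (hB ha) h₂, rfl⟩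

theorem norm_der1 (hA : X ≤ N[A]) : X ≤ N[⁅A, A⁆] := norm_comm hA hA

theorem norm_of_normal (X N : Subgroup G) [N.Normal] : X ≤ N[N] := le_normalizer_of_normal

/-! ### commutators -/

theorem commC (A B : Subgroup G) : ⁅A, B⁆ = ⁅B, A⁆ := commutator_comm A B

theorem comm_le_left (h : B ≤ N[A]) : ⁅A, B⁆ ≤ A := le_normalizer_iff_commutator_le_left.1 h

theorem comm_le_right (h : A ≤ N[B]) : ⁅A, B⁆ ≤ B := le_normalizer_iff_commutator_le_right.1 h

theorem norm_of_comm_le_left (h : ⁅A, B⁆ ≤ A) : B ≤ N[A] := le_normalizer_iff_commutator_le_left.2 h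

theorem norm_of_comm_le_right (h : ⁅A, B⁆ ≤ B) : A ≤ N[B] :=
  le_normalizer_iff_commutator_le_right.2 h

theorem comm_eq_bot : ⁅A, B⁆ = ⊥ ↔ A ≤ C[B] := commutator_eq_bot_iff_le_centralizer

theorem comm_eq_bot' : ⁅A, B⁆ = ⊥ ↔ B ≤ C[A] := by rw [comm_eq_bot, centsC]

theorem comm_mono_left (h : A ≤ B) : ⁅A, K⁆ ≤ ⁅B, K⁆ := commutator_mono h le_rfl

theorem comm_mono_right (h : A ≤ B) : ⁅K, A⁆ ≤ ⁅K, B⁆ := commutator_mono le_rfl h

theorem comm_le_of_le (hA : A ≤ H) (hB : B ≤ H) : ⁅A, B⁆ ≤ H :=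
  (commutator_le_sup A B).trans (sup_le hA hB)

theorem der1_le (H : Subgroup G) : ⁅H, H⁆ ≤ H := commutator_le_self H

theorem der1_mono (h : A ≤ B) : ⁅A, A⁆ ≤ ⁅B, B⁆ := commutator_mono h h

theorem norm_comm_left (A B : Subgroup G) : A ≤ N[⁅A, B⁆] := normalizer_commutator_ge_left A B

theorem norm_comm_right (A B : Subgroup G) : B ≤ N[⁅A, B⁆] := normalizer_commutator_ge_right A B

theorem der1_eq_bot : ⁅A, A⁆ = ⊥ ↔ Abl A := commutator_self_eq_bot_iff

/-- if `⁅H, H⁆ ≤ K ≤ H` then `H` normalises `K`. -/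
theorem norm_of_der1_le (h1 : ⁅H, H⁆ ≤ K) (h2 : K ≤ H) : H ≤ N[K] :=
  norm_of_comm_le_right ((comm_mono_right h2).trans h1)

/-- if `A` and `B` normalise each other and meet trivially then they commute. -/
theorem cents_of_inf_eq_bot (hA : A ≤ N[B]) (hB : B ≤ N[A]) (h : A ⊓ B = ⊥) : A ≤ C[B] := by
  rw [← comm_eq_bot, eq_bot_iff, ← h]
  exact le_inf (comm_le_left hB) (comm_le_right hA)

theorem three_subgroup (h1 : ⁅⁅A, B⁆, K⁆ = ⊥) (h2 : ⁅⁅B, K⁆, A⁆ = ⊥) : ⁅⁅K, A⁆, B⁆ = ⊥ :=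
  commutator_commutator_eq_bot_of_rotate h1 h2

/-! ### products -/

theorem mem_sup_of_norm (h : B ≤ N[A]) : x ∈ A ⊔ B ↔ ∃ a ∈ A, ∃ b ∈ B, x = a * b := by
  rw [← SetLike.mem_coe, coe_mul_of_right_le_normalizer_left A B h]
  constructor
  · rintro ⟨a, ha, b, hb, rfl⟩; exact ⟨a, ha, b, hb, rfl⟩
  · rintro ⟨a, ha, b, hb, rfl⟩; exact ⟨a, ha, b, hb, rfl⟩

theorem mem_sup_of_norm' (h : A ≤ N[B]) : x ∈ A ⊔ B ↔ ∃ a ∈ A, ∃ b ∈ B, x = a * b := by
  rw [← SetLike.mem_coe, coe_mul_of_left_le_normalizer_right A B h]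
  constructor
  · rintro ⟨a, ha, b, hb, rfl⟩; exact ⟨a, ha, b, hb, rfl⟩
  · rintro ⟨a, ha, b, hb, rfl⟩; exact ⟨a, ha, b, hb, rfl⟩

theorem isProd_sup (h : B ≤ N[A]) : IsProd A B (A ⊔ B) :=
  ⟨le_sup_left, le_sup_right, fun _ hm => (mem_sup_of_norm h).1 hm⟩

theorem isProd_sup' (h : A ≤ N[B]) : IsProd A B (A ⊔ B) :=
  ⟨le_sup_left, le_sup_right, fun _ hm => (mem_sup_of_norm' h).1 hm⟩

theorem IsProd.sup_eq {M : Subgroup G} (h : IsProd A B M) : A ⊔ B = M := by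
  apply le_antisymm (sup_le h.left_le h.right_le)
  intro m hm
  obtain ⟨a, ha, b, hb, rfl⟩ := h.mul m hm
  exact mul_mem_sup ha hb

theorem IsProd.symm {M : Subgroup G} (h : IsProd A B M) : IsProd B A M := by
  refine ⟨h.right_le, h.left_le, fun m hm => ?_⟩
  obtain ⟨a, ha, b, hb, e⟩ := h.mul m⁻¹ (inv_mem hm)
  exact ⟨b⁻¹, inv_mem hb, a⁻¹, inv_mem ha, by rw [← mul_inv_rev, ← e, inv_inv]⟩

theorem IsProd.mono_left {M A' : Subgroup G} (h : IsProd A B M) (h1 : A ≤ A') (h2 : A' ≤ M) :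
    IsProd A' B M :=
  ⟨h2, h.right_le, fun m hm => by
    obtain ⟨a, ha, b, hb, e⟩ := h.mul m hm
    exact ⟨a, h1 ha, b, hb, e⟩⟩

theorem IsProd.mono_right {M B' : Subgroup G} (h : IsProd A B M) (h1 : B ≤ B') (h2 : B' ≤ M) :
    IsProd A B' M := (h.symm.mono_left h1 h2).symm

/-- Dedekind's law. -/
theorem IsProd.inf_left {M : Subgroup G} (h : IsProd A B M) (h1 : A ≤ L) (h2 : L ≤ M) :
    IsProd A (B ⊓ L) L := by
  refine ⟨h1, inf_le_right, fun m hm => ?_⟩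
  obtain ⟨a, ha, b, hb, e⟩ := h.mul m (h2 hm)
  refine ⟨a, ha, b, mem_inf.2 ⟨hb, ?_⟩, e⟩
  have : b = a⁻¹ * m := by rw [e]; group
  rw [this]; exact mul_mem (inv_mem (h1 ha)) hm

theorem IsProd.inf_right {M : Subgroup G} (h : IsProd A B M) (h1 : B ≤ L) (h2 : L ≤ M) :
    IsProd (A ⊓ L) B L := (h.symm.inf_left h1 h2).symm

/-- Dedekind's law, lattice form. -/
theorem IsProd.modl {M : Subgroup G} (h : IsProd A B M) (h1 : A ≤ L) :
    A ⊔ (B ⊓ L) = M ⊓ L := by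
  have := (h.inf_left (L := M ⊓ L) (le_inf h.left_le h1) inf_le_left).sup_eq
  rwa [← inf_assoc, inf_eq_left.2 h.right_le] at this

theorem IsProd.modr {M : Subgroup G} (h : IsProd A B M) (h1 : B ≤ L) :
    (A ⊓ L) ⊔ B = M ⊓ L := by rw [sup_comm]; exact h.symm.modl h1

theorem group_modl (h : B ≤ N[A]) (h1 : A ≤ L) : A ⊔ (B ⊓ L) = (A ⊔ B) ⊓ L :=
  (isProd_sup h).modl h1

theorem group_modl' (h : A ≤ N[B]) (h1 : A ≤ L) : A ⊔ (B ⊓ L) = (A ⊔ B) ⊓ L :=
  (isProd_sup' h).modl h1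

theorem group_modr (h : B ≤ N[A]) (h1 : B ≤ L) : (A ⊓ L) ⊔ B = (A ⊔ B) ⊓ L :=
  (isProd_sup h).modr h1

theorem group_modr' (h : A ≤ N[B]) (h1 : B ≤ L) : (A ⊓ L) ⊔ B = (A ⊔ B) ⊓ L :=
  (isProd_sup' h).modr h1

theorem IsProd.comm_left {M : Subgroup G} (h : IsProd A B M) (hn : A ≤ N[⁅B, K⁆]) :
    ⁅M, K⁆ = ⁅A, K⁆ ⊔ ⁅B, K⁆ := by
  apply le_antisymm _ (sup_le (comm_mono_left h.left_le) (comm_mono_left h.right_le))
  rw [commutator_le]
  intro m hm k hk
  obtain ⟨a, ha, b, hb, rfl⟩ := h.mul m hm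
  rw [commutatorElement_mul_left_eq_conj_mul]
  exact mul_mem (mem_sup_right (conj_mem (hn ha) (commutator_mem_commutator hb hk)))
    (mem_sup_left (commutator_mem_commutator ha hk))

theorem IsProd.comm_left' {M : Subgroup G} (h : IsProd A B M) (hn : B ≤ N[⁅A, K⁆]) :
    ⁅M, K⁆ = ⁅A, K⁆ ⊔ ⁅B, K⁆ := by
  rw [h.symm.comm_left hn, sup_comm]

theorem IsProd.comm_right {M : Subgroup G} (h : IsProd A B M) (hn : A ≤ N[⁅K, B⁆]) :
    ⁅K, M⁆ = ⁅K, A⁆ ⊔ ⁅K, B⁆ := by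
  rw [commC K M, commC K A, commC K B]; exact h.comm_left (by rwa [commC])

theorem IsProd.comm_right' {M : Subgroup G} (h : IsProd A B M) (hn : B ≤ N[⁅K, A⁆]) :
    ⁅K, M⁆ = ⁅K, A⁆ ⊔ ⁅K, B⁆ := by
  rw [h.symm.comm_right hn, sup_comm]

/-- if `M = A B` and `B` centralises `K` then `[M, K] = [A, K]`. -/
theorem IsProd.comm_left_of_cent {M : Subgroup G} (h : IsProd A B M) (hc : B ≤ C[K]) :
    ⁅M, K⁆ = ⁅A, K⁆ := by
  rw [h.comm_left (by rw [comm_eq_bot.2 hc]; simp), comm_eq_bot.2 hc, sup_bot_eq]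

theorem IsProd.comm_right_of_cent {M : Subgroup G} (h : IsProd A B M) (hc : B ≤ C[K]) :
    ⁅K, M⁆ = ⁅K, A⁆ := by
  rw [commC K M, commC K A]; exact h.comm_left_of_cent hc

/-- the derived subgroup of a product `A B` with `A` normal. -/
theorem der1_sup (h : B ≤ N[A]) : ⁅A ⊔ B, A ⊔ B⁆ = ⁅A, A⁆ ⊔ ⁅A, B⁆ ⊔ ⁅B, B⁆ := by
  have hp := isProd_sup h
  have hA : A ⊔ B ≤ N[A] := sup_le (norm_self A) h
  rw [hp.comm_left' (norm_comm h (norm_of_le le_sup_right)),
    hp.comm_right' (norm_comm h h), hp.comm_right' (norm_comm (norm_self B) h), commC B A]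
  simp only [sup_assoc, sup_left_idem]

theorem der1_sup_of_cent (h : B ≤ C[A]) : ⁅A ⊔ B, A ⊔ B⁆ = ⁅A, A⁆ ⊔ ⁅B, B⁆ := by
  rw [der1_sup (norm_of_cent h), comm_eq_bot'.2 h, sup_bot_eq]

end NC

/-! ### normal subgroups -/
section Nml
variable {A B H K L M : Subgroup G}

theorem Nml.refl (H : Subgroup G) : H ⊴ H := ⟨le_rfl, norm_self H⟩

theorem Nml.bot (H : Subgroup G) : ⊥ ⊴ H := ⟨bot_le, by simp⟩

theorem Nml.of_le (h : K ⊴ H) (h1 : K ≤ L) (h2 : L ≤ H) : K ⊴ L := ⟨h1, h2.trans h.norm⟩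

theorem Nml.inf (h : K ⊴ H) (h' : L ⊴ H) : K ⊓ L ⊴ H :=
  ⟨inf_le_left.trans h.le, norm_inf h.norm h'.norm⟩

theorem Nml.sup (h : K ⊴ H) (h' : L ⊴ H) : K ⊔ L ⊴ H :=
  ⟨sup_le h.le h'.le, norm_sup h.norm h'.norm⟩

theorem Nml.inf_right (h : K ⊴ H) (hL : L ≤ H) : K ⊓ L ⊴ L :=
  ⟨inf_le_right, norm_inf (hL.trans h.norm) (norm_self L)⟩

theorem Nml.inf_left (h : K ⊴ H) (hL : L ≤ H) : L ⊓ K ⊴ L :=
  ⟨inf_le_left, norm_inf (norm_self L) (hL.trans h.norm)⟩

theorem nml_inf_of_norm (h : L ≤ N[K]) : L ⊓ K ⊴ L := ⟨inf_le_left, norm_inf (norm_self L) h⟩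

theorem nml_inf_of_norm' (h : L ≤ N[K]) : K ⊓ L ⊴ L := ⟨inf_le_right, norm_inf h (norm_self L)⟩

theorem Nml.infC (h : K ⊴ H) : H ⊓ C[K] ⊴ H := nml_inf_of_norm (norm_C h.norm)

theorem Nml.comm (h : K ⊴ H) (h' : L ⊴ H) : ⁅K, L⁆ ⊴ H :=
  ⟨comm_le_of_le h.le h'.le, norm_comm h.norm h'.norm⟩

theorem Nml.der1 (h : K ⊴ H) : ⁅K, K⁆ ⊴ H := h.comm h

theorem Nml.center (h : K ⊴ H) : Z[K] ⊴ H := ⟨inf_le_left.trans h.le, norm_Z h.norm⟩

theorem der1_nml (H : Subgroup G) : ⁅H, H⁆ ⊴ H := (Nml.refl H).der1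

theorem center_nml (H : Subgroup G) : Z[H] ⊴ H := (Nml.refl H).center

theorem nml_N (H : Subgroup G) : H ⊴ N[H] := ⟨norm_self H, le_rfl⟩

theorem C_nml_N (H : Subgroup G) : C[H] ⊴ N[H] := ⟨C_le_N H, N_le_NC H⟩

theorem nml_sup_left (h : B ≤ N[A]) : A ⊴ A ⊔ B := ⟨le_sup_left, sup_le (norm_self A) h⟩

theorem nml_sup_right (h : A ≤ N[B]) : B ⊴ A ⊔ B := ⟨le_sup_right, sup_le h (norm_self B)⟩

theorem nml_of_der1_le (h1 : ⁅H, H⁆ ≤ K) (h2 : K ≤ H) : K ⊴ H := ⟨h2, norm_of_der1_le h1 h2⟩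

theorem Abl.nml (h : Abl H) (hK : K ≤ H) : K ⊴ H := ⟨hK, h.norm le_rfl hK⟩

theorem nml_of_le_center (h : K ≤ Z[H]) : K ⊴ H :=
  ⟨h.trans inf_le_left, norm_of_cent (cents_symm (h.trans inf_le_right))⟩

theorem nml_top_iff : K ⊴ ⊤ ↔ K.Normal :=
  ⟨fun h => normalizer_eq_top_iff.1 (top_le_iff.1 h.norm),
    fun _ => ⟨le_top, le_normalizer_of_normal⟩⟩

theorem nml_top (K : Subgroup G) [h : K.Normal] : K ⊴ ⊤ := nml_top_iff.2 h

theorem Nml.normal (h : K ⊴ H) : (K.subgroupOf H).Normal :=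
  (normal_subgroupOf_iff_le_normalizer h.le).2 h.norm

theorem nml_of_normal (h : K ≤ H) (hn : (K.subgroupOf H).Normal) : K ⊴ H :=
  ⟨h, (normal_subgroupOf_iff_le_normalizer h).1 hn⟩

theorem nml_map_subtype (L : Subgroup H) [hL : L.Normal] : L.map H.subtype ⊴ H := by
  apply nml_of_normal (map_subtype_le L)
  rwa [← comap_subtype, comap_map_eq_self_of_injective H.subtype_injective]

theorem nml_sSup {S : Set (Subgroup G)} (h : ∀ Y ∈ S, Y ⊴ H) : sSup S ⊴ H :=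
  ⟨sSup_le fun Y hY => (h Y hY).le, norm_sSup fun Y hY => (h Y hY).norm⟩

theorem Nml.conj_mem (h : K ⊴ H) {g x : G} (hg : g ∈ H) (hx : x ∈ K) : g * x * g⁻¹ ∈ K :=
  H24.conj_mem (h.norm hg) hx

theorem Nml.isProd_sup (h : K ⊴ H) (hL : L ≤ H) : IsProd K L (K ⊔ L) :=
  H24.isProd_sup (hL.trans h.norm)

theorem Nml.map (h : K ⊴ H) (f : G →* G') : K.map f ⊴ H.map f :=
  ⟨map_mono h.le, (map_mono h.norm).trans (le_normalizer_map f)⟩

theorem norm_map {X : Subgroup G} (h : X ≤ N[A]) (f : G →* G') : X.map f ≤ N[A.map f] :=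
  (map_mono h).trans (le_normalizer_map f)

theorem cent_map {X : Subgroup G} (h : X ≤ C[A]) (f : G →* G') : X.map f ≤ C[A.map f] :=
  (map_mono h).trans (map_centralizer_le_centralizer_image _ f)

theorem norm_of_map {X : Subgroup G} {f : G →* G'} (hf : Function.Injective f)
    (h : X.map f ≤ N[A.map f]) : X ≤ N[A] := by
  rw [le_N_iff] at h ⊢
  intro a ha x hx
  have := h (f a) (mem_map_of_mem f ha) (f x) (mem_map_of_mem f hx)
  rw [← map_inv, ← map_mul, ← map_mul] at this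
  exact (mem_map_iff_mem hf).1 this

theorem cent_of_map {X : Subgroup G} {f : G →* G'} (hf : Function.Injective f)
    (h : X.map f ≤ C[A.map f]) : X ≤ C[A] := by
  rw [le_C_iff] at h ⊢
  intro a ha x hx
  apply hf
  rw [map_mul, map_mul]
  exact h _ (mem_map_of_mem f ha) _ (mem_map_of_mem f hx)

theorem nml_map_iff {f : G →* G'} (hf : Function.Injective f) : K.map f ⊴ H.map f ↔ K ⊴ H :=
  ⟨fun h => ⟨(map_le_map_iff_of_injective hf).1 h.le, norm_of_map hf h.norm⟩, fun h => h.map f⟩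

theorem map_inf_C {f : G →* G'} (hf : Function.Injective f) (A B : Subgroup G) :
    (A ⊓ C[B]).map f = A.map f ⊓ C[B.map f] := by
  apply le_antisymm (le_inf (map_mono inf_le_left) (cent_map inf_le_right f))
  rintro _ ⟨⟨a, ha, rfl⟩, hc⟩
  refine mem_map_of_mem f ⟨ha, ?_⟩
  have : zpowers a ≤ C[B] := cent_of_map hf (by rw [MonoidHom.map_zpowers]; exact zpowers_le.2 hc)
  exact this (mem_zpowers a)

theorem map_inf_N {f : G →* G'} (hf : Function.Injective f) (A B : Subgroup G) :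
    (A ⊓ N[B]).map f = A.map f ⊓ N[B.map f] := by
  apply le_antisymm (le_inf (map_mono inf_le_left) (norm_map inf_le_right f))
  rintro _ ⟨⟨a, ha, rfl⟩, hc⟩
  refine mem_map_of_mem f ⟨ha, ?_⟩
  have : zpowers a ≤ N[B] := norm_of_map hf (by rw [MonoidHom.map_zpowers]; exact zpowers_le.2 hc)
  exact this (mem_zpowers a)

theorem Abl.map (h : Abl A) (f : G →* G') : Abl (A.map f) := abl_iff.2 (cent_map h.le_C f)

end Nml

/-! ### conjugation -/
section cj
variable {A B H K : Subgroup G} {g h x : G}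

theorem cj_def (g : G) (H : Subgroup G) : cj g H = H.map (MulAut.conj g).toMonoidHom := rfl

theorem cj_eq_smul (g : G) (H : Subgroup G) : cj g H = (open Pointwise in MulAut.conj g • H) := rfl

theorem conj_injective' (g : G) : Function.Injective (MulAut.conj g).toMonoidHom :=
  (MulAut.conj g).injective

theorem mem_cj : x ∈ cj g H ↔ g⁻¹ * x * g ∈ H := by
  constructor
  · rintro ⟨y, hy, rfl⟩; simpa [mul_assoc] using hy
  · intro h; exact ⟨_, h, by simp [mul_assoc]⟩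

theorem mem_cj' : x ∈ cj g H ↔ ∃ y ∈ H, x = g * y * g⁻¹ := by
  constructor
  · rintro ⟨y, hy, rfl⟩; exact ⟨y, hy, rfl⟩
  · rintro ⟨y, hy, rfl⟩; exact ⟨y, hy, rfl⟩

theorem conj_mem_cj (g : G) (hx : x ∈ H) : g * x * g⁻¹ ∈ cj g H := ⟨x, hx, rfl⟩

@[simp] theorem conj_mem_cj_iff : g * x * g⁻¹ ∈ cj g H ↔ x ∈ H := by
  rw [mem_cj]; simp [mul_assoc]

@[simp] theorem cj_one (H : Subgroup G) : cj 1 H = H := by ext; simp [mem_cj]

theorem cj_mul (g h : G) (H : Subgroup G) : cj (g * h) H = cj g (cj h H) := by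
  ext; simp [mem_cj, mul_assoc]

@[simp] theorem cj_inv_cj (g : G) (H : Subgroup G) : cj g⁻¹ (cj g H) = H := by
  rw [← cj_mul]; simp

@[simp] theorem cj_cj_inv (g : G) (H : Subgroup G) : cj g (cj g⁻¹ H) = H := by
  rw [← cj_mul]; simp

@[simp] theorem cj_bot (g : G) : cj g (⊥ : Subgroup G) = ⊥ := map_bot _

@[simp] theorem cj_top (g : G) : cj g (⊤ : Subgroup G) = ⊤ := by ext; simp [mem_cj]

theorem cj_mono (g : G) (h : A ≤ B) : cj g A ≤ cj g B := map_mono h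

@[simp] theorem cj_le_cj : cj g A ≤ cj g B ↔ A ≤ B := map_le_map_iff_of_injective (conj_injective' g)

@[simp] theorem cj_lt_cj : cj g A < cj g B ↔ A < B := map_lt_map_iff_of_injective (conj_injective' g)

@[simp] theorem cj_inj : cj g A = cj g B ↔ A = B := (map_injective (conj_injective' g)).eq_iff

@[simp] theorem cj_eq_bot : cj g A = ⊥ ↔ A = ⊥ := map_eq_bot_iff_of_injective _ (conj_injective' g)

@[simp] theorem cj_eq_top : cj g A = ⊤ ↔ A = ⊤ := by rw [← cj_top g, cj_inj, cj_top]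

theorem cj_le_iff : cj g A ≤ B ↔ A ≤ cj g⁻¹ B := by
  rw [← cj_le_cj (g := g⁻¹), cj_inv_cj]

theorem le_cj_iff : A ≤ cj g B ↔ cj g⁻¹ A ≤ B := by
  rw [← cj_le_cj (g := g⁻¹), cj_inv_cj]

theorem cj_eq_iff : cj g A = B ↔ A = cj g⁻¹ B := by
  rw [← cj_inj (g := g⁻¹), cj_inv_cj]

theorem cj_sup (g : G) (A B : Subgroup G) : cj g (A ⊔ B) = cj g A ⊔ cj g B := map_sup _ _ _

theorem cj_inf (g : G) (A B : Subgroup G) : cj g (A ⊓ B) = cj g A ⊓ cj g B :=
  map_inf _ _ _ (conj_injective' g)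

theorem cj_comm (g : G) (A B : Subgroup G) : cj g ⁅A, B⁆ = ⁅cj g A, cj g B⁆ := map_commutator _ _ _

theorem cj_zpowers (g x : G) : cj g (zpowers x) = zpowers (g * x * g⁻¹) :=
  MonoidHom.map_zpowers _ _

theorem cj_C (g : G) (A : Subgroup G) : cj g C[A] = C[cj g A] := by
  have := map_inf_C (conj_injective' g) ⊤ A
  rwa [top_inf_eq, ← cj_def, ← cj_def, ← cj_def, cj_top, top_inf_eq] at this

theorem cj_N (g : G) (A : Subgroup G) : cj g N[A] = N[cj g A] := by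
  have := map_inf_N (conj_injective' g) ⊤ A
  rwa [top_inf_eq, ← cj_def, ← cj_def, ← cj_def, cj_top, top_inf_eq] at this

theorem cj_C1 (g x : G) : cj g C{x} = C{g * x * g⁻¹} := by
  rw [← C_zpowers, cj_C, cj_zpowers, C_zpowers]

theorem mem_N_iff_cj : g ∈ N[H] ↔ cj g H = H := mem_normalizer_iff_map_conj_eq

theorem cj_of_mem_N (h : g ∈ N[H]) : cj g H = H := mem_N_iff_cj.1 h

theorem cj_of_mem (h : g ∈ H) : cj g H = H := cj_of_mem_N (norm_self H h)

theorem cj_of_mem_C (h : g ∈ C[H]) : cj g H = H := cj_of_mem_N (C_le_N H h)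

theorem cj_le_of_mem_N (hA : A ≤ H) (h : g ∈ N[H]) : cj g A ≤ H :=
  (cj_mono g hA).trans (cj_of_mem_N h).le

theorem cj_le_of_mem (hA : A ≤ H) (h : g ∈ H) : cj g A ≤ H := cj_le_of_mem_N hA (norm_self H h)

theorem mem_N_of_cj_le [Finite G] (h : cj g H ≤ H) : g ∈ N[H] :=
  mem_N_of_finite fun _ hx => h (conj_mem_cj g hx)

theorem mem_N_of_le_cj [Finite G] (h : H ≤ cj g H) : g ∈ N[H] := by
  have := mem_N_of_cj_le (le_cj_iff.1 h)
  simpa using inv_mem this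

theorem cj_eq_cj_iff : cj g H = cj h H ↔ h⁻¹ * g ∈ N[H] := by
  rw [mem_N_iff_cj, cj_mul, ← cj_inj (g := h⁻¹), cj_inv_cj]

@[simp] theorem card_cj (g : G) (H : Subgroup G) : Nat.card (cj g H) = Nat.card H :=
  card_map_of_injective (conj_injective' g)

@[simp] theorem relIndex_cj (g : G) (A B : Subgroup G) :
    (cj g A).relIndex (cj g B) = A.relIndex B :=
  relIndex_map_map_of_injective A B (conj_injective' g)

theorem Nml.cj (h : A ⊴ B) (g : G) : cj g A ⊴ cj g B := h.map _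

@[simp] theorem nml_cj_iff : cj g A ⊴ cj g B ↔ A ⊴ B := nml_map_iff (conj_injective' g)

theorem norm_cj (h : A ≤ N[B]) (g : G) : cj g A ≤ N[cj g B] := norm_map h _

theorem cent_cj (h : A ≤ C[B]) (g : G) : cj g A ≤ C[cj g B] := cent_map h _

theorem Abl.cj (h : Abl A) (g : G) : Abl (cj g A) := h.map _

theorem map_cj (f : G →* G') (g : G) (A : Subgroup G) : (cj g A).map f = cj (f g) (A.map f) := by
  rw [cj_def, cj_def, map_map, map_map]; congr 1; ext; simp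

/-- the conjugation isomorphism `H ≃* g H g⁻¹`. -/
noncomputable def cjEquiv (g : G) (H : Subgroup G) : H ≃* cj g H :=
  H.equivMapOfInjective _ (conj_injective' g)

theorem isCoatom_cj {M : Subgroup G} (hM : IsCoatom M) (g : G) : IsCoatom (cj g M) := by
  refine ⟨by simpa using hM.1, fun L hL => ?_⟩
  have : M < cj g⁻¹ L := by rwa [← cj_lt_cj (g := g), cj_cj_inv]
  simpa using hM.2 _ this

theorem orderOf_conj (g x : G) : orderOf (g * x * g⁻¹) = orderOf x :=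
  (MulAut.conj g).orderOf_eq x

theorem conj_eq_one_iff' : g * x * g⁻¹ = 1 ↔ x = 1 := conj_eq_one_iff

end cj

/-! ### orders -/
section card
variable {A B H K L M : Subgroup G}

theorem card_pos [Finite G] (H : Subgroup G) : 0 < Nat.card H := Nat.card_pos

theorem card_ne_zero [Finite G] (H : Subgroup G) : Nat.card H ≠ 0 := (card_pos H).ne'

theorem relIndex_ne_zero' [Finite G] (A B : Subgroup G) : A.relIndex B ≠ 0 :=
  index_ne_zero_of_finite

theorem relIndex_pos [Finite G] (A B : Subgroup G) : 0 < A.relIndex B :=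
  Nat.pos_of_ne_zero (relIndex_ne_zero' A B)

theorem card_subgroupOf (A B : Subgroup G) : Nat.card (A.subgroupOf B) = Nat.card ↥(A ⊓ B) := by
  rw [← subgroupOf_map_subtype, card_subtype]

theorem card_subgroupOf_of_le (h : A ≤ B) : Nat.card (A.subgroupOf B) = Nat.card A := by
  rw [card_subgroupOf, inf_eq_left.2 h]

theorem card_inf_mul_relIndex (A B : Subgroup G) :
    Nat.card ↥(A ⊓ B) * A.relIndex B = Nat.card B := by
  rw [← card_subgroupOf, relIndex, card_mul_index]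

theorem card_mul_relIndex (h : A ≤ B) : Nat.card A * A.relIndex B = Nat.card B := by
  rw [← card_inf_mul_relIndex A B, inf_eq_left.2 h]

theorem card_dvd (h : A ≤ B) : Nat.card A ∣ Nat.card B := card_dvd_of_le h

theorem card_le [Finite G] (h : A ≤ B) : Nat.card A ≤ Nat.card B := card_le_of_le h

theorem eq_of_card_ge [Finite G] (h : A ≤ B) (hc : Nat.card B ≤ Nat.card A) : A = B :=
  eq_of_le_of_card_ge h hc

theorem eq_of_card_eq [Finite G] (h : A ≤ B) (hc : Nat.card A = Nat.card B) : A = B :=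
  eq_of_le_of_card_ge h hc.ge

theorem card_lt [Finite G] (h : A < B) : Nat.card A < Nat.card B := by
  by_contra hc
  exact h.ne (eq_of_card_ge h.le (not_lt.1 hc))

theorem lt_of_card_lt (h : A ≤ B) (hc : Nat.card A < Nat.card B) : A < B :=
  lt_of_le_of_ne h (by rintro rfl; exact lt_irrefl _ hc)

theorem card_eq_one' : Nat.card H = 1 ↔ H = ⊥ := card_eq_one

theorem one_lt_card [Finite G] (h : H ≠ ⊥) : 1 < Nat.card H := (one_lt_card_iff_ne_bot H).2 h

theorem ne_bot_of_mem {x : G} (hx : x ∈ H) (h1 : x ≠ 1) : H ≠ ⊥ := by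
  rintro rfl; exact h1 (mem_bot.1 hx)

theorem exists_ne_one (h : H ≠ ⊥) : ∃ x ∈ H, x ≠ 1 := by
  by_contra hc
  push Not at hc
  exact h ((eq_bot_iff_forall H).2 hc)

theorem ne_bot_of_le (h : A ≠ ⊥) (hAB : A ≤ B) : B ≠ ⊥ := ne_bot_of_le_ne_bot h hAB

theorem eq_bot_of_le (h : B = ⊥) (hAB : A ≤ B) : A = ⊥ := le_bot_iff.1 (h ▸ hAB)

theorem orderOf_dvd_card' {x : G} (hx : x ∈ H) : orderOf x ∣ Nat.card H :=
  Subgroup.orderOf_dvd_natCard H hx

theorem card_zpowers' (x : G) : Nat.card (zpowers x) = orderOf x := Nat.card_zpowers x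

theorem inf_eq_bot_of_cop (h : (Nat.card A).Coprime (Nat.card B)) : A ⊓ B = ⊥ :=
  disjoint_iff.1 (disjoint_of_coprime_natCard h)

theorem odd_of_le (h : Odd (Nat.card B)) (hAB : A ≤ B) : Odd (Nat.card A) :=
  h.of_dvd_nat (card_dvd hAB)

theorem IsProd.relIndex_eq (h : IsProd A B M) : A.relIndex M = A.relIndex B := by
  have key : Function.Bijective
      (fun q : B ⧸ A.subgroupOf B => (Quotient.map' (fun b : B => (⟨b, h.right_le b.2⟩ : M))
        (fun a b hab => by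
          rw [QuotientGroup.leftRel_apply] at hab ⊢; exact hab) q : M ⧸ A.subgroupOf M)) := by
    constructor
    · intro a b
      induction a using QuotientGroup.induction_on
      induction b using QuotientGroup.induction_on
      intro hab
      have := QuotientGroup.eq.1 hab
      exact QuotientGroup.eq.2 this
    · intro q
      induction q using QuotientGroup.induction_on with
      | H m =>
        obtain ⟨b, hb, a, ha, e⟩ := h.symm.mul m m.2
        refine ⟨QuotientGroup.mk ⟨b, hb⟩, ?_⟩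
        apply QuotientGroup.eq.2
        rw [mem_subgroupOf]
        simp [e, ha]
  exact (Nat.card_eq_of_bijective _ key).symm

theorem IsProd.card (h : IsProd A B M) :
    Nat.card M * Nat.card ↥(A ⊓ B) = Nat.card A * Nat.card B := by
  rw [← card_mul_relIndex h.left_le, h.relIndex_eq, ← card_inf_mul_relIndex A B]; ring

theorem IsProd.card_dvd (h : IsProd A B M) : Nat.card M ∣ Nat.card A * Nat.card B :=
  Dvd.intro _ h.card

theorem IsProd.relIndex_dvd (h : IsProd A B M) : A.relIndex M ∣ Nat.card B := by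
  rw [h.relIndex_eq]; exact relIndex_dvd_card _ _

theorem card_sup (h : B ≤ N[A]) :
    Nat.card ↥(A ⊔ B) * Nat.card ↥(A ⊓ B) = Nat.card A * Nat.card B := (isProd_sup h).card

theorem card_sup_of_inf (h : B ≤ N[A]) (hi : A ⊓ B = ⊥) :
    Nat.card ↥(A ⊔ B) = Nat.card A * Nat.card B := by
  rw [← card_sup h, hi]; simp

theorem relIndex_sup_of_norm (h : B ≤ N[A]) : A.relIndex (A ⊔ B) = A.relIndex B :=
  (isProd_sup h).relIndex_eq

theorem relIndex_sup_of_norm' (h : A ≤ N[B]) : A.relIndex (A ⊔ B) = A.relIndex B :=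
  (isProd_sup' h).relIndex_eq

/-- product formula: two subgroups of `M` of large enough order factorise `M`. -/
theorem isProd_of_card [Finite G] (hA : A ≤ M) (hB : B ≤ M)
    (hc : Nat.card M * Nat.card ↥(A ⊓ B) ≤ Nat.card A * Nat.card B) : IsProd A B M := by
  let f : B ⧸ A.subgroupOf B → M ⧸ A.subgroupOf M :=
    Quotient.map' (fun b : B => (⟨b, hB b.2⟩ : M))
      (fun a b hab => by rw [QuotientGroup.leftRel_apply] at hab ⊢; exact hab)
  have hinj : Function.Injective f := by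
    intro a b
    induction a using QuotientGroup.induction_on
    induction b using QuotientGroup.induction_on
    intro hab
    have := QuotientGroup.eq.1 hab
    exact QuotientGroup.eq.2 this
  have hle : A.relIndex M ≤ A.relIndex B := by
    rw [← card_mul_relIndex hA, ← card_inf_mul_relIndex A B] at hc
    have h1 := card_pos A
    have h2 := card_pos (A ⊓ B)
    have : Nat.card A * Nat.card ↥(A ⊓ B) * A.relIndex M ≤
        Nat.card A * Nat.card ↥(A ⊓ B) * A.relIndex B := by nlinarith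
    exact Nat.le_of_mul_le_mul_left this (Nat.mul_pos h1 h2)
  have hbij : Function.Bijective f := hinj.bijective_of_nat_card_le hle
  refine IsProd.symm ⟨hB, hA, fun m hm => ?_⟩
  obtain ⟨q, hq⟩ := hbij.2 (QuotientGroup.mk ⟨m, hm⟩)
  induction q using QuotientGroup.induction_on with
  | H b =>
    have := QuotientGroup.eq.1 hq
    rw [mem_subgroupOf] at this
    exact ⟨b, b.2, _, this, by simp⟩

/-- subgroups of coprime index factorise the group. -/
theorem isProd_of_coprime_relIndex [Finite G] (hA : A ≤ M) (hB : B ≤ M)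
    (hc : (A.relIndex M).Coprime (B.relIndex M)) : IsProd A B M := by
  apply isProd_of_card hA hB
  have h1 : A.relIndex M ∣ (A ⊓ B).relIndex M := relIndex_dvd_of_le_left _ inf_le_left
  have h2 : B.relIndex M ∣ (A ⊓ B).relIndex M := relIndex_dvd_of_le_left _ inf_le_right
  have h3 := Nat.le_of_dvd (relIndex_pos _ _) (hc.mul_dvd_of_dvd_of_dvd h1 h2)
  have e1 := card_mul_relIndex hA
  have e2 := card_mul_relIndex hB
  have e3 := card_mul_relIndex (inf_le_left.trans hA : A ⊓ B ≤ M)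
  have p1 := relIndex_pos A M
  have p2 := relIndex_pos B M
  apply Nat.le_of_mul_le_mul_right _ (Nat.mul_pos p1 p2)
  calc Nat.card M * Nat.card ↥(A ⊓ B) * (A.relIndex M * B.relIndex M)
      ≤ Nat.card M * Nat.card ↥(A ⊓ B) * (A ⊓ B).relIndex M := Nat.mul_le_mul_left _ h3
    _ = Nat.card M * Nat.card M := by rw [mul_assoc, e3]
    _ = _ := by nth_rewrite 1 [← e1]; rw [← e2]; ring

theorem relIndex_dvd_of_nml (h : K ⊴ H) (hL : L ≤ H) : K.relIndex L ∣ K.relIndex H := by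
  rw [← relIndex_sup_of_norm (hL.trans h.norm)]
  exact Dvd.intro _ (relIndex_mul_relIndex K (K ⊔ L) H le_sup_left (sup_le h.le hL))

/-- a subgroup of prime order meets every subgroup trivially or lies in it. -/
theorem prime_le_or_inf (hp : (Nat.card A).Prime) (B : Subgroup G) : A ≤ B ∨ A ⊓ B = ⊥ := by
  have : Finite A := Nat.finite_of_card_ne_zero hp.ne_zero
  rcases (Nat.dvd_prime hp).1 (card_dvd (inf_le_left : A ⊓ B ≤ A)) with h | h
  · exact Or.inr (card_eq_one.1 h)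
  · exact Or.inl (inf_eq_left.1 (eq_of_le_of_card_ge inf_le_left h.ge))

theorem prime_eq_of_le (hp : (Nat.card A).Prime) (h : B ≤ A) (hB : B ≠ ⊥) : B = A := by
  rcases prime_le_or_inf hp B with h1 | h1
  · exact le_antisymm h h1
  · exact absurd (by rwa [inf_eq_right.2 h] at h1) hB

theorem prime_le_of_inf_ne (hp : (Nat.card A).Prime) (h : A ⊓ B ≠ ⊥) : A ≤ B :=
  (prime_le_or_inf hp B).resolve_right h

theorem prime_inf_of_not_le (hp : (Nat.card A).Prime) (h : ¬ A ≤ B) : A ⊓ B = ⊥ :=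
  (prime_le_or_inf hp B).resolve_left h

theorem ne_bot_of_prime (hp : (Nat.card A).Prime) : A ≠ ⊥ := by
  rintro rfl; simp at hp; exact Nat.not_prime_one hp

theorem zpowers_eq_of_prime (hp : (Nat.card A).Prime) {x : G} (hx : x ∈ A) (h1 : x ≠ 1) :
    zpowers x = A :=
  prime_eq_of_le hp (zpowers_le.2 hx) (by simpa using h1)

theorem C_eq_C1_of_prime (hp : (Nat.card A).Prime) {x : G} (hx : x ∈ A) (h1 : x ≠ 1) :
    C[A] = C{x} := by rw [← zpowers_eq_of_prime hp hx h1, C_zpowers]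

/-- strong induction on subgroups, downward closed form. -/
theorem subgroup_ind [Finite G] {P : Subgroup G → Prop}
    (h : ∀ H, (∀ K, K < H → P K) → P H) (H : Subgroup G) : P H :=
  (wellFounded_lt (α := Subgroup G)).induction H (fun H ih => h H ih)

theorem subgroup_ind_up [Finite G] {P : Subgroup G → Prop}
    (h : ∀ H, (∀ K, H < K → P K) → P H) (H : Subgroup G) : P H :=
  (wellFounded_gt (α := Subgroup G)).induction H (fun H ih => h H ih)

/-- a maximal member above a given member of a family of subgroups. -/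
theorem exists_max [Finite G] {P : Subgroup G → Prop} (h : P H) :
    ∃ K, H ≤ K ∧ P K ∧ ∀ L, P L → K ≤ L → L = K := by
  obtain ⟨K, hK, hm⟩ := exists_maximal_ge_of_wellFoundedGT P H h
  exact ⟨K, hK, hm.prop, fun L hL hKL => (hm.eq_of_le hL hKL).symm⟩

/-- a minimal member below a given member of a family of subgroups. -/
theorem exists_min [Finite G] {P : Subgroup G → Prop} (h : P H) :
    ∃ K, K ≤ H ∧ P K ∧ ∀ L, P L → L ≤ K → L = K := by
  obtain ⟨K, hK, hm⟩ := exists_minimal_le_of_wellFoundedLT P H h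
  exact ⟨K, hK, hm.prop, fun L hL hKL => hm.eq_of_le hL hKL⟩

/-- a proper subgroup lies in a maximal subgroup. -/
theorem exists_covBy [Finite G] (h : K < H) : ∃ L, K ≤ L ∧ L ⋖ H := by
  obtain ⟨L, hKL, hL, hm⟩ := exists_max (P := fun L => L < H) h
  exact ⟨L, hKL, hL, fun T h1 h2 => h1.ne' (hm T h2 h1.le)⟩

theorem covBy_eq_or (h : K ⋖ H) (h1 : K ≤ L) (h2 : L ≤ H) : L = K ∨ L = H :=
  h.eq_or_eq h1 h2

end card

/-! ### semidirect, central and direct products -/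
section prods
variable {A B H K L M : Subgroup G}

theorem SD.left_le (h : SD K H M) : K ≤ M := h.sup ▸ le_sup_left
theorem SD.right_le (h : SD K H M) : H ≤ M := h.sup ▸ le_sup_right
theorem SD.nml (h : SD K H M) : K ⊴ M := h.sup ▸ nml_sup_left h.norm
theorem SD.isProd (h : SD K H M) : IsProd K H M := h.sup ▸ isProd_sup h.norm
theorem SD.card (h : SD K H M) : Nat.card M = Nat.card K * Nat.card H :=
  h.sup ▸ card_sup_of_inf h.norm h.inf

theorem SD.relIndex_left (h : SD K H M) : K.relIndex M = Nat.card H := by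
  rw [h.isProd.relIndex_eq, ← inf_relIndex_right, h.inf, relIndex_bot_left]

theorem SD.relIndex_right (h : SD K H M) : H.relIndex M = Nat.card K := by
  rw [h.isProd.symm.relIndex_eq, ← inf_relIndex_left, h.inf, relIndex_bot_left]

theorem SD.isComplIn (h : SD K H M) : IsComplIn K H M :=
  ⟨h.left_le, h.right_le, h.inf, h.isProd.mul⟩

theorem isProd_of_isComplIn (h : IsComplIn A B M) : IsProd A B M := ⟨h.1, h.2.1, h.2.2.2⟩

theorem isComplIn_symm (h : IsComplIn A B M) : IsComplIn B A M :=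
  ⟨h.2.1, h.1, by rw [inf_comm]; exact h.2.2.1, (isProd_of_isComplIn h).symm.mul⟩

theorem IsProd.isComplIn (h : IsProd A B M) (hi : A ⊓ B = ⊥) : IsComplIn A B M :=
  ⟨h.left_le, h.right_le, hi, h.mul⟩

theorem SD.of_isComplIn (h : IsComplIn K H M) (hn : M ≤ N[K]) : SD K H M :=
  ⟨h.2.1.trans hn, h.2.2.1, (isProd_of_isComplIn h).sup_eq⟩

theorem SD.mk_sup (hn : H ≤ N[K]) (hi : K ⊓ H = ⊥) : SD K H (K ⊔ H) := ⟨hn, hi, rfl⟩

/-- restriction of a semidirect product to a subgroup containing the kernel. -/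
theorem SD.modl (h : SD K H M) (h1 : K ≤ L) (h2 : L ≤ M) : SD K (H ⊓ L) L :=
  ⟨inf_le_left.trans h.norm, eq_bot_of_le h.inf (inf_le_inf_left _ inf_le_left),
    (h.isProd.inf_left h1 h2).sup_eq⟩

/-- restriction of a semidirect product to a subgroup containing the complement. -/
theorem SD.modr (h : SD K H M) (h1 : H ≤ L) (h2 : L ≤ M) : SD (K ⊓ L) H L :=
  ⟨norm_inf h.norm (norm_of_le h1), eq_bot_of_le h.inf (inf_le_inf_right _ inf_le_left),
    (h.isProd.inf_right h1 h2).sup_eq⟩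

theorem SD.sub (h : SD K H M) (h1 : A ≤ K) (h2 : B ≤ H) (hn : B ≤ N[A]) : SD A B (A ⊔ B) :=
  ⟨hn, eq_bot_of_le h.inf (inf_le_inf h1 h2), rfl⟩

theorem SD.map (h : SD K H M) {f : G →* G'} (hf : Function.Injective f) :
    SD (K.map f) (H.map f) (M.map f) :=
  ⟨norm_map h.norm f, by rw [← Subgroup.map_inf _ _ _ hf, h.inf, Subgroup.map_bot],
    by rw [← Subgroup.map_sup, h.sup]⟩

theorem SD.cj (h : SD K H M) (g : G) : SD (cj g K) (cj g H) (cj g M) := h.map (conj_injective' g)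

theorem SD.cj_right (h : SD K H M) {g : G} (hg : g ∈ M) : SD K (H24.cj g H) M := by
  have := h.cj g
  rwa [cj_of_mem hg, cj_of_mem_N (h.nml.norm hg)] at this

theorem SD.bot_left (H : Subgroup G) : SD ⊥ H H := ⟨by simp, by simp, by simp⟩

theorem SD.bot_right (K : Subgroup G) : SD K ⊥ K := ⟨by simp, by simp, by simp⟩

theorem SD.eq_of_right_bot (h : SD K ⊥ M) : K = M := by simpa using h.sup

theorem SD.eq_of_left_bot (h : SD ⊥ H M) : H = M := by simpa using h.sup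

theorem DP.sd (h : DP A B M) : SD A B M := ⟨norm_of_cent h.cent, h.inf, h.sup⟩
theorem DP.cp (h : DP A B M) : CP A B M := ⟨h.cent, h.sup⟩
theorem DP.symm (h : DP A B M) : DP B A M :=
  ⟨cents_symm h.cent, by rw [inf_comm, h.inf], by rw [sup_comm, h.sup]⟩
theorem CP.symm (h : CP A B M) : CP B A M := ⟨cents_symm h.cent, by rw [sup_comm, h.sup]⟩
theorem CP.left_le (h : CP A B M) : A ≤ M := h.sup ▸ le_sup_left
theorem CP.right_le (h : CP A B M) : B ≤ M := h.sup ▸ le_sup_right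
theorem DP.left_le (h : DP A B M) : A ≤ M := h.sup ▸ le_sup_left
theorem DP.right_le (h : DP A B M) : B ≤ M := h.sup ▸ le_sup_right
theorem CP.isProd (h : CP A B M) : IsProd A B M := h.sup ▸ isProd_sup (norm_of_cent h.cent)
theorem DP.isProd (h : DP A B M) : IsProd A B M := h.cp.isProd
theorem CP.nml_left (h : CP A B M) : A ⊴ M := h.sup ▸ nml_sup_left (norm_of_cent h.cent)
theorem CP.nml_right (h : CP A B M) : B ⊴ M := h.symm.nml_left
theorem DP.nml_left (h : DP A B M) : A ⊴ M := h.cp.nml_left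
theorem DP.nml_right (h : DP A B M) : B ⊴ M := h.cp.nml_right
theorem DP.card (h : DP A B M) : Nat.card M = Nat.card A * Nat.card B := h.sd.card
theorem SD.dp (h : SD A B M) (hc : B ≤ C[A]) : DP A B M := ⟨hc, h.inf, h.sup⟩
theorem SD.dp_of_norm (h : SD A B M) (hn : A ≤ N[B]) : DP A B M :=
  h.dp (cents_symm (cents_of_inf_eq_bot hn h.norm h.inf))
theorem DP.mk_sup (hc : B ≤ C[A]) (hi : A ⊓ B = ⊥) : DP A B (A ⊔ B) := ⟨hc, hi, rfl⟩

theorem DP.modl (h : DP A B M) (h1 : A ≤ L) (h2 : L ≤ M) : DP A (B ⊓ L) L :=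
  (h.sd.modl h1 h2).dp (inf_le_left.trans h.cent)

theorem DP.modr (h : DP A B M) (h1 : B ≤ L) (h2 : L ≤ M) : DP (A ⊓ L) B L := by
  have := (h.symm.modl h1 h2).symm
  exact this

theorem CP.C_eq (h : CP A B M) : C[M] = C[A] ⊓ C[B] := h.sup ▸ C_sup A B

theorem CP.der1 (h : CP A B M) : ⁅M, M⁆ = ⁅A, A⁆ ⊔ ⁅B, B⁆ := h.sup ▸ der1_sup_of_cent h.cent

theorem CP.center (h : CP A B M) : Z[M] = Z[A] ⊔ Z[B] := by
  apply le_antisymm
  · rintro x ⟨hx, hc⟩
    obtain ⟨a, ha, b, hb, rfl⟩ := h.isProd.mul x hx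
    have hca : a * b ∈ C[A] := C_anti h.left_le hc
    have hcb : a * b ∈ C[B] := C_anti h.right_le hc
    refine mul_mem_sup ⟨ha, ?_⟩ ⟨hb, ?_⟩
    · simpa using mul_mem hca (inv_mem (h.cent hb))
    · simpa using mul_mem (inv_mem (cents_symm h.cent ha)) hcb
  · refine sup_le (le_inf (inf_le_left.trans h.left_le) ?_) (le_inf (inf_le_left.trans h.right_le) ?_)
    · rw [h.C_eq]; exact le_inf inf_le_right (inf_le_left.trans (cents_symm h.cent))
    · rw [h.C_eq]; exact le_inf (inf_le_left.trans h.cent) inf_le_right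

theorem CP.abl (h : CP A B M) (hA : Abl A) (hB : Abl B) : Abl M :=
  h.sup ▸ hA.sup hB (cents_symm h.cent)

theorem DP.map (h : DP A B M) {f : G →* G'} (hf : Function.Injective f) :
    DP (A.map f) (B.map f) (M.map f) := (h.sd.map hf).dp (cent_map h.cent f)

theorem DP.cj (h : DP A B M) (g : G) : DP (cj g A) (cj g B) (cj g M) := h.map (conj_injective' g)

/-- uniqueness of the factorisation in a product with trivial intersection. -/
theorem mul_eq_mul_of_inf (hi : A ⊓ B = ⊥) {a a' b b' : G} (ha : a ∈ A) (ha' : a' ∈ A)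
    (hb : b ∈ B) (hb' : b' ∈ B) (e : a * b = a' * b') : a = a' ∧ b = b' := by
  have h1 : a'⁻¹ * a = b' * b⁻¹ := by
    calc a'⁻¹ * a = a'⁻¹ * (a * b) * b⁻¹ := by group
      _ = b' * b⁻¹ := by rw [e]; group
  have h2 : a'⁻¹ * a ∈ A ⊓ B :=
    mem_inf.2 ⟨mul_mem (inv_mem ha') ha, h1 ▸ mul_mem hb' (inv_mem hb)⟩
  rw [hi, mem_bot] at h2
  have h3 : a = a' := by rw [inv_mul_eq_one] at h2; exact h2.symm
  subst h3
  exact ⟨rfl, mul_left_cancel e⟩

/-- the centraliser in `K ⋊ H` of a subgroup normalising both factors. -/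
theorem SD.inf_C {X : Subgroup G} (h : SD K H M) (hK : X ≤ N[K]) (hH : X ≤ N[H]) :
    SD (K ⊓ C[X]) (H ⊓ C[X]) (M ⊓ C[X]) := by
  refine ⟨norm_inf (inf_le_left.trans h.norm) (norm_of_le inf_le_right),
    eq_bot_of_le h.inf (inf_le_inf inf_le_left inf_le_left), ?_⟩
  apply le_antisymm (sup_le (inf_le_inf_right _ h.left_le) (inf_le_inf_right _ h.right_le))
  rintro m ⟨hm, hc⟩
  obtain ⟨a, ha, b, hb, rfl⟩ := h.isProd.mul m hm
  have key : ∀ x ∈ X, x * a * x⁻¹ = a ∧ x * b * x⁻¹ = b := by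
    intro x hx
    apply mul_eq_mul_of_inf h.inf (conj_mem (hK hx) ha) ha (conj_mem (hH hx) hb) hb
    have := mem_C.1 hc x hx
    calc x * a * x⁻¹ * (x * b * x⁻¹) = x * (a * b) * x⁻¹ := by group
      _ = a * b := by rw [this]; group
  refine mul_mem_sup ⟨ha, mem_C.2 fun x hx => ?_⟩ ⟨hb, mem_C.2 fun x hx => ?_⟩
  · exact mul_inv_eq_iff_eq_mul.1 (key x hx).1
  · exact mul_inv_eq_iff_eq_mul.1 (key x hx).2

/-- the normaliser in `K ⋊ H` of a subgroup `X ≤ H` is `C_K(X) ⋊ N_H(X)`. -/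
theorem SD.inf_N {X : Subgroup G} (h : SD K H M) (hX : X ≤ H) :
    SD (K ⊓ C[X]) (H ⊓ N[X]) (M ⊓ N[X]) := by
  refine ⟨norm_inf (inf_le_left.trans h.norm) (norm_C inf_le_right),
    eq_bot_of_le h.inf (inf_le_inf inf_le_left inf_le_left), ?_⟩
  apply le_antisymm (sup_le (inf_le_inf h.left_le (C_le_N X)) (inf_le_inf_right _ h.right_le))
  intro m hm
  obtain ⟨hm, hn⟩ := mem_inf.1 hm
  obtain ⟨b, hb, a, ha, rfl⟩ := h.isProd.symm.mul m hm
  have hc : a ∈ C[X] := by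
    rw [mem_C']
    intro x hx
    have h1 : b * a * x * (b * a)⁻¹ ∈ X := conj_mem hn hx
    have h2 : a * x * a⁻¹ ∈ H := by
      have := conj_mem' (norm_self H hb) (hX h1)
      simpa [mul_assoc] using this
    have h3 : a * x * a⁻¹ * x⁻¹ ∈ K ⊓ H := by
      refine mem_inf.2 ⟨?_, mul_mem h2 (inv_mem (hX hx))⟩
      have := mul_mem ha (conj_mem (h.norm (hX hx)) (inv_mem ha))
      simpa [mul_assoc] using this
    rw [h.inf, mem_bot, mul_inv_eq_one, mul_inv_eq_iff_eq_mul] at h3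
    exact h3
  rw [sup_comm]
  refine mul_mem_sup (mem_inf.2 ⟨hb, ?_⟩) ⟨ha, hc⟩
  simpa using mul_mem hn (inv_mem (C_le_N X hc))

/-- in `K ⋊ H`, the elements of `K` normalising a subgroup `X ≤ H` centralise it. -/
theorem SD.left_inf_N {X : Subgroup G} (h : SD K H M) (hX : X ≤ H) : K ⊓ N[X] = K ⊓ C[X] := by
  apply le_antisymm _ (inf_le_inf_left _ (C_le_N X))
  refine le_inf inf_le_left ?_
  rw [← comm_eq_bot, eq_bot_iff, ← h.inf]
  exact le_inf ((comm_mono_left inf_le_left).trans (comm_le_left (hX.trans h.norm)))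
    ((comm_le_right inf_le_right).trans hX)

end prods

/-! ### `UniqMax` and `Uniq` -/
section uniq
variable {X Y M L : Subgroup G}

theorem uniq_iff : Uniq X ↔ ∃ M, UniqMax X M :=
  ⟨fun ⟨M, h, hu⟩ => ⟨M, h.1, h.2, fun L h1 h2 => hu L ⟨h1, h2⟩⟩,
    fun ⟨M, h⟩ => ⟨M, ⟨h.coatom, h.le⟩, fun L hL => h.uniq L hL.1 hL.2⟩⟩

theorem UniqMax.isUniq (h : UniqMax X M) : Uniq X := uniq_iff.2 ⟨M, h⟩

theorem Uniq.uniqMax (h : Uniq X) (hM : IsCoatom M) (hX : X ≤ M) : UniqMax X M := by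
  obtain ⟨L, hL⟩ := uniq_iff.1 h
  rw [hL.uniq M hM hX]; exact hL

theorem Uniq.eq (h : Uniq X) (hM : IsCoatom M) (hX : X ≤ M) (hL : IsCoatom L) (hXL : X ≤ L) :
    L = M := (h.uniqMax hM hX).uniq L hL hXL

theorem UniqMax.mono (h : UniqMax X M) (h1 : X ≤ Y) (h2 : Y ≤ M) : UniqMax Y M :=
  ⟨h.coatom, h2, fun L hL hY => h.uniq L hL (h1.trans hY)⟩

theorem exists_coatom [Finite G] (h : X ≠ ⊤) : ∃ M, IsCoatom M ∧ X ≤ M :=
  (eq_top_or_exists_le_coatom X).resolve_left h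

theorem UniqMax.le_of_ne_top [Finite G] (h : UniqMax X M) (h1 : X ≤ Y) (h2 : Y ≠ ⊤) : Y ≤ M := by
  obtain ⟨L, hL, hYL⟩ := exists_coatom h2
  rwa [h.uniq L hL (h1.trans hYL)] at hYL

theorem UniqMax.mono' [Finite G] (h : UniqMax X M) (h1 : X ≤ Y) (h2 : Y ≠ ⊤) : UniqMax Y M :=
  h.mono h1 (h.le_of_ne_top h1 h2)

theorem Uniq.mono [Finite G] (h : Uniq X) (h1 : X ≤ Y) (h2 : Y ≠ ⊤) : Uniq Y := by
  obtain ⟨M, hM⟩ := uniq_iff.1 h
  exact (hM.mono' h1 h2).isUniq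

theorem Uniq.ne_top (h : Uniq X) : X ≠ ⊤ := by
  obtain ⟨M, hM⟩ := uniq_iff.1 h
  rintro rfl
  exact hM.coatom.1 (top_le_iff.1 hM.le)

theorem UniqMax.cj (h : UniqMax X M) (g : G) : UniqMax (cj g X) (cj g M) :=
  ⟨isCoatom_cj h.coatom g, cj_mono g h.le, fun L hL hX => by
    rw [← h.uniq (H24.cj g⁻¹ L) (isCoatom_cj hL _) (cj_le_iff.1 hX), cj_cj_inv]⟩

theorem Uniq.cj (h : Uniq X) (g : G) : Uniq (cj g X) := by
  obtain ⟨M, hM⟩ := uniq_iff.1 h
  exact (hM.cj g).isUniq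

theorem uniq_cj_iff {g : G} : Uniq (cj g X) ↔ Uniq X :=
  ⟨fun h => by simpa using h.cj g⁻¹, fun h => h.cj g⟩

theorem UniqMax.eq (h : UniqMax X M) (h' : UniqMax X L) : L = M := h.uniq L h'.coatom h'.le

theorem uniqMax_self (hM : IsCoatom M) : UniqMax M M :=
  ⟨hM, le_rfl, fun _ hL h => (hM.le_iff_eq hL.1).1 h⟩

end uniq

end H24
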