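import Mathlib
import Cfsg.Agent.H24.Base1

/-!
# Base library 2: π-numbers, π-groups, π-elements, Hall and Sylow subgroups
-/

set_option autoImplicit false

namespace H24

open Cfsg Subgroup

universe u v

variable {G : Type u} [Group G] {G' : Type v} [Group G']

/-! ### π-numbers -/
section PiNat
variable {π ρ : Set ℕ} {m n p q : ℕ}

theorem PiNat.mono (h : PiNat π n) (hπ : π ⊆ ρ) : PiNat ρ n := fun p hp hd => hπ (h p hp hd)

theorem PiNat.mono_in (h : PiNat π n) (hπ : ∀ p, p.Prime → p ∣ n → p ∈ π → p ∈ ρ) : PiNat ρ n :=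
  fun p hp hd => hπ p hp hd (h p hp hd)

theorem PiNat.dvd (h : PiNat π n) (hm : m ∣ n) : PiNat π m := fun p hp hd => h p hp (hd.trans hm)

theorem piNat_one (π : Set ℕ) : PiNat π 1 := fun _ hp hd => absurd (Nat.dvd_one.1 hd) hp.ne_one

theorem PiNat.mul (hm : PiNat π m) (hn : PiNat π n) : PiNat π (m * n) := fun p hp hd =>
  ((Nat.Prime.dvd_mul hp).1 hd).elim (hm p hp) (hn p hp)

theorem piNat_mul : PiNat π (m * n) ↔ PiNat π m ∧ PiNat π n :=
  ⟨fun h => ⟨h.dvd (Dvd.intro _ rfl), h.dvd (Dvd.intro_left _ rfl)⟩, fun h => h.1.mul h.2⟩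

theorem PiNat.pow (h : PiNat π n) (k : ℕ) : PiNat π (n ^ k) := fun p hp hd =>
  h p hp (hp.dvd_of_dvd_pow hd)

theorem PiNat.inter (h : PiNat π n) (h' : PiNat ρ n) : PiNat (π ∩ ρ) n :=
  fun p hp hd => ⟨h p hp hd, h' p hp hd⟩

theorem piNat_prime (hp : p.Prime) : PiNat π p ↔ p ∈ π :=
  ⟨fun h => h p hp dvd_rfl, fun h _ hq hd => (Nat.prime_dvd_prime_iff_eq hq hp).1 hd ▸ h⟩

theorem piNat_self (hp : p.Prime) : PiNat {p} p := (piNat_prime hp).2 rfl

theorem piNat_self_pow (hp : p.Prime) (k : ℕ) : PiNat {p} (p ^ k) := (piNat_self hp).pow k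

theorem PiNat.coprime (hm : PiNat π m) (hn : PiNat πᶜ n) : m.Coprime n :=
  Nat.Coprime.symm (Nat.coprime_of_dvd fun p hp h1 h2 => hn p hp h1 (hm p hp h2))

theorem PiNat.coprime' (hm : PiNat πᶜ m) (hn : PiNat π n) : m.Coprime n := (hn.coprime hm).symm

theorem PiNat.coprime_of_disjoint (hm : PiNat π m) (hn : PiNat ρ n) (h : Disjoint π ρ) :
    m.Coprime n := hm.coprime (hn.mono h.symm.subset_compl_right)

theorem PiNat.eq_one (hm : PiNat π n) (hn : PiNat πᶜ n) : n = 1 := by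
  simpa using hm.coprime hn

theorem piNat_compl_singleton (hp : p.Prime) : PiNat {p}ᶜ n ↔ ¬ p ∣ n :=
  ⟨fun h hd => h p hp hd rfl, fun h _ _ hd e => h (e ▸ hd)⟩

theorem piNat_compl_iff_coprime (hp : p.Prime) : PiNat {p}ᶜ n ↔ p.Coprime n := by
  rw [piNat_compl_singleton hp, hp.coprime_iff_not_dvd]

theorem piNat_singleton (hp : p.Prime) (hn : n ≠ 0) : PiNat {p} n ↔ ∃ k, n = p ^ k :=
  ⟨fun h => ⟨_, Nat.eq_prime_pow_of_unique_prime_dvd hn fun hq hd => h _ hq hd⟩,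
    fun ⟨k, e⟩ => e ▸ piNat_self_pow hp k⟩

theorem PiNat.not_dvd (h : PiNat π n) (hp : p.Prime) (hπ : p ∉ π) : ¬ p ∣ n :=
  fun hd => hπ (h p hp hd)

theorem PiNat.not_dvd' (h : PiNat πᶜ n) (hp : p.Prime) (hπ : p ∈ π) : ¬ p ∣ n :=
  fun hd => h p hp hd hπ

theorem piNat_compl_of_coprime (h : m.Coprime n) : PiNat {p | p.Prime ∧ p ∣ m}ᶜ n :=
  fun _ hp hd hm => hp.ne_one (Nat.eq_one_of_dvd_coprimes h hm.2 hd)

theorem PiNat.of_coprime (hp : p.Prime) (hm : p ∣ m) (h : m.Coprime n) : PiNat {p}ᶜ n :=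
  (piNat_compl_singleton hp).2 fun hd => hp.ne_one (Nat.eq_one_of_dvd_coprimes h hm hd)

theorem piNat_univ (n : ℕ) : PiNat Set.univ n := fun _ _ _ => trivial

theorem singleton_subset_compl (h : p ≠ q) : ({p} : Set ℕ) ⊆ {q}ᶜ := by
  rintro _ rfl; exact h

theorem PiNat.compl_of_ne (h : PiNat {p} n) (hpq : p ≠ q) : PiNat {q}ᶜ n :=
  h.mono (singleton_subset_compl hpq)

theorem PiNat.of_mem (h : PiNat {p} n) (hp : p ∈ π) : PiNat π n :=
  h.mono (Set.singleton_subset_iff.2 hp)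

theorem PiNat.compl_of_mem (h : PiNat πᶜ n) (hp : p ∈ π) : PiNat {p}ᶜ n :=
  h.mono (Set.compl_subset_compl.2 (Set.singleton_subset_iff.2 hp))

theorem PiNat.compl_of_not_mem (h : PiNat π n) (hp : p ∉ π) : PiNat {p}ᶜ n :=
  h.mono fun _ hq e => hp (e ▸ hq)

/-- a `π`-number dividing `a * b` with `b` a `π'`-number divides `a`. -/
theorem PiNat.dvd_of_dvd_mul {a b : ℕ} (hm : PiNat π m) (hb : PiNat πᶜ b) (h : m ∣ a * b) : m ∣ a :=
  (hm.coprime hb).dvd_of_dvd_mul_right h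

/-- decomposition of a positive number into its `π`-part and `π'`-part. -/
theorem exists_pi_part (π : Set ℕ) (hn : n ≠ 0) : ∃ a b, PiNat π a ∧ PiNat πᶜ b ∧ n = a * b := by
  induction n using Nat.recOnMul with
  | zero => exact absurd rfl hn
  | one => exact ⟨1, 1, piNat_one _, piNat_one _, rfl⟩
  | prime p hp =>
    by_cases h : p ∈ π
    · exact ⟨p, 1, (piNat_prime hp).2 h, piNat_one _, by simp⟩
    · exact ⟨1, p, piNat_one _, (piNat_prime hp).2 h, by simp⟩
  | mul a b iha ihb =>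
    obtain ⟨a1, a2, h1, h2, rfl⟩ := iha (left_ne_zero_of_mul hn)
    obtain ⟨b1, b2, h3, h4, rfl⟩ := ihb (right_ne_zero_of_mul hn)
    exact ⟨a1 * b1, a2 * b2, h1.mul h3, h2.mul h4, by ring⟩

theorem pi_part_unique {a b a' b' : ℕ} (ha : PiNat π a) (hb : PiNat πᶜ b) (ha' : PiNat π a')
    (hb' : PiNat πᶜ b') (h : a * b = a' * b') : a = a' :=
  Nat.dvd_antisymm (ha.dvd_of_dvd_mul hb' (h ▸ Dvd.intro _ rfl))
    (ha'.dvd_of_dvd_mul hb (h ▸ Dvd.intro _ rfl))

end PiNat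

/-! ### π-groups -/
section IsPi
variable {π ρ : Set ℕ} {A B H K L M : Subgroup G} {p q : ℕ} {x y : G}

theorem isPi_def : IsPi π H ↔ ∀ p : ℕ, p.Prime → p ∣ Nat.card H → p ∈ π := Iff.rfl

theorem IsPi.piNat (h : IsPi π H) : PiNat π (Nat.card H) := h

theorem IsPi.mem (h : IsPi π H) (hp : p.Prime) (hd : p ∣ Nat.card H) : p ∈ π := h p hp hd

theorem IsPi.mono (h : IsPi π H) (hπ : π ⊆ ρ) : IsPi ρ H := PiNat.mono h hπ

theorem IsPi.mono_in (h : IsPi π H) (hπ : ∀ p, p.Prime → p ∣ Nat.card H → p ∈ π → p ∈ ρ) :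
    IsPi ρ H := PiNat.mono_in h hπ

theorem IsPi.of_le (h : IsPi π H) (hK : K ≤ H) : IsPi π K := PiNat.dvd h (card_dvd hK)

theorem IsPi.inf_left (h : IsPi π A) (B : Subgroup G) : IsPi π (A ⊓ B) := h.of_le _root_.inf_le_left

theorem IsPi.inf_right (h : IsPi π B) (A : Subgroup G) : IsPi π (A ⊓ B) :=
  h.of_le _root_.inf_le_right

theorem IsPi.inter (h : IsPi π H) (h' : IsPi ρ H) : IsPi (π ∩ ρ) H := PiNat.inter h h'

theorem isPi_bot (π : Set ℕ) : IsPi π (⊥ : Subgroup G) := by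
  unfold IsPi; rw [card_bot]; exact piNat_one π

theorem isPi_of_eq_bot (h : H = ⊥) : IsPi π H := h ▸ isPi_bot π

theorem isPi_univ (H : Subgroup G) : IsPi Set.univ H := piNat_univ _

theorem isPi_primesOf (H : Subgroup G) : IsPi (primesOf H) H := fun _ hp hd => ⟨hp, hd⟩

theorem isPi_iff_primesOf : IsPi π H ↔ primesOf H ⊆ π :=
  ⟨fun h p hp => h p hp.1 hp.2, fun h => (isPi_primesOf H).mono h⟩

theorem mem_primesOf : p ∈ primesOf H ↔ p.Prime ∧ p ∣ Nat.card H := Iff.rfl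

theorem primesOf_mono (h : K ≤ H) : primesOf K ⊆ primesOf H :=
  fun _ hp => ⟨hp.1, hp.2.trans (card_dvd h)⟩

theorem IsPi.of_mem (h : IsPi {p} H) (hp : p ∈ π) : IsPi π H := PiNat.of_mem h hp

theorem IsPi.compl_of_ne (h : IsPi {p} H) (hpq : p ≠ q) : IsPi {q}ᶜ H := PiNat.compl_of_ne h hpq

theorem IsPi.compl_of_mem (h : IsPi πᶜ H) (hp : p ∈ π) : IsPi {p}ᶜ H := PiNat.compl_of_mem h hp

theorem IsPi.compl_of_not_mem (h : IsPi π H) (hp : p ∉ π) : IsPi {p}ᶜ H :=
  PiNat.compl_of_not_mem h hp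

theorem IsPi.coprime (hA : IsPi π A) (hB : IsPi πᶜ B) : (Nat.card A).Coprime (Nat.card B) :=
  PiNat.coprime hA hB

theorem IsPi.coprime' (hA : IsPi πᶜ A) (hB : IsPi π B) : (Nat.card A).Coprime (Nat.card B) :=
  PiNat.coprime' hA hB

theorem IsPi.coprime_of_ne (hA : IsPi {p} A) (hB : IsPi {q} B) (h : p ≠ q) :
    (Nat.card A).Coprime (Nat.card B) := hA.coprime (hB.compl_of_ne h.symm)

theorem IsPi.inf_eq_bot (hA : IsPi π A) (hB : IsPi πᶜ B) : A ⊓ B = ⊥ :=
  inf_eq_bot_of_cop (hA.coprime hB)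

theorem IsPi.inf_eq_bot' (hA : IsPi πᶜ A) (hB : IsPi π B) : A ⊓ B = ⊥ :=
  inf_eq_bot_of_cop (hA.coprime' hB)

theorem IsPi.eq_bot (h : IsPi π H) (h' : IsPi πᶜ H) : H = ⊥ := card_eq_one.1 (PiNat.eq_one h h')

theorem isPi_compl_iff (hp : p.Prime) : IsPi {p}ᶜ H ↔ ¬ p ∣ Nat.card H := piNat_compl_singleton hp

theorem IsPi.not_dvd (h : IsPi π H) (hp : p.Prime) (hπ : p ∉ π) : ¬ p ∣ Nat.card H :=
  PiNat.not_dvd h hp hπ

theorem IsPi.not_dvd' (h : IsPi πᶜ H) (hp : p.Prime) (hπ : p ∈ π) : ¬ p ∣ Nat.card H :=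
  PiNat.not_dvd' h hp hπ

theorem isPi_compl_of_coprime (h : (Nat.card A).Coprime (Nat.card B)) : IsPi (primesOf A)ᶜ B :=
  piNat_compl_of_coprime h

theorem isPi_of_card {n : ℕ} (hp : p.Prime) (h : Nat.card H = p ^ n) : IsPi {p} H := by
  unfold IsPi; rw [h]; exact piNat_self_pow hp n

theorem isPi_of_card_prime (hp : p.Prime) (h : Nat.card H = p) : IsPi {p} H := by
  unfold IsPi; rw [h]; exact piNat_self hp

theorem IsPi.card_eq_pow [Finite G] (hp : p.Prime) (h : IsPi {p} H) : ∃ k, Nat.card H = p ^ k :=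
  (piNat_singleton hp (card_ne_zero H)).1 h

theorem isPi_iff_isPGroup [Finite G] (hp : p.Prime) : IsPi {p} H ↔ IsPGroup p H := by
  have := Fact.mk hp
  rw [IsPGroup.iff_card]; exact piNat_singleton hp (card_ne_zero H)

theorem IsPi.isPGroup [Finite G] (hp : p.Prime) (h : IsPi {p} H) : IsPGroup p H :=
  (isPi_iff_isPGroup hp).1 h

theorem isPi_of_isPGroup [Finite G] (hp : p.Prime) (h : IsPGroup p H) : IsPi {p} H :=
  (isPi_iff_isPGroup hp).2 h

theorem exists_prime_dvd_card (h : H ≠ ⊥) : ∃ p, p.Prime ∧ p ∣ Nat.card H :=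
  Nat.exists_prime_and_dvd (fun e => h (card_eq_one.1 e))

theorem ne_bot_of_prime_dvd (hp : p.Prime) (h : p ∣ Nat.card H) : H ≠ ⊥ := by
  rintro rfl; rw [card_bot] at h; exact hp.ne_one (Nat.dvd_one.1 h)

theorem IsPi.dvd_card (h : IsPi {p} H) (hH : H ≠ ⊥) : p ∣ Nat.card H := by
  obtain ⟨q, hq, hd⟩ := exists_prime_dvd_card hH
  exact (h q hq hd : q = p) ▸ hd

theorem IsPi.prime (h : IsPi {p} H) (hH : H ≠ ⊥) : p.Prime := by
  obtain ⟨q, hq, hd⟩ := exists_prime_dvd_card hH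
  exact (h q hq hd : q = p) ▸ hq

theorem IsPi.mem_of_ne_bot (h : IsPi {p} H) (h' : IsPi π H) (hH : H ≠ ⊥) : p ∈ π :=
  h' p (h.prime hH) (h.dvd_card hH)

theorem IsPi.mem_primesOf (h : IsPi {p} H) (hH : H ≠ ⊥) (hK : H ≤ K) : p ∈ primesOf K :=
  ⟨h.prime hH, (h.dvd_card hH).trans (card_dvd hK)⟩

theorem IsProd.isPi (h : IsProd A B M) (hA : IsPi π A) (hB : IsPi π B) : IsPi π M :=
  (PiNat.mul hA hB).dvd h.card_dvd

theorem IsPi.sup (hA : IsPi π A) (hB : IsPi π B) (h : B ≤ N[A]) : IsPi π (A ⊔ B) :=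
  (isProd_sup h).isPi hA hB

theorem IsPi.sup' (hA : IsPi π A) (hB : IsPi π B) (h : A ≤ N[B]) : IsPi π (A ⊔ B) :=
  (isProd_sup' h).isPi hA hB

theorem IsPi.map (h : IsPi π H) (f : G →* G') : IsPi π (H.map f) := PiNat.dvd h (card_map_dvd _ f)

theorem isPi_map_iff {f : G →* G'} (hf : Function.Injective f) : IsPi π (H.map f) ↔ IsPi π H := by
  unfold IsPi; rw [card_map_of_injective hf]

theorem IsPi.cj (h : IsPi π H) (g : G) : IsPi π (cj g H) := h.map _

@[simp] theorem isPi_cj {g : G} : IsPi π (cj g H) ↔ IsPi π H := isPi_map_iff (conj_injective' g)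

@[simp] theorem primesOf_cj (g : G) (H : Subgroup G) : primesOf (cj g H) = primesOf H := by
  unfold primesOf; rw [card_cj]

theorem IsPi.relIndex (h : IsPi π H) (K : Subgroup G) : PiNat π (K.relIndex H) :=
  PiNat.dvd h (relIndex_dvd_card _ _)

theorem isPi_of_relIndex (hKH : K ≤ H) (hK : IsPi π K) (h : PiNat π (K.relIndex H)) : IsPi π H := by
  unfold IsPi; rw [← card_mul_relIndex hKH]; exact PiNat.mul hK h

theorem isPi_subgroupOf (h : IsPi π K) (H : Subgroup G) : IsPi π (K.subgroupOf H) := by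
  unfold IsPi; rw [card_subgroupOf]; exact h.inf_left H

theorem IsPi.odd_prime (h : IsPi {p} H) (hH : H ≠ ⊥) (ho : Odd (Nat.card H)) : Odd p :=
  ho.of_dvd_nat (h.dvd_card hH)

/-- Cauchy's theorem. -/
theorem exists_orderOf_eq [Finite G] (hp : p.Prime) (h : p ∣ Nat.card H) :
    ∃ x ∈ H, orderOf x = p := by
  have := Fact.mk hp
  obtain ⟨x, hx⟩ := exists_prime_orderOf_dvd_card' p h
  exact ⟨x, x.2, by rwa [orderOf_coe]⟩

theorem exists_card_prime [Finite G] (hp : p.Prime) (h : p ∣ Nat.card H) :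
    ∃ X ≤ H, Nat.card X = p := by
  obtain ⟨x, hx, ho⟩ := exists_orderOf_eq hp h
  exact ⟨zpowers x, zpowers_le.2 hx, by rw [card_zpowers', ho]⟩

theorem exists_card_isPrime [Finite G] (h : H ≠ ⊥) : ∃ X ≤ H, (Nat.card X).Prime := by
  obtain ⟨p, hp, hd⟩ := exists_prime_dvd_card h
  obtain ⟨X, hX, e⟩ := exists_card_prime hp hd
  exact ⟨X, hX, e ▸ hp⟩

theorem ne_one_of_orderOf_prime (hp : (orderOf x).Prime) : x ≠ 1 := by
  rintro rfl; simp at hp; exact Nat.not_prime_one hp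

/-! ### π-elements -/

theorem piElt_iff : PiElt π x ↔ IsPi π (zpowers x) := by unfold IsPi; rw [card_zpowers']; rfl

theorem PiElt.isPi (h : PiElt π x) : IsPi π (zpowers x) := piElt_iff.1 h

theorem IsPi.piElt (h : IsPi π H) (hx : x ∈ H) : PiElt π x := PiNat.dvd h (orderOf_dvd_card' hx)

theorem isPi_iff_piElt [Finite G] : IsPi π H ↔ ∀ x ∈ H, PiElt π x := by
  refine ⟨fun h x hx => h.piElt hx, fun h p hp hd => ?_⟩
  obtain ⟨x, hx, ho⟩ := exists_orderOf_eq hp hd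
  exact h x hx p hp (ho ▸ dvd_rfl)

theorem piElt_one (π : Set ℕ) : PiElt π (1 : G) := by
  unfold PiElt; rw [orderOf_one]; exact piNat_one π

theorem PiElt.mono (h : PiElt π x) (hπ : π ⊆ ρ) : PiElt ρ x := PiNat.mono h hπ

theorem PiElt.of_mem (h : PiElt {p} x) (hp : p ∈ π) : PiElt π x := PiNat.of_mem h hp

theorem PiElt.of_mem_zpowers (h : PiElt π x) (hy : y ∈ zpowers x) : PiElt π y := h.isPi.piElt hy

theorem PiElt.inv (h : PiElt π x) : PiElt π x⁻¹ := by unfold PiElt; rwa [orderOf_inv]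

theorem PiElt.pow (h : PiElt π x) (n : ℕ) : PiElt π (x ^ n) := PiNat.dvd h (orderOf_pow_dvd n)

theorem PiElt.zpow (h : PiElt π x) (n : ℤ) : PiElt π (x ^ n) :=
  h.of_mem_zpowers (zpow_mem_zpowers x n)

theorem PiElt.conj (h : PiElt π x) (g : G) : PiElt π (g * x * g⁻¹) := by
  unfold PiElt; rwa [orderOf_conj]

theorem piElt_conj {g : G} : PiElt π (g * x * g⁻¹) ↔ PiElt π x := by
  unfold PiElt; rw [orderOf_conj]

theorem PiElt.mul (hx : PiElt π x) (hy : PiElt π y) (h : x * y = y * x) : PiElt π (x * y) :=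
  (PiNat.mul hx hy).dvd (Commute.orderOf_mul_dvd_mul_orderOf h)

theorem PiElt.eq_one (h : PiElt π x) (h' : PiElt πᶜ x) : x = 1 :=
  orderOf_eq_one_iff.1 (PiNat.eq_one h h')

theorem PiElt.coprime (hx : PiElt π x) (hy : PiElt πᶜ y) : (orderOf x).Coprime (orderOf y) :=
  PiNat.coprime hx hy

theorem PiElt.map (h : PiElt π x) (f : G →* G') : PiElt π (f x) :=
  PiNat.dvd h (orderOf_map_dvd f x)

theorem piElt_of_orderOf_prime (hp : p.Prime) (h : orderOf x = p) : PiElt {p} x := by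
  unfold PiElt; rw [h]; exact piNat_self hp

theorem piElt_of_pow_eq_one {n : ℕ} (hn : PiNat π n) (h : x ^ n = 1) : PiElt π x :=
  hn.dvd (orderOf_dvd_of_pow_eq_one h)

theorem PiElt.exists_pow [Finite G] (hp : p.Prime) (h : PiElt {p} x) : ∃ k, orderOf x = p ^ k :=
  (piNat_singleton hp (orderOf_pos x).ne').1 h

theorem PiElt.dvd_orderOf (h : PiElt {p} x) (h1 : x ≠ 1) : p ∣ orderOf x := by
  have := h.isPi.dvd_card (by simpa using h1)
  rwa [card_zpowers'] at this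

/-- if `x` and `y` commute and have coprime orders then both are powers of `x * y`. -/
theorem mem_zpowers_mul_left [Finite G] (h : x * y = y * x)
    (hc : (orderOf x).Coprime (orderOf y)) : x ∈ zpowers (x * y) := by
  have hxy : Commute x y := h
  have h1 : (x * y) ^ orderOf y = x ^ orderOf y := by
    rw [hxy.mul_pow, pow_orderOf_eq_one, mul_one]
  have h2 : x ∈ zpowers (x ^ orderOf y) := mem_zpowers_pow_iff.2 hc.symm
  rw [← h1] at h2
  exact (zpowers_le.2 (npow_mem_zpowers _ _)) h2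

theorem mem_zpowers_mul_right [Finite G] (h : x * y = y * x)
    (hc : (orderOf x).Coprime (orderOf y)) : y ∈ zpowers (x * y) := by
  rw [h]; exact mem_zpowers_mul_left h.symm hc.symm

theorem C1_mul_of_coprime [Finite G] (h : x * y = y * x)
    (hc : (orderOf x).Coprime (orderOf y)) : C{x * y} = C{x} ⊓ C{y} := by
  apply le_antisymm (le_inf (C1_le_C1_of_mem_zpowers (mem_zpowers_mul_left h hc))
    (C1_le_C1_of_mem_zpowers (mem_zpowers_mul_right h hc)))
  intro g hg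
  obtain ⟨h1, h2⟩ := mem_inf.1 hg
  rw [mem_C1] at h1 h2 ⊢
  rw [← mul_assoc, h1, mul_assoc, h2, mul_assoc]

theorem exists_piElt_decomp [Finite G] (π : Set ℕ) (x : G) :
    ∃ y z, PiElt π y ∧ PiElt πᶜ z ∧ y ∈ zpowers x ∧ z ∈ zpowers x ∧ x = y * z := by
  obtain ⟨a, b, ha, hb, e⟩ := exists_pi_part π (orderOf_pos x).ne'
  obtain ⟨u, v, huv⟩ : ∃ u v : ℤ, u * b + v * a = 1 :=
    (Nat.isCoprime_iff_coprime.2 (ha.coprime hb).symm)
  refine ⟨x ^ (u * b), x ^ (v * a), piElt_of_pow_eq_one ha ?_, piElt_of_pow_eq_one hb ?_,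
    zpow_mem_zpowers _ _, zpow_mem_zpowers _ _, by rw [← zpow_add, huv, zpow_one]⟩
  · rw [← zpow_natCast, ← zpow_mul, show u * b * a = (a * b : ℕ) * u by push_cast; ring, ← e,
      zpow_mul, zpow_natCast, pow_orderOf_eq_one, one_zpow]
  · rw [← zpow_natCast, ← zpow_mul, show v * a * b = (a * b : ℕ) * v by push_cast; ring, ← e,
      zpow_mul, zpow_natCast, pow_orderOf_eq_one, one_zpow]

theorem piElt_decomp_unique [Finite G] {y z y' z' : G} (hy : PiElt π y) (hz : PiElt πᶜ z)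
    (hy' : PiElt π y') (hz' : PiElt πᶜ z') (h : y * z = z * y) (h' : y' * z' = z' * y')
    (e : y * z = y' * z') : y = y' ∧ z = z' := by
  have ha := abl_zpowers (y * z)
  have m1 := mem_zpowers_mul_left h (hy.coprime hz)
  have m2 := mem_zpowers_mul_right h (hy.coprime hz)
  have m3 := mem_zpowers_mul_left h' (hy'.coprime hz')
  have m4 := mem_zpowers_mul_right h' (hy'.coprime hz')
  rw [← e] at m3 m4
  have h1 : y'⁻¹ * y = z' * z⁻¹ := by
    calc y'⁻¹ * y = y'⁻¹ * (y * z) * z⁻¹ := by group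
      _ = z' * z⁻¹ := by rw [e]; group
  have h2 : PiElt π (y'⁻¹ * y) := hy'.inv.mul hy (ha.comm (inv_mem m3) m1)
  have h3 : PiElt πᶜ (y'⁻¹ * y) := h1 ▸ hz'.mul hz.inv (ha.comm m4 (inv_mem m2))
  have h4 := h2.eq_one h3
  have h5 : y = y' := by rw [inv_mul_eq_one] at h4; exact h4.symm
  subst h5
  exact ⟨rfl, mul_left_cancel e⟩

/-- the `π`-part `x_π` of an element (MathComp `x.`_pi`). -/
noncomputable def constt [Finite G] (π : Set ℕ) (x : G) : G :=
  (exists_piElt_decomp π x).choose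

theorem constt_spec [Finite G] (π : Set ℕ) (x : G) :
    ∃ z, PiElt π (constt π x) ∧ PiElt πᶜ z ∧ constt π x ∈ zpowers x ∧ z ∈ zpowers x ∧
      x = constt π x * z := (exists_piElt_decomp π x).choose_spec

theorem piElt_constt [Finite G] (π : Set ℕ) (x : G) : PiElt π (constt π x) :=
  (constt_spec π x).choose_spec.1

theorem constt_mem_zpowers [Finite G] (π : Set ℕ) (x : G) : constt π x ∈ zpowers x :=
  (constt_spec π x).choose_spec.2.2.1

theorem constt_mem [Finite G] (π : Set ℕ) (hx : x ∈ H) : constt π x ∈ H :=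
  zpowers_le.2 hx (constt_mem_zpowers π x)

theorem constt_mul_of [Finite G] {z : G} (hy : PiElt π y) (hz : PiElt πᶜ z) (h : y * z = z * y) :
    constt π (y * z) = y := by
  obtain ⟨w, h1, h2, h3, h4, h5⟩ := constt_spec π (y * z)
  exact (piElt_decomp_unique h1 h2 hy hz ((abl_zpowers _).comm h3 h4) h h5.symm).1

theorem constt_mul_of' [Finite G] {z : G} (hy : PiElt π y) (hz : PiElt πᶜ z) (h : y * z = z * y) :
    constt πᶜ (y * z) = z := by
  rw [h]; exact constt_mul_of hz (by rwa [compl_compl]) h.symm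

theorem constt_mul_constt [Finite G] (π : Set ℕ) (x : G) : constt π x * constt πᶜ x = x := by
  obtain ⟨w, h1, h2, h3, h4, h5⟩ := constt_spec π x
  have : constt πᶜ x = w := by
    conv_lhs => rw [h5]
    exact constt_mul_of' h1 h2 ((abl_zpowers _).comm h3 h4)
  rw [this, ← h5]

theorem constt_comm [Finite G] (π ρ : Set ℕ) (x : G) :
    constt π x * constt ρ x = constt ρ x * constt π x :=
  (abl_zpowers x).comm (constt_mem_zpowers π x) (constt_mem_zpowers ρ x)

theorem constt_eq_self [Finite G] (h : PiElt π x) : constt π x = x := by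
  simpa using constt_mul_of h (piElt_one πᶜ) (by simp)

theorem constt_eq_one [Finite G] (h : PiElt πᶜ x) : constt π x = 1 := by
  simpa using constt_mul_of (piElt_one π) h (by simp)

theorem constt_eq_one_iff [Finite G] : constt π x = 1 ↔ PiElt πᶜ x := by
  refine ⟨fun h => ?_, constt_eq_one⟩
  have := constt_mul_constt π x
  rw [h, one_mul] at this
  exact this ▸ piElt_constt πᶜ x

theorem constt_map [Finite G] [Finite G'] (f : G →* G') (π : Set ℕ) (x : G) :
    f (constt π x) = constt π (f x) := by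
  conv_rhs => rw [← constt_mul_constt π x, map_mul]
  refine (constt_mul_of ((piElt_constt π x).map f) ((piElt_constt πᶜ x).map f) ?_).symm
  rw [← map_mul, ← map_mul, constt_comm]

theorem constt_conj [Finite G] (π : Set ℕ) (g x : G) :
    constt π (g * x * g⁻¹) = g * constt π x * g⁻¹ :=
  (constt_map (MulAut.conj g).toMonoidHom π x).symm

theorem C1_le_C1_constt [Finite G] (π : Set ℕ) (x : G) : C{x} ≤ C{constt π x} :=
  C1_le_C1_of_mem_zpowers (constt_mem_zpowers π x)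

theorem constt_mul [Finite G] (π : Set ℕ) (h : x * y = y * x) :
    constt π (x * y) = constt π x * constt π y := by
  have hc : ∀ a ∈ zpowers x, ∀ b ∈ zpowers y, a * b = b * a := by
    rw [← le_C_iff, C_zpowers, zpowers_le, mem_C1]; exact h
  have m1 := constt_mem_zpowers π x
  have m2 := constt_mem_zpowers πᶜ x
  have m3 := constt_mem_zpowers π y
  have m4 := constt_mem_zpowers πᶜ y
  have e : x * y = (constt π x * constt π y) * (constt πᶜ x * constt πᶜ y) := by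
    conv_lhs => rw [← constt_mul_constt π x, ← constt_mul_constt π y]
    rw [mul_assoc, mul_assoc, ← mul_assoc (constt πᶜ x), hc _ m2 _ m3, mul_assoc]
  have hA : Abl (zpowers x ⊔ zpowers y) :=
    (abl_zpowers x).sup (abl_zpowers y) (le_C_iff.2 hc)
  rw [e]
  exact constt_mul_of ((piElt_constt π x).mul (piElt_constt π y) (hc _ m1 _ m3))
    ((piElt_constt πᶜ x).mul (piElt_constt πᶜ y) (hc _ m2 _ m4))
    (hA.comm (mul_mem_sup m1 m3) (mul_mem_sup m2 m4))

/-- an element lies in `H` as soon as all its `p`-parts do. -/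
theorem mem_of_constt_mem [Finite G] (h : ∀ p, p.Prime → p ∣ orderOf x → constt {p} x ∈ H) :
    x ∈ H := by
  by_contra hx
  have hne : H.relIndex (zpowers x) ≠ 1 := fun e => hx (relIndex_eq_one.1 e (mem_zpowers x))
  obtain ⟨p, hp, hd⟩ := Nat.exists_prime_and_dvd hne
  have hp' : p ∣ orderOf x := by
    rw [← card_zpowers']; exact hd.trans (relIndex_dvd_card _ _)
  have h1 : IsProd (H ⊓ zpowers x) (zpowers (constt {p}ᶜ x)) (zpowers x) := by
    have hn : zpowers (constt {p}ᶜ x) ≤ N[H ⊓ zpowers x] :=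
      (abl_zpowers x).norm (zpowers_le.2 (constt_mem_zpowers _ x)) inf_le_right
    have : (H ⊓ zpowers x) ⊔ zpowers (constt {p}ᶜ x) = zpowers x := by
      apply le_antisymm (sup_le inf_le_right (zpowers_le.2 (constt_mem_zpowers _ x)))
      rw [zpowers_le]
      have := mul_mem_sup (mem_inf.2 ⟨h p hp hp', constt_mem_zpowers {p} x⟩)
        (mem_zpowers (constt {p}ᶜ x))
      rwa [constt_mul_constt] at this
    have h0 := isProd_sup hn
    rwa [this] at h0
  have h2 := h1.relIndex_dvd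
  rw [inf_relIndex_right] at h2
  exact (piElt_constt {p}ᶜ x).isPi p hp (hd.trans h2) rfl

end IsPi

/-! ### Hall subgroups -/
section Hall
variable {π ρ : Set ℕ} {A B H K L M P Q : Subgroup G} {p q : ℕ}

theorem hall_def : Hall π M H ↔ IsPiHallOf π H M := Iff.rfl

theorem Hall.le (h : Hall π M H) : H ≤ M := h.1

theorem Hall.pi (h : Hall π M H) : IsPi π H := h.2.1

theorem Hall.idx (h : Hall π M H) : PiNat πᶜ (H.relIndex M) := fun p hp hd hπ => h.2.2 p hp hπ hd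

theorem Hall.mk' (h1 : H ≤ M) (h2 : IsPi π H) (h3 : PiNat πᶜ (H.relIndex M)) : Hall π M H :=
  ⟨h1, h2, fun p hp hπ hd => h3 p hp hd hπ⟩

theorem Syl.mk' (hp : p.Prime) (h1 : P ≤ M) (h2 : IsPi {p} P) (h3 : ¬ p ∣ P.relIndex M) :
    Syl p M P := Hall.mk' h1 h2 ((piNat_compl_singleton hp).2 h3)

theorem Syl.not_dvd (hp : p.Prime) (h : Syl p M P) : ¬ p ∣ P.relIndex M :=
  (piNat_compl_singleton hp).1 h.idx

theorem hall_top_iff : Hall π ⊤ H ↔ IsPiHall π H := by
  unfold Hall IsPiHallOf IsPiHall; simp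

theorem Hall.coprime (h : Hall π M H) : (Nat.card H).Coprime (H.relIndex M) :=
  PiNat.coprime h.pi h.idx

theorem Hall.isHall (h : Hall π M H) : IsHall M H := ⟨h.le, h.coprime⟩

theorem IsHall.hall (h : IsHall M H) : Hall (primesOf H) M H :=
  Hall.mk' h.1 (isPi_primesOf H) (piNat_compl_of_coprime h.2)

theorem Hall.card (h : Hall π M H) : Nat.card H * H.relIndex M = Nat.card M := card_mul_relIndex h.le

theorem hall_self (h : IsPi π M) : Hall π M M := Hall.mk' le_rfl h (by simp [piNat_one])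

theorem hall_bot (h : IsPi πᶜ M) : Hall π M ⊥ := Hall.mk' bot_le (isPi_bot π) (by simpa using h.piNat)

theorem Hall.of_le (h : Hall π M H) (h1 : H ≤ L) (h2 : L ≤ M) : Hall π L H :=
  Hall.mk' h1 h.pi (h.idx.dvd (Dvd.intro _ (relIndex_mul_relIndex H L M h1 h2)))

theorem Hall.of_idx (h : Hall π L H) (h2 : L ≤ M) (h3 : PiNat πᶜ (L.relIndex M)) : Hall π M H :=
  Hall.mk' (h.le.trans h2) h.pi (by rw [← relIndex_mul_relIndex H L M h.le h2]; exact h.idx.mul h3)

/-- a Hall `ρ`-subgroup of a Hall `π`-subgroup, `ρ ⊆ π`. -/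
theorem Hall.trans (h : Hall π M H) (h' : Hall ρ H K) (hs : ρ ⊆ π) : Hall ρ M K :=
  h'.of_idx h.le (h.idx.mono (Set.compl_subset_compl.2 hs))

theorem Hall.trans_syl (h : Hall π M H) (h' : Syl p H P) (hp : p ∈ π) : Syl p M P :=
  h.trans h' (Set.singleton_subset_iff.2 hp)

theorem Hall.trans_inter (h : Hall π M H) (h' : Hall ρ H K) : Hall (π ∩ ρ) M K := by
  refine Hall.mk' (h'.le.trans h.le) ((h.pi.of_le h'.le).inter h'.pi) ?_
  rw [← relIndex_mul_relIndex K H M h'.le h.le]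
  exact (h'.idx.mono (Set.compl_subset_compl.2 Set.inter_subset_right)).mul
    (h.idx.mono (Set.compl_subset_compl.2 Set.inter_subset_left))

theorem Hall.congr (h : Hall π M H) (hc : ∀ p, p.Prime → p ∣ Nat.card M → (p ∈ π ↔ p ∈ ρ)) :
    Hall ρ M H :=
  Hall.mk' h.le (fun p hp hd => (hc p hp (hd.trans (card_dvd h.le))).1 (h.pi p hp hd))
    (fun p hp hd hρ => h.idx p hp hd ((hc p hp (hd.trans (relIndex_dvd_card _ _))).2 hρ))

theorem Hall.card_dvd (h : Hall π M H) (hK : IsPi π K) (hKM : K ≤ M) : Nat.card K ∣ Nat.card H :=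
  PiNat.dvd_of_dvd_mul hK h.idx (h.card ▸ H24.card_dvd hKM)

theorem Hall.dvd_card {n : ℕ} (h : Hall π M H) (hn : PiNat π n) (hd : n ∣ Nat.card M) :
    n ∣ Nat.card H := hn.dvd_of_dvd_mul h.idx (h.card ▸ hd)

theorem Hall.prime_dvd (h : Hall π M H) (hp : p.Prime) (hπ : p ∈ π) (hd : p ∣ Nat.card M) :
    p ∣ Nat.card H := h.dvd_card ((piNat_prime hp).2 hπ) hd

theorem Hall.ne_bot (h : Hall π M H) (hp : p.Prime) (hπ : p ∈ π) (hd : p ∣ Nat.card M) : H ≠ ⊥ :=
  ne_bot_of_prime_dvd hp (h.prime_dvd hp hπ hd)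

theorem Syl.ne_bot' (h : Syl p M P) (hp : p ∈ primesOf M) : P ≠ ⊥ := Hall.ne_bot h hp.1 rfl hp.2

theorem Hall.mem_primesOf (h : Hall π M H) : p ∈ primesOf H ↔ p ∈ π ∧ p ∈ primesOf M :=
  ⟨fun hp => ⟨h.pi p hp.1 hp.2, primesOf_mono h.le hp⟩,
    fun hp => ⟨hp.2.1, h.prime_dvd hp.2.1 hp.1 hp.2.2⟩⟩

theorem Hall.isPi_compl_of_eq_bot (h : Hall π M H) (hH : H = ⊥) : IsPi πᶜ M := by
  subst hH; simpa [IsPi] using h.idx

theorem Hall.eq_bot_of_isPi (h : Hall π M H) (hM : IsPi πᶜ M) : H = ⊥ :=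
  h.pi.eq_bot (hM.of_le h.le)

theorem Hall.card_eq (h : Hall π M H) (h' : Hall π M K) : Nat.card H = Nat.card K :=
  Nat.dvd_antisymm (h'.card_dvd h.pi h.le) (h.card_dvd h'.pi h'.le)

/-- maximality of Hall subgroups among `π`-subgroups. -/
theorem Hall.eq_of_le [Finite G] (h : Hall π M H) (hK : IsPi π K) (h1 : H ≤ K) (h2 : K ≤ M) :
    K = H :=
  (eq_of_card_ge h1 (Nat.le_of_dvd (card_pos H) (h.card_dvd hK h2))).symm

theorem Hall.eq_self [Finite G] (h : Hall π M H) (hM : IsPi π M) : H = M :=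
  (h.eq_of_le hM h.le le_rfl).symm

theorem Hall.of_card [Finite G] (h : Hall π M H) (hK : K ≤ M) (hc : Nat.card K = Nat.card H) :
    Hall π M K := by
  refine Hall.mk' hK (by unfold IsPi; rw [hc]; exact h.pi) ?_
  have e := card_mul_relIndex hK
  rw [hc, ← h.card] at e
  rw [Nat.eq_of_mul_eq_mul_left (card_pos H) e]; exact h.idx

theorem Hall.of_card_le [Finite G] (h : Hall π M H) (hK : K ≤ M) (hpi : IsPi π K)
    (hc : Nat.card H ≤ Nat.card K) : Hall π M K :=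
  h.of_card hK (le_antisymm (Nat.le_of_dvd (card_pos H) (h.card_dvd hpi hK)) hc)

theorem Hall.of_ge [Finite G] (h : Hall π M H) (hK : K ≤ M) (hpi : IsPi π K) (hHK : H ≤ K) :
    Hall π M K := h.of_card_le hK hpi (card_le hHK)

theorem Hall.map (h : Hall π M H) (f : G →* G') : Hall π (M.map f) (H.map f) := by
  refine Hall.mk' (map_mono h.le) (h.pi.map f) ?_
  rw [relIndex_map_map]
  refine h.idx.dvd ?_
  have hp : IsProd (H ⊔ f.ker) M (M ⊔ f.ker) := by
    refine ⟨sup_le_sup_right h.le _, le_sup_left, fun m hm => ?_⟩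
    obtain ⟨a, ha, b, hb, rfl⟩ := (isProd_sup' (norm_of_normal M f.ker)).symm.mul m hm
    exact ⟨a, mem_sup_right ha, b, hb, rfl⟩
  rw [hp.relIndex_eq]
  exact relIndex_dvd_of_le_left _ le_sup_left

theorem hall_map_iff {f : G →* G'} (hf : Function.Injective f) :
    Hall π (M.map f) (H.map f) ↔ Hall π M H :=
  ⟨fun h => Hall.mk' ((map_le_map_iff_of_injective hf).1 h.le) ((isPi_map_iff hf).1 h.pi)
    (by rw [← relIndex_map_map_of_injective H M hf]; exact h.idx), fun h => h.map f⟩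

theorem Hall.cj (h : Hall π M H) (g : G) : Hall π (cj g M) (cj g H) := h.map _

@[simp] theorem hall_cj_iff {g : G} : Hall π (cj g M) (cj g H) ↔ Hall π M H :=
  hall_map_iff (conj_injective' g)

theorem Hall.cj_mem (h : Hall π M H) {g : G} (hg : g ∈ M) : Hall π M (H24.cj g H) := by
  have := h.cj g
  rwa [cj_of_mem hg] at this

theorem Hall.cj_mem_N (h : Hall π M H) {g : G} (hg : g ∈ N[M]) : Hall π M (H24.cj g H) := by
  have := h.cj g
  rwa [cj_of_mem_N hg] at this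

theorem Hall.subgroupOf (h : Hall π M H) (hM : M ≤ L) :
    Hall π (M.subgroupOf L) (H.subgroupOf L) := by
  rw [← hall_map_iff L.subtype_injective, map_subgroupOf_eq_of_le hM,
    map_subgroupOf_eq_of_le (h.le.trans hM)]
  exact h

theorem hall_subgroupOf_top (hH : H ≤ M) : Hall π ⊤ (H.subgroupOf M) ↔ Hall π M H := by
  rw [← hall_map_iff M.subtype_injective, map_subgroupOf_eq_of_le hH, ← MonoidHom.range_eq_map,
    range_subtype]

theorem hall_map_subtype (K : Subgroup M) : Hall π M (K.map M.subtype) ↔ Hall π ⊤ K := by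
  rw [← hall_map_iff M.subtype_injective, ← MonoidHom.range_eq_map, range_subtype]

/-- in a factorisation `M = A B` by a `π`-group and a `π'`-group both factors are Hall. -/
theorem IsProd.hall_left (h : IsProd A B M) (hA : IsPi π A) (hB : IsPi πᶜ B) : Hall π M A :=
  Hall.mk' h.left_le hA (PiNat.dvd hB h.relIndex_dvd)

theorem IsProd.hall_right (h : IsProd A B M) (hA : IsPi πᶜ A) (hB : IsPi π B) : Hall π M B :=
  h.symm.hall_left hB hA

theorem SD.hall_left (h : SD K H M) (hK : IsPi π K) (hH : IsPi πᶜ H) : Hall π M K :=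
  h.isProd.hall_left hK hH

theorem SD.hall_right (h : SD K H M) (hK : IsPi πᶜ K) (hH : IsPi π H) : Hall π M H :=
  h.isProd.hall_right hK hH

theorem SD.isPi_right (h : SD K H M) (hK : Hall π M K) : IsPi πᶜ H := by
  unfold IsPi; rw [← h.relIndex_left]; exact hK.idx

theorem SD.isPi_left (h : SD K H M) (hH : Hall π M H) : IsPi πᶜ K := by
  unfold IsPi; rw [← h.relIndex_right]; exact hH.idx

theorem SD.hall_compl_right (h : SD K H M) (hK : Hall π M K) : Hall πᶜ M H :=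
  h.hall_right (by rw [compl_compl]; exact hK.pi) (h.isPi_right hK)

theorem SD.hall_compl_left (h : SD K H M) (hH : Hall π M H) : Hall πᶜ M K :=
  h.hall_left (h.isPi_left hH) (by rw [compl_compl]; exact hH.pi)

theorem SD.coprime (h : SD K H M) (hK : Hall π M K) : (Nat.card K).Coprime (Nat.card H) :=
  hK.pi.coprime (h.isPi_right hK)

theorem Hall.isProd [Finite G] (hA : Hall π M A) (hB : Hall πᶜ M B) : IsProd A B M :=
  isProd_of_coprime_relIndex hA.le hB.le (hA.idx.coprime hB.idx)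

theorem Hall.isProd_of_idx [Finite G] (hA : Hall π M A) (hB : B ≤ M)
    (hi : PiNat π (B.relIndex M)) : IsProd A B M :=
  isProd_of_coprime_relIndex hA.le hB (hA.idx.coprime' hi)

theorem Hall.sd [Finite G] (hK : Hall π M K) (hH : Hall πᶜ M H) (hn : M ≤ N[K]) : SD K H M :=
  ⟨hH.le.trans hn, hK.pi.inf_eq_bot hH.pi, (hK.isProd hH).sup_eq⟩

theorem Hall.sd' [Finite G] (hK : Hall πᶜ M K) (hH : Hall π M H) (hn : M ≤ N[K]) : SD K H M :=
  hK.sd (by rwa [compl_compl]) hn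

/-- a `π`-subgroup normalising a Hall `π`-subgroup lies in it. -/
theorem Hall.le_of_norm [Finite G] (h : Hall π M H) (hK : IsPi π K) (hKM : K ≤ M) (hn : K ≤ N[H]) :
    K ≤ H := by
  rw [← h.eq_of_le (h.pi.sup hK hn) le_sup_left (sup_le h.le hKM)]; exact le_sup_right

/-- a `π`-subgroup normalised by a Hall `π`-subgroup lies in it. -/
theorem Hall.le_of_norm' [Finite G] (h : Hall π M H) (hK : IsPi π K) (hKM : K ≤ M)
    (hn : H ≤ N[K]) : K ≤ H := by
  rw [← h.eq_of_le (h.pi.sup' hK hn) le_sup_left (sup_le h.le hKM)]; exact le_sup_right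

/-- a normal Hall `π`-subgroup contains every `π`-subgroup. -/
theorem Hall.le_of_nml [Finite G] (h : Hall π M H) (hn : M ≤ N[H]) (hK : IsPi π K) (hKM : K ≤ M) :
    K ≤ H := h.le_of_norm hK hKM (hKM.trans hn)

/-- a normal `π`-subgroup lies in every Hall `π`-subgroup. -/
theorem Hall.nml_le [Finite G] (h : Hall π M H) (hK : IsPi π K) (hn : K ⊴ M) : K ≤ H :=
  h.le_of_norm' hK hn.le (h.le.trans hn.norm)

theorem Hall.mem_of_nml [Finite G] (h : Hall π M H) (hn : M ≤ N[H]) {x : G} (hx : PiElt π x)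
    (hxM : x ∈ M) : x ∈ H :=
  zpowers_le.1 (h.le_of_nml hn hx.isPi (zpowers_le.2 hxM))

theorem Hall.eq_of_nml [Finite G] (h : Hall π M H) (hn : M ≤ N[H]) (h' : Hall π M K) : K = H :=
  eq_of_card_eq (h.le_of_nml hn h'.pi h'.le) (h'.card_eq h)

/-- a normal Hall subgroup is normalised by everything that normalises the group. -/
theorem Hall.norm_of_nml [Finite G] {X : Subgroup G} (h : Hall π M H) (hn : M ≤ N[H])
    (hX : X ≤ N[M]) : X ≤ N[H] := fun _ hg =>
  mem_N_iff_cj.2 (h.eq_of_nml hn (h.cj_mem_N (hX hg)))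

theorem Hall.inf_of_isProd (h : Hall π M H) (hp : IsProd H K L) (hL : L ≤ M) :
    Hall π K (H ⊓ K) := by
  refine Hall.mk' inf_le_right (h.pi.inf_left K) ?_
  rw [inf_relIndex_right, ← hp.relIndex_eq]
  exact (h.of_le hp.left_le hL).idx

/-- the intersection of a Hall subgroup with a normal subgroup. -/
theorem Hall.inf_nml (h : Hall π M H) (hK : K ⊴ M) : Hall π K (H ⊓ K) :=
  h.inf_of_isProd (isProd_sup' (h.le.trans hK.norm)) (sup_le h.le hK.le)

theorem Hall.inf_nml' (h : Hall π M H) (hK : K ⊴ M) : Hall π K (K ⊓ H) :=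
  inf_comm H K ▸ h.inf_nml hK

theorem Hall.inf_norm (h : Hall π M H) (hK : K ≤ M) (hn : H ≤ N[K]) : Hall π K (H ⊓ K) :=
  h.inf_of_isProd (isProd_sup' hn) (sup_le h.le hK)

/-- the intersection of a normal Hall subgroup with any subgroup. -/
theorem Hall.nml_inf (h : Hall π M H) (hn : M ≤ N[H]) (hL : L ≤ M) : Hall π L (H ⊓ L) :=
  h.inf_of_isProd (isProd_sup (hL.trans hn)) (sup_le h.le hL)

theorem Hall.nml_inf' (h : Hall π M H) (hn : M ≤ N[H]) (hL : L ≤ M) : Hall π L (L ⊓ H) :=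
  inf_comm H L ▸ h.nml_inf hn hL

theorem Hall.inf_eq_bot (h : Hall π M H) (hK : IsPi πᶜ K) : H ⊓ K = ⊥ := h.pi.inf_eq_bot hK

/-- `HK` is a Hall `π ∪ ρ`-subgroup. -/
theorem Hall.union (h : Hall π M H) (h' : Hall ρ M K) (hp : IsProd H K L) (hL : L ≤ M) :
    Hall (π ∪ ρ) M L := by
  refine Hall.mk' hL (hp.isPi (h.pi.mono Set.subset_union_left) (h'.pi.mono Set.subset_union_right))
    ?_
  rw [Set.compl_union]
  exact (h.idx.dvd (relIndex_dvd_of_le_left _ hp.left_le)).inter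
    (h'.idx.dvd (relIndex_dvd_of_le_left _ hp.right_le))

/-- a subgroup containing a Hall `π`-subgroup has `π'` index. -/
theorem Hall.idx_of_ge (h : Hall π M H) (hL : H ≤ L) : PiNat πᶜ (L.relIndex M) :=
  h.idx.dvd (relIndex_dvd_of_le_left _ hL)

/-- a `π`-subgroup lies in every normal subgroup of `π'`-index. -/
theorem le_of_idx_compl [Finite G] (hK : K ⊴ M) (hi : PiNat πᶜ (K.relIndex M)) (hA : IsPi π A)
    (hAM : A ≤ M) : A ≤ K := by
  rw [← relIndex_eq_one]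
  exact (hA.relIndex K).eq_one (hi.dvd (relIndex_dvd_of_nml hK hAM))

theorem le_of_idx_compl' [Finite G] (hK : K ⊴ M) (hi : PiNat π (K.relIndex M)) (hA : IsPi πᶜ A)
    (hAM : A ≤ M) : A ≤ K := le_of_idx_compl hK (by rwa [compl_compl]) hA hAM

/-! ### Sylow subgroups -/

theorem syl_of_sylow [Finite G] (hp : p.Prime) (S : Sylow p M) :
    Syl p M ((S : Subgroup M).map M.subtype) := by
  have := Fact.mk hp
  rw [Syl, hall_map_subtype]
  exact Syl.mk' hp le_top (isPi_of_isPGroup hp S.2) (by simpa using S.not_dvd_index)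

theorem syl_top_of_sylow [Finite G] (hp : p.Prime) (S : Sylow p G) : Syl p ⊤ (S : Subgroup G) := by
  have := Fact.mk hp
  exact Syl.mk' hp le_top (isPi_of_isPGroup hp S.2) (by simpa using S.not_dvd_index)

theorem Syl.exists_sylow [Finite G] (hp : p.Prime) (h : Syl p M P) :
    ∃ S : Sylow p M, (S : Subgroup M).map M.subtype = P := by
  have := Fact.mk hp
  exact ⟨((isPi_subgroupOf h.pi M).isPGroup hp).toSylow (h.not_dvd hp),
    map_subgroupOf_eq_of_le h.le⟩

theorem Syl.exists_sylow_top [Finite G] (hp : p.Prime) (h : Syl p ⊤ P) :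
    ∃ S : Sylow p G, (S : Subgroup G) = P := by
  have := Fact.mk hp
  exact ⟨(h.pi.isPGroup hp).toSylow (by simpa using h.not_dvd hp), rfl⟩

theorem syl_iff_sylow [Finite G] (hp : p.Prime) :
    Syl p M P ↔ ∃ S : Sylow p M, (S : Subgroup M).map M.subtype = P :=
  ⟨fun h => h.exists_sylow hp, fun ⟨S, e⟩ => e ▸ syl_of_sylow hp S⟩

theorem Sylow_superset [Finite G] (hp : p.Prime) (hQ : IsPi {p} Q) (hQM : Q ≤ M) :
    ∃ P, Syl p M P ∧ Q ≤ P := by
  obtain ⟨S, hS⟩ := ((isPi_subgroupOf hQ M).isPGroup hp).exists_le_sylow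
  exact ⟨_, syl_of_sylow hp S, by rw [← map_subgroupOf_eq_of_le hQM]; exact map_mono hS⟩

theorem Sylow_exists [Finite G] (hp : p.Prime) (M : Subgroup G) : ∃ P, Syl p M P :=
  (Sylow_superset hp (isPi_bot _) bot_le).imp fun _ h => h.1

theorem Sylow_trans [Finite G] (hp : p.Prime) (hP : Syl p M P) (hQ : Syl p M Q) :
    ∃ g ∈ M, Q = cj g P := by
  have := Fact.mk hp
  obtain ⟨S, rfl⟩ := hP.exists_sylow hp
  obtain ⟨T, rfl⟩ := hQ.exists_sylow hp
  obtain ⟨g, rfl⟩ := MulAction.exists_smul_eq M S T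
  exact ⟨g, g.2, map_cj M.subtype g S⟩

/-- every `p`-subgroup lies in a conjugate of a given Sylow subgroup. -/
theorem Sylow_subJ [Finite G] (hp : p.Prime) (hP : Syl p M P) (hQ : IsPi {p} Q) (hQM : Q ≤ M) :
    ∃ g ∈ M, Q ≤ cj g P := by
  obtain ⟨R, hR, hQR⟩ := Sylow_superset hp hQ hQM
  obtain ⟨g, hg, rfl⟩ := Sylow_trans hp hP hR
  exact ⟨g, hg, hQR⟩

/-- every `p`-subgroup is conjugate into a given Sylow subgroup. -/
theorem Sylow_Jsub [Finite G] (hp : p.Prime) (hP : Syl p M P) (hQ : IsPi {p} Q) (hQM : Q ≤ M) :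
    ∃ g ∈ M, cj g Q ≤ P := by
  obtain ⟨g, hg, h⟩ := Sylow_subJ hp hP hQ hQM
  exact ⟨g⁻¹, inv_mem hg, le_cj_iff.1 h⟩

theorem syl_of_max [Finite G] (hp : p.Prime) (hP : IsPi {p} P) (hPM : P ≤ M)
    (h : ∀ Q, IsPi {p} Q → P ≤ Q → Q ≤ M → Q ≤ P) : Syl p M P := by
  obtain ⟨R, hR, hPR⟩ := Sylow_superset hp hP hPM
  rwa [le_antisymm hPR (h R hR.pi hPR hR.le)]

/-- a subgroup that contains a Sylow `p`-subgroup for every prime `p` is everything. -/
theorem le_of_syl_le [Finite G]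
    (h : ∀ p, p.Prime → p ∣ Nat.card M → ∃ P, Syl p M P ∧ P ≤ L) : M ≤ L := by
  rw [← relIndex_eq_one]
  by_contra hne
  obtain ⟨p, hp, hd⟩ := Nat.exists_prime_and_dvd hne
  obtain ⟨P, hP, hPL⟩ := h p hp (hd.trans (relIndex_dvd_card _ _))
  exact hP.not_dvd hp (hd.trans (relIndex_dvd_of_le_left _ hPL))

theorem le_of_forall_syl_le [Finite G]
    (h : ∀ p P, p.Prime → p ∣ Nat.card M → Syl p M P → P ≤ L) : M ≤ L :=
  le_of_syl_le fun p hp hd => by
    obtain ⟨P, hP⟩ := Sylow_exists hp M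
    exact ⟨P, hP, h p P hp hd hP⟩

theorem hall_of_syl [Finite G] (hH : H ≤ M) (hπ : IsPi π H)
    (h : ∀ p, p.Prime → p ∈ π → p ∣ Nat.card M → ∃ P, Syl p M P ∧ P ≤ H) : Hall π M H := by
  refine Hall.mk' hH hπ fun p hp hd hpπ => ?_
  obtain ⟨P, hP, hPH⟩ := h p hp hpπ (hd.trans (relIndex_dvd_card _ _))
  exact hP.not_dvd hp (hd.trans (relIndex_dvd_of_le_left _ hPH))

/-- a general Frattini argument. -/
theorem isProd_of_trans (hK : K ≤ M) (h : ∀ m ∈ M, ∃ k ∈ K, cj m P = cj k P) :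
    IsProd K (M ⊓ N[P]) M := by
  refine ⟨hK, inf_le_left, fun m hm => ?_⟩
  obtain ⟨k, hk, e⟩ := h m hm
  exact ⟨k, hk, k⁻¹ * m, mem_inf.2 ⟨mul_mem (inv_mem (hK hk)) hm, cj_eq_cj_iff.1 e⟩, by group⟩

theorem Frattini_arg [Finite G] (hp : p.Prime) (hK : K ⊴ M) (hP : Syl p K P) :
    IsProd K (M ⊓ N[P]) M :=
  isProd_of_trans hK.le fun _ hm => Sylow_trans hp hP (hP.cj_mem_N (hK.norm hm))

theorem Syl.norm_le_norm_of_nml [Finite G] (hP : Syl p K P) (hn : K ≤ N[P]) : N[K] ≤ N[P] :=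
  hP.norm_of_nml hn le_rfl

end Hall

end H24
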