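import Mathlib
import Cfsg.Agent.H24.Base2

/-!
# Base library 3: partial morphisms (`ap`, `img`, `pre`), quotients (`quo`, `coq`, `cs`),
solvable / nilpotent / cyclic subgroups
-/

set_option autoImplicit false

namespace H24

open Cfsg Subgroup
open scoped commutatorElement

universe u v

variable {G : Type u} [Group G] {G' : Type v} [Group G']

/-! ### isomorphism invariance of `Sol`, `Nil`, `Cyc` -/
section SolNil
variable {A B H K L M : Subgroup G}

theorem Sol.of_le (h : Sol H) (hK : K ≤ H) : Sol K :=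
  Group.isSolvable_of_isSolvable_injective (inclusion_injective hK)

theorem Nil.of_le (h : Nil H) (hK : K ≤ H) : Nil K :=
  Group.nilpotent_of_mulEquiv (subgroupOfEquivOfLe hK)

theorem Cyc.of_le (h : Cyc H) (hK : K ≤ H) : Cyc K := Subgroup.isCyclic_of_le hK

theorem Sol.map (h : Sol H) (f : G →* G') : Sol (H.map f) :=
  Group.isSolvable_of_surjective (f.subgroupMap_surjective H)

theorem Nil.map (h : Nil H) (f : G →* G') : Nil (H.map f) :=
  Group.nilpotent_of_surjective _ (f.subgroupMap_surjective H)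

theorem Cyc.map (h : Cyc H) (f : G →* G') : Cyc (H.map f) :=
  isCyclic_of_surjective _ (f.subgroupMap_surjective H)

theorem sol_map_iff {f : G →* G'} (hf : Function.Injective f) : Sol (H.map f) ↔ Sol H :=
  ⟨fun _ => Group.isSolvable_of_surjective
      (f := (H.equivMapOfInjective f hf).symm.toMonoidHom) (H.equivMapOfInjective f hf).symm.surjective,
    fun h => h.map f⟩

theorem nil_map_iff {f : G →* G'} (hf : Function.Injective f) : Nil (H.map f) ↔ Nil H :=
  (Group.isNilpotent_congr (H.equivMapOfInjective f hf)).symm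

theorem cyc_map_iff {f : G →* G'} (hf : Function.Injective f) : Cyc (H.map f) ↔ Cyc H :=
  (H.equivMapOfInjective f hf).isCyclic.symm

theorem abl_map_iff {f : G →* G'} (hf : Function.Injective f) : Abl (H.map f) ↔ Abl H :=
  ⟨fun h => abl_iff.2 (cent_of_map hf h.le_C), fun h => h.map f⟩

theorem Sol.cj (h : Sol H) (g : G) : Sol (cj g H) := h.map _
theorem Nil.cj (h : Nil H) (g : G) : Nil (cj g H) := h.map _
theorem Cyc.cj (h : Cyc H) (g : G) : Cyc (cj g H) := h.map _
theorem sol_cj {g : G} : Sol (cj g H) ↔ Sol H := sol_map_iff (conj_injective' g)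
theorem nil_cj {g : G} : Nil (cj g H) ↔ Nil H := nil_map_iff (conj_injective' g)
theorem cyc_cj {g : G} : Cyc (cj g H) ↔ Cyc H := cyc_map_iff (conj_injective' g)
theorem abl_cj {g : G} : Abl (cj g H) ↔ Abl H := abl_map_iff (conj_injective' g)

theorem Abl.nil (h : Abl H) : Nil H :=
  ⟨⟨1, by rw [Subgroup.upperCentralSeries_one_eq_top_iff]; exact h⟩⟩

theorem Nil.sol (h : Nil H) : Sol H := inferInstance

theorem Abl.sol (h : Abl H) : Sol H := h.nil.sol

theorem Cyc.abl (h : Cyc H) : Abl H := inferInstance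

theorem Cyc.nil (h : Cyc H) : Nil H := h.abl.nil

theorem Cyc.sol (h : Cyc H) : Sol H := h.abl.sol

theorem IsPi.nil [Finite G] {p : ℕ} (hp : p.Prime) (h : IsPi {p} H) : Nil H :=
  have := Fact.mk hp
  (h.isPGroup hp).isNilpotent

theorem IsPi.sol [Finite G] {p : ℕ} (hp : p.Prime) (h : IsPi {p} H) : Sol H := (h.nil hp).sol

theorem cyc_bot : Cyc (⊥ : Subgroup G) := inferInstance
theorem nil_bot : Nil (⊥ : Subgroup G) := abl_bot.nil
theorem sol_bot : Sol (⊥ : Subgroup G) := abl_bot.sol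

theorem cyc_zpowers (x : G) : Cyc (zpowers x) := inferInstance

theorem cyc_iff : Cyc H ↔ ∃ x, zpowers x = H := Subgroup.isCyclic_iff_exists_zpowers_eq_top H

theorem Cyc.exists_gen (h : Cyc H) : ∃ x, x ∈ H ∧ zpowers x = H := by
  obtain ⟨x, rfl⟩ := cyc_iff.1 h
  exact ⟨x, mem_zpowers x, rfl⟩

theorem cyc_of_prime (h : (Nat.card H).Prime) : Cyc H :=
  have := Fact.mk h
  isCyclic_of_prime_card rfl

theorem abl_of_prime (h : (Nat.card H).Prime) : Abl H := (cyc_of_prime h).abl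

theorem sol_top [h : Group.IsSolvable G] : Sol (⊤ : Subgroup G) := inferInstance

theorem sol_top_iff : Sol (⊤ : Subgroup G) ↔ Group.IsSolvable G :=
  ⟨fun _ => Group.isSolvable_of_surjective (f := (topEquiv (G := G)).toMonoidHom)
    (topEquiv (G := G)).surjective, fun _ => sol_top⟩

theorem nil_top_iff : Nil (⊤ : Subgroup G) ↔ Group.IsNilpotent G := Group.isNilpotent_top

theorem cyc_top_iff : Cyc (⊤ : Subgroup G) ↔ IsCyclic G := (topEquiv (G := G)).isCyclic

theorem abl_top_iff : Abl (⊤ : Subgroup G) ↔ IsMulCommutative G := by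
  rw [← der1_eq_bot]; exact commutator_eq_bot_iff G

theorem Sol.subgroupOf (h : Sol K) (H : Subgroup G) : Sol (K.subgroupOf H) := by
  rw [← sol_map_iff H.subtype_injective, subgroupOf_map_subtype]; exact h.of_le inf_le_left

theorem Nil.subgroupOf (h : Nil K) (H : Subgroup G) : Nil (K.subgroupOf H) := by
  rw [← nil_map_iff H.subtype_injective, subgroupOf_map_subtype]; exact h.of_le inf_le_left

theorem Cyc.subgroupOf (h : Cyc K) (H : Subgroup G) : Cyc (K.subgroupOf H) := by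
  rw [← cyc_map_iff H.subtype_injective, subgroupOf_map_subtype]; exact h.of_le inf_le_left

theorem Abl.subgroupOf (h : Abl K) (H : Subgroup G) : Abl (K.subgroupOf H) := by
  rw [← abl_map_iff H.subtype_injective, subgroupOf_map_subtype]; exact h.of_le inf_le_left

theorem map_subtype_top (H : Subgroup G) : (⊤ : Subgroup H).map H.subtype = H := by
  rw [← MonoidHom.range_eq_map, range_subtype]

theorem Sol.der1_lt (h : Sol H) (hH : H ≠ ⊥) : ⁅H, H⁆ < H := by
  have : Nontrivial H := (nontrivial_iff_ne_bot H).2 hH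
  have h1 := Group.IsSolvable.commutator_lt_top_of_nontrivial H
  rw [← map_subtype_lt_map_subtype, map_subtype_commutator, map_subtype_top] at h1
  exact h1

end SolNil

/-! ### partial morphisms -/
section morph
variable {D A B H K : Subgroup G} {X Y : Subgroup G'} {f : D →* G'} {x y : G}

theorem ap_of_mem (f : D →* G') (hx : x ∈ D) : ap f x = f ⟨x, hx⟩ := dif_pos hx

@[simp] theorem ap_coe (f : D →* G') (x : D) : ap f x = f x := ap_of_mem f x.2

@[simp] theorem ap_one (f : D →* G') : ap f 1 = 1 := by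
  rw [ap_of_mem f D.one_mem]; exact map_one f

theorem ap_mul (f : D →* G') (hx : x ∈ D) (hy : y ∈ D) : ap f (x * y) = ap f x * ap f y := by
  rw [ap_of_mem f hx, ap_of_mem f hy, ap_of_mem f (mul_mem hx hy), ← map_mul]; rfl

theorem ap_inv (f : D →* G') (hx : x ∈ D) : ap f x⁻¹ = (ap f x)⁻¹ := by
  rw [ap_of_mem f hx, ap_of_mem f (inv_mem hx), ← map_inv]; rfl

theorem ap_pow (f : D →* G') (hx : x ∈ D) (n : ℕ) : ap f (x ^ n) = ap f x ^ n := by
  rw [ap_of_mem f hx, ap_of_mem f (pow_mem hx n), ← map_pow]; rfl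

theorem ap_zpow (f : D →* G') (hx : x ∈ D) (n : ℤ) : ap f (x ^ n) = ap f x ^ n := by
  rw [ap_of_mem f hx, ap_of_mem f (zpow_mem hx n), ← map_zpow]; rfl

theorem ap_conj (f : D →* G') (hx : x ∈ D) (hy : y ∈ D) :
    ap f (x * y * x⁻¹) = ap f x * ap f y * (ap f x)⁻¹ := by
  rw [ap_mul f (mul_mem hx hy) (inv_mem hx), ap_mul f hx hy, ap_inv f hx]

theorem ap_commutator (f : D →* G') (hx : x ∈ D) (hy : y ∈ D) :
    ap f ⁅x, y⁆ = ⁅ap f x, ap f y⁆ := by
  rw [commutatorElement_def, commutatorElement_def,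
    ap_mul f (mul_mem (mul_mem hx hy) (inv_mem hx)) (inv_mem hy), ap_conj f hx hy, ap_inv f hy]

theorem orderOf_ap_dvd (f : D →* G') (hx : x ∈ D) : orderOf (ap f x) ∣ orderOf x := by
  rw [ap_of_mem f hx, ← orderOf_mk x hx]; exact orderOf_map_dvd f _

theorem PiElt.ap {π : Set ℕ} (h : PiElt π x) (f : D →* G') (hx : x ∈ D) : PiElt π (ap f x) :=
  PiNat.dvd h (orderOf_ap_dvd f hx)

theorem mem_img {z : G'} : z ∈ img f A ↔ ∃ x ∈ A, x ∈ D ∧ ap f x = z := by
  constructor
  · rintro ⟨x, hx, rfl⟩; exact ⟨x, hx, x.2, ap_coe f x⟩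
  · rintro ⟨x, hx, hD, rfl⟩; exact ⟨⟨x, hD⟩, hx, (ap_of_mem f hD).symm⟩

theorem mem_img_of_le {z : G'} (h : A ≤ D) : z ∈ img f A ↔ ∃ x ∈ A, ap f x = z := by
  rw [mem_img]
  exact ⟨fun ⟨x, h1, _, h3⟩ => ⟨x, h1, h3⟩, fun ⟨x, h1, h3⟩ => ⟨x, h1, h h1, h3⟩⟩

theorem ap_mem_img (f : D →* G') (hx : x ∈ A) (hD : x ∈ D) : ap f x ∈ img f A :=
  mem_img.2 ⟨x, hx, hD, rfl⟩

theorem mem_pre : x ∈ pre f X ↔ x ∈ D ∧ ap f x ∈ X := by
  constructor
  · rintro ⟨x, hx, rfl⟩; exact ⟨x.2, by simpa using hx⟩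
  · rintro ⟨hD, h⟩; exact ⟨⟨x, hD⟩, by rwa [ap_of_mem f hD] at h, rfl⟩

theorem pre_le (f : D →* G') (X : Subgroup G') : pre f X ≤ D := map_subtype_le _

theorem img_mono (f : D →* G') (h : A ≤ B) : img f A ≤ img f B := map_mono (subgroupOf_mono D h)

theorem pre_mono (f : D →* G') (h : X ≤ Y) : pre f X ≤ pre f Y := map_mono (comap_mono h)

theorem img_inf_dom (f : D →* G') (A : Subgroup G) : img f (A ⊓ D) = img f A := by
  unfold img; rw [inf_subgroupOf_right]

theorem img_dom_inf (f : D →* G') (A : Subgroup G) : img f (D ⊓ A) = img f A := by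
  rw [inf_comm, img_inf_dom]

@[simp] theorem img_bot (f : D →* G') : img f ⊥ = ⊥ := by unfold img; simp

theorem img_dom (f : D →* G') : img f D = f.range := by
  unfold img; rw [subgroupOf_self, MonoidHom.range_eq_map]

theorem img_le_range (f : D →* G') (A : Subgroup G) : img f A ≤ f.range := map_le_range _ _

theorem img_map_subtype (f : D →* G') (L : Subgroup D) : img f (L.map D.subtype) = L.map f := by
  unfold img
  rw [← comap_subtype, comap_map_eq_self_of_injective D.subtype_injective]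

theorem img_sup (f : D →* G') (hA : A ≤ D) (hB : B ≤ D) : img f (A ⊔ B) = img f A ⊔ img f B := by
  unfold img; rw [subgroupOf_sup hA hB, Subgroup.map_sup]

theorem img_inf_le (f : D →* G') (A B : Subgroup G) : img f (A ⊓ B) ≤ img f A ⊓ img f B :=
  le_inf (img_mono f inf_le_left) (img_mono f inf_le_right)

theorem img_le_iff (hA : A ≤ D) : img f A ≤ X ↔ A ≤ pre f X := by
  constructor
  · intro h x hx; exact mem_pre.2 ⟨hA hx, h (ap_mem_img f hx (hA hx))⟩
  · intro h z hz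
    obtain ⟨x, hx, -, rfl⟩ := mem_img.1 hz
    exact (mem_pre.1 (h hx)).2

theorem img_le_of_le_pre (h : A ≤ pre f X) : img f A ≤ X :=
  (img_le_iff (h.trans (pre_le f X))).2 h

theorem le_pre_img (f : D →* G') (hA : A ≤ D) : A ≤ pre f (img f A) := (img_le_iff hA).1 le_rfl

theorem img_pre_le (f : D →* G') (X : Subgroup G') : img f (pre f X) ≤ X :=
  img_le_of_le_pre le_rfl

theorem img_pre (f : D →* G') (X : Subgroup G') : img f (pre f X) = f.range ⊓ X := by
  unfold pre; rw [img_map_subtype, map_comap_eq]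

theorem img_pre_of_le (h : X ≤ f.range) : img f (pre f X) = X := by
  rw [img_pre, inf_eq_right.2 h]

theorem img_pre_of_le_img (h : X ≤ img f A) : img f (pre f X) = X :=
  img_pre_of_le (h.trans (img_le_range f A))

theorem pre_inf (f : D →* G') (X Y : Subgroup G') : pre f (X ⊓ Y) = pre f X ⊓ pre f Y := by
  unfold pre; rw [comap_inf, Subgroup.map_inf _ _ _ D.subtype_injective]

theorem pre_sup (hX : X ≤ f.range) (hY : Y ≤ f.range) : pre f (X ⊔ Y) = pre f X ⊔ pre f Y := by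
  unfold pre; rw [← comap_sup_eq_of_le_range f hX hY, Subgroup.map_sup]

theorem pre_top (f : D →* G') : pre f ⊤ = D := by unfold pre; rw [comap_top, map_subtype_top]

theorem mem_pre_bot : x ∈ pre f ⊥ ↔ x ∈ D ∧ ap f x = 1 := by rw [mem_pre, mem_bot]

theorem ker_le_pre (f : D →* G') (X : Subgroup G') : pre f ⊥ ≤ pre f X := pre_mono f bot_le

theorem pre_img (f : D →* G') (hA : A ≤ D) : pre f (img f A) = A ⊔ pre f ⊥ := by
  unfold pre img
  rw [comap_map_eq, Subgroup.map_sup, map_subgroupOf_eq_of_le hA]; rfl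

theorem pre_img_of_ker_le (hA : A ≤ D) (hk : pre f ⊥ ≤ A) : pre f (img f A) = A := by
  rw [pre_img f hA, sup_eq_left.2 hk]

theorem ker_nml (f : D →* G') : pre f ⊥ ⊴ D := nml_map_subtype _

theorem img_eq_bot (hA : A ≤ D) : img f A = ⊥ ↔ A ≤ pre f ⊥ := by
  rw [← img_le_iff hA, le_bot_iff]

theorem img_ker (f : D →* G') : img f (pre f ⊥) = ⊥ := le_bot_iff.1 (img_pre_le f ⊥)

theorem img_le_img_iff (hA : A ≤ D) (hB : B ≤ D) : img f A ≤ img f B ↔ A ≤ B ⊔ pre f ⊥ := by
  rw [img_le_iff hA, pre_img f hB]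

theorem le_of_img_le (hA : A ≤ D) (hB : B ≤ D) (hk : pre f ⊥ ≤ B) (h : img f A ≤ img f B) :
    A ≤ B := by rwa [img_le_img_iff hA hB, sup_eq_left.2 hk] at h

theorem img_sup_ker (f : D →* G') (hA : A ≤ D) : img f (A ⊔ pre f ⊥) = img f A := by
  rw [img_sup f hA (pre_le f ⊥), img_ker, sup_bot_eq]

theorem img_inf_pre (f : D →* G') (A : Subgroup G) (X : Subgroup G') :
    img f (A ⊓ pre f X) = img f A ⊓ X := by
  apply le_antisymm (le_inf (img_mono f inf_le_left) (img_le_of_le_pre inf_le_right))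
  intro z hz
  obtain ⟨hz, hX⟩ := mem_inf.1 hz
  obtain ⟨x, hx, hD, rfl⟩ := mem_img.1 hz
  exact ap_mem_img f (mem_inf.2 ⟨hx, mem_pre.2 ⟨hD, hX⟩⟩) hD

theorem img_inf_of_ker_le (f : D →* G') (A : Subgroup G) (hB : B ≤ D) (hk : pre f ⊥ ≤ B) :
    img f (A ⊓ B) = img f A ⊓ img f B := by
  conv_lhs => rw [← pre_img_of_ker_le hB hk]
  exact img_inf_pre f A _

theorem subgroupOf_comm (hA : A ≤ D) (hB : B ≤ D) :
    ⁅A, B⁆.subgroupOf D = ⁅A.subgroupOf D, B.subgroupOf D⁆ := by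
  apply map_injective D.subtype_injective
  rw [map_commutator, map_subgroupOf_eq_of_le hA, map_subgroupOf_eq_of_le hB,
    map_subgroupOf_eq_of_le (comm_le_of_le hA hB)]

theorem img_comm (f : D →* G') (hA : A ≤ D) (hB : B ≤ D) :
    img f ⁅A, B⁆ = ⁅img f A, img f B⁆ := by
  unfold img; rw [subgroupOf_comm hA hB, map_commutator]

theorem img_norm (f : D →* G') (h : A ≤ N[B]) : img f A ≤ N[img f B] := by
  rw [le_N_iff]
  intro a ha b hb
  obtain ⟨x, hx, hxD, rfl⟩ := mem_img.1 ha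
  obtain ⟨y, hy, hyD, rfl⟩ := mem_img.1 hb
  rw [← ap_conj f hxD hyD]
  exact ap_mem_img f (conj_mem (h hx) hy) (mul_mem (mul_mem hxD hyD) (inv_mem hxD))

theorem img_cent (f : D →* G') (h : A ≤ C[B]) : img f A ≤ C[img f B] := by
  rw [le_C_iff]
  intro a ha b hb
  obtain ⟨x, hx, hxD, rfl⟩ := mem_img.1 ha
  obtain ⟨y, hy, hyD, rfl⟩ := mem_img.1 hb
  rw [← ap_mul f hxD hyD, ← ap_mul f hyD hxD, comm_of_cent h hx hy]

theorem img_cent1 (f : D →* G') (h : A ≤ C{x}) (hx : x ∈ D) : img f A ≤ C{ap f x} := by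
  intro a ha
  obtain ⟨y, hy, hyD, rfl⟩ := mem_img.1 ha
  rw [mem_C1, ← ap_mul f hyD hx, ← ap_mul f hx hyD, mem_C1.1 (h hy)]

theorem ap_mem_N (f : D →* G') (hx : x ∈ N[B]) (hD : x ∈ D) : ap f x ∈ N[img f B] :=
  img_norm f le_rfl (ap_mem_img f hx hD)

theorem ap_mem_C (f : D →* G') (hx : x ∈ C[B]) (hD : x ∈ D) : ap f x ∈ C[img f B] :=
  img_cent f le_rfl (ap_mem_img f hx hD)

theorem img_inf_C_le (f : D →* G') (A B : Subgroup G) : img f (A ⊓ C[B]) ≤ img f A ⊓ C[img f B] :=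
  le_inf (img_mono f inf_le_left) (img_cent f inf_le_right)

theorem img_inf_N_le (f : D →* G') (A B : Subgroup G) : img f (A ⊓ N[B]) ≤ img f A ⊓ N[img f B] :=
  le_inf (img_mono f inf_le_left) (img_norm f inf_le_right)

theorem Nml.img (h : A ⊴ B) (f : D →* G') : img f A ⊴ img f B :=
  ⟨img_mono f h.le, img_norm f h.norm⟩

theorem norm_pre (hA : A ≤ D) (h : img f A ≤ N[X]) : A ≤ N[pre f X] := by
  rw [le_N_iff]
  intro a ha x hx
  obtain ⟨hxD, hx⟩ := mem_pre.1 hx
  refine mem_pre.2 ⟨mul_mem (mul_mem (hA ha) hxD) (inv_mem (hA ha)), ?_⟩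
  rw [ap_conj f (hA ha) hxD]
  exact conj_mem (h (ap_mem_img f ha (hA ha))) hx

theorem pre_norm (f : D →* G') (h : X ≤ N[Y]) : pre f X ≤ N[pre f Y] :=
  norm_pre (pre_le f X) ((img_pre_le f X).trans h)

theorem Nml.pre (h : X ⊴ Y) (f : D →* G') : pre f X ⊴ pre f Y :=
  ⟨pre_mono f h.le, pre_norm f h.norm⟩

theorem norm_of_img (hA : A ≤ D) (hB : B ≤ D) (hk : pre f ⊥ ≤ B) (h : img f A ≤ N[img f B]) :
    A ≤ N[B] := by
  rw [← pre_img_of_ker_le hB hk]; exact norm_pre hA h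

theorem img_zpowers (f : D →* G') (hx : x ∈ D) : img f (zpowers x) = zpowers (ap f x) := by
  have : zpowers x = (zpowers (⟨x, hx⟩ : D)).map D.subtype := by rw [MonoidHom.map_zpowers]; rfl
  rw [this, img_map_subtype, MonoidHom.map_zpowers, ap_of_mem f hx]

theorem img_cj (f : D →* G') (hx : x ∈ D) (A : Subgroup G) :
    img f (cj x A) = cj (ap f x) (img f A) := by
  have : (cj x A).subgroupOf D = cj ⟨x, hx⟩ (A.subgroupOf D) := by
    ext y; simp [mem_cj, mem_subgroupOf]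
  unfold img; rw [this, map_cj, ap_of_mem f hx]

theorem pre_cj (f : D →* G') (hx : x ∈ D) (X : Subgroup G') :
    pre f (cj (ap f x) X) = cj x (pre f X) := by
  ext y
  rw [mem_cj, mem_pre, mem_pre, mem_cj, conj_mem_iff' (norm_self D hx)]
  refine and_congr_right fun hy => ?_
  rw [ap_mul f (mul_mem (inv_mem hx) hy) hx, ap_mul f (inv_mem hx) hy, ap_inv f hx]

theorem card_img (f : D →* G') (hA : A ≤ D) : Nat.card (img f A) = (pre f ⊥).relIndex A := by
  unfold img pre
  rw [← relIndex_ker, MonoidHom.comap_bot, ← relIndex_map_map_of_injective _ _ D.subtype_injective,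
    map_subgroupOf_eq_of_le hA]

theorem card_img_dvd (f : D →* G') (A : Subgroup G) : Nat.card (img f A) ∣ Nat.card A := by
  rw [← img_inf_dom, card_img f inf_le_right]
  exact (relIndex_dvd_card _ _).trans (card_dvd inf_le_left)

theorem card_img_mul (f : D →* G') (hA : A ≤ D) :
    Nat.card ↥(pre f ⊥ ⊓ A) * Nat.card (img f A) = Nat.card A := by
  rw [card_img f hA, card_inf_mul_relIndex]

theorem card_img_of_inf (f : D →* G') (hA : A ≤ D) (h : pre f ⊥ ⊓ A = ⊥) :
    Nat.card (img f A) = Nat.card A := by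
  rw [← card_img_mul f hA, h]; simp

theorem card_pre (h : X ≤ f.range) : Nat.card (pre f X) = Nat.card (pre f ⊥) * Nat.card X := by
  rw [← card_img_mul f (pre_le f X), img_pre_of_le h, inf_eq_left.2 (ker_le_pre f X)]

theorem relIndex_img (f : D →* G') (hA : A ≤ D) (hB : B ≤ D) :
    (img f A).relIndex (img f B) = (A ⊔ pre f ⊥).relIndex B := by
  unfold img
  rw [← relIndex_comap, comap_map_eq, ← relIndex_map_map_of_injective _ _ D.subtype_injective,
    Subgroup.map_sup, map_subgroupOf_eq_of_le hA, map_subgroupOf_eq_of_le hB]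
  rfl

theorem relIndex_img_dvd (f : D →* G') (hA : A ≤ D) (hB : B ≤ D) :
    (img f A).relIndex (img f B) ∣ A.relIndex B := by
  rw [relIndex_img f hA hB]; exact relIndex_dvd_of_le_left _ le_sup_left

theorem relIndex_pre (f : D →* G') (X : Subgroup G') (hA : A ≤ D) :
    (pre f X).relIndex A = X.relIndex (img f A) := by
  unfold img pre
  rw [← relIndex_comap, ← relIndex_map_map_of_injective _ _ D.subtype_injective,
    map_subgroupOf_eq_of_le hA]

theorem IsPi.img {π : Set ℕ} (h : IsPi π A) (f : D →* G') : IsPi π (img f A) :=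
  PiNat.dvd h (card_img_dvd f A)

theorem Sol.img (h : Sol A) (f : D →* G') : Sol (img f A) := (h.subgroupOf D).map f
theorem Nil.img (h : Nil A) (f : D →* G') : Nil (img f A) := (h.subgroupOf D).map f
theorem Cyc.img (h : Cyc A) (f : D →* G') : Cyc (img f A) := (h.subgroupOf D).map f
theorem Abl.img (h : Abl A) (f : D →* G') : Abl (img f A) := (h.subgroupOf D).map f

theorem odd_img (h : Odd (Nat.card A)) (f : D →* G') : Odd (Nat.card (img f A)) :=
  h.of_dvd_nat (card_img_dvd f A)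

theorem coprime_img (h : (Nat.card A).Coprime (Nat.card B)) (f : D →* G') :
    (Nat.card (img f A)).Coprime (Nat.card (img f B)) :=
  (h.coprime_dvd_left (card_img_dvd f A)).coprime_dvd_right (card_img_dvd f B)

theorem Hall.img {π : Set ℕ} {M : Subgroup G} (h : Hall π M H) (f : D →* G') (hM : M ≤ D) :
    Hall π (img f M) (img f H) := (h.subgroupOf hM).map f

theorem IsProd.img {M : Subgroup G} (h : IsProd A B M) (f : D →* G') (hM : M ≤ D) :
    IsProd (img f A) (img f B) (img f M) := by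
  refine ⟨img_mono f h.left_le, img_mono f h.right_le, fun z hz => ?_⟩
  obtain ⟨m, hm, -, rfl⟩ := mem_img.1 hz
  obtain ⟨a, ha, b, hb, rfl⟩ := h.mul m hm
  have haD := hM (h.left_le ha)
  have hbD := hM (h.right_le hb)
  exact ⟨_, ap_mem_img f ha haD, _, ap_mem_img f hb hbD, ap_mul f haD hbD⟩

theorem CP.img {M : Subgroup G} (h : CP A B M) (f : D →* G') (hM : M ≤ D) :
    CP (img f A) (img f B) (img f M) := ⟨img_cent f h.cent, (h.isProd.img f hM).sup_eq⟩

theorem SD.img_of_coprime {M : Subgroup G} (h : SD K H M) (f : D →* G') (hM : M ≤ D)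
    (hc : (Nat.card K).Coprime (Nat.card H)) : SD (img f K) (img f H) (img f M) :=
  ⟨img_norm f h.norm, inf_eq_bot_of_cop (coprime_img hc f), (h.isProd.img f hM).sup_eq⟩

theorem SD.img_of_ker_le {M : Subgroup G} (h : SD K H M) (f : D →* G') (hM : M ≤ D)
    (hk : pre f ⊥ ≤ K) : SD (img f K) (img f H) (img f M) :=
  ⟨img_norm f h.norm, by
    rw [inf_comm, ← img_inf_of_ker_le f H (h.left_le.trans hM) hk, inf_comm, h.inf, img_bot],
    (h.isProd.img f hM).sup_eq⟩

theorem subgroupMap_injective_of_inf (f : D →* G') (hA : A ≤ D) (h : pre f ⊥ ⊓ A = ⊥) :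
    Function.Injective (f.subgroupMap (A.subgroupOf D)) := by
  rw [← MonoidHom.ker_eq_bot_iff, ker_subgroupMap, subgroupOf_eq_bot, disjoint_iff]
  apply map_injective D.subtype_injective
  rw [Subgroup.map_inf _ _ _ D.subtype_injective, map_subgroupOf_eq_of_le hA, Subgroup.map_bot]
  exact h

/-- the isomorphism `A ≃* f A` when `A` meets the kernel trivially. -/
noncomputable def imgEquiv (f : D →* G') (hA : A ≤ D) (h : pre f ⊥ ⊓ A = ⊥) : A ≃* img f A :=
  (subgroupOfEquivOfLe hA).symm.trans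
    (MulEquiv.ofBijective (f.subgroupMap (A.subgroupOf D))
      ⟨subgroupMap_injective_of_inf f hA h, f.subgroupMap_surjective _⟩)

theorem nil_of_img (hA : A ≤ D) (h : pre f ⊥ ⊓ A = ⊥) (hn : Nil (img f A)) : Nil A :=
  (Group.isNilpotent_congr (imgEquiv f hA h)).2 hn

theorem cyc_of_img (hA : A ≤ D) (h : pre f ⊥ ⊓ A = ⊥) (hn : Cyc (img f A)) : Cyc A :=
  (imgEquiv f hA h).isCyclic.2 hn

theorem comm_le_ker (hA : A ≤ D) (hB : B ≤ D) : ⁅A, B⁆ ≤ pre f ⊥ ↔ img f A ≤ C[img f B] := by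
  rw [← comm_eq_bot, ← img_comm f hA hB, img_eq_bot (comm_le_of_le hA hB)]

theorem abl_img_iff (hA : A ≤ D) : Abl (img f A) ↔ ⁅A, A⁆ ≤ pre f ⊥ := by
  rw [comm_le_ker hA hA, abl_iff]

theorem abl_of_img (hA : A ≤ D) (h : pre f ⊥ ⊓ A = ⊥) (hn : Abl (img f A)) : Abl A := by
  rw [← der1_eq_bot, eq_bot_iff, ← h]; exact le_inf ((abl_img_iff hA).1 hn) (der1_le A)

theorem sol_of_img (hA : A ≤ D) (hk : Sol (pre f ⊥ ⊓ A)) (hn : Sol (img f A)) : Sol A := by
  let φ : A →* img f A := (f.subgroupMap (A.subgroupOf D)).comp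
    (subgroupOfEquivOfLe hA).symm.toMonoidHom
  refine Group.isSolvable_of_ker_le_range (inclusion (inf_le_right : pre f ⊥ ⊓ A ≤ A)) φ ?_
  intro x hx
  rw [inclusion_range, mem_subgroupOf]
  refine mem_inf.2 ⟨mem_pre_bot.2 ⟨hA x.2, ?_⟩, x.2⟩
  rw [ap_of_mem f (hA x.2)]
  exact congrArg Subtype.val (MonoidHom.mem_ker.1 hx)

theorem isPi_of_img {π : Set ℕ} (hA : A ≤ D) (hk : IsPi π (pre f ⊥ ⊓ A)) (h : IsPi π (img f A)) :
    IsPi π A := by
  unfold IsPi; rw [← card_img_mul f hA]; exact PiNat.mul hk h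

theorem img_closure (f : D →* G') {S : Set G} (hS : S ⊆ D) :
    img f (closure S) = closure (ap f '' S) := by
  apply le_antisymm
  · rw [img_le_iff ((closure_le D).2 hS), closure_le]
    intro x hx
    exact mem_pre.2 ⟨hS hx, subset_closure ⟨x, hx, rfl⟩⟩
  · rw [closure_le]
    rintro _ ⟨x, hx, rfl⟩
    exact ap_mem_img f (subset_closure hx) (hS hx)

theorem img_sSup (f : D →* G') {S : Set (Subgroup G)} (hS : ∀ A ∈ S, A ≤ D) :
    img f (sSup S) = ⨆ A ∈ S, img f A := by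
  apply le_antisymm
  · rw [img_le_iff (sSup_le hS), sSup_le_iff]
    intro A hA
    rw [← img_le_iff (hS A hA)]
    exact le_iSup₂_of_le A hA le_rfl
  · exact iSup₂_le fun A hA => img_mono f (le_sSup hA)

theorem constt_ap [Finite G] [Finite G'] (f : D →* G') (π : Set ℕ) (hx : x ∈ D) :
    ap f (constt π x) = constt π (ap f x) := by
  have : constt π x = D.subtype (constt π ⟨x, hx⟩) := (constt_map D.subtype π ⟨x, hx⟩).symm
  rw [this, ap_of_mem f hx, ← constt_map]
  exact ap_coe f _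

end morph

/-! ### quotients -/
section quo
variable {A B H K L M : Subgroup G} {X Y : Subgroup (QN K)} {x y : G}

theorem coset_surjective (K : Subgroup G) : Function.Surjective (coset K) :=
  QuotientGroup.mk'_surjective _

@[simp] theorem range_coset (K : Subgroup G) : (coset K).range = ⊤ :=
  MonoidHom.range_eq_top.2 (coset_surjective K)

theorem ker_coset' (K : Subgroup G) : (coset K).ker = K.subgroupOf N[K] :=
  QuotientGroup.ker_mk' _

@[simp] theorem ker_coset (K : Subgroup G) : pre (coset K) ⊥ = K := by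
  unfold pre
  rw [MonoidHom.comap_bot, ker_coset']
  exact map_subgroupOf_eq_of_le (norm_self K)

theorem coq_bot (K : Subgroup G) : coq K ⊥ = K := ker_coset K

theorem cs_eq_one (hx : x ∈ N[K]) : cs K x = 1 ↔ x ∈ K := by
  conv_rhs => rw [← ker_coset K, mem_pre_bot]
  exact (and_iff_right hx).symm

theorem cs_of_mem (hx : x ∈ K) : cs K x = 1 := (cs_eq_one (norm_self K hx)).2 hx

theorem cs_eq_cs (hx : x ∈ N[K]) (hy : y ∈ N[K]) : cs K x = cs K y ↔ x⁻¹ * y ∈ K := by
  rw [← cs_eq_one (mul_mem (inv_mem hx) hy), cs, cs, cs, ap_mul _ (inv_mem hx) hy, ap_inv _ hx,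
    inv_mul_eq_one]

theorem exists_cs (z : QN K) : ∃ x ∈ N[K], cs K x = z := by
  obtain ⟨x, rfl⟩ := coset_surjective K z
  exact ⟨x, x.2, ap_coe _ x⟩

theorem mem_quo {z : QN K} : z ∈ quo A K ↔ ∃ x ∈ A, x ∈ N[K] ∧ cs K x = z := mem_img

theorem cs_mem_quo (hx : x ∈ A) (hN : x ∈ N[K]) : cs K x ∈ quo A K := ap_mem_img _ hx hN

theorem mem_coq : x ∈ coq K X ↔ x ∈ N[K] ∧ cs K x ∈ X := mem_pre

theorem le_coq (X : Subgroup (QN K)) : K ≤ coq K X := by
  have := ker_le_pre (coset K) X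
  rwa [ker_coset] at this

theorem coq_le_N (X : Subgroup (QN K)) : coq K X ≤ N[K] := pre_le _ _

theorem nml_coq (X : Subgroup (QN K)) : K ⊴ coq K X := ⟨le_coq X, coq_le_N X⟩

@[simp] theorem quo_coq (X : Subgroup (QN K)) : quo (coq K X) K = X := img_pre_of_le (by simp)

theorem coq_quo (hA : A ≤ N[K]) : coq K (quo A K) = A ⊔ K := by
  rw [coq, quo, pre_img _ hA, ker_coset]

theorem coq_quo' (hA : A ≤ N[K]) : coq K (quo A K) = K ⊔ A := by rw [coq_quo hA, sup_comm]

theorem Nml.coq_quo (h : K ⊴ A) : coq K (quo A K) = A := by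
  rw [H24.coq_quo h.norm, sup_eq_left.2 h.le]

theorem quo_mono (K : Subgroup G) (h : A ≤ B) : quo A K ≤ quo B K := img_mono _ h

theorem coq_mono (h : X ≤ Y) : coq K X ≤ coq K Y := pre_mono _ h

theorem coq_le_coq : coq K X ≤ coq K Y ↔ X ≤ Y :=
  ⟨fun h => by simpa using quo_mono K h, coq_mono⟩

theorem coq_inj : coq K X = coq K Y ↔ X = Y := by
  rw [le_antisymm_iff, coq_le_coq, coq_le_coq, ← le_antisymm_iff]

theorem coq_lt_coq : coq K X < coq K Y ↔ X < Y := by
  rw [lt_iff_le_and_ne, lt_iff_le_and_ne, coq_le_coq, Ne, coq_inj]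

theorem quo_N (K : Subgroup G) : quo N[K] K = ⊤ := by rw [quo, img_dom, range_coset]

theorem coq_top (K : Subgroup G) : coq K ⊤ = N[K] := pre_top _

theorem quo_le_iff (hA : A ≤ N[K]) : quo A K ≤ X ↔ A ≤ coq K X := img_le_iff hA

theorem coq_le_of_le_quo (h : K ⊴ A) (hX : X ≤ quo A K) : coq K X ≤ A := by
  rw [← h.coq_quo]; exact coq_mono hX

theorem quo_eq_bot (hA : A ≤ N[K]) : quo A K = ⊥ ↔ A ≤ K := by rw [img_eq_bot hA, ker_coset]

theorem quo_eq_bot_of_le (h : A ≤ K) : quo A K = ⊥ := (quo_eq_bot (norm_of_le h)).2 h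

@[simp] theorem quo_self (K : Subgroup G) : quo K K = ⊥ := quo_eq_bot_of_le le_rfl

theorem quo_le_quo_iff (hA : A ≤ N[K]) (hB : B ≤ N[K]) : quo A K ≤ quo B K ↔ A ≤ B ⊔ K := by
  rw [img_le_img_iff hA hB, ker_coset]

theorem le_of_quo_le (hA : A ≤ N[K]) (hB : K ⊴ B) (h : quo A K ≤ quo B K) : A ≤ B := by
  rwa [quo_le_quo_iff hA hB.norm, sup_eq_left.2 hB.le] at h

theorem quo_le_quo (hA : A ≤ N[K]) (hB : K ⊴ B) : quo A K ≤ quo B K ↔ A ≤ B :=
  ⟨le_of_quo_le hA hB, quo_mono K⟩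

theorem quo_inj (hA : K ⊴ A) (hB : K ⊴ B) (h : quo A K = quo B K) : A = B := by
  rw [← hA.coq_quo, h, hB.coq_quo]

theorem quo_lt_quo (hA : K ⊴ A) (hB : K ⊴ B) : quo A K < quo B K ↔ A < B := by
  rw [← coq_lt_coq, hA.coq_quo, hB.coq_quo]

theorem mem_of_cs_mem_quo (hB : K ⊴ B) (hx : x ∈ N[K]) (h : cs K x ∈ quo B K) : x ∈ B := by
  rw [← hB.coq_quo]; exact mem_coq.2 ⟨hx, h⟩

theorem quo_sup (hA : A ≤ N[K]) (hB : B ≤ N[K]) : quo (A ⊔ B) K = quo A K ⊔ quo B K :=
  img_sup _ hA hB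

theorem quo_sup_right (hA : A ≤ N[K]) : quo (A ⊔ K) K = quo A K := by
  rw [quo_sup hA (norm_self K), quo_self, sup_bot_eq]

theorem quo_sup_left (hA : A ≤ N[K]) : quo (K ⊔ A) K = quo A K := by
  rw [sup_comm, quo_sup_right hA]

theorem IsProd.quo_eq (h : IsProd K A M) (hM : M ≤ N[K]) : quo M K = quo A K := by
  rw [← h.sup_eq, quo_sup_left (h.right_le.trans hM)]

theorem SD.quo_eq (h : SD K A M) : quo M K = quo A K := h.isProd.quo_eq h.nml.norm

theorem coq_sup (X Y : Subgroup (QN K)) : coq K (X ⊔ Y) = coq K X ⊔ coq K Y :=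
  pre_sup (by simp) (by simp)

theorem coq_inf (X Y : Subgroup (QN K)) : coq K (X ⊓ Y) = coq K X ⊓ coq K Y := pre_inf _ _ _

theorem quo_inf (A : Subgroup G) (hB : K ⊴ B) : quo (A ⊓ B) K = quo A K ⊓ quo B K :=
  img_inf_of_ker_le _ A hB.norm (by rw [ker_coset]; exact hB.le)

theorem quo_inf' (hA : K ⊴ A) (B : Subgroup G) : quo (A ⊓ B) K = quo A K ⊓ quo B K := by
  rw [inf_comm, quo_inf B hA, inf_comm]

theorem quo_inf_coq (A : Subgroup G) (X : Subgroup (QN K)) : quo (A ⊓ coq K X) K = quo A K ⊓ X :=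
  img_inf_pre _ A X

theorem quo_comm (hA : A ≤ N[K]) (hB : B ≤ N[K]) : quo ⁅A, B⁆ K = ⁅quo A K, quo B K⁆ :=
  img_comm _ hA hB

theorem quo_norm (K : Subgroup G) (h : A ≤ N[B]) : quo A K ≤ N[quo B K] := img_norm _ h

theorem quo_cent (K : Subgroup G) (h : A ≤ C[B]) : quo A K ≤ C[quo B K] := img_cent _ h

theorem Nml.quo (h : A ⊴ B) (K : Subgroup G) : quo A K ⊴ quo B K := h.img _

theorem Nml.coq (h : X ⊴ Y) : coq K X ⊴ coq K Y := h.pre _

theorem norm_coq (hA : A ≤ N[K]) (h : quo A K ≤ N[X]) : A ≤ N[coq K X] := norm_pre hA h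

theorem nml_coq_of (hA : K ⊴ A) (h : X ⊴ quo A K) : coq K X ⊴ A := by
  have := h.coq
  rwa [hA.coq_quo] at this

theorem norm_of_quo (hA : A ≤ N[K]) (hB : K ⊴ B) (h : quo A K ≤ N[quo B K]) : A ≤ N[B] := by
  rw [← hB.coq_quo]; exact norm_coq hA h

theorem nml_of_quo (hA : K ⊴ A) (hB : K ⊴ B) (h : quo A K ⊴ quo B K) : A ⊴ B := by
  rw [← hA.coq_quo]; exact nml_coq_of hB h

theorem quo_inf_N (A : Subgroup G) (hB : K ⊴ B) (hA : A ≤ N[K]) :
    quo (A ⊓ N[B]) K = quo A K ⊓ N[quo B K] := by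
  apply le_antisymm (img_inf_N_le _ _ _)
  intro z hz
  obtain ⟨hz, hN⟩ := mem_inf.1 hz
  obtain ⟨a, ha, haN, rfl⟩ := mem_quo.1 hz
  refine cs_mem_quo (mem_inf.2 ⟨ha, ?_⟩) haN
  have : zpowers a ≤ N[B] := norm_of_quo (zpowers_le.2 haN) hB
    (by rw [quo, img_zpowers _ haN]; exact zpowers_le.2 hN)
  exact this (mem_zpowers a)

theorem quo_cents (hA : A ≤ N[K]) (hB : B ≤ N[K]) : quo A K ≤ C[quo B K] ↔ ⁅A, B⁆ ≤ K := by
  rw [← comm_le_ker hA hB, ker_coset]

theorem abl_quo (hA : A ≤ N[K]) : Abl (quo A K) ↔ ⁅A, A⁆ ≤ K := by rw [abl_iff, quo_cents hA hA]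

theorem abl_quo_der1 (A : Subgroup G) : Abl (quo A ⁅A, A⁆) :=
  (abl_quo (der1_nml A).norm).2 le_rfl

theorem card_quo (hA : A ≤ N[K]) : Nat.card (quo A K) = K.relIndex A := by
  rw [card_img _ hA, ker_coset]

theorem card_quo_dvd (A K : Subgroup G) : Nat.card (quo A K) ∣ Nat.card A := card_img_dvd _ _

theorem Nml.card_quo (h : K ⊴ A) : Nat.card K * Nat.card (H24.quo A K) = Nat.card A := by
  rw [H24.card_quo h.norm, card_mul_relIndex h.le]

theorem card_quo_of_inf (hA : A ≤ N[K]) (h : K ⊓ A = ⊥) : Nat.card (quo A K) = Nat.card A :=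
  card_img_of_inf _ hA (by rwa [ker_coset])

theorem card_quo_lt [Finite G] (hA : A ≤ N[K]) (h : K ⊓ A ≠ ⊥) :
    Nat.card (quo A K) < Nat.card A := by
  rw [card_quo hA, ← card_inf_mul_relIndex K A]
  exact lt_mul_left (relIndex_pos K A) (one_lt_card h)

theorem Nml.card_quo_lt [Finite G] (h : K ⊴ A) (hK : K ≠ ⊥) :
    Nat.card (H24.quo A K) < Nat.card A :=
  H24.card_quo_lt h.norm (by rwa [inf_eq_left.2 h.le])

theorem card_quo_le [Finite G] (A K : Subgroup G) : Nat.card (quo A K) ≤ Nat.card A :=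
  Nat.le_of_dvd (card_pos A) (card_quo_dvd A K)

theorem card_coq (X : Subgroup (QN K)) : Nat.card (coq K X) = Nat.card K * Nat.card X := by
  rw [card_pre (by simp), ker_coset]

theorem relIndex_coq_self (X : Subgroup (QN K)) : K.relIndex (coq K X) = Nat.card X := by
  rw [← card_quo (coq_le_N X), quo_coq]

theorem relIndex_quo (hA : K ⊴ A) (hB : B ≤ N[K]) : (quo A K).relIndex (quo B K) = A.relIndex B := by
  rw [relIndex_img _ hA.norm hB, ker_coset, sup_eq_left.2 hA.le]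

theorem relIndex_coq (X : Subgroup (QN K)) (hA : A ≤ N[K]) :
    (coq K X).relIndex A = X.relIndex (quo A K) := relIndex_pre _ X hA

theorem SD.card_quo (h : SD K A M) : Nat.card (quo M K) = Nat.card A := by
  rw [H24.card_quo h.nml.norm, h.relIndex_left]

theorem IsPi.quo {π : Set ℕ} (h : IsPi π A) (K : Subgroup G) : IsPi π (quo A K) := h.img _

theorem isPi_quo_iff {π : Set ℕ} (hA : A ≤ N[K]) : IsPi π (quo A K) ↔ PiNat π (K.relIndex A) := by
  unfold IsPi; rw [card_quo hA]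

theorem isPi_of_quo {π : Set ℕ} (hA : A ≤ N[K]) (hK : IsPi π K) (h : IsPi π (quo A K)) :
    IsPi π A := isPi_of_img hA (by rw [ker_coset]; exact hK.inf_left A) h

theorem IsPi.coq {π : Set ℕ} (hK : IsPi π K) (h : IsPi π X) : IsPi π (coq K X) :=
  isPi_of_quo (coq_le_N X) hK (by rwa [quo_coq])

theorem Sol.quo (h : Sol A) (K : Subgroup G) : Sol (quo A K) := h.img _
theorem Nil.quo (h : Nil A) (K : Subgroup G) : Nil (quo A K) := h.img _
theorem Cyc.quo (h : Cyc A) (K : Subgroup G) : Cyc (quo A K) := h.img _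
theorem Abl.quo (h : Abl A) (K : Subgroup G) : Abl (quo A K) := h.img _

theorem odd_quo (h : Odd (Nat.card A)) (K : Subgroup G) : Odd (Nat.card (quo A K)) := odd_img h _

theorem coprime_quo (h : (Nat.card A).Coprime (Nat.card B)) (K : Subgroup G) :
    (Nat.card (quo A K)).Coprime (Nat.card (quo B K)) := coprime_img h _

theorem sol_of_quo (hA : A ≤ N[K]) (hK : Sol K) (h : Sol (quo A K)) : Sol A :=
  sol_of_img hA (by rw [ker_coset]; exact hK.of_le inf_le_left) h

theorem Sol.sup (hA : Sol A) (hB : Sol B) (h : B ≤ N[A]) : Sol (A ⊔ B) :=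
  sol_of_quo (nml_sup_left h).norm hA (by rw [quo_sup_left h]; exact hB.quo A)

theorem SD.sol (h : SD K H M) (hK : Sol K) (hH : Sol H) : Sol M := h.sup ▸ hK.sup hH h.norm

theorem Sol.coq (hK : Sol K) (h : Sol X) : Sol (coq K X) :=
  sol_of_quo (coq_le_N X) hK (by rwa [quo_coq])

theorem sol_of_der1 (h : Sol ⁅A, A⁆) : Sol A := sol_of_quo (der1_nml A).norm h (abl_quo_der1 A).sol

/-- `A ≃* A K / K` when `A` meets `K` trivially. -/
noncomputable def quoEquiv (hA : A ≤ N[K]) (h : K ⊓ A = ⊥) : A ≃* quo A K :=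
  imgEquiv _ hA (by rwa [ker_coset])

theorem nil_of_quo (hA : A ≤ N[K]) (h : K ⊓ A = ⊥) (hn : Nil (quo A K)) : Nil A :=
  nil_of_img hA (by rwa [ker_coset]) hn

theorem cyc_of_quo (hA : A ≤ N[K]) (h : K ⊓ A = ⊥) (hn : Cyc (quo A K)) : Cyc A :=
  cyc_of_img hA (by rwa [ker_coset]) hn

theorem abl_of_quo (hA : A ≤ N[K]) (h : K ⊓ A = ⊥) (hn : Abl (quo A K)) : Abl A :=
  abl_of_img hA (by rwa [ker_coset]) hn

theorem SD.nil_iff (h : SD K A M) : Nil (quo M K) ↔ Nil A := by
  rw [h.quo_eq]; exact ⟨nil_of_quo h.norm h.inf, fun hn => hn.quo K⟩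

theorem SD.cyc_iff (h : SD K A M) : Cyc (quo M K) ↔ Cyc A := by
  rw [h.quo_eq]; exact ⟨cyc_of_quo h.norm h.inf, fun hn => hn.quo K⟩

theorem SD.abl_iff (h : SD K A M) : Abl (quo M K) ↔ Abl A := by
  rw [h.quo_eq]; exact ⟨abl_of_quo h.norm h.inf, fun hn => hn.quo K⟩

theorem Hall.quo {π : Set ℕ} (h : Hall π M H) (hM : M ≤ N[K]) : Hall π (quo M K) (quo H K) :=
  h.img _ hM

theorem Hall.coq {π : Set ℕ} (hK : IsPi π K) (h : Hall π Y X) : Hall π (coq K Y) (coq K X) :=
  Hall.mk' (coq_mono h.le) (hK.coq h.pi) (by rw [relIndex_coq _ (coq_le_N Y), quo_coq]; exact h.idx)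

theorem hall_of_quo {π : Set ℕ} (hK : IsPi π K) (hH : K ⊴ H) (hM : K ⊴ M)
    (h : Hall π (quo M K) (quo H K)) : Hall π M H := by
  have := Hall.coq hK h
  rwa [hH.coq_quo, hM.coq_quo] at this

/-- a `π`-subgroup `H` whose image is a Hall `π`-subgroup modulo a normal `π'`-subgroup. -/
theorem hall_of_quo' {π : Set ℕ} (hK : IsPi πᶜ K) (hM : K ⊴ M) (hH : H ≤ M) (hπ : IsPi π H)
    (h : Hall π (quo M K) (quo H K)) : Hall π M H := by
  have hn := hH.trans hM.norm
  refine Hall.of_idx (L := K ⊔ H) ((isProd_sup hn).hall_right hK hπ) (sup_le hM.le hH) ?_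
  rw [← relIndex_quo (nml_sup_left hn) hM.norm, quo_sup_left hn]
  exact h.idx

theorem quo_zpowers (hx : x ∈ N[K]) : quo (zpowers x) K = zpowers (cs K x) := img_zpowers _ hx

theorem quo_cj (hx : x ∈ N[K]) (A : Subgroup G) : quo (cj x A) K = cj (cs K x) (quo A K) :=
  img_cj _ hx A

theorem coq_cj (hx : x ∈ N[K]) (X : Subgroup (QN K)) : coq K (cj (cs K x) X) = cj x (coq K X) :=
  pre_cj _ hx X

theorem SD.quo_of_le (h : SD A B M) (hK : K ≤ A) (hM : M ≤ N[K]) :
    SD (quo A K) (quo B K) (quo M K) := h.img_of_ker_le _ hM (by rwa [ker_coset])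

theorem SD.quo_of_coprime (h : SD A B M) (hM : M ≤ N[K])
    (hc : (Nat.card A).Coprime (Nat.card B)) : SD (quo A K) (quo B K) (quo M K) :=
  h.img_of_coprime _ hM hc

theorem IsProd.quo (h : IsProd A B M) (hM : M ≤ N[K]) : IsProd (quo A K) (quo B K) (quo M K) :=
  h.img _ hM

/-- the three subgroups lemma modulo a normal subgroup. -/
theorem three_subgroup_mod (hA : A ≤ N[K]) (hB : B ≤ N[K]) (hL : L ≤ N[K])
    (h1 : ⁅⁅A, B⁆, L⁆ ≤ K) (h2 : ⁅⁅B, L⁆, A⁆ ≤ K) : ⁅⁅L, A⁆, B⁆ ≤ K := by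
  rw [← quo_eq_bot (comm_le_of_le (comm_le_of_le ‹_› ‹_›) ‹_›),
    quo_comm (comm_le_of_le ‹_› ‹_›) ‹_›, quo_comm ‹_› ‹_›] at h1 h2 ⊢
  exact three_subgroup h1 h2

/-- the identification of `A / K` with the Mathlib quotient. -/
noncomputable def quoEquivQuotient (h : A ≤ N[K]) [hn : (K.subgroupOf A).Normal] :
    (A ⧸ K.subgroupOf A) ≃* quo A K := by
  let φ : A →* quo A K := ((coset K).subgroupMap (A.subgroupOf N[K])).comp
    (subgroupOfEquivOfLe h).symm.toMonoidHom
  have hφ : Function.Surjective φ :=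
    ((coset K).subgroupMap_surjective _).comp (subgroupOfEquivOfLe h).symm.surjective
  have hk : K.subgroupOf A = φ.ker := by
    ext x
    rw [MonoidHom.mem_ker, mem_subgroupOf, ← cs_eq_one (h x.2), cs, ap_of_mem _ (h x.2),
      Subtype.ext_iff]
    rfl
  exact (QuotientGroup.quotientMulEquivOfEq hk).trans
    (QuotientGroup.quotientKerEquivOfSurjective φ hφ)

/-- the image of `A` in a Mathlib quotient `G ⧸ K` is isomorphic to `quo A K`. -/
noncomputable def quoEquivMap (A K : Subgroup G) [K.Normal] :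
    A.map (QuotientGroup.mk' K) ≃* quo A K := by
  let φ : A →* A.map (QuotientGroup.mk' K) := (QuotientGroup.mk' K).subgroupMap A
  have hφ : Function.Surjective φ := (QuotientGroup.mk' K).subgroupMap_surjective A
  have hk : φ.ker = K.subgroupOf A := by
    rw [ker_subgroupMap, QuotientGroup.ker_mk']
  exact ((QuotientGroup.quotientKerEquivOfSurjective φ hφ).symm.trans
    (QuotientGroup.quotientMulEquivOfEq hk)).trans (quoEquivQuotient (norm_of_normal A K))

/-- two images of `A` with the same kernel on `A` are isomorphic. -/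
noncomputable def quoEquivQuo (hK : A ≤ N[K]) (hL : A ≤ N[L]) (h : K ⊓ A = L ⊓ A) :
    quo A K ≃* quo A L := by
  have h1 : (K.subgroupOf A).Normal := normal_subgroupOf_of_le_normalizer hK
  have h2 : (L.subgroupOf A).Normal := normal_subgroupOf_of_le_normalizer hL
  exact ((quoEquivQuotient hK).symm.trans
    (QuotientGroup.quotientMulEquivOfEq (subgroupOf_inj.2 h))).trans (quoEquivQuotient hL)

/-- second isomorphism theorem. -/
noncomputable def quoEquivInf (hK : A ≤ N[K]) : quo A (K ⊓ A) ≃* quo A K :=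
  quoEquivQuo (norm_inf hK (norm_self A)) hK (by rw [inf_assoc, inf_idem])

/-- a surjection `A / K → A / L` when `K ⊓ A ≤ L`. -/
theorem exists_quo_surj (hK : A ≤ N[K]) (hL : A ≤ N[L]) (h : K ⊓ A ≤ L) :
    ∃ φ : quo A K →* quo A L, Function.Surjective φ := by
  have h1 : (K.subgroupOf A).Normal := normal_subgroupOf_of_le_normalizer hK
  have h2 : (L.subgroupOf A).Normal := normal_subgroupOf_of_le_normalizer hL
  have hle : K.subgroupOf A ≤ (L.subgroupOf A).comap (MonoidHom.id A) := fun x hx =>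
    h (mem_inf.2 ⟨hx, x.2⟩)
  refine ⟨(quoEquivQuotient hL).toMonoidHom.comp
    ((QuotientGroup.map _ _ (MonoidHom.id A) hle).comp (quoEquivQuotient hK).symm.toMonoidHom), ?_⟩
  have : Function.Surjective (QuotientGroup.map _ _ (MonoidHom.id A) hle) := by
    intro z
    induction z using QuotientGroup.induction_on with
    | H a => exact ⟨QuotientGroup.mk a, rfl⟩
  exact (quoEquivQuotient hL).surjective.comp (this.comp (quoEquivQuotient hK).symm.surjective)

theorem Nil.quo_mono (hK : A ≤ N[K]) (hL : A ≤ N[L]) (h : K ⊓ A ≤ L) (hn : Nil (H24.quo A K)) :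
    Nil (H24.quo A L) := by
  obtain ⟨φ, hφ⟩ := exists_quo_surj hK hL h
  exact Group.nilpotent_of_surjective φ hφ

theorem Cyc.quo_mono (hK : A ≤ N[K]) (hL : A ≤ N[L]) (h : K ⊓ A ≤ L) (hn : Cyc (H24.quo A K)) :
    Cyc (H24.quo A L) := by
  obtain ⟨φ, hφ⟩ := exists_quo_surj hK hL h
  exact isCyclic_of_surjective φ hφ

/-- third isomorphism theorem. -/
noncomputable def quoQuoEquiv (hK : K ⊴ L) (hA : A ≤ N[K]) (hL : A ≤ N[L]) :
    quo (quo A K) (quo L K) ≃* quo A L := by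
  have h2 : (L.subgroupOf A).Normal := normal_subgroupOf_of_le_normalizer hL
  have hn : quo A K ≤ N[quo L K] := quo_norm K hL
  let φ1 : A →* quo A K := ((coset K).subgroupMap (A.subgroupOf N[K])).comp
    (subgroupOfEquivOfLe hA).symm.toMonoidHom
  let φ2 : quo A K →* quo (quo A K) (quo L K) :=
    ((coset (quo L K)).subgroupMap ((quo A K).subgroupOf N[quo L K])).comp
      (subgroupOfEquivOfLe hn).symm.toMonoidHom
  have hφ : Function.Surjective (φ2.comp φ1) :=
    (((coset (quo L K)).subgroupMap_surjective _).comp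
      (subgroupOfEquivOfLe hn).symm.surjective).comp
    (((coset K).subgroupMap_surjective _).comp (subgroupOfEquivOfLe hA).symm.surjective)
  have hk : (φ2.comp φ1).ker = L.subgroupOf A := by
    ext x
    have e1 : ((φ1 x : quo A K) : QN K) = cs K x := (ap_of_mem _ (hA x.2)).symm
    have e2 : ((φ2 (φ1 x) : quo (quo A K) (quo L K)) : QN (quo L K)) = cs (quo L K) (φ1 x) :=
      (ap_of_mem _ (hn (φ1 x).2)).symm
    rw [MonoidHom.mem_ker, mem_subgroupOf, MonoidHom.comp_apply, Subtype.ext_iff, e2,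
      OneMemClass.coe_one, cs_eq_one (hn (φ1 x).2), e1]
    exact ⟨mem_of_cs_mem_quo hK (hA x.2), fun h => cs_mem_quo h (hA x.2)⟩
  exact ((QuotientGroup.quotientKerEquivOfSurjective _ hφ).symm.trans
    (QuotientGroup.quotientMulEquivOfEq hk)).trans (quoEquivQuotient hL)

theorem quo_bot_inj : Function.Injective (coset (⊥ : Subgroup G)) := by
  rw [← MonoidHom.ker_eq_bot_iff, ker_coset']
  simp

/-! ### `centQ` -/

theorem mem_centQ {U V : Subgroup G} (hU : U ≤ N[V]) :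
    x ∈ centQ U V ↔ x ∈ N[V] ∧ ∀ u ∈ U, ⁅x, u⁆ ∈ V := by
  unfold centQ
  rw [mem_coq]
  refine and_congr_right fun hx => ?_
  rw [mem_C']
  constructor
  · intro h u hu
    rw [← cs_eq_one (comm_le_of_le le_rfl hU (commutator_mem_commutator hx hu)), cs,
      ap_commutator _ hx (hU hu), commutatorElement_eq_one_iff_mul_comm]
    exact h _ (cs_mem_quo hu (hU hu))
  · intro h z hz
    obtain ⟨u, hu, huN, rfl⟩ := mem_quo.1 hz
    rw [← commutatorElement_eq_one_iff_mul_comm, ← ap_commutator _ hx huN]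
    exact cs_of_mem (h u hu)

theorem le_centQ {U V : Subgroup G} (hU : U ≤ N[V]) : A ≤ centQ U V ↔ A ≤ N[V] ∧ ⁅A, U⁆ ≤ V := by
  constructor
  · intro h
    have hA : A ≤ N[V] := h.trans (coq_le_N _)
    exact ⟨hA, (quo_cents hA hU).1 ((quo_le_iff hA).2 h)⟩
  · rintro ⟨hA, h⟩
    exact (quo_le_iff hA).1 ((quo_cents hA hU).2 h)

theorem centQ_le_N (U V : Subgroup G) : centQ U V ≤ N[V] := coq_le_N _

theorem norm_centQ {U V : Subgroup G} (hU : A ≤ N[U]) (hV : A ≤ N[V]) : A ≤ N[centQ U V] :=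
  norm_coq hV (norm_C (quo_norm V hU))

end quo

end H24
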