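import Mathlib
import Cfsg.Agent.H24.Base3
import Cfsg.Agent.H2.Cores
import Cfsg.Agent.H2.Frattini
import Cfsg.Agent.H2.MinNormal

/-!
# Base library, part 4: `O_π`, nilpotent subgroups, `F(H)`, `M_F`, `O_{π,ρ}`
-/

set_option autoImplicit false

namespace H24

open Cfsg Subgroup
open scoped commutatorElement

universe u v

variable {G : Type u} [Group G] {G' : Type v} [Group G']

/-! ## Transport of relative constructions -/

section Transport

variable {H K : Subgroup G}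

theorem map_subtype_le' (A : Subgroup H) : A.map H.subtype ≤ H := map_subtype_le A

theorem map_subgroupOf' (h : K ≤ H) : (K.subgroupOf H).map H.subtype = K :=
  map_subgroupOf_eq_of_le h

theorem le_map_subtype_iff {A : Subgroup H} (h : K ≤ H) :
    K ≤ A.map H.subtype ↔ K.subgroupOf H ≤ A := by
  constructor
  · intro h1 x hx
    obtain ⟨y, hy, e⟩ := h1 hx
    have : y = x := Subtype.ext e
    exact this ▸ hy
  · intro h1
    rw [← map_subgroupOf' h]
    exact Subgroup.map_mono h1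

theorem subgroupOf_map_subtype' (A : Subgroup H) : (A.map H.subtype).subgroupOf H = A :=
  comap_map_eq_self_of_injective H.subtype_injective A

theorem map_map_subtype {f : G →* G'} (hf : Function.Injective f) (A : Subgroup H) :
    (A.map (H.equivMapOfInjective f hf : H →* H.map f)).map (H.map f).subtype
      = (A.map H.subtype).map f := by
  rw [Subgroup.map_map, Subgroup.map_map]
  rfl

theorem norm_of_cj_eq {X A : Subgroup G} (h : ∀ g ∈ X, cj g A = A) : X ≤ N[A] :=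
  fun g hg => mem_N_iff_cj.2 (h g hg)

end Transport

/-! ## The `π`-core -/

section PCore

variable {π ρ : Set ℕ} {A B H K L M X P : Subgroup G} {p q : ℕ}

theorem pcore_le (π : Set ℕ) (H : Subgroup G) : O[π, H] ≤ H := map_subtype_le _

theorem pcore_nml (π : Set ℕ) (H : Subgroup G) : O[π, H] ⊴ H := nml_map_subtype _

theorem pcore_max (hK : IsPi π K) (hn : K ⊴ H) : K ≤ O[π, H] := by
  refine (le_map_subtype_iff hn.le).2 (le_sSup ⟨hn.normal, ?_⟩)
  rw [card_subgroupOf_of_le hn.le]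
  exact hK

theorem pcore_max' (hK : IsPi π K) (hKH : K ≤ H) (hn : H ≤ N[K]) : K ≤ O[π, H] :=
  pcore_max hK ⟨hKH, hn⟩

theorem pcore_pi [Finite G] (π : Set ℕ) (H : Subgroup G) : IsPi π O[π, H] := by
  have h := H2.sSup_mem_of_sup_closed
    {N : Subgroup H | N.Normal ∧ ∀ p : ℕ, p.Prime → p ∣ Nat.card N → p ∈ π}
    ⟨inferInstance, isPi_bot π⟩ (fun A hA B hB => by
      haveI := hA.1
      haveI := hB.1
      exact ⟨inferInstance, IsPi.sup (A := A) (B := B) hA.2 hB.2 (norm_of_normal _ _)⟩)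
  exact IsPi.map (H := piCore π H) h.2 _

theorem pcore_eq_of [Finite G] (hK : IsPi π K) (hn : K ⊴ H)
    (h : ∀ L, IsPi π L → L ⊴ H → L ≤ K) : O[π, H] = K :=
  le_antisymm (h _ (pcore_pi π H) (pcore_nml π H)) (pcore_max hK hn)

theorem pcore_top (π : Set ℕ) [Finite G] : O[π, (⊤ : Subgroup G)] = piCore π G := by
  have h := H2.sSup_mem_of_sup_closed
    {N : Subgroup G | N.Normal ∧ ∀ p : ℕ, p.Prime → p ∣ Nat.card N → p ∈ π}
    ⟨inferInstance, isPi_bot π⟩ (fun A hA B hB => by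
      haveI := hA.1
      haveI := hB.1
      exact ⟨inferInstance, IsPi.sup (A := A) (B := B) hA.2 hB.2 (norm_of_normal _ _)⟩)
  exact pcore_eq_of h.2 (nml_top _) fun L hL hn => le_sSup ⟨nml_top_iff.1 hn, hL⟩

theorem map_pcore_le [Finite G] (π : Set ℕ) (H : Subgroup G) (f : G →* G') :
    O[π, H].map f ≤ O[π, H.map f] :=
  pcore_max ((pcore_pi π H).map f) ((pcore_nml π H).map f)

theorem pcore_map [Finite G] (π : Set ℕ) (H : Subgroup G) {f : G →* G'}
    (hf : Function.Injective f) : O[π, H.map f] = O[π, H].map f := by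
  refine le_antisymm ?_ (map_pcore_le π H f)
  have hle : O[π, H.map f] ≤ H.map f := pcore_le _ _
  have e : (O[π, H.map f].comap f).map f = O[π, H.map f] :=
    map_comap_eq_self (hle.trans (map_le_range f H))
  rw [← e]
  refine Subgroup.map_mono (pcore_max ?_ ?_)
  · rw [← isPi_map_iff hf, e]
    haveI : Finite (H.map f) := Finite.of_equiv _ (H.equivMapOfInjective f hf).toEquiv
    exact IsPi.map (H := piCore π (H.map f)) (by
      rw [← pcore_top]; exact pcore_pi _ _) _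
  · rw [← nml_map_iff hf, e]
    exact pcore_nml _ _

theorem pcore_cj [Finite G] (π : Set ℕ) (g : G) (H : Subgroup G) :
    O[π, cj g H] = cj g O[π, H] := pcore_map π H (conj_injective' g)

theorem norm_pcore [Finite G] (π : Set ℕ) (h : X ≤ N[H]) : X ≤ N[O[π, H]] :=
  norm_of_cj_eq fun g hg => by rw [← pcore_cj, cj_of_mem_N (h hg)]

theorem N_le_N_pcore [Finite G] (π : Set ℕ) (H : Subgroup G) : N[H] ≤ N[O[π, H]] :=
  norm_pcore π le_rfl

theorem Nml.pcore [Finite G] (h : K ⊴ H) (π : Set ℕ) : O[π, K] ⊴ H :=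
  ⟨(pcore_le π K).trans h.le, norm_pcore π h.norm⟩

theorem Nml.pcore_le [Finite G] (h : K ⊴ H) (π : Set ℕ) : O[π, K] ≤ O[π, H] :=
  pcore_max (pcore_pi π K) (h.pcore π)

theorem pcore_inf_le [Finite G] (π : Set ℕ) (h : K ≤ H) : O[π, H] ⊓ K ≤ O[π, K] :=
  pcore_max ((pcore_pi π H).inf_left K) ((pcore_nml π H).inf_right h)

theorem inf_pcore_le [Finite G] (π : Set ℕ) (h : K ≤ H) : K ⊓ O[π, H] ≤ O[π, K] :=
  inf_comm K O[π, H] ▸ pcore_inf_le π h

theorem pcore_le_pcore_of_le [Finite G] (h : K ≤ H) (h' : O[π, H] ≤ K) : O[π, H] ≤ O[π, K] :=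
  (le_inf le_rfl h').trans (pcore_inf_le π h)

theorem pcore_inf_nml [Finite G] (π : Set ℕ) (h : K ⊴ H) : O[π, H] ⊓ K = O[π, K] :=
  le_antisymm (pcore_inf_le π h.le) (le_inf (h.pcore_le π) (pcore_le π K))

theorem IsPi.pcore_eq (h : IsPi π H) : O[π, H] = H :=
  le_antisymm (pcore_le π H) (pcore_max h (Nml.refl H))

theorem IsPi.pcore_eq_bot [Finite G] (h : IsPi πᶜ H) : O[π, H] = ⊥ :=
  (pcore_pi π H).eq_bot (h.of_le (pcore_le π H))

theorem IsPi.pcore_compl_eq_bot [Finite G] (h : IsPi π H) : O[πᶜ, H] = ⊥ :=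
  (h.of_le (pcore_le πᶜ H)).eq_bot (pcore_pi πᶜ H)

theorem pcore_bot (π : Set ℕ) : O[π, (⊥ : Subgroup G)] = ⊥ := le_bot_iff.1 (pcore_le _ _)

theorem isPi_of_pcore_eq [Finite G] (h : O[π, H] = H) : IsPi π H := h ▸ pcore_pi π H

theorem pcore_pcore [Finite G] (π : Set ℕ) (H : Subgroup G) : O[π, O[π, H]] = O[π, H] :=
  (pcore_pi π H).pcore_eq

theorem pcore_mono [Finite G] (H : Subgroup G) (h : π ⊆ ρ) : O[π, H] ≤ O[ρ, H] :=
  pcore_max ((pcore_pi π H).mono h) (pcore_nml π H)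

theorem pcore_mono_in [Finite G] (h : ∀ p, p.Prime → p ∣ Nat.card H → p ∈ π → p ∈ ρ) :
    O[π, H] ≤ O[ρ, H] :=
  pcore_max ((pcore_pi π H).mono_in fun p hp hd hπ =>
    h p hp (hd.trans (card_dvd (pcore_le π H))) hπ) (pcore_nml π H)

theorem pcore_congr [Finite G] (h : ∀ p, p.Prime → p ∣ Nat.card H → (p ∈ π ↔ p ∈ ρ)) :
    O[π, H] = O[ρ, H] :=
  le_antisymm (pcore_mono_in fun p hp hd => (h p hp hd).1)
    (pcore_mono_in fun p hp hd => (h p hp hd).2)

theorem pcore_inter [Finite G] (π ρ : Set ℕ) (H : Subgroup G) :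
    O[π ∩ ρ, H] = O[π, O[ρ, H]] := by
  refine le_antisymm ?_ ?_
  · exact pcore_max ((pcore_pi _ H).mono Set.inter_subset_left)
      ((pcore_nml _ H).of_le (pcore_mono H Set.inter_subset_right) (pcore_le _ _))
  · exact pcore_max ((pcore_pi π _).inter ((pcore_pi ρ H).of_le (pcore_le _ _)))
      ((pcore_nml ρ H).pcore π)

theorem pcore_pcore_of_subset [Finite G] (H : Subgroup G) (h : π ⊆ ρ) :
    O[π, O[ρ, H]] = O[π, H] := by
  rw [← pcore_inter, Set.inter_eq_left.2 h]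

theorem pcore_le_of_mem [Finite G] (H : Subgroup G) (h : p ∈ π) : O[{p}, H] ≤ O[π, H] :=
  pcore_mono H (Set.singleton_subset_iff.2 h)

theorem pcore_le_Hall [Finite G] (h : Hall π H K) : O[π, H] ≤ K :=
  h.nml_le (pcore_pi π H) (pcore_nml π H)

theorem Hall.pcore_eq [Finite G] (h : Hall π H K) (hn : H ≤ N[K]) : O[π, H] = K :=
  le_antisymm (pcore_le_Hall h) (pcore_max h.pi ⟨h.le, hn⟩)

theorem Hall.pcore_hall [Finite G] (h : Hall π H K) (hn : H ≤ N[K]) : Hall π H O[π, H] :=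
  (h.pcore_eq hn).symm ▸ h

theorem Hall.eq_pcore [Finite G] (h : Hall π H O[π, H]) (hK : Hall π H K) : K = O[π, H] :=
  h.eq_of_nml (pcore_nml π H).norm hK

theorem Hall.le_pcore [Finite G] (h : Hall π H O[π, H]) (hK : IsPi π K) (hKH : K ≤ H) :
    K ≤ O[π, H] :=
  h.le_of_nml (pcore_nml π H).norm hK hKH

theorem Hall.mem_pcore [Finite G] (h : Hall π H O[π, H]) {x : G} (hx : PiElt π x)
    (hxH : x ∈ H) : x ∈ O[π, H] :=
  h.mem_of_nml (pcore_nml π H).norm hx hxH

/-- if `O_π(H)` is a Hall subgroup of `H`, then the same holds in every subgroup. -/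
theorem Hall.pcore_of_le [Finite G] (h : Hall π H O[π, H]) (hK : K ≤ H) : Hall π K O[π, K] :=
  (h.nml_inf (pcore_nml π H).norm hK).pcore_hall ((pcore_nml π H).inf_right hK).norm

theorem Hall.pcore_eq_inf [Finite G] (h : Hall π H O[π, H]) (hK : K ≤ H) :
    O[π, K] = O[π, H] ⊓ K :=
  (h.nml_inf (pcore_nml π H).norm hK).pcore_eq ((pcore_nml π H).inf_right hK).norm

theorem Hall.pcore_mono [Finite G] (h : Hall π H O[π, H]) (hK : K ≤ H) : O[π, K] ≤ O[π, H] :=
  h.le_pcore (pcore_pi π K) ((pcore_le π K).trans hK)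

theorem pcore_inf_eq_bot [Finite G] (hK : IsPi πᶜ K) (H : Subgroup G) : O[π, H] ⊓ K = ⊥ :=
  (pcore_pi π H).inf_eq_bot hK

theorem pcore_inf_pcore_compl [Finite G] (π : Set ℕ) (H K : Subgroup G) :
    O[π, H] ⊓ O[πᶜ, K] = ⊥ :=
  (pcore_pi π H).inf_eq_bot (pcore_pi πᶜ K)

theorem cents_of_coprime_nml (hA : A ⊴ H) (hB : B ⊴ H)
    (h : (Nat.card A).Coprime (Nat.card B)) : A ≤ C[B] :=
  cents_of_inf_eq_bot (hA.le.trans hB.norm) (hB.le.trans hA.norm) (inf_eq_bot_of_cop h)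

theorem pcore_cents [Finite G] (hK : IsPi πᶜ K) (hn : K ⊴ H) : O[π, H] ≤ C[K] :=
  cents_of_coprime_nml (pcore_nml π H) hn ((pcore_pi π H).coprime hK)

theorem pcore_compl_cents [Finite G] (hK : IsPi π K) (hn : K ⊴ H) : O[πᶜ, H] ≤ C[K] :=
  cents_of_coprime_nml (pcore_nml πᶜ H) hn ((pcore_pi πᶜ H).coprime' hK)

theorem pcore_cent_pcore_compl [Finite G] (π : Set ℕ) (H : Subgroup G) :
    O[π, H] ≤ C[O[πᶜ, H]] :=
  pcore_cents (pcore_pi πᶜ H) (pcore_nml πᶜ H)

theorem pcore_compl_cent_pcore [Finite G] (π : Set ℕ) (H : Subgroup G) :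
    O[πᶜ, H] ≤ C[O[π, H]] :=
  cents_symm (pcore_cent_pcore_compl π H)

theorem pcore_cent_pcore_of_ne [Finite G] (h : p ≠ q) (H : Subgroup G) :
    O[{p}, H] ≤ C[O[{q}, H]] :=
  cents_of_coprime_nml (pcore_nml _ H) (pcore_nml _ H)
    ((pcore_pi _ H).coprime_of_ne (pcore_pi _ H) h)

theorem img_pcore_le [Finite G] {D : Subgroup G} (π : Set ℕ) (H : Subgroup G) (f : D →* G') :
    img f O[π, H] ≤ O[π, img f H] :=
  pcore_max ((pcore_pi π H).img f) ((pcore_nml π H).img f)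

theorem quo_pcore_le [Finite G] (π : Set ℕ) (H K : Subgroup G) :
    quo O[π, H] K ≤ O[π, quo H K] :=
  img_pcore_le π H _

/-- MathComp `pquotient_pcore`. -/
theorem quo_pcore [Finite G] (hK : IsPi π K) (hn : K ⊴ H) : quo O[π, H] K = O[π, quo H K] := by
  refine le_antisymm (quo_pcore_le π H K) ?_
  have h := pcore_max (hK.coq (pcore_pi π (quo H K))) (nml_coq_of hn (pcore_nml π (quo H K)))
  have h2 := quo_mono K h
  rwa [quo_coq] at h2

theorem coq_pcore [Finite G] (hK : IsPi π K) (hn : K ⊴ H) : coq K O[π, quo H K] = O[π, H] := by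
  rw [← quo_pcore hK hn]
  exact Nml.coq_quo ⟨pcore_max hK hn, (pcore_le π H).trans hn.norm⟩

/-- MathComp `trivg_pcore_quotient`. -/
theorem pcore_quo_pcore [Finite G] (π : Set ℕ) (H : Subgroup G) : O[π, quo H O[π, H]] = ⊥ := by
  rw [← quo_pcore (pcore_pi π H) (pcore_nml π H), quo_self]

theorem img_pcore_of_inj [Finite G] [Finite G'] {D : Subgroup G} (π : Set ℕ) (f : D →* G')
    (hH : H ≤ D) (hk : IsPi π (pre f ⊥ ⊓ H)) : img f O[π, H] = O[π, img f H] := by
  refine le_antisymm (img_pcore_le π H f) ?_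
  have hn : H ⊓ pre f O[π, img f H] ⊴ H :=
    nml_inf_of_norm (norm_pre hH (pcore_nml π _).norm)
  have hi : img f (H ⊓ pre f O[π, img f H]) = O[π, img f H] := by
    rw [img_inf_pre, inf_eq_right.2 (pcore_le _ _)]
  have hp : IsPi π (H ⊓ pre f O[π, img f H]) :=
    isPi_of_img (inf_le_left.trans hH) (hk.of_le (inf_le_inf_left _ inf_le_left))
      (hi.symm ▸ pcore_pi π _)
  rw [← hi]
  exact img_mono f (pcore_max hp hn)

theorem CP.pcore_sup_le [Finite G] (h : CP A B M) (π : Set ℕ) : O[π, A] ⊔ O[π, B] ≤ O[π, M] :=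
  sup_le (h.nml_left.pcore_le π) (h.nml_right.pcore_le π)

theorem pcore_singleton [Finite G] (hp : p.Prime) (H : Subgroup G) :
    O[{p}, H] = (pCore p H).map H.subtype := by
  refine pcore_eq_of ?_ (nml_map_subtype _) fun L hL hn => ?_
  · exact IsPi.map (H := pCore p H) (isPi_of_isPGroup hp (H2.pCore_isPGroup p H)) _
  · exact (le_map_subtype_iff hn.le).2
      (H2.le_pCore hn.normal ((isPi_subgroupOf hL H).isPGroup hp))

theorem pcore_compl_singleton [Finite G] (hp : p.Prime) (H : Subgroup G) :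
    O[{p}ᶜ, H] = (pPrimeCore p H).map H.subtype := by
  refine pcore_eq_of ?_ (nml_map_subtype _) fun L hL hn => ?_
  · exact IsPi.map (H := pPrimeCore p H)
      ((piNat_compl_iff_coprime hp).2 (H2.pPrimeCore_coprime p H).symm) _
  · exact (le_map_subtype_iff hn.le).2
      (H2.le_pPrimeCore hn.normal ((piNat_compl_iff_coprime hp).1 (isPi_subgroupOf hL H)).symm)

theorem pcore_singleton_top [Finite G] (hp : p.Prime) : O[{p}, (⊤ : Subgroup G)] = pCore p G :=
  pcore_eq_of (isPi_of_isPGroup hp (H2.pCore_isPGroup p G)) (nml_top _) fun _ hL hn =>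
    H2.le_pCore (nml_top_iff.1 hn) (hL.isPGroup hp)

theorem pcore_compl_singleton_top [Finite G] (hp : p.Prime) :
    O[{p}ᶜ, (⊤ : Subgroup G)] = pPrimeCore p G :=
  pcore_eq_of ((piNat_compl_iff_coprime hp).2 (H2.pPrimeCore_coprime p G).symm) (nml_top _)
    fun _ hL hn => H2.le_pPrimeCore (nml_top_iff.1 hn) ((piNat_compl_iff_coprime hp).1 hL).symm

theorem pcore_map_subtype [Finite G] (π : Set ℕ) (K : Subgroup H) :
    O[π, K.map H.subtype] = O[π, K].map H.subtype :=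
  pcore_map π K H.subtype_injective

theorem pcore_subgroupOf [Finite G] (π : Set ℕ) (h : K ≤ H) :
    O[π, K.subgroupOf H] = O[π, K].subgroupOf H := by
  have := pcore_map_subtype π (K.subgroupOf H)
  rw [map_subgroupOf' h] at this
  rw [this, subgroupOf_map_subtype']

theorem sigmaCore_def (M : Subgroup G) : sigmaCore M = O[sigma M, M] := rfl

theorem alphaCore_def (M : Subgroup G) : alphaCore M = O[alpha M, M] := rfl

end PCore

/-! ## Nilpotent subgroups -/

section Nilpotent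

variable {π ρ : Set ℕ} {A B H K L M X P Q : Subgroup G} {p q : ℕ}

/-- MathComp `nilpotent_proper_norm`. -/
theorem Nil.proper_norm (h : Nil H) (hK : K < H) : K < H ⊓ N[K] :=
  inf_comm N[K] H ▸ H2.lt_normalizer_inf_of_isNilpotent h hK

/-- MathComp `nilpotent_sub_norm`. -/
theorem Nil.eq_of_norm_le (h : Nil H) (hK : K ≤ H) (hn : H ⊓ N[K] ≤ K) : K = H := by
  by_contra hne
  exact (h.proper_norm (lt_of_le_of_ne hK hne)).not_ge hn

theorem Nil.inf_C_ne_bot [Finite G] (h : Nil H) (hK : K ⊴ H) (h1 : K ≠ ⊥) : K ⊓ C[H] ≠ ⊥ :=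
  H2.inf_centralizer_ne_bot_of_isNilpotent h hK.le hK.norm h1

/-- MathComp `meet_center_nil`. -/
theorem meet_center_nil [Finite G] (h : Nil H) (hK : K ⊴ H) (h1 : K ≠ ⊥) : K ⊓ Z[H] ≠ ⊥ := by
  rw [← inf_assoc, inf_eq_left.2 hK.le]
  exact h.inf_C_ne_bot hK h1

theorem TI_center_nil [Finite G] (h : Nil H) (hK : K ⊴ H) (h1 : K ⊓ Z[H] = ⊥) : K = ⊥ := by
  by_contra hne
  exact meet_center_nil h hK hne h1

theorem Nil.center_ne_bot [Finite G] (h : Nil H) (h1 : H ≠ ⊥) : Z[H] ≠ ⊥ :=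
  h.inf_C_ne_bot (Nml.refl H) h1

theorem IsPi.inf_C_ne_bot [Finite G] (hp : p.Prime) (hP : IsPi {p} P) (hQ : IsPi {p} Q)
    (hn : P ≤ N[Q]) (h1 : Q ≠ ⊥) : Q ⊓ C[P] ≠ ⊥ :=
  haveI := Fact.mk hp
  H2.inf_centralizer_ne_bot_of_isPGroup (hP.isPGroup hp) (hQ.isPGroup hp) hn h1

/-- MathComp `nil_comm_properl`. -/
theorem nil_comm_properl (h : Nil M) (hK : K ≤ M) (h1 : K ≠ ⊥) (hA : A ≤ M) (hn : A ≤ N[K]) :
    ⁅K, A⁆ < K := by
  have h2 : ⁅K, K ⊔ A⁆ < K :=
    H2.commutator_lt_of_isNilpotent (h.of_le (sup_le hK hA)) le_sup_left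
      (sup_le (norm_self K) hn) h1
  exact lt_of_le_of_lt (comm_mono_right le_sup_right) h2

theorem nil_comm_properr (h : Nil M) (hK : K ≤ M) (h1 : K ≠ ⊥) (hA : A ≤ M) (hn : A ≤ N[K]) :
    ⁅A, K⁆ < K :=
  commC K A ▸ nil_comm_properl h hK h1 hA hn

theorem Nil.eq_bot_of_le_comm (h : Nil M) (hK : K ≤ M) (hA : A ≤ M) (h1 : K ≤ ⁅K, A⁆) :
    K = ⊥ :=
  H2.eq_bot_of_le_commutator_of_isNilpotent h hK (h1.trans (comm_mono_right hA))

theorem Nil.syl_nml [Finite G] (h : Nil H) (hp : p.Prime) (hP : Syl p H P) : P ⊴ H := by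
  obtain ⟨S, rfl⟩ := hP.exists_sylow hp
  haveI := Fact.mk hp
  haveI := (H2.isNilpotent_iff_forall_sylow_normal.1 h) p inferInstance S
  exact nml_map_subtype _

theorem nil_of_syl_nml [Finite G] (h : ∀ p P, p.Prime → Syl p H P → H ≤ N[P]) : Nil H := by
  refine H2.isNilpotent_iff_forall_sylow_normal.2 fun p hp S => ?_
  have h1 := h p _ hp.out (syl_of_sylow hp.out S)
  have h2 := (Nml.mk (map_subtype_le _) h1).normal
  rwa [subgroupOf_map_subtype'] at h2

theorem nil_of_exists_syl_nml [Finite G]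
    (h : ∀ p, p.Prime → p ∣ Nat.card H → ∃ P, Syl p H P ∧ H ≤ N[P]) : Nil H := by
  refine nil_of_syl_nml fun p P hp hP => ?_
  by_cases hd : p ∣ Nat.card H
  · obtain ⟨Q, hQ, hn⟩ := h p hp hd
    rwa [hQ.eq_of_nml hn hP]
  · rw [hP.eq_bot_of_isPi ((isPi_compl_iff hp).2 hd), N_bot]
    exact le_top

/-- MathComp `nilpotent_pcore_Hall`. -/
theorem Nil.pcore_hall [Finite G] (h : Nil H) (π : Set ℕ) : Hall π H O[π, H] := by
  refine hall_of_syl (pcore_le π H) (pcore_pi π H) fun p hp hπ _ => ?_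
  obtain ⟨P, hP⟩ := Sylow_exists hp H
  exact ⟨P, hP, pcore_max (hP.pi.of_mem hπ) (h.syl_nml hp hP)⟩

/-- MathComp `nilpotent_Hall_pcore`. -/
theorem Nil.hall_eq_pcore [Finite G] (h : Nil H) (hK : Hall π H K) : K = O[π, H] :=
  (h.pcore_hall π).eq_pcore hK

theorem Nil.hall_nml [Finite G] (h : Nil H) (hK : Hall π H K) : K ⊴ H :=
  (h.hall_eq_pcore hK).symm ▸ pcore_nml π H

theorem Nil.norm_hall [Finite G] (h : Nil H) (hK : Hall π H K) (hX : X ≤ N[H]) : X ≤ N[K] :=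
  (h.hall_eq_pcore hK).symm ▸ norm_pcore π hX

theorem Nil.le_pcore [Finite G] (h : Nil H) (hK : IsPi π K) (hKH : K ≤ H) : K ≤ O[π, H] :=
  (h.pcore_hall π).le_pcore hK hKH

theorem Nil.mem_pcore [Finite G] (h : Nil H) {x : G} (hx : PiElt π x) (hxH : x ∈ H) :
    x ∈ O[π, H] :=
  (h.pcore_hall π).mem_pcore hx hxH

theorem Nil.le_hall [Finite G] (h : Nil H) (hL : Hall π H L) (hK : IsPi π K) (hKH : K ≤ H) :
    K ≤ L :=
  hL.le_of_nml (h.hall_nml hL).norm hK hKH

theorem Nil.pcore_mono [Finite G] (h : Nil H) (π : Set ℕ) (hK : K ≤ H) : O[π, K] ≤ O[π, H] :=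
  (h.pcore_hall π).pcore_mono hK

theorem Nil.pcore_eq_inf [Finite G] (h : Nil H) (π : Set ℕ) (hK : K ≤ H) :
    O[π, K] = O[π, H] ⊓ K :=
  (h.pcore_hall π).pcore_eq_inf hK

/-- MathComp `nilpotent_pcoreC`. -/
theorem Nil.pcoreC [Finite G] (h : Nil H) (π : Set ℕ) : DP O[π, H] O[πᶜ, H] H :=
  ⟨pcore_compl_cent_pcore π H, pcore_inf_pcore_compl π H H,
    ((h.pcore_hall π).isProd (h.pcore_hall πᶜ)).sup_eq⟩

theorem Nil.pcoreC' [Finite G] (h : Nil H) (π : Set ℕ) : DP O[πᶜ, H] O[π, H] H :=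
  (h.pcoreC π).symm

theorem Nil.cents_of_pi [Finite G] (h : Nil H) (hA : A ≤ H) (hB : B ≤ H) (h1 : IsPi π A)
    (h2 : IsPi πᶜ B) : A ≤ C[B] :=
  (h.le_pcore h1 hA).trans ((pcore_cent_pcore_compl π H).trans (C_anti (h.le_pcore h2 hB)))

/-- MathComp `sub_nilpotent_cent2`. -/
theorem Nil.cents_of_coprime [Finite G] (h : Nil H) (hA : A ≤ H) (hB : B ≤ H)
    (hc : (Nat.card A).Coprime (Nat.card B)) : A ≤ C[B] :=
  h.cents_of_pi hA hB (isPi_primesOf A) (isPi_compl_of_coprime hc)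

theorem Nil.comm_of_coprime [Finite G] (h : Nil H) {x y : G} (hx : x ∈ H) (hy : y ∈ H)
    (hc : (orderOf x).Coprime (orderOf y)) : x * y = y * x :=
  comm_of_cent (h.cents_of_coprime ((zpowers_le (G := G)).2 hx) ((zpowers_le (G := G)).2 hy)
    (by rwa [card_zpowers', card_zpowers'])) (mem_zpowers x) (mem_zpowers y)

/-- Fitting's theorem. -/
theorem Nil.sup_nml [Finite G] (hA : Nil A) (hB : Nil B) (h1 : A ⊴ H) (h2 : B ⊴ H) :
    Nil (A ⊔ B) := by
  have h := H2.isNilpotent_sup h1.normal h2.normal (hA.subgroupOf H) (hB.subgroupOf H)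
  have h' := Nil.map (H := A.subgroupOf H ⊔ B.subgroupOf H) h H.subtype
  rwa [Subgroup.map_sup, map_subgroupOf' h1.le, map_subgroupOf' h2.le] at h'

theorem Nil.sup [Finite G] (hA : Nil A) (hB : Nil B) (h1 : A ≤ N[B]) (h2 : B ≤ N[A]) :
    Nil (A ⊔ B) :=
  hA.sup_nml hB (nml_sup_left h2) (nml_sup_right h1)

theorem CP.nil [Finite G] (h : CP A B M) (hA : Nil A) (hB : Nil B) : Nil M :=
  h.sup ▸ hA.sup_nml hB h.nml_left h.nml_right

theorem DP.nil [Finite G] (h : DP A B M) (hA : Nil A) (hB : Nil B) : Nil M := h.cp.nil hA hB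

theorem Nil.sup_of_cent [Finite G] (hA : Nil A) (hB : Nil B) (h : B ≤ C[A]) : Nil (A ⊔ B) :=
  CP.nil ⟨h, rfl⟩ hA hB

theorem Nil.nml_of_covBy (h : Nil H) (hK : K ⋖ H) : K ⊴ H := by
  have h1 := h.proper_norm hK.lt
  rcases covBy_eq_or hK h1.le inf_le_left with h2 | h2
  · exact absurd h2 h1.ne'
  · exact ⟨hK.le, h2 ▸ inf_le_right⟩

theorem covBy_iff_isCoatom (hK : K ≤ H) : K ⋖ H ↔ IsCoatom (K.subgroupOf H) := by
  constructor
  · intro h
    refine ⟨fun e => h.lt.not_ge (subgroupOf_eq_top.1 e), fun L hL => ?_⟩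
    have h1 : K ≤ L.map H.subtype := (le_map_subtype_iff hK).2 hL.le
    rcases covBy_eq_or h h1 (map_subtype_le L) with h2 | h2
    · rw [← h2, subgroupOf_map_subtype'] at hL
      exact absurd hL (lt_irrefl _)
    · rw [← subgroupOf_map_subtype' L, h2, subgroupOf_self]
  · intro h
    refine ⟨lt_of_le_of_ne hK fun e => h.1 (by rw [e, subgroupOf_self]), fun L h1 h2 => ?_⟩
    have h3 : K.subgroupOf H < L.subgroupOf H := by
      refine lt_of_le_of_ne (subgroupOf_mono H h1.le) fun e => h1.ne ?_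
      rw [← map_subgroupOf' hK, e, map_subgroupOf' h2.le]
    exact h2.not_ge (subgroupOf_eq_top.1 (h.2 _ h3))

theorem covBy_top_iff' : M ⋖ ⊤ ↔ IsCoatom M := covBy_top_iff

theorem relIndex_prime_of_covBy [Finite G] (hK : K ⋖ H) (hn : H ≤ N[K]) :
    (K.relIndex H).Prime :=
  haveI := (Nml.mk hK.le hn).normal
  H2.prime_index_of_isCoatom_of_normal ((covBy_iff_isCoatom hK.le).1 hK)

theorem covBy_of_relIndex_prime (hK : K ≤ H) (h : (K.relIndex H).Prime) : K ⋖ H :=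
  (covBy_iff_isCoatom hK).2 (H2.isCoatom_of_index_prime h)

theorem der1_le_of_relIndex_prime (hK : K ⊴ H) (h : (K.relIndex H).Prime) : ⁅H, H⁆ ≤ K :=
  (abl_quo hK.norm).1 (abl_of_prime (by rwa [card_quo hK.norm]))

/-- MathComp `p_maximal_normal`. -/
theorem p_maximal_normal [Finite G] (hp : p.Prime) (hP : IsPi {p} P) (hK : K ⋖ P) : K ⊴ P :=
  (hP.nil hp).nml_of_covBy hK

/-- MathComp `p_maximal_index`. -/
theorem p_maximal_index [Finite G] (hp : p.Prime) (hP : IsPi {p} P) (hK : K ⋖ P) :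
    K.relIndex P = p := by
  have h := relIndex_prime_of_covBy hK (p_maximal_normal hp hP hK).norm
  exact hP.relIndex K _ h dvd_rfl

theorem nml_of_relIndex_eq_prime [Finite G] (hp : p.Prime) (hP : IsPi {p} P) (hK : K ≤ P)
    (h : K.relIndex P = p) : K ⊴ P :=
  p_maximal_normal hp hP (covBy_of_relIndex_prime hK (h.symm ▸ hp))

/-- a proper subgroup of a `p`-group lies in a normal subgroup of index `p`. -/
theorem exists_maximal_pgroup [Finite G] (hp : p.Prime) (hP : IsPi {p} P) (hK : K < P) :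
    ∃ L, K ≤ L ∧ L ⊴ P ∧ L.relIndex P = p := by
  obtain ⟨L, h1, h2⟩ := exists_covBy hK
  exact ⟨L, h1, p_maximal_normal hp hP h2, p_maximal_index hp hP h2⟩

/-- MathComp `Sylow_subnorm` (the useful direction). -/
theorem Sylow_subnorm [Finite G] (hp : p.Prime) (hPH : P ≤ H) (h : Syl p (H ⊓ N[P]) P) :
    Syl p H P := by
  refine syl_of_max hp h.pi hPH fun Q hQ h1 h2 => ?_
  refine ((hQ.nil hp).eq_of_norm_le h1 ?_).ge
  exact (h.eq_of_le (hQ.inf_left _) (le_inf h1 (norm_self P)) (inf_le_inf_right _ h2)).le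

theorem Syl.subnorm (h : Syl p H P) : Syl p (H ⊓ N[P]) P :=
  h.of_le (le_inf h.le (norm_self P)) inf_le_left

/-- a Sylow subgroup of `M ≤ L` whose normaliser in `L` lies in `M` is Sylow in `L`. -/
theorem Syl.of_norm_le [Finite G] (hp : p.Prime) (h : Syl p M P) (hML : M ≤ L)
    (hn : L ⊓ N[P] ≤ M) : Syl p L P :=
  Sylow_subnorm hp (h.le.trans hML) (h.of_le (le_inf (h.le.trans hML) (norm_self P)) hn)

theorem Syl.of_norm_le' [Finite G] (hp : p.Prime) (h : Syl p M P) (hPL : P ≤ L)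
    (hn : L ⊓ N[P] ≤ M) : Syl p L P :=
  Sylow_subnorm hp hPL (h.of_le (le_inf hPL (norm_self P)) hn)

/-- a `p`-subgroup that is not Sylow has a strictly larger `p`-subgroup normalising it. -/
theorem exists_lt_norm_of_not_syl [Finite G] (hp : p.Prime) (hP : IsPi {p} P) (hPH : P ≤ H)
    (h : ¬ Syl p H P) : ∃ Q, IsPi {p} Q ∧ P < Q ∧ Q ≤ H ∧ Q ≤ N[P] := by
  obtain ⟨S, hS, hPS⟩ := Sylow_superset hp hP hPH
  have hlt : P < S := lt_of_le_of_ne hPS fun e => h (e ▸ hS)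
  exact ⟨S ⊓ N[P], hS.pi.inf_left _, (hS.pi.nil hp).proper_norm hlt, inf_le_left.trans hS.le,
    inf_le_right⟩

theorem nil_of_quo_center (hK : K ≤ Z[H]) (h : Nil (quo H K)) : Nil H := by
  have hn : K ⊴ H := nml_of_le_center hK
  haveI := hn.normal
  haveI h1 : Group.IsNilpotent (H ⧸ K.subgroupOf H) :=
    (Group.isNilpotent_congr (quoEquivQuotient hn.norm)).2 h
  refine Subgroup.isNilpotent_of_ker_le_center (QuotientGroup.mk' (K.subgroupOf H)) ?_
  rw [QuotientGroup.ker_mk']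
  intro x hx
  rw [Subgroup.mem_center_iff]
  intro g
  exact Subtype.ext (mem_C.1 (mem_inf.1 (hK hx)).2 g g.2)

theorem nil_of_comm_comm_eq_bot (h : ⁅⁅H, H⁆, H⁆ = ⊥) : Nil H :=
  H2.isNilpotent_of_commutator_commutator_eq_bot h

theorem nil_of_der1_le_C (h : ⁅H, H⁆ ≤ C[H]) : Nil H :=
  nil_of_comm_comm_eq_bot (comm_eq_bot.2 h)

theorem DP.pcore_eq [Finite G] (h : DP A B M) (hA : IsPi π A) (hB : IsPi πᶜ B) : O[π, M] = A :=
  (h.sd.hall_left hA hB).pcore_eq h.nml_left.norm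

theorem DP.pcore_compl_eq [Finite G] (h : DP A B M) (hA : IsPi π A) (hB : IsPi πᶜ B) :
    O[πᶜ, M] = B :=
  (h.sd.hall_compl_right (h.sd.hall_left hA hB)).pcore_eq h.nml_right.norm

theorem SD.pcore_eq [Finite G] (h : SD K H M) (hK : IsPi π K) (hH : IsPi πᶜ H) : O[π, M] = K :=
  (h.hall_left hK hH).pcore_eq h.nml.norm

/-- a subgroup of a nilpotent group lies in `L` as soon as its `p`-cores do. -/
theorem Nil.le_of_pcore_le [Finite G] (h : Nil H)
    (hL : ∀ p, p.Prime → p ∣ Nat.card H → O[{p}, H] ≤ L) : H ≤ L :=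
  le_of_syl_le fun p hp hd => ⟨_, h.pcore_hall {p}, hL p hp hd⟩

theorem Nil.pcore_ne_bot [Finite G] (h : Nil H) (hp : p.Prime) (hπ : p ∈ π)
    (hd : p ∣ Nat.card H) : O[π, H] ≠ ⊥ :=
  (h.pcore_hall π).ne_bot hp hπ hd

theorem Nil.img_pcore [Finite G] [Finite G'] {D : Subgroup G} (h : Nil H) (π : Set ℕ)
    (f : D →* G') (hH : H ≤ D) : H24.img f O[π, H] = O[π, H24.img f H] :=
  (h.img f).hall_eq_pcore ((h.pcore_hall π).img f hH)

theorem Nil.quo_pcore [Finite G] (h : Nil H) (π : Set ℕ) (hH : H ≤ N[K]) :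
    H24.quo O[π, H] K = O[π, H24.quo H K] :=
  h.img_pcore π _ hH

/-- the centraliser of a nilpotent group is the intersection of the centralisers of its
`π`- and `π'`-cores. -/
theorem Nil.C_eq [Finite G] (h : Nil H) (π : Set ℕ) : C[H] = C[O[π, H]] ⊓ C[O[πᶜ, H]] :=
  (h.pcoreC π).cp.C_eq

theorem Nil.pcore_center [Finite G] (h : Nil H) (π : Set ℕ) : O[π, Z[H]] = Z[O[π, H]] := by
  rw [h.pcore_eq_inf π inf_le_left, h.C_eq π]
  refine le_antisymm (le_inf inf_le_left (inf_le_right.trans (inf_le_right.trans inf_le_left)))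
    (le_inf inf_le_left (le_inf (inf_le_left.trans (pcore_le π H)) (le_inf inf_le_right
      (inf_le_left.trans (pcore_cent_pcore_compl π H)))))

end Nilpotent

/-! ## The Fitting subgroup -/

section Fitting

variable {π ρ : Set ℕ} {A B H K L M X P Q : Subgroup G} {p q : ℕ}

theorem Fitting_le (H : Subgroup G) : F[H] ≤ H := map_subtype_le _

theorem Fitting_nml (H : Subgroup G) : F[H] ⊴ H := nml_map_subtype _

theorem Fitting_nil [Finite G] (H : Subgroup G) : Nil F[H] :=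
  Nil.map (H := fittingSubgroup H) inferInstance _

theorem Fitting_max (hn : K ⊴ H) (hK : Nil K) : K ≤ F[H] :=
  (le_map_subtype_iff hn.le).2 (H2.le_fitting hn.normal (hK.subgroupOf H))

theorem Fitting_top : F[(⊤ : Subgroup G)] = fittingSubgroup G :=
  H2.map_fitting_equiv Subgroup.topEquiv

theorem Fitting_map (H : Subgroup G) {f : G →* G'} (hf : Function.Injective f) :
    F[H.map f] = F[H].map f := by
  unfold fittingOf
  rw [← map_map_subtype hf, H2.map_fitting_equiv]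

theorem Fitting_cj (g : G) (H : Subgroup G) : F[cj g H] = cj g F[H] :=
  Fitting_map H (conj_injective' g)

theorem norm_Fitting (h : X ≤ N[H]) : X ≤ N[F[H]] :=
  norm_of_cj_eq fun g hg => by rw [← Fitting_cj, cj_of_mem_N (h hg)]

theorem N_le_N_Fitting (H : Subgroup G) : N[H] ≤ N[F[H]] := norm_Fitting le_rfl

theorem Nml.Fitting (h : K ⊴ H) : F[K] ⊴ H := ⟨(Fitting_le K).trans h.le, norm_Fitting h.norm⟩

theorem Nml.Fitting_le [Finite G] (h : K ⊴ H) : F[K] ≤ F[H] :=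
  Fitting_max h.Fitting (Fitting_nil K)

/-- MathComp `FittingS`. -/
theorem inf_Fitting_le [Finite G] (h : K ≤ H) : K ⊓ F[H] ≤ F[K] :=
  Fitting_max ((Fitting_nml H).inf_left h) ((Fitting_nil H).of_le inf_le_right)

theorem Fitting_inf_le [Finite G] (h : K ≤ H) : F[H] ⊓ K ≤ F[K] :=
  inf_comm K F[H] ▸ inf_Fitting_le h

theorem Fitting_le_Fitting_of_le [Finite G] (h : K ≤ H) (h' : F[H] ≤ K) : F[H] ≤ F[K] :=
  (le_inf le_rfl h').trans (Fitting_inf_le h)

theorem Fitting_inf_nml [Finite G] (h : K ⊴ H) : F[H] ⊓ K = F[K] :=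
  le_antisymm (Fitting_inf_le h.le) (le_inf h.Fitting_le (Fitting_le K))

theorem Nil.Fitting_eq (h : Nil H) : F[H] = H :=
  le_antisymm (Fitting_le H) (Fitting_max (Nml.refl H) h)

theorem Fitting_bot : F[(⊥ : Subgroup G)] = ⊥ := le_bot_iff.1 (Fitting_le _)

theorem pcore_le_Fitting [Finite G] (hp : p.Prime) (H : Subgroup G) : O[{p}, H] ≤ F[H] :=
  Fitting_max (pcore_nml _ H) ((pcore_pi _ H).nil hp)

theorem center_le_Fitting (H : Subgroup G) : Z[H] ≤ F[H] :=
  Fitting_max (center_nml H) (abl_center H).nil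

theorem pcore_Fitting_le [Finite G] (π : Set ℕ) (H : Subgroup G) : O[π, F[H]] ≤ O[π, H] :=
  (Fitting_nml H).pcore_le π

theorem pcore_Fitting_nml [Finite G] (π : Set ℕ) (H : Subgroup G) : O[π, F[H]] ⊴ H :=
  (Fitting_nml H).pcore π

/-- MathComp `p_core_Fitting`. -/
theorem p_core_Fitting [Finite G] (hp : p.Prime) (H : Subgroup G) :
    O[{p}, F[H]] = O[{p}, H] :=
  le_antisymm (pcore_Fitting_le _ H)
    (pcore_le_pcore_of_le (Fitting_le H) (pcore_le_Fitting hp H))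

/-- MathComp `Fitting_pcore`. -/
theorem Fitting_pcore [Finite G] (π : Set ℕ) (H : Subgroup G) : F[O[π, H]] = O[π, F[H]] := by
  rw [← Fitting_inf_nml (pcore_nml π H), ← pcore_inf_nml π (Fitting_nml H), inf_comm]

theorem syl_pcore_Fitting [Finite G] (hp : p.Prime) (H : Subgroup G) : Syl p F[H] O[{p}, H] :=
  p_core_Fitting hp H ▸ (Fitting_nil H).pcore_hall {p}

theorem le_pcore_of_le_Fitting [Finite G] (hK : IsPi π K) (h : K ≤ F[H]) : K ≤ O[π, H] :=
  ((Fitting_nil H).le_pcore hK h).trans (pcore_Fitting_le π H)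

theorem Fitting_le_of_pcore_le [Finite G]
    (hL : ∀ p, p.Prime → p ∣ Nat.card F[H] → O[{p}, H] ≤ L) : F[H] ≤ L :=
  (Fitting_nil H).le_of_pcore_le fun p hp hd => (p_core_Fitting hp H).symm ▸ hL p hp hd

theorem pcore_ne_bot_iff_dvd_Fitting [Finite G] (hp : p.Prime) :
    O[{p}, H] ≠ ⊥ ↔ p ∣ Nat.card F[H] :=
  ⟨fun h => ((pcore_pi _ H).dvd_card h).trans (card_dvd (pcore_le_Fitting hp H)),
    fun h => (syl_pcore_Fitting hp H).ne_bot hp rfl h⟩

/-- MathComp `Fitting_eq_pcore`. -/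
theorem Fitting_eq_pcore [Finite G] (hp : p.Prime) (h : O[{p}ᶜ, H] = ⊥) : F[H] = O[{p}, H] := by
  have h1 := ((Fitting_nil H).pcoreC {p}).sup
  rw [eq_bot_of_le h (pcore_Fitting_le _ H), sup_bot_eq, p_core_Fitting hp] at h1
  exact h1.symm

/-- MathComp `cent_sub_Fitting`. -/
theorem cent_sub_Fitting [Finite G] (h : Sol H) : H ⊓ C[F[H]] ≤ F[H] := by
  intro x hx
  refine ⟨⟨x, (mem_inf.1 hx).1⟩, H2.centralizer_fitting_le H ?_, rfl⟩
  rw [Subgroup.mem_centralizer_iff]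
  intro y hy
  exact Subtype.ext (mem_C.1 (mem_inf.1 hx).2 y ⟨y, hy, rfl⟩)

theorem le_Fitting_of_cent [Finite G] (h : Sol H) (hX : X ≤ H) (hc : X ≤ C[F[H]]) : X ≤ F[H] :=
  (le_inf hX hc).trans (cent_sub_Fitting h)

theorem cent_Fitting_eq [Finite G] (h : Sol H) : H ⊓ C[F[H]] = Z[F[H]] :=
  le_antisymm (le_inf (cent_sub_Fitting h) inf_le_right) (inf_le_inf_right _ (Fitting_le H))

theorem Fitting_ne_bot [Finite G] (h : Sol H) (h1 : H ≠ ⊥) : F[H] ≠ ⊥ := fun e => by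
  have h2 := cent_sub_Fitting h
  rw [e, C_bot, inf_top_eq] at h2
  exact h1 (le_bot_iff.1 h2)

/-- MathComp `trivg_Fitting`. -/
theorem trivg_Fitting [Finite G] (h : Sol H) : F[H] = ⊥ ↔ H = ⊥ :=
  ⟨fun e => by_contra fun h1 => Fitting_ne_bot h h1 e, fun e => e.symm ▸ Fitting_bot⟩

theorem Fitting_inf_ne_bot [Finite G] (hK : K ⊴ H) (h : Sol K) (h1 : K ≠ ⊥) : F[H] ⊓ K ≠ ⊥ :=
  (Fitting_inf_nml hK).symm ▸ Fitting_ne_bot h h1

/-- Hall–Higman 1.2.3 for solvable groups with trivial `p'`-core. -/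
theorem cent_sub_pcore [Finite G] (hp : p.Prime) (h : Sol H) (h1 : O[{p}ᶜ, H] = ⊥) :
    H ⊓ C[O[{p}, H]] ≤ O[{p}, H] :=
  Fitting_eq_pcore hp h1 ▸ cent_sub_Fitting h

theorem exists_pcore_ne_bot [Finite G] (h : Sol H) (h1 : H ≠ ⊥) :
    ∃ p, p.Prime ∧ O[{p}, H] ≠ ⊥ := by
  obtain ⟨p, hp, hd⟩ := exists_prime_dvd_card (Fitting_ne_bot h h1)
  exact ⟨p, hp, (pcore_ne_bot_iff_dvd_Fitting hp).2 hd⟩

theorem img_Fitting_le [Finite G] {D : Subgroup G} (H : Subgroup G) (f : D →* G') :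
    img f F[H] ≤ F[img f H] :=
  Fitting_max ((Fitting_nml H).img f) ((Fitting_nil H).img f)

theorem quo_Fitting_le [Finite G] (H K : Subgroup G) : quo F[H] K ≤ F[quo H K] :=
  img_Fitting_le H _

theorem Fitting_map_subtype (K : Subgroup H) : F[K.map H.subtype] = F[K].map H.subtype :=
  Fitting_map K H.subtype_injective

theorem Fitting_subgroupOf (h : K ≤ H) : F[K.subgroupOf H] = F[K].subgroupOf H := by
  have := Fitting_map_subtype (K.subgroupOf H)
  rw [map_subgroupOf' h] at this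
  rw [this, subgroupOf_map_subtype']

/-- a nontrivial solvable `π`-core of `H` has nontrivial `π`-part of the Fitting subgroup. -/
theorem pcore_Fitting_ne_bot [Finite G] (h : Sol H) (h1 : O[π, H] ≠ ⊥) : O[π, F[H]] ≠ ⊥ :=
  Fitting_pcore π H ▸ Fitting_ne_bot (h.of_le (pcore_le π H)) h1

end Fitting

/-! ## `M_F`, the largest normal nilpotent Hall subgroup -/

section Fcore

variable {π ρ : Set ℕ} {A B H K L M X P Q : Subgroup G} {p q : ℕ}

theorem IsHall.le (h : IsHall M H) : H ≤ M := h.1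

theorem IsHall.coprime (h : IsHall M H) : (Nat.card H).Coprime (H.relIndex M) := h.2

theorem IsHall.of_le (h : IsHall M H) (h1 : H ≤ L) (h2 : L ≤ M) : IsHall L H :=
  (h.hall.of_le h1 h2).isHall

theorem IsHall.cj (h : IsHall M H) (g : G) : IsHall (cj g M) (cj g H) := (h.hall.cj g).isHall

theorem IsHall.trans (h : IsHall M H) (h' : IsHall H K) : IsHall M K :=
  (h.hall.trans_inter h'.hall).isHall

theorem IsHall.syl [Finite G] (h : IsHall M H) (hP : Syl p H P) (hp : p.Prime)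
    (hd : p ∣ Nat.card H) : Syl p M P :=
  h.hall.trans_syl hP ⟨hp, hd⟩

theorem SD.isHall_left (h : SD K H M) (hc : (Nat.card K).Coprime (Nat.card H)) : IsHall M K :=
  ⟨h.left_le, h.relIndex_left.symm ▸ hc⟩

theorem SD.isHall_right (h : SD K H M) (hc : (Nat.card K).Coprime (Nat.card H)) : IsHall M H :=
  ⟨h.right_le, h.relIndex_right.symm ▸ hc.symm⟩

theorem SD.coprime_of_isHall_left (h : SD K H M) (hK : IsHall M K) :
    (Nat.card K).Coprime (Nat.card H) :=
  h.relIndex_left ▸ hK.2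

theorem SD.coprime_of_isHall_right (h : SD K H M) (hH : IsHall M H) :
    (Nat.card K).Coprime (Nat.card H) :=
  (h.relIndex_right ▸ hH.2).symm

theorem Fcore_le (M : Subgroup G) : fittingHallOf M ≤ M := map_subtype_le _

theorem Fcore_nml (M : Subgroup G) : fittingHallOf M ⊴ M := nml_map_subtype _

theorem Fcore_max (hH : IsHall M H) (hn : M ≤ N[H]) (h : Nil H) : H ≤ fittingHallOf M := by
  refine (le_map_subtype_iff hH.le).2 (le_sSup ⟨(Nml.mk hH.le hn).normal, h.subgroupOf M, ?_⟩)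
  rw [card_subgroupOf_of_le hH.le]
  exact hH.2

theorem fittingHall_spec (G : Type u) [Group G] [Finite G] :
    Nil (fittingHall G) ∧ IsHall ⊤ (fittingHall G) := by
  have h := H2.sSup_mem_of_sup_closed
    {N : Subgroup G | N.Normal ∧ Group.IsNilpotent N ∧ (Nat.card N).Coprime N.index}
    ⟨inferInstance, nil_bot, by simp⟩ (fun A hA B hB => by
      haveI := hA.1
      haveI := hB.1
      refine ⟨inferInstance, H2.isNilpotent_sup hA.1 hB.1 hA.2.1 hB.2.1, ?_⟩
      have h1 : IsHall ⊤ A := ⟨le_top, by rw [relIndex_top_right]; exact hA.2.2⟩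
      have h2 : IsHall ⊤ B := ⟨le_top, by rw [relIndex_top_right]; exact hB.2.2⟩
      have h3 := (h1.hall.union h2.hall (isProd_sup (norm_of_normal _ _)) le_top).coprime
      rwa [relIndex_top_right] at h3)
  exact ⟨h.2.1, le_top, by rw [relIndex_top_right]; exact h.2.2⟩

theorem Fcore_nil [Finite G] (M : Subgroup G) : Nil (fittingHallOf M) :=
  (fittingHall_spec M).1.map _

theorem Fcore_isHall [Finite G] (M : Subgroup G) : IsHall M (fittingHallOf M) :=
  ((hall_map_subtype _).2 (fittingHall_spec M).2.hall).isHall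

theorem Fcore_hall [Finite G] (M : Subgroup G) :
    Hall (primesOf (fittingHallOf M)) M (fittingHallOf M) :=
  (Fcore_isHall M).hall

theorem Fcore_eq_of [Finite G] (hH : IsHall M H) (hn : M ≤ N[H]) (h : Nil H)
    (hm : ∀ K, IsHall M K → M ≤ N[K] → Nil K → K ≤ H) : fittingHallOf M = H :=
  le_antisymm (hm _ (Fcore_isHall M) (Fcore_nml M).norm (Fcore_nil M)) (Fcore_max hH hn h)

theorem Fcore_top [Finite G] : fittingHallOf (⊤ : Subgroup G) = fittingHall G :=
  Fcore_eq_of (fittingHall_spec G).2 (nml_top _).norm (fittingHall_spec G).1 fun K hK hn h =>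
    le_sSup ⟨nml_top_iff.1 ⟨le_top, hn⟩, h, by
      have := hK.2
      rwa [relIndex_top_right] at this⟩

theorem Fcore_map [Finite G] [Finite G'] (M : Subgroup G) {f : G →* G'}
    (hf : Function.Injective f) : fittingHallOf (M.map f) = (fittingHallOf M).map f := by
  refine Fcore_eq_of ((Fcore_hall M).map f).isHall ((Fcore_nml M).map f).norm
    ((Fcore_nil M).map f) fun K hK hn h => ?_
  have e : (K.comap f).map f = K := map_comap_eq_self (hK.le.trans (map_le_range f M))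
  rw [← e] at hK hn h ⊢
  exact Subgroup.map_mono (Fcore_max ((hall_map_iff hf).1 hK.hall).isHall (norm_of_map hf hn)
    ((nil_map_iff hf).1 h))

theorem Fcore_cj [Finite G] (g : G) (M : Subgroup G) :
    fittingHallOf (cj g M) = cj g (fittingHallOf M) :=
  Fcore_map M (conj_injective' g)

theorem norm_Fcore [Finite G] (h : X ≤ N[M]) : X ≤ N[fittingHallOf M] :=
  norm_of_cj_eq fun g hg => by rw [← Fcore_cj, cj_of_mem_N (h hg)]

theorem Nml.Fcore [Finite G] (h : K ⊴ M) : fittingHallOf K ⊴ M :=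
  ⟨(Fcore_le K).trans h.le, norm_Fcore h.norm⟩

theorem Fcore_le_Fitting [Finite G] (M : Subgroup G) : fittingHallOf M ≤ F[M] :=
  Fitting_max (Fcore_nml M) (Fcore_nil M)

theorem Nil.Fcore_eq (h : Nil M) : fittingHallOf M = M :=
  le_antisymm (Fcore_le M) (Fcore_max (hall_self (isPi_univ M)).isHall (norm_self M) h)

theorem syl_le_Fcore [Finite G] (hp : p.Prime) (hP : Syl p M P) (hn : M ≤ N[P]) :
    P ≤ fittingHallOf M :=
  Fcore_max hP.isHall hn (hP.pi.nil hp)

/-- MathComp `p_core_Fcore`: for `p ∣ |M_F|`, `O_p(M_F) = O_p(M)` is a Sylow subgroup of `M`. -/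
theorem Fcore_pcore_syl [Finite G] (hp : p.Prime) (hd : p ∣ Nat.card (fittingHallOf M)) :
    Syl p M O[{p}, fittingHallOf M] :=
  (Fcore_isHall M).syl ((Fcore_nil M).pcore_hall {p}) hp hd

theorem p_core_Fcore [Finite G] (hp : p.Prime) (hd : p ∣ Nat.card (fittingHallOf M)) :
    O[{p}, fittingHallOf M] = O[{p}, M] :=
  ((Fcore_pcore_syl hp hd).pcore_eq ((Fcore_nml M).pcore _).norm).symm

theorem Fcore_of_isHall_nml [Finite G] (hK : IsHall M K) (hn : M ≤ N[K]) :
    fittingHallOf K ≤ fittingHallOf M :=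
  Fcore_max (hK.trans (Fcore_isHall K)) (norm_Fcore hn) (Fcore_nil K)

theorem Fcore_le_Fcore_of_le [Finite G] (hK : K ≤ M) (h : fittingHallOf M ≤ K) :
    fittingHallOf M ≤ fittingHallOf K :=
  Fcore_max ((Fcore_isHall M).of_le h hK) (hK.trans (Fcore_nml M).norm) (Fcore_nil M)

theorem Fcore_map_subtype [Finite G] (K : Subgroup M) :
    fittingHallOf (K.map M.subtype) = (fittingHallOf K).map M.subtype :=
  Fcore_map K M.subtype_injective

end Fcore

/-! ## `O_{π,ρ}` and `p`-length one -/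

section CoreMod

variable {π ρ : Set ℕ} {A B H K L M X P Q : Subgroup G} {p q : ℕ}

theorem le_coreMod (π : Set ℕ) (H K : Subgroup G) : K ≤ coreMod π H K := le_coq _

theorem nml_coreMod (π : Set ℕ) (H K : Subgroup G) : K ⊴ coreMod π H K := nml_coq _

theorem quo_coreMod (π : Set ℕ) (H K : Subgroup G) : quo (coreMod π H K) K = O[π, quo H K] :=
  quo_coq _

theorem coreMod_nml (π : Set ℕ) (h : K ⊴ H) : coreMod π H K ⊴ H :=
  nml_coq_of h (pcore_nml π _)

theorem coreMod_le (π : Set ℕ) (h : K ⊴ H) : coreMod π H K ≤ H := (coreMod_nml π h).le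

theorem coreMod_idx [Finite G] (π : Set ℕ) (H K : Subgroup G) :
    PiNat π (K.relIndex (coreMod π H K)) := by
  unfold coreMod
  rw [relIndex_coq_self]
  exact pcore_pi π _

theorem coreMod_max (hK : H ≤ N[K]) (hL : L ⊴ H) (h : PiNat π (K.relIndex L)) :
    L ≤ coreMod π H K :=
  (quo_le_iff (hL.le.trans hK)).1
    (pcore_max ((isPi_quo_iff (hL.le.trans hK)).2 h) (hL.quo K))

theorem pcore_le_coreMod [Finite G] (π : Set ℕ) (hK : H ≤ N[K]) : O[π, H] ≤ coreMod π H K :=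
  coreMod_max hK (pcore_nml π H) ((pcore_pi π H).relIndex K)

theorem coreMod_eq_of [Finite G] (hK : K ⊴ H) (hL : L ⊴ H) (hKL : K ≤ L)
    (h : PiNat π (K.relIndex L))
    (hm : ∀ L', L' ⊴ H → K ≤ L' → PiNat π (K.relIndex L') → L' ≤ L) : coreMod π H K = L := by
  have _ := hKL
  exact le_antisymm (hm _ (coreMod_nml π hK) (le_coreMod π H K) (coreMod_idx π H K))
    (coreMod_max hK.norm hL h)

theorem coreMod_bot [Finite G] (π : Set ℕ) (H : Subgroup G) : coreMod π H ⊥ = O[π, H] :=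
  coq_pcore (isPi_bot π) (Nml.bot H)

theorem coreMod_of_pi [Finite G] (hK : IsPi π K) (h : K ⊴ H) : coreMod π H K = O[π, H] :=
  coq_pcore hK h

theorem coreMod_map [Finite G] [Finite G'] (π : Set ℕ) (h : K ⊴ H) {f : G →* G'}
    (hf : Function.Injective f) : coreMod π (H.map f) (K.map f) = (coreMod π H K).map f := by
  refine coreMod_eq_of (h.map f) ((coreMod_nml π h).map f)
    (Subgroup.map_mono (le_coreMod π H K)) ?_ fun L h1 h2 h3 => ?_
  · rw [relIndex_map_map_of_injective _ _ hf]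
    exact coreMod_idx π H K
  · have e : (L.comap f).map f = L := map_comap_eq_self (h1.le.trans (map_le_range f H))
    rw [← e] at h1 h3 ⊢
    rw [relIndex_map_map_of_injective _ _ hf] at h3
    exact Subgroup.map_mono (coreMod_max h.norm ((nml_map_iff hf).1 h1) h3)

theorem coreMod_cj [Finite G] (π : Set ℕ) (h : K ⊴ H) (g : G) :
    coreMod π (cj g H) (cj g K) = cj g (coreMod π H K) :=
  coreMod_map π h (conj_injective' g)

theorem norm_coreMod [Finite G] (π : Set ℕ) (h : K ⊴ H) (hH : X ≤ N[H]) (hK : X ≤ N[K]) :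
    X ≤ N[coreMod π H K] :=
  norm_of_cj_eq fun g hg => by rw [← coreMod_cj π h, cj_of_mem_N (hH hg), cj_of_mem_N (hK hg)]

theorem core2_nml (π ρ : Set ℕ) (H : Subgroup G) : core2 π ρ H ⊴ H :=
  coreMod_nml ρ (pcore_nml π H)

theorem core2_le (π ρ : Set ℕ) (H : Subgroup G) : core2 π ρ H ≤ H := (core2_nml π ρ H).le

theorem pcore_le_core2 (π ρ : Set ℕ) (H : Subgroup G) : O[π, H] ≤ core2 π ρ H :=
  le_coreMod ρ H _

theorem pcore_nml_core2 (π ρ : Set ℕ) (H : Subgroup G) : O[π, H] ⊴ core2 π ρ H :=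
  nml_coreMod ρ H _

theorem pcore_le_core2' [Finite G] (π ρ : Set ℕ) (H : Subgroup G) : O[ρ, H] ≤ core2 π ρ H :=
  pcore_le_coreMod ρ (pcore_nml π H).norm

theorem quo_core2 (π ρ : Set ℕ) (H : Subgroup G) :
    quo (core2 π ρ H) O[π, H] = O[ρ, quo H O[π, H]] :=
  quo_coreMod ρ H _

theorem core2_idx [Finite G] (π ρ : Set ℕ) (H : Subgroup G) :
    PiNat ρ (O[π, H].relIndex (core2 π ρ H)) :=
  coreMod_idx ρ H _

theorem core2_max (hL : L ⊴ H) (h : PiNat ρ (O[π, H].relIndex L)) : L ≤ core2 π ρ H :=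
  coreMod_max (pcore_nml π H).norm hL h

theorem core2_of_pcore_eq_bot [Finite G] (ρ : Set ℕ) (h : O[π, H] = ⊥) :
    core2 π ρ H = O[ρ, H] := by
  unfold core2
  rw [h, coreMod_bot]

theorem core2_map [Finite G] [Finite G'] (π ρ : Set ℕ) (H : Subgroup G) {f : G →* G'}
    (hf : Function.Injective f) : core2 π ρ (H.map f) = (core2 π ρ H).map f := by
  unfold core2
  rw [pcore_map π H hf, coreMod_map ρ (pcore_nml π H) hf]

theorem core2_cj [Finite G] (π ρ : Set ℕ) (g : G) (H : Subgroup G) :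
    core2 π ρ (cj g H) = cj g (core2 π ρ H) :=
  core2_map π ρ H (conj_injective' g)

theorem norm_core2 [Finite G] (π ρ : Set ℕ) (h : X ≤ N[H]) : X ≤ N[core2 π ρ H] :=
  norm_coreMod ρ (pcore_nml π H) h (norm_pcore π h)

theorem Nml.core2 [Finite G] (h : K ⊴ H) (π ρ : Set ℕ) : core2 π ρ K ⊴ H :=
  ⟨(core2_le π ρ K).trans h.le, norm_core2 π ρ h.norm⟩

theorem pcore_core2 [Finite G] (π ρ : Set ℕ) (H : Subgroup G) :
    O[π, core2 π ρ H] = O[π, H] := by
  rw [← pcore_inf_nml π (core2_nml π ρ H), inf_eq_left.2 (pcore_le_core2 π ρ H)]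

/-- `O_{π'}(H)` is a Hall `π'`-subgroup of `O_{π', π}(H)`. -/
theorem hall_pcore_core2 [Finite G] (π : Set ℕ) (H : Subgroup G) :
    Hall πᶜ (core2 πᶜ π H) O[πᶜ, H] :=
  Hall.mk' (pcore_le_core2 _ _ H) (pcore_pi _ H) (by rw [compl_compl]; exact core2_idx _ _ H)

/-- `O_{π',π}(H) = O_{π'}(H) ⋊ R` for a Hall `π`-subgroup `R` of `O_{π',π}(H)`. -/
theorem Hall.sd_core2 [Finite G] {R : Subgroup G} (h : Hall π (core2 πᶜ π H) R) :
    SD O[πᶜ, H] R (core2 πᶜ π H) :=
  (hall_pcore_core2 π H).sd' h (pcore_nml_core2 _ _ H).norm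

theorem Hall.quo_core2 [Finite G] {R : Subgroup G} (h : Hall π (core2 πᶜ π H) R) :
    H24.quo R O[πᶜ, H] = O[π, H24.quo H O[πᶜ, H]] := by
  rw [← H24.quo_core2, h.sd_core2.quo_eq]

theorem Nml.core2_le [Finite G] (h : K ⊴ H) (π : Set ℕ) : H24.core2 πᶜ π K ≤ H24.core2 πᶜ π H := by
  refine core2_max (h.core2 _ _) ?_
  have h1 : O[πᶜ, H].relIndex (H24.core2 πᶜ π K) = O[πᶜ, K].relIndex (H24.core2 πᶜ π K) := by
    rw [← pcore_inf_nml πᶜ h, ← inf_relIndex_right, ← inf_relIndex_right (O[πᶜ, H] ⊓ K),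
      inf_assoc, inf_eq_right.2 (H24.core2_le _ _ K)]
  rw [h1]
  exact core2_idx _ _ K

theorem Fitting_le_core2 [Finite G] (π : Set ℕ) (H : Subgroup G) : F[H] ≤ core2 πᶜ π H := by
  rw [← ((Fitting_nil H).pcoreC π).sup]
  exact sup_le ((pcore_Fitting_le _ H).trans (pcore_le_core2' _ _ H))
    ((pcore_Fitting_le _ H).trans (pcore_le_core2 _ _ H))

theorem Opp_eq [Finite G] (hp : p.Prime) (H : Subgroup G) :
    Opp p H = (pPrimePCore p H).map H.subtype := by
  have key : ∀ L : Subgroup H, L.Normal →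
      (L ≤ pPrimePCore p H ↔ PiNat {p} ((pPrimeCore p H).relIndex L)) := by
    intro L hL
    rw [H2.relIndex_eq_card_map_mk', pPrimePCore, ← map_le_iff_le_comap]
    constructor
    · intro h
      exact (isPi_of_isPGroup hp (H2.pCore_isPGroup p _)).of_le h
    · intro h
      exact H2.le_pCore (hL.map _ (QuotientGroup.mk'_surjective _)) (IsPi.isPGroup hp h)
  have hn : (pPrimePCore p H).Normal := by unfold pPrimePCore; infer_instance
  refine coreMod_eq_of (pcore_nml _ H) (nml_map_subtype _) ?_ ?_ fun L h1 _ h3 => ?_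
  · rw [pcore_compl_singleton hp]
    exact Subgroup.map_mono (H2.le_comap_mk' _ _)
  · rw [pcore_compl_singleton hp, relIndex_map_map_of_injective _ _ H.subtype_injective]
    exact (key _ hn).1 le_rfl
  · rw [le_map_subtype_iff h1.le, key _ h1.normal]
    rwa [pcore_compl_singleton hp, ← map_subgroupOf' h1.le,
      relIndex_map_map_of_injective _ _ H.subtype_injective] at h3

theorem Opp_top [Finite G] (hp : p.Prime) : Opp p (⊤ : Subgroup G) = pPrimePCore p G := by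
  have key : ∀ L : Subgroup G, L.Normal →
      (L ≤ pPrimePCore p G ↔ PiNat {p} ((pPrimeCore p G).relIndex L)) := by
    intro L hL
    rw [H2.relIndex_eq_card_map_mk', pPrimePCore, ← map_le_iff_le_comap]
    constructor
    · intro h
      exact (isPi_of_isPGroup hp (H2.pCore_isPGroup p _)).of_le h
    · intro h
      exact H2.le_pCore (hL.map _ (QuotientGroup.mk'_surjective _)) (IsPi.isPGroup hp h)
  haveI hn : (pPrimePCore p G).Normal := by unfold pPrimePCore; infer_instance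
  refine coreMod_eq_of (pcore_nml _ _) (nml_top _) ?_ ?_ fun L h1 _ h3 => ?_
  · rw [pcore_compl_singleton_top hp]
    exact H2.le_comap_mk' _ _
  · rw [pcore_compl_singleton_top hp]
    exact (key _ hn).1 le_rfl
  · rw [key _ (nml_top_iff.1 h1)]
    rwa [pcore_compl_singleton_top hp] at h3

theorem plen1_iff_syl_le [Finite G] (hP : Syl p H P) : PLen1 p H ↔ P ≤ Opp p H :=
  ⟨fun h => le_of_idx_compl (core2_nml _ _ H) h hP.pi hP.le, fun h => hP.idx_of_ge h⟩

theorem PLen1.le_Opp [Finite G] (h : PLen1 p H) (hP : IsPi {p} P) (hPH : P ≤ H) : P ≤ Opp p H :=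
  le_of_idx_compl (core2_nml _ _ H) h hP hPH

theorem PLen1.syl_Opp [Finite G] (h : PLen1 p H) (hP : Syl p H P) : Syl p (Opp p H) P :=
  hP.of_le (h.le_Opp hP.pi hP.le) (core2_le _ _ H)

theorem PLen1.sd [Finite G] (h : PLen1 p H) (hP : Syl p H P) : SD O[{p}ᶜ, H] P (Opp p H) :=
  (h.syl_Opp hP).sd_core2

theorem PLen1.sup_nml [Finite G] (h : PLen1 p H) (hP : Syl p H P) : O[{p}ᶜ, H] ⊔ P ⊴ H :=
  (h.sd hP).sup.symm ▸ core2_nml _ _ H

theorem plen1_of_sup_nml [Finite G] (hP : Syl p H P) (hK : IsPi {p}ᶜ K) (hKH : K ⊴ H)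
    (h : H ≤ N[K ⊔ P]) : PLen1 p H := by
  have h1 : K ≤ O[{p}ᶜ, H] := pcore_max hK hKH
  have h2 : O[{p}ᶜ, H] ⊔ P ⊴ H := by
    have : O[{p}ᶜ, H] ⊔ P = O[{p}ᶜ, H] ⊔ (K ⊔ P) := by
      rw [← sup_assoc, sup_eq_left.2 h1]
    rw [this]
    exact (pcore_nml _ H).sup ⟨sup_le hKH.le hP.le, h⟩
  refine (plen1_iff_syl_le hP).2 (le_sup_right.trans (core2_max h2 ?_))
  rw [relIndex_sup_of_norm (hP.le.trans (pcore_nml _ H).norm)]
  exact hP.pi.relIndex _

/-- MathComp `plength1_pseries2_quo` / the definition of `p.-length_1`. -/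
theorem plen1_iff_quo [Finite G] :
    PLen1 p H ↔ Syl p (quo H O[{p}ᶜ, H]) O[{p}, quo H O[{p}ᶜ, H]] := by
  unfold PLen1
  rw [← relIndex_quo (pcore_nml_core2 _ _ H) (pcore_nml _ H).norm, quo_core2]
  exact ⟨fun h => Hall.mk' (pcore_le _ _) (pcore_pi _ _) h, fun h => h.idx⟩

theorem plen1_of_syl_nml [Finite G] (hP : Syl p H P) (h : H ≤ N[P]) : PLen1 p H :=
  plen1_of_sup_nml hP (isPi_bot _) (Nml.bot H) (by rwa [bot_sup_eq])

theorem plen1_of_pi_compl (h : IsPi {p}ᶜ H) : PLen1 p H := h.relIndex _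

theorem plen1_of_pi [Finite G] (h : IsPi {p} H) : PLen1 p H :=
  plen1_of_syl_nml (hall_self h) (norm_self H)

theorem Nil.plen1 [Finite G] (h : Nil H) (p : ℕ) : PLen1 p H :=
  plen1_of_syl_nml (h.pcore_hall {p}) (pcore_nml _ H).norm

theorem plen1_map_iff [Finite G] [Finite G'] {f : G →* G'} (hf : Function.Injective f) :
    PLen1 p (H.map f) ↔ PLen1 p H := by
  unfold PLen1 Opp
  rw [core2_map _ _ H hf, relIndex_map_map_of_injective _ _ hf]

theorem PLen1.cj [Finite G] (h : PLen1 p H) (g : G) : PLen1 p (cj g H) :=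
  (plen1_map_iff (conj_injective' g)).2 h

/-- Frattini argument for groups of `p`-length one. -/
theorem PLen1.isProd [Finite G] (hp : p.Prime) (h : PLen1 p H) (hP : Syl p H P) :
    IsProd O[{p}ᶜ, H] (H ⊓ N[P]) H := by
  have h1 := Frattini_arg hp (core2_nml _ _ H) (h.syl_Opp hP)
  refine ⟨pcore_le _ H, inf_le_left, fun m hm => ?_⟩
  obtain ⟨a, ha, b, hb, rfl⟩ := h1.mul m hm
  obtain ⟨k, hk, s, hs, rfl⟩ := (h.sd hP).isProd.mul a ha
  exact ⟨k, hk, s * b, mul_mem (mem_inf.2 ⟨hP.le hs, norm_self P hs⟩) hb, mul_assoc _ _ _⟩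

theorem ncompl_iff [Finite G] (hP : Hall π H P) : NCompl π H ↔ SD O[πᶜ, H] P H :=
  ⟨fun h => h.sd' hP (pcore_nml _ H).norm, fun h => h.hall_compl_left hP⟩

theorem NCompl.plen1 [Finite G] (h : NCompl {p} H) : PLen1 p H := by
  have h1 : PiNat {p} ((Opp p H).relIndex H) := by
    have := h.idx_of_ge (pcore_le_core2 {p}ᶜ {p} H)
    rwa [compl_compl] at this
  have h2 : H ≤ Opp p H := core2_max (Nml.refl H) (by
    have := h.idx
    rwa [compl_compl] at this)
  have _ := h1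
  unfold PLen1
  rw [relIndex_eq_one.2 h2]
  exact piNat_one _

theorem NCompl.of_le [Finite G] (h : NCompl π H) (hK : K ≤ H) : NCompl π K :=
  Hall.pcore_of_le h hK

theorem ncompl_of_nml [Finite G] (hK : Hall πᶜ H K) (hn : H ≤ N[K]) : NCompl π H :=
  hK.pcore_hall hn

theorem NCompl.img [Finite G] [Finite G'] {D : Subgroup G} (h : NCompl π H) (f : D →* G')
    (hH : H ≤ D) : NCompl π (img f H) :=
  ncompl_of_nml (Hall.img h f hH) ((pcore_nml _ H).img f).norm

theorem NCompl.quo [Finite G] (h : NCompl π H) (hH : H ≤ N[K]) : NCompl π (quo H K) :=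
  h.img _ hH

theorem ncompl_of_quo [Finite G] (hK : IsPi πᶜ K) (hn : K ⊴ H) (h : NCompl π (quo H K)) :
    NCompl π H := by
  have h1 := Hall.coq hK h
  rwa [hn.coq_quo, coq_pcore hK hn] at h1

theorem Nil.ncompl [Finite G] (h : Nil H) (π : Set ℕ) : NCompl π H := h.pcore_hall πᶜ

end CoreMod

end H24
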