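import Mathlib
import Cfsg.Agent.H24.Base4
import Cfsg.Agent.H25.Rank2
import Cfsg.Agent.H26.Coprime
import Cfsg.Agent.H2.Frobenius

/-!
# Base library, part 5: minimal normal subgroups, chief factors, characteristic and subnormal
subgroups, `Φ`, derived and upper central series, (semi)regular actions, Frobenius groups, TI sets,
coprime quotients
-/

set_option autoImplicit false

namespace H24

open Cfsg Subgroup
open scoped commutatorElement

universe u v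

variable {G : Type u} [Group G] {G' : Type v} [Group G']

/-! ## Characteristic subgroups -/

section Chr

variable {A B H K L X : Subgroup G}

theorem Chr.le (h : Chr H K) : H ≤ K := h.1

theorem chr_map_subtype (A : Subgroup K) [h : A.Characteristic] : Chr (A.map K.subtype) K :=
  ⟨map_subtype_le A, by rwa [subgroupOf_map_subtype']⟩

theorem chr_iff : Chr H K ↔ H ≤ K ∧ ∀ φ : K ≃* K, ∀ x : K, (x : G) ∈ H → (φ x : G) ∈ H := by
  refine and_congr_right fun _ => ?_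
  rw [characteristic_iff_le_comap]
  exact Iff.rfl

theorem Chr.norm (h : Chr H K) (hX : X ≤ N[K]) : X ≤ N[H] := by
  refine le_N_iff.2 fun a ha x hx => ?_
  exact (chr_iff.1 h).2 (K.normalizerMonoidHom ⟨a, hX ha⟩) ⟨x, h.le hx⟩ hx

theorem Chr.N_le (h : Chr H K) : N[K] ≤ N[H] := h.norm le_rfl

theorem Chr.nml (h : Chr H K) : H ⊴ K := ⟨h.le, h.norm (norm_self K)⟩

/-- MathComp `char_normal_trans`. -/
theorem Chr.nml_trans (h : Chr H K) (hK : K ⊴ L) : H ⊴ L := ⟨h.le.trans hK.le, h.norm hK.norm⟩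

theorem Chr.refl (K : Subgroup G) : Chr K K := chr_iff.2 ⟨le_rfl, fun φ x _ => (φ x).2⟩

theorem chr_bot (K : Subgroup G) : Chr ⊥ K :=
  chr_iff.2 ⟨bot_le, fun φ x hx => by
    have : x = 1 := Subtype.ext (mem_bot.1 hx)
    rw [this, map_one]
    exact one_mem _⟩

/-- a relative construction commuting with injective morphisms gives characteristic
subgroups. -/
theorem chr_of_map (Φ : ∀ {G : Type u} [Group G], Subgroup G → Subgroup G) (K : Subgroup G)
    (h1 : Φ K = (Φ (⊤ : Subgroup K)).map K.subtype)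
    (h2 : ∀ φ : K ≃* K, (Φ (⊤ : Subgroup K)).map (φ : K →* K) ≤ Φ ⊤) : Chr (Φ K) K := by
  rw [h1]
  haveI : (Φ (⊤ : Subgroup K)).Characteristic := characteristic_iff_map_le.2 h2
  exact chr_map_subtype _

theorem Chr.trans (h : Chr H K) (h' : Chr K L) : Chr H L := by
  refine chr_iff.2 ⟨h.le.trans h'.le, fun φ x hx => ?_⟩
  have hK := (chr_iff.1 h').2
  let ψ : K ≃* K :=
    { toFun := fun y => ⟨φ ⟨y, h'.le y.2⟩, hK φ _ y.2⟩
      invFun := fun y => ⟨φ.symm ⟨y, h'.le y.2⟩, hK φ.symm _ y.2⟩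
      left_inv := fun y => by simp
      right_inv := fun y => by simp
      map_mul' := fun a b => by
        apply Subtype.ext
        exact congrArg (fun y : L => (y : G)) (map_mul φ ⟨a, h'.le a.2⟩ ⟨b, h'.le b.2⟩) }
  exact (chr_iff.1 h).2 ψ ⟨x, h.le hx⟩ hx

theorem Chr.inf (h : Chr A K) (h' : Chr B K) : Chr (A ⊓ B) K :=
  chr_iff.2 ⟨inf_le_left.trans h.le, fun φ x hx =>
    mem_inf.2 ⟨(chr_iff.1 h).2 φ x (mem_inf.1 hx).1, (chr_iff.1 h').2 φ x (mem_inf.1 hx).2⟩⟩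

theorem Chr.sup (h : Chr A K) (h' : Chr B K) : Chr (A ⊔ B) K := by
  haveI := h.2
  haveI := h'.2
  have := chr_map_subtype (A.subgroupOf K ⊔ B.subgroupOf K)
  rwa [Subgroup.map_sup, map_subgroupOf' h.le, map_subgroupOf' h'.le] at this

theorem Chr.comm (h : Chr A K) (h' : Chr B K) : Chr ⁅A, B⁆ K := by
  haveI := h.2
  haveI := h'.2
  have := chr_map_subtype ⁅A.subgroupOf K, B.subgroupOf K⁆
  rwa [Subgroup.map_commutator, map_subgroupOf' h.le, map_subgroupOf' h'.le] at this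

theorem Chr.infC (h : Chr A K) : Chr (K ⊓ C[A]) K := by
  refine chr_iff.2 ⟨inf_le_left, fun φ x hx => mem_inf.2 ⟨(φ x).2, mem_C.2 fun a ha => ?_⟩⟩
  have h1 := (chr_iff.1 h).2 φ.symm ⟨a, h.le ha⟩ ha
  have h2 := mem_C.1 (mem_inf.1 hx).2 _ h1
  have h3 : φ.symm ⟨a, h.le ha⟩ * x = x * φ.symm ⟨a, h.le ha⟩ := Subtype.ext h2
  have h4 := congrArg (fun y => ((φ y : K) : G)) h3
  simpa using h4

theorem chr_center (K : Subgroup G) : Chr Z[K] K := (Chr.refl K).infC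

theorem chr_der1 (K : Subgroup G) : Chr ⁅K, K⁆ K := (Chr.refl K).comm (Chr.refl K)

theorem chr_Fitting (K : Subgroup G) : Chr F[K] K := chr_map_subtype _

theorem chr_pcore [Finite G] (π : Set ℕ) (K : Subgroup G) : Chr O[π, K] K := by
  haveI : (piCore π K).Characteristic := characteristic_iff_map_le.2 fun φ => by
    have := map_pcore_le π (⊤ : Subgroup K) (φ : K →* K)
    rwa [map_top_of_surjective _ φ.surjective, pcore_top] at this
  exact chr_map_subtype _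

theorem chr_omegaOne (p : ℕ) (K : Subgroup G) : Chr (omegaOne p K) K := by
  haveI : (omegaOne p (⊤ : Subgroup K)).Characteristic := characteristic_iff_map_le.2 fun φ => by
    have := H25.map_omegaOne_le p (⊤ : Subgroup K) (φ : K →* K)
    rwa [map_top_of_surjective _ φ.surjective] at this
  have := chr_map_subtype (omegaOne p (⊤ : Subgroup K))
  rwa [H25.map_omegaOne p _ K.subtype_injective, map_subtype_top] at this

theorem Hall.chr [Finite G] {π : Set ℕ} (h : Hall π K H) (hn : K ≤ N[H]) : Chr H K :=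
  h.pcore_eq hn ▸ chr_pcore π K

theorem chr_map_iff {f : G →* G'} (hf : Function.Injective f) :
    Chr (H.map f) (K.map f) ↔ Chr H K := by
  let e := K.equivMapOfInjective f hf
  have he : ∀ x : K, ((e x : K.map f) : G') ∈ H.map f ↔ (x : G) ∈ H := fun x =>
    mem_map_iff_mem hf
  rw [chr_iff, chr_iff, map_le_map_iff_of_injective hf]
  refine and_congr_right fun _ => ⟨fun h φ x hx => ?_, fun h φ x hx => ?_⟩
  · have := h ((e.symm.trans φ).trans e) (e x) ((he x).2 hx)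
    simp only [MulEquiv.trans_apply, MulEquiv.symm_apply_apply] at this
    exact (he _).1 this
  · obtain ⟨x, rfl⟩ := e.surjective x
    have := (he _).2 (h ((e.trans φ).trans e.symm) x ((he x).1 hx))
    simpa only [MulEquiv.trans_apply, MulEquiv.apply_symm_apply] using this

theorem Chr.cj (h : Chr H K) (g : G) : Chr (cj g H) (cj g K) :=
  (chr_map_iff (conj_injective' g)).2 h

theorem chr_top_iff : Chr H ⊤ ↔ H.Characteristic := by
  constructor
  · intro h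
    refine characteristic_iff_le_comap.2 fun φ x hx => ?_
    exact (chr_iff.1 h).2 ((Subgroup.topEquiv.trans φ).trans Subgroup.topEquiv.symm) ⟨x, trivial⟩ hx
  · intro h
    refine chr_iff.2 ⟨le_top, fun φ x hx => ?_⟩
    exact characteristic_iff_le_comap.1 h
      ((Subgroup.topEquiv.symm.trans φ).trans Subgroup.topEquiv) hx

end Chr

/-! ## Subnormal subgroups -/

section Sbn

variable {π : Set ℕ} {A B H K L X : Subgroup G}

theorem Sbn.le (h : Sbn H K) : H ≤ K := h.1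

theorem Sbn.refl (K : Subgroup G) : Sbn K K := ⟨le_rfl, by rw [subgroupOf_self]; exact .top⟩

theorem Nml.sbn (h : H ⊴ K) : Sbn H K := ⟨h.le, h.normal.isSubnormal⟩

theorem Sbn.step (h : H ⊴ L) (h' : Sbn L K) : Sbn H K := by
  refine ⟨h.le.trans h'.le, .step _ _ (subgroupOf_mono K h.le) h'.2 ?_⟩
  refine Nml.normal ?_
  rw [← nml_map_iff K.subtype_injective, map_subgroupOf' h'.le, map_subgroupOf' (h.le.trans h'.le)]
  exact h

/-- induction along a subnormal series, from the top. -/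
theorem Sbn.ind {P : Subgroup G → Prop} (h : Sbn H K) (h0 : P K)
    (hs : ∀ A B, A ⊴ B → Sbn B K → P B → P A) : P H := by
  have key : ∀ A : Subgroup K, A.IsSubnormal → P (A.map K.subtype) := by
    intro A hA
    induction hA with
    | top => rwa [map_subtype_top]
    | step A B hle hB hN ih =>
      exact hs _ _ ((nml_of_normal hle hN).map _)
        ⟨map_subtype_le B, by rwa [subgroupOf_map_subtype']⟩ ih
  have := key _ h.2
  rwa [map_subgroupOf' h.le] at this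

theorem Sbn.trans (h : Sbn H K) (h' : Sbn K L) : Sbn H L :=
  h.ind (P := fun A => Sbn A L) h' fun _ _ hn _ ih => Sbn.step hn ih

theorem Sbn.nml_trans (h : Sbn H K) (h' : K ⊴ L) : Sbn H L := h.trans h'.sbn

theorem Sbn.inf_right (h : Sbn H K) (L : Subgroup G) : Sbn (H ⊓ L) (K ⊓ L) :=
  h.ind (P := fun A => Sbn (A ⊓ L) (K ⊓ L)) (Sbn.refl _) fun A B hn _ ih =>
    Sbn.step ⟨inf_le_inf_right L hn.le,
      norm_inf (inf_le_left.trans hn.norm) (norm_of_le inf_le_right)⟩ ih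

theorem Sbn.of_le (h : Sbn H K) (h1 : H ≤ L) (h2 : L ≤ K) : Sbn H L := by
  have := h.inf_right L
  rwa [inf_eq_left.2 h1, inf_eq_right.2 h2] at this

theorem Sbn.inf_of_le (h : Sbn H K) (h2 : L ≤ K) : Sbn (H ⊓ L) L := by
  have := h.inf_right L
  rwa [inf_eq_right.2 h2] at this

theorem Sbn.map (h : Sbn H K) (f : G →* G') : Sbn (H.map f) (K.map f) :=
  h.ind (P := fun A => Sbn (A.map f) (K.map f)) (Sbn.refl _) fun _ _ hn _ ih =>
    Sbn.step (hn.map f) ih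

theorem Sbn.cj (h : Sbn H K) (g : G) : Sbn (cj g H) (cj g K) := h.map _

theorem Sbn.img {D : Subgroup G} (h : Sbn H K) (f : D →* G') : Sbn (img f H) (img f K) :=
  h.ind (P := fun A => Sbn (H24.img f A) (H24.img f K)) (Sbn.refl _) fun _ _ hn _ ih =>
    Sbn.step (hn.img f) ih

theorem Sbn.quo (h : Sbn H K) (L : Subgroup G) : Sbn (quo H L) (quo K L) := h.img _

theorem Sbn.pre {D : Subgroup G} {Y Z : Subgroup G'} (h : Sbn Y Z) (f : D →* G') :
    Sbn (pre f Y) (pre f Z) :=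
  h.ind (P := fun A => Sbn (H24.pre f A) (H24.pre f Z)) (Sbn.refl _) fun _ _ hn _ ih =>
    Sbn.step (hn.pre f) ih

theorem Sbn.coq {Y Z : Subgroup (QN L)} (h : Sbn Y Z) : Sbn (coq L Y) (coq L Z) := h.pre _

theorem Sbn.pcore_le [Finite G] (h : Sbn H K) (π : Set ℕ) : O[π, H] ≤ O[π, K] :=
  h.ind (P := fun A => O[π, A] ≤ O[π, K]) le_rfl fun _ _ hn _ ih => (hn.pcore_le π).trans ih

theorem Sbn.le_pcore [Finite G] (h : Sbn H K) (hH : IsPi π H) : H ≤ O[π, K] :=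
  hH.pcore_eq.symm.le.trans (h.pcore_le π)

theorem Sbn.Fitting_le [Finite G] (h : Sbn H K) : F[H] ≤ F[K] :=
  h.ind (P := fun A => F[A] ≤ F[K]) le_rfl fun _ _ hn _ ih => hn.Fitting_le.trans ih

theorem Sbn.le_Fitting [Finite G] (h : Sbn H K) (hH : Nil H) : H ≤ F[K] :=
  hH.Fitting_eq.symm.le.trans h.Fitting_le

theorem Sbn.hall_inf (h : Sbn H K) (hL : Hall π K L) : Hall π H (L ⊓ H) :=
  h.ind (P := fun A => Hall π A (L ⊓ A)) (by rwa [inf_eq_left.2 hL.le]) fun A B hn _ ih => by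
    have := ih.inf_nml hn
    rwa [inf_assoc, inf_eq_right.2 hn.le] at this

/-- MathComp `nilpotent_subnormal`. -/
theorem Nil.sbn [Finite G] (h : Nil K) (hH : H ≤ K) : Sbn H K :=
  ⟨hH, H2.isSubnormal_of_isNilpotent _⟩

/-- MathComp `subnormalEr`. -/
theorem Sbn.eq_or (h : Sbn H K) : H = K ∨ ∃ L, Sbn H L ∧ L ⊴ K ∧ L < K :=
  h.ind (P := fun A => A = K ∨ ∃ L, Sbn A L ∧ L ⊴ K ∧ L < K) (Or.inl rfl)
    fun A B hn _ ih => by
      rcases ih with rfl | ⟨L, h1, h2, h3⟩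
      · by_cases e : A = B
        · exact Or.inl e
        · exact Or.inr ⟨A, Sbn.refl A, hn, lt_of_le_of_ne hn.le e⟩
      · exact Or.inr ⟨L, Sbn.step hn h1, h2, h3⟩

/-- MathComp `subnormalEl`. -/
theorem Sbn.eq_or' (h : Sbn H K) : H = K ∨ ∃ L, H ⊴ L ∧ H < L ∧ Sbn L K :=
  h.ind (P := fun A => A = K ∨ ∃ L, A ⊴ L ∧ A < L ∧ Sbn L K) (Or.inl rfl)
    fun A B hn hB ih => by
      by_cases e : A = B
      · rwa [e]
      · exact Or.inr ⟨B, hn, lt_of_le_of_ne hn.le e, hB⟩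

theorem sbn_top_iff : Sbn H ⊤ ↔ H.IsSubnormal :=
  ⟨fun h => by
    have := h.2.map (f := (⊤ : Subgroup G).subtype) Subgroup.topEquiv.surjective
    rwa [map_subgroupOf' le_top] at this, fun h => ⟨le_top, h.subgroupOf⟩⟩

end Sbn

/-! ## The Frattini subgroup -/

section Phi

variable {A B H K L P X : Subgroup G} {p : ℕ}

theorem Phi_le (H : Subgroup G) : Phi H ≤ H := map_subtype_le _

theorem chr_Phi (H : Subgroup G) : Chr (Phi H) H := chr_map_subtype _

theorem Phi_nml (H : Subgroup G) : Phi H ⊴ H := (chr_Phi H).nml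

theorem norm_Phi (h : X ≤ N[H]) : X ≤ N[Phi H] := (chr_Phi H).norm h

theorem Nml.Phi (h : K ⊴ H) : Phi K ⊴ H := (chr_Phi K).nml_trans h

theorem Phi_top : Phi (⊤ : Subgroup G) = frattini G := H2.map_frattini_equiv Subgroup.topEquiv

theorem Phi_map (H : Subgroup G) {f : G →* G'} (hf : Function.Injective f) :
    Phi (H.map f) = (Phi H).map f := by
  unfold Phi
  rw [← map_map_subtype hf, H2.map_frattini_equiv]

theorem Phi_cj (g : G) (H : Subgroup G) : Phi (cj g H) = cj g (Phi H) :=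
  Phi_map H (conj_injective' g)

theorem Phi_bot : Phi (⊥ : Subgroup G) = ⊥ := le_bot_iff.1 (Phi_le _)

/-- MathComp `Phi_sub_max`. -/
theorem Phi_le_of_covBy (h : K ⋖ H) : Phi H ≤ K := by
  rw [← map_subgroupOf' h.le]
  exact Subgroup.map_mono (frattini_le_coatom ((covBy_iff_isCoatom h.le).1 h))

theorem le_Phi_iff (hX : X ≤ H) : X ≤ Phi H ↔ ∀ K, K ⋖ H → X ≤ K := by
  refine ⟨fun h K hK => h.trans (Phi_le_of_covBy hK), fun h => ?_⟩
  refine (le_map_subtype_iff hX).2 (H2.le_frattini_iff.2 fun M hM => ?_)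
  refine (le_map_subtype_iff hX).1 (h _ ?_)
  rw [covBy_iff_isCoatom (map_subtype_le M), subgroupOf_map_subtype']
  exact hM

/-- MathComp `Phi_nongen`. -/
theorem Phi_nongen [Finite G] (hK : K ≤ H) (h : H ≤ K ⊔ Phi H) : K = H := by
  by_contra hne
  obtain ⟨L, h1, h2⟩ := exists_covBy (lt_of_le_of_ne hK hne)
  exact h2.lt.not_ge (h.trans (sup_le h1 (Phi_le_of_covBy h2)))

theorem Phi_nongen' [Finite G] (hK : K ≤ H) (h : H ≤ Phi H ⊔ K) : K = H :=
  Phi_nongen hK (sup_comm (Phi H) K ▸ h)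

/-- MathComp `Phi_proper`. -/
theorem Phi_lt [Finite G] (h : H ≠ ⊥) : Phi H < H :=
  lt_of_le_of_ne (Phi_le H) fun e => h (Phi_nongen bot_le (by rw [e, bot_sup_eq])).symm

theorem Phi_nil [Finite G] (H : Subgroup G) : Nil (Phi H) :=
  Nil.map (H := frattini H) frattini_nilpotent _

theorem Phi_le_Fitting [Finite G] (H : Subgroup G) : Phi H ≤ F[H] :=
  Fitting_max (Phi_nml H) (Phi_nil H)

theorem Nml.Phi_le [Finite G] (h : K ⊴ H) : H24.Phi K ≤ H24.Phi H := by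
  haveI := h.normal
  have h1 := Subgroup.map_mono (f := H.subtype) (H2.map_subtype_frattini_le (K.subgroupOf H))
  have h2 : H24.Phi (K.subgroupOf H) = (frattini (K.subgroupOf H)).map _ := rfl
  rwa [← h2, ← Phi_map _ H.subtype_injective, map_subgroupOf' h.le] at h1

theorem Nil.der1_le_Phi [Finite G] (h : Nil H) : ⁅H, H⁆ ≤ Phi H :=
  (le_Phi_iff (der1_le H)).2 fun _ hK => der1_le_of_relIndex_prime (h.nml_of_covBy hK)
    (relIndex_prime_of_covBy hK (h.nml_of_covBy hK).norm)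

theorem IsPi.der1_le_Phi [Finite G] (hp : p.Prime) (h : IsPi {p} P) : ⁅P, P⁆ ≤ Phi P :=
  (h.nil hp).der1_le_Phi

theorem IsPi.pow_mem_Phi [Finite G] (hp : p.Prime) (h : IsPi {p} P) {x : G} (hx : x ∈ P) :
    x ^ p ∈ Phi P :=
  haveI := Fact.mk hp
  ⟨_, H2.IsPGroup.pow_mem_frattini (h.isPGroup hp) ⟨x, hx⟩, rfl⟩

theorem elem_quo_iff (hA : A ≤ N[K]) :
    IsElementaryAbelian p (quo A K) ↔ ⁅A, A⁆ ≤ K ∧ ∀ x ∈ A, x ^ p ∈ K := by
  unfold IsElementaryAbelian
  refine and_congr (abl_quo hA) ⟨fun h x hx => ?_, fun h z hz => ?_⟩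
  · have := h _ (cs_mem_quo hx (hA hx))
    rwa [← ap_pow _ (hA hx), cs_eq_one (pow_mem (hA hx) p)] at this
  · obtain ⟨x, hx, hN, rfl⟩ := mem_quo.1 hz
    rw [← ap_pow _ hN, cs_eq_one (pow_mem hN p)]
    exact h x hx

/-- MathComp `Phi_quotient_abelem`. -/
theorem Phi_quo_elem [Finite G] (hp : p.Prime) (h : IsPi {p} P) :
    IsElementaryAbelian p (quo P (Phi P)) :=
  (elem_quo_iff (Phi_nml P).norm).2 ⟨h.der1_le_Phi hp, fun _ hx => h.pow_mem_Phi hp hx⟩

theorem Phi_le_of_pow [Finite G] (hp : p.Prime) (h1 : ⁅P, P⁆ ≤ K) (h2 : ∀ x ∈ P, x ^ p ∈ K) :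
    Phi P ≤ K := by
  have h := H2.frattini_le_of_elementary_quotient (G := P) hp (N := K.subgroupOf P)
    (by
      refine Subgroup.map_le_iff_le_comap.1 ?_
      rw [commutator_def, Subgroup.map_commutator, map_subtype_top]
      exact h1) (fun x => h2 x x.2)
  exact Subgroup.map_le_iff_le_comap.2 h

/-- MathComp `Phi_min`. -/
theorem Phi_min [Finite G] (hp : p.Prime) (hn : P ≤ N[K]) (h : IsElementaryAbelian p (quo P K)) :
    Phi P ≤ K :=
  Phi_le_of_pow hp ((elem_quo_iff hn).1 h).1 ((elem_quo_iff hn).1 h).2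

theorem Phi_eq_bot_of_elem [Finite G] (hp : p.Prime) (h : IsElementaryAbelian p P) :
    Phi P = ⊥ :=
  le_bot_iff.1 (Phi_le_of_pow hp (der1_eq_bot.2 h.1).le fun x hx => mem_bot.2 (h.2 x hx))

/-- MathComp `trivg_Phi`. -/
theorem trivg_Phi [Finite G] (hp : p.Prime) (h : IsPi {p} P) :
    Phi P = ⊥ ↔ IsElementaryAbelian p P :=
  ⟨fun e => ⟨der1_eq_bot.1 (eq_bot_of_le e (h.der1_le_Phi hp)),
    fun _ hx => mem_bot.1 (e ▸ h.pow_mem_Phi hp hx)⟩, Phi_eq_bot_of_elem hp⟩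

/-- MathComp `PhiS`. -/
theorem Phi_mono [Finite G] (hp : p.Prime) (h : IsPi {p} P) (hK : K ≤ P) : Phi K ≤ Phi P :=
  Phi_le_of_pow hp ((der1_mono hK).trans (h.der1_le_Phi hp)) fun _ hx =>
    h.pow_mem_Phi hp (hK hx)

/-- MathComp `morphim_Phi`. -/
theorem img_Phi [Finite G] [Finite G'] {D : Subgroup G} (hp : p.Prime) (h : IsPi {p} P)
    (f : D →* G') (hD : P ≤ D) : img f (Phi P) = Phi (img f P) := by
  refine le_antisymm ((img_le_iff ((Phi_le P).trans hD)).2 (Phi_le_of_pow hp ?_ fun x hx => ?_))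
    (Phi_le_of_pow hp ?_ fun z hz => ?_)
  · rw [← img_le_iff ((der1_le P).trans hD), img_comm f hD hD]
    exact (h.img f).der1_le_Phi hp
  · refine mem_pre.2 ⟨pow_mem (hD hx) p, ?_⟩
    rw [ap_pow f (hD hx)]
    exact (h.img f).pow_mem_Phi hp (ap_mem_img f hx (hD hx))
  · rw [← img_comm f hD hD]
    exact img_mono f (h.der1_le_Phi hp)
  · obtain ⟨x, hx, hx', rfl⟩ := mem_img.1 hz
    rw [← ap_pow f hx']
    exact ap_mem_img f (h.pow_mem_Phi hp hx) (pow_mem hx' p)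

theorem quo_Phi [Finite G] (hp : p.Prime) (h : IsPi {p} P) (hK : P ≤ N[K]) :
    quo (Phi P) K = Phi (quo P K) :=
  img_Phi hp h _ hK

/-- MathComp `Phi_quotient_cyclic`. -/
theorem cyc_of_quo_Phi [Finite G] (h : Cyc (quo H (Phi H))) : Cyc H := by
  obtain ⟨z, hz, e⟩ := h.exists_gen
  obtain ⟨x, hx, hN, rfl⟩ := mem_quo.1 hz
  rw [← quo_zpowers hN] at e
  have h1 := (quo_le_quo_iff (Phi_nml H).norm ((zpowers_le (G := G)).2 hN)).1 e.ge
  exact cyc_iff.2 ⟨x, Phi_nongen ((zpowers_le (G := G)).2 hx) h1⟩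

theorem nil_of_quo_Phi [Finite G] (h : Nil (quo H (Phi H))) : Nil H := by
  refine H2.isNilpotent_of_frattini_quotient ?_
  haveI := (Phi_nml H).normal
  have h1 := (Group.isNilpotent_congr (quoEquivQuotient (Phi_nml H).norm)).2 h
  have e : (Phi H).subgroupOf H = frattini H := subgroupOf_map_subtype' _
  exact (Group.isNilpotent_congr (QuotientGroup.quotientMulEquivOfEq e)).1 h1

/-- a nilpotent group with cyclic abelianisation is cyclic (MathComp `cyclic_nilpotent_quo_der1_cyclic`). -/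
theorem Nil.cyc_of_quo_der1 [Finite G] (h : Nil H) (hc : Cyc (H24.quo H ⁅H, H⁆)) : Cyc H :=
  cyc_of_quo_Phi (hc.quo_mono (der1_nml H).norm (Phi_nml H).norm
    (inf_le_left.trans h.der1_le_Phi))

end Phi

/-! ## Derived series and upper central series -/

section Series

variable {A B H K L X : Subgroup G}

theorem der_zero (H : Subgroup G) : der 0 H = H := rfl

theorem der_succ (n : ℕ) (H : Subgroup G) : der (n + 1) H = ⁅der n H, der n H⁆ := rfl

theorem der_one (H : Subgroup G) : der 1 H = ⁅H, H⁆ := rfl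

theorem der_two (H : Subgroup G) : der 2 H = ⁅⁅H, H⁆, ⁅H, H⁆⁆ := rfl

theorem der_succ' (n : ℕ) (H : Subgroup G) : der (n + 1) H = der n ⁅H, H⁆ := by
  induction n with
  | zero => rfl
  | succ n ih => rw [der_succ, ih, der_succ]

theorem chr_der (n : ℕ) (H : Subgroup G) : Chr (der n H) H := by
  induction n with
  | zero => exact Chr.refl H
  | succ n ih => exact ih.comm ih

theorem der_le (n : ℕ) (H : Subgroup G) : der n H ≤ H := (chr_der n H).le

theorem der_nml (n : ℕ) (H : Subgroup G) : der n H ⊴ H := (chr_der n H).nml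

theorem norm_der (n : ℕ) (h : X ≤ N[H]) : X ≤ N[der n H] := (chr_der n H).norm h

theorem der_mono (n : ℕ) (h : A ≤ B) : der n A ≤ der n B := by
  induction n with
  | zero => exact h
  | succ n ih => exact der1_mono ih

theorem der_map (n : ℕ) (H : Subgroup G) (f : G →* G') : der n (H.map f) = (der n H).map f := by
  induction n with
  | zero => rfl
  | succ n ih => rw [der_succ, der_succ, ih, Subgroup.map_commutator]

theorem der_top (n : ℕ) : der n (⊤ : Subgroup G) = derivedSeries G n := by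
  induction n with
  | zero => rfl
  | succ n ih => rw [der_succ, ih, derivedSeries_succ]

theorem der_eq_map (n : ℕ) (H : Subgroup G) : der n H = (derivedSeries H n).map H.subtype := by
  rw [← der_top, ← der_map, map_subtype_top]

theorem img_der {D : Subgroup G} (n : ℕ) (f : D →* G') (hH : H ≤ D) :
    img f (der n H) = der n (img f H) := by
  induction n with
  | zero => rfl
  | succ n ih =>
    rw [der_succ, der_succ, img_comm f ((der_le n H).trans hH) ((der_le n H).trans hH), ih]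

theorem sol_iff_der : Sol H ↔ ∃ n, der n H = ⊥ := by
  constructor
  · rintro ⟨n, hn⟩
    exact ⟨n, by rw [der_eq_map, hn, Subgroup.map_bot]⟩
  · rintro ⟨n, hn⟩
    rw [der_eq_map, map_eq_bot_iff_of_injective _ H.subtype_injective] at hn
    exact ⟨n, hn⟩

theorem der1_eq_map (H : Subgroup G) : ⁅H, H⁆ = (commutator H).map H.subtype := by
  rw [commutator_def, Subgroup.map_commutator, map_subtype_top]

theorem chr_ucn (n : ℕ) (H : Subgroup G) : Chr (ucn n H) H := chr_map_subtype _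

theorem ucn_le (n : ℕ) (H : Subgroup G) : ucn n H ≤ H := (chr_ucn n H).le

theorem ucn_nml (n : ℕ) (H : Subgroup G) : ucn n H ⊴ H := (chr_ucn n H).nml

theorem norm_ucn (n : ℕ) (h : X ≤ N[H]) : X ≤ N[ucn n H] := (chr_ucn n H).norm h

theorem ucn_zero (H : Subgroup G) : ucn 0 H = ⊥ := Subgroup.map_bot _

theorem mem_ucn_succ {n : ℕ} {x : G} :
    x ∈ ucn (n + 1) H ↔ x ∈ H ∧ ∀ y ∈ H, ⁅x, y⁆ ∈ ucn n H := by
  constructor
  · rintro ⟨x, hx, rfl⟩
    exact ⟨x.2, fun y hy => ⟨_, Subgroup.mem_upperCentralSeries_succ_iff.1 hx ⟨y, hy⟩, rfl⟩⟩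
  · rintro ⟨hx, h⟩
    refine ⟨⟨x, hx⟩, Subgroup.mem_upperCentralSeries_succ_iff.2 fun y => ?_, rfl⟩
    obtain ⟨z, hz, e⟩ := h y y.2
    have : z = ⁅(⟨x, hx⟩ : H), y⁆ := Subtype.ext e
    exact this ▸ hz

theorem le_ucn_succ {n : ℕ} : X ≤ ucn (n + 1) H ↔ X ≤ H ∧ ⁅X, H⁆ ≤ ucn n H :=
  ⟨fun h => ⟨h.trans (ucn_le _ H), commutator_le.2 fun _ hx y hy =>
      (mem_ucn_succ.1 (h hx)).2 y hy⟩,
    fun h _ hx => mem_ucn_succ.2 ⟨h.1 hx, fun _ hy => h.2 (commutator_mem_commutator hx hy)⟩⟩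

theorem ucn_comm_le (n : ℕ) (H : Subgroup G) : ⁅ucn (n + 1) H, H⁆ ≤ ucn n H :=
  (le_ucn_succ.1 le_rfl).2

theorem ucn_one (H : Subgroup G) : ucn 1 H = Z[H] := by
  refine le_antisymm (le_inf (ucn_le 1 H) (comm_eq_bot.1 ?_)) (le_ucn_succ.2 ⟨inf_le_left, ?_⟩)
  · exact eq_bot_of_le (ucn_zero H) (ucn_comm_le 0 H)
  · rw [comm_eq_bot.2 inf_le_right]
    exact bot_le

theorem ucn_mono_nat (H : Subgroup G) {m n : ℕ} (h : m ≤ n) : ucn m H ≤ ucn n H :=
  Subgroup.map_mono (Subgroup.upperCentralSeries_mono H h)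

theorem center_le_ucn_two (H : Subgroup G) : Z[H] ≤ ucn 2 H :=
  ucn_one H ▸ ucn_mono_nat H one_le_two

theorem ucn_two_comm_le (H : Subgroup G) : ⁅ucn 2 H, H⁆ ≤ Z[H] := ucn_one H ▸ ucn_comm_le 1 H

theorem le_ucn_two : X ≤ ucn 2 H ↔ X ≤ H ∧ ⁅X, H⁆ ≤ Z[H] := ucn_one H ▸ le_ucn_succ

theorem quo_ucn_succ (n : ℕ) (H : Subgroup G) :
    quo (ucn (n + 1) H) (ucn n H) = Z[quo H (ucn n H)] := by
  have hn := ucn_nml n H
  refine le_antisymm (le_inf (quo_mono _ (ucn_le _ H))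
    ((quo_cents ((ucn_le _ H).trans hn.norm) hn.norm).2 (ucn_comm_le n H))) ?_
  rw [← quo_coq Z[quo H (ucn n H)]]
  refine quo_mono _ (le_ucn_succ.2 ⟨coq_le_of_le_quo hn inf_le_left, ?_⟩)
  rw [← quo_cents (coq_le_N _) hn.norm, quo_coq]
  exact inf_le_right

theorem ucn_map (n : ℕ) (H : Subgroup G) {f : G →* G'} (hf : Function.Injective f) :
    ucn n (H.map f) = (ucn n H).map f := by
  induction n with
  | zero => rw [ucn_zero, ucn_zero, Subgroup.map_bot]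
  | succ n ih =>
    refine le_antisymm ?_ (le_ucn_succ.2 ⟨Subgroup.map_mono (ucn_le _ H), ?_⟩)
    · have e : ((ucn (n + 1) (H.map f)).comap f).map f = ucn (n + 1) (H.map f) :=
        map_comap_eq_self ((ucn_le _ _).trans (map_le_range f H))
      have h1 := le_ucn_succ.1 (le_refl (ucn (n + 1) (H.map f)))
      rw [← e] at h1 ⊢
      rw [ih, ← Subgroup.map_commutator, map_le_map_iff_of_injective hf,
        map_le_map_iff_of_injective hf] at h1
      exact Subgroup.map_mono (le_ucn_succ.2 h1)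
    · rw [ih, ← Subgroup.map_commutator]
      exact Subgroup.map_mono (ucn_comm_le n H)

theorem ucn_cj (n : ℕ) (g : G) (H : Subgroup G) : ucn n (cj g H) = cj g (ucn n H) :=
  ucn_map n H (conj_injective' g)

theorem nil_iff_ucn : Nil H ↔ ∃ n, ucn n H = H := by
  constructor
  · rintro ⟨n, hn⟩
    exact ⟨n, by rw [ucn, hn, map_subtype_top]⟩
  · rintro ⟨n, hn⟩
    refine ⟨n, ?_⟩
    rw [← subgroupOf_map_subtype' (Subgroup.upperCentralSeries H n)]
    exact subgroupOf_eq_top.2 hn.ge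

end Series

/-! ## Minimal normal subgroups and chief factors -/

section MinNml

variable {A B H K L M U V W X : Subgroup G} {p : ℕ}

theorem MinNml.eq_or (h : MinNml V A) (hW : W ≤ V) (hn : A ≤ N[W]) : W = ⊥ ∨ W = V := by
  by_cases e : W = ⊥
  · exact Or.inl e
  · exact Or.inr (h.min W hW e hn)

theorem MinNml.inf_eq_or (h : MinNml V A) (hn : A ≤ N[W]) : V ⊓ W = ⊥ ∨ V ≤ W :=
  (h.eq_or inf_le_left (norm_inf h.norm hn)).imp_right inf_eq_left.1

theorem MinNml.le_of_inf_ne_bot (h : MinNml V A) (hn : A ≤ N[W]) (h1 : V ⊓ W ≠ ⊥) : V ≤ W :=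
  (h.inf_eq_or hn).resolve_left h1

theorem MinNml.mono (h : MinNml V A) (hAB : A ≤ B) (hB : B ≤ N[V]) : MinNml V B :=
  ⟨h.ne_bot, hB, fun W h1 h2 h3 => h.min W h1 h2 (hAB.trans h3)⟩

/-- MathComp `minnormal_exists`. -/
theorem exists_minNml [Finite G] (hK : K ≠ ⊥) (hn : A ≤ N[K]) : ∃ V, MinNml V A ∧ V ≤ K := by
  obtain ⟨V, h1, h2, h3⟩ := exists_min (P := fun V => V ≠ ⊥ ∧ A ≤ N[V]) ⟨hK, hn⟩
  exact ⟨V, ⟨h2.1, h2.2, fun W h4 h5 h6 => h3 W ⟨h5, h6⟩ h4⟩, h1⟩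

theorem MinNml.chr_eq_or (h : MinNml V A) (hW : Chr W V) : W = ⊥ ∨ W = V :=
  h.eq_or hW.le (hW.norm h.norm)

theorem MinNml.abl (h : MinNml V A) (hs : Sol V) : Abl V :=
  der1_eq_bot.1 ((h.chr_eq_or (chr_der1 V)).resolve_right (hs.der1_lt h.ne_bot).ne)

theorem MinNml.elem_of_dvd [Finite G] (h : MinNml V A) (hs : Sol V) (hp : p.Prime)
    (hd : p ∣ Nat.card V) : IsElementaryAbelian p V :=
  (h.chr_eq_or (chr_omegaOne p V)).resolve_left (H25.omegaOne_ne_bot hp hd) ▸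
    H25.omegaOne_elem (h.abl hs)

/-- MathComp `minnormal_solvable_abelem`. -/
theorem MinNml.elem [Finite G] (h : MinNml V A) (hs : Sol V) :
    ∃ p, p.Prime ∧ IsElementaryAbelian p V := by
  obtain ⟨p, hp, hd⟩ := exists_prime_dvd_card h.ne_bot
  exact ⟨p, hp, h.elem_of_dvd hs hp hd⟩

theorem MinNml.elem_of_pi [Finite G] (h : MinNml V A) (hV : IsPi {p} V) :
    IsElementaryAbelian p V :=
  h.elem_of_dvd (hV.sol (hV.prime h.ne_bot)) (hV.prime h.ne_bot) (hV.dvd_card h.ne_bot)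

/-- MathComp `solvable_norm_abelem`. -/
theorem solvable_norm_abelem [Finite G] (hs : Sol K) (hK : K ≠ ⊥) (hn : A ≤ N[K]) :
    ∃ V p, MinNml V A ∧ V ≤ K ∧ p.Prime ∧ IsElementaryAbelian p V := by
  obtain ⟨V, h1, h2⟩ := exists_minNml hK hn
  obtain ⟨p, hp, he⟩ := h1.elem (hs.of_le h2)
  exact ⟨V, p, h1, h2, hp, he⟩

theorem MinNml.le_C_of_nil [Finite G] (h : MinNml V A) (hK : Nil K) (hVK : V ≤ K)
    (hKV : K ≤ N[V]) (hn : A ≤ N[K]) : V ≤ C[K] :=
  h.le_of_inf_ne_bot (norm_C hn) (hK.inf_C_ne_bot ⟨hVK, hKV⟩ h.ne_bot)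

/-- a minimal normal subgroup centralises the Fitting subgroup. -/
theorem MinNml.le_C_Fitting [Finite G] (h : MinNml V M) (hV : V ≤ M) : V ≤ C[F[M]] := by
  rcases h.inf_eq_or (Fitting_nml M).norm with h1 | h1
  · exact cents_of_inf_eq_bot (hV.trans (Fitting_nml M).norm) ((Fitting_le M).trans h.norm) h1
  · exact h.le_C_of_nil (Fitting_nil M) h1 ((Fitting_le M).trans h.norm) (Fitting_nml M).norm

theorem minNml_map_iff {f : G →* G'} (hf : Function.Injective f) :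
    MinNml (V.map f) (A.map f) ↔ MinNml V A := by
  constructor
  · intro h
    refine ⟨fun e => h.ne_bot (by rw [e, Subgroup.map_bot]), norm_of_map hf h.norm,
      fun W h1 h2 h3 => Subgroup.map_injective hf (h.min _ (Subgroup.map_mono h1) ?_
        (norm_map h3 f))⟩
    rwa [Ne, map_eq_bot_iff_of_injective _ hf]
  · intro h
    refine ⟨by rw [Ne, map_eq_bot_iff_of_injective _ hf]; exact h.ne_bot, norm_map h.norm f,
      fun W h1 h2 h3 => ?_⟩
    have e : (W.comap f).map f = W := map_comap_eq_self (h1.trans (map_le_range f V))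
    rw [← e] at h1 h2 h3 ⊢
    rw [h.min _ ((map_le_map_iff_of_injective hf).1 h1) (fun e => h2 (by rw [e, Subgroup.map_bot]))
      (norm_of_map hf h3)]

theorem MinNml.cj (h : MinNml V A) (g : G) : MinNml (cj g V) (cj g A) :=
  (minNml_map_iff (conj_injective' g)).2 h

theorem Chief.le (h : Chief H V U) : V ≤ U := h.lt.le

theorem Chief.nml (h : Chief H V U) : V ⊴ U := h.nmlV.of_le h.le h.nmlU.le

theorem Chief.quo_ne_bot (h : Chief H V U) : quo U V ≠ ⊥ := fun e =>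
  h.lt.not_ge ((quo_eq_bot h.nml.norm).1 e)

/-- MathComp `chief_factor_minnormal`. -/
theorem Chief.minNml (h : Chief H V U) : MinNml (quo U V) (quo H V) := by
  refine ⟨h.quo_ne_bot, quo_norm V h.nmlU.norm, fun W h1 h2 h3 => ?_⟩
  rcases h.max (coq V W) (le_coq W) (coq_le_of_le_quo h.nml h1) (norm_coq h.nmlV.norm h3) with
    e | e
  · refine absurd ?_ h2
    rw [← quo_coq W, e, quo_self]
  · rw [← quo_coq W, e]

theorem chief_of_minNml (hV : V ⊴ H) (hU : U ≤ H) (hVU : V ≤ U)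
    (h : MinNml (quo U V) (quo H V)) : Chief H V U := by
  have hVU' : V ⊴ U := hV.of_le hVU hU
  refine ⟨lt_of_le_of_ne hVU fun e => h.ne_bot (by rw [← e, quo_self]), hV,
    ⟨hU, norm_of_quo hV.norm hVU' h.norm⟩, fun W h1 h2 h3 => ?_⟩
  have hW : V ⊴ W := hV.of_le h1 (h2.trans hU)
  rcases h.eq_or (quo_mono V h2) (quo_norm V h3) with e | e
  · exact Or.inl (le_antisymm ((quo_eq_bot hW.norm).1 e) h1)
  · exact Or.inr (quo_inj hW hVU' e)

theorem chief_coq (hV : V ⊴ H) {Y : Subgroup (QN V)} (hY : Y ≤ quo H V)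
    (h : MinNml Y (quo H V)) : Chief H V (coq V Y) :=
  chief_of_minNml hV (coq_le_of_le_quo hV hY) (le_coq Y) (by rwa [quo_coq])

theorem chief_bot_iff : Chief H ⊥ U ↔ MinNml U H ∧ U ≤ H :=
  ⟨fun h => ⟨⟨h.lt.ne', h.nmlU.norm, fun W h1 h2 h3 =>
      (h.max W bot_le h1 h3).resolve_left h2⟩, h.nmlU.le⟩,
    fun h => ⟨bot_lt_iff_ne_bot.2 h.1.ne_bot, Nml.bot H, ⟨h.2, h.1.norm⟩,
      fun _ _ h2 h3 => h.1.eq_or h2 h3⟩⟩

/-- a chief factor above `V`. -/
theorem exists_chief_above [Finite G] (hV : V ⊴ H) (hU : U ⊴ H) (h : V < U) :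
    ∃ W, Chief H V W ∧ W ≤ U := by
  obtain ⟨W, h1, h2, h3⟩ := exists_min (P := fun W => V < W ∧ W ⊴ H) ⟨h, hU⟩
  refine ⟨W, ⟨h2.1, hV, h2.2, fun X h4 h5 h6 => ?_⟩, h1⟩
  by_cases e : X = V
  · exact Or.inl e
  · exact Or.inr (h3 X ⟨lt_of_le_of_ne h4 (Ne.symm e), h5.trans h2.2.le, h6⟩ h5)

/-- a chief factor below `U` (MathComp `chief_factor_exists`). -/
theorem exists_chief_below [Finite G] (hV : V ⊴ H) (hU : U ⊴ H) (h : V < U) :
    ∃ W, Chief H W U ∧ V ≤ W := by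
  obtain ⟨W, h1, h2, h3⟩ := exists_max (P := fun W => W < U ∧ W ⊴ H) ⟨h, hV⟩
  refine ⟨W, ⟨h2.1, h2.2, hU, fun X h4 h5 h6 => ?_⟩, h1⟩
  by_cases e : X = U
  · exact Or.inr e
  · exact Or.inl (h3 X ⟨lt_of_le_of_ne h5 e, h5.trans hU.le, h6⟩ h4)

/-- induction along a chief series from `V` to `U`. -/
theorem chief_ind [Finite G] {P : Subgroup G → Prop} (hV : V ⊴ H) (hU : U ⊴ H) (hVU : V ≤ U)
    (h0 : P V) (hs : ∀ W X, Chief H W X → V ≤ W → X ≤ U → P W → P X) : P U := by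
  induction U using subgroup_ind with
  | h U ih =>
    by_cases e : V = U
    · exact e ▸ h0
    · obtain ⟨W, h1, h2⟩ := exists_chief_below hV hU (lt_of_le_of_ne hVU e)
      exact hs W U h1 h2 le_rfl (ih W h1.lt h1.nmlV h2 fun A B h3 h4 h5 h6 =>
        hs A B h3 h4 (h5.trans h1.le) h6)

/-- MathComp `sol_chief_abelem`. -/
theorem Chief.elem [Finite G] (h : Chief H V U) (hs : Sol U) :
    ∃ p, p.Prime ∧ IsElementaryAbelian p (quo U V) :=
  h.minNml.elem (hs.quo V)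

theorem Chief.elem_of_dvd [Finite G] (h : Chief H V U) (hs : Sol U) (hp : p.Prime)
    (hd : p ∣ V.relIndex U) : IsElementaryAbelian p (quo U V) :=
  h.minNml.elem_of_dvd (hs.quo V) hp (by rwa [card_quo h.nml.norm])

theorem Chief.cj (h : Chief H V U) (g : G) : Chief (cj g H) (cj g V) (cj g U) :=
  ⟨cj_lt_cj.2 h.lt, h.nmlV.cj g, h.nmlU.cj g, fun W h1 h2 h3 => by
    have h4 := norm_cj h3 g⁻¹
    rw [cj_inv_cj] at h4
    rcases h.max (H24.cj g⁻¹ W) (cj_le_iff.1 h1) (le_cj_iff.1 h2) h4 with e | e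
    · exact Or.inl (by rw [← e, cj_cj_inv])
    · exact Or.inr (by rw [← e, cj_cj_inv])⟩

/-- the Fitting subgroup centralises every chief factor. -/
theorem Chief.comm_Fitting_le [Finite G] (h : Chief H V U) : ⁅U, F[H]⁆ ≤ V := by
  rw [← quo_cents h.nml.norm ((Fitting_le H).trans h.nmlV.norm)]
  exact (h.minNml.le_C_Fitting (quo_mono V h.nmlU.le)).trans (C_anti (quo_Fitting_le H V))

end MinNml

/-! ## Semiregular and semiprime actions, Frobenius groups -/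

section Semireg

variable {A B H K L M X : Subgroup G} {x y : G}

theorem Semireg.eq_one (h : Semireg K H) (hx : x ∈ H) (h1 : x ≠ 1) (hy : y ∈ K)
    (hc : y * x = x * y) : y = 1 :=
  mem_bot.1 (h x hx h1 ▸ mem_inf.2 ⟨hy, mem_C1.2 hc⟩)

theorem semireg_iff : Semireg K H ↔ ∀ x ∈ H, x ≠ 1 → ∀ y ∈ K, y * x = x * y → y = 1 :=
  ⟨fun h _ hx h1 _ hy hc => h.eq_one hx h1 hy hc, fun h x hx h1 =>
    eq_bot_iff.2 fun y hy => mem_bot.2 (h x hx h1 y (mem_inf.1 hy).1 (mem_C1.1 (mem_inf.1 hy).2))⟩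

/-- MathComp `semiregular_sym`. -/
theorem Semireg.symm (h : Semireg K H) : Semireg H K :=
  semireg_iff.2 fun _ hx h1 _ hy hc => by_contra fun h2 => h1 (h.eq_one hy h2 hx hc.symm)

/-- MathComp `semiregularS`. -/
theorem Semireg.mono (h : Semireg K H) (hA : A ≤ K) (hB : B ≤ H) : Semireg A B :=
  fun x hx h1 => eq_bot_of_le (h x (hB hx) h1) (inf_le_inf_right _ hA)

theorem semireg_bot_left (H : Subgroup G) : Semireg ⊥ H := fun _ _ _ => bot_inf_eq _

theorem semireg_bot_right (K : Subgroup G) : Semireg K ⊥ := (semireg_bot_left K).symm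

/-- MathComp `cent_semiregular`. -/
theorem Semireg.inf_C (h : Semireg K H) (hX : X ≤ H) (h1 : X ≠ ⊥) : K ⊓ C[X] = ⊥ := by
  obtain ⟨x, hx, hx1⟩ := exists_ne_one h1
  exact eq_bot_of_le (h x (hX hx) hx1) (inf_le_inf_left K (C_le_C1 hx))

/-- MathComp `semiregular_prime`. -/
theorem semireg_of_prime (hp : (Nat.card H).Prime) (h : K ⊓ C[H] = ⊥) : Semireg K H :=
  fun _ hx h1 => C_eq_C1_of_prime hp hx h1 ▸ h

/-- MathComp `prime_nt_dvdP`-style criterion: it is enough to look at subgroups of prime order. -/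
theorem semireg_of_forall_prime [Finite G]
    (h : ∀ X ≤ H, (Nat.card X).Prime → K ⊓ C[X] = ⊥) : Semireg K H := fun x hx h1 => by
  obtain ⟨X, hX, hp⟩ := exists_card_isPrime (H := zpowers x) (by rwa [Ne, zpowers_eq_bot])
  refine eq_bot_of_le (h X (hX.trans ((zpowers_le (G := G)).2 hx)) hp) (inf_le_inf_left K ?_)
  rw [← C_zpowers]
  exact C_anti hX

theorem Semireg.inf_eq_bot (h : Semireg K H) : K ⊓ H = ⊥ :=
  eq_bot_iff.2 fun x hx => mem_bot.2 (by_contra fun h1 =>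
    h1 (h.eq_one (mem_inf.1 hx).2 h1 (mem_inf.1 hx).1 rfl))

theorem semireg_map_iff {f : G →* G'} (hf : Function.Injective f) :
    Semireg (K.map f) (H.map f) ↔ Semireg K H := by
  rw [semireg_iff, semireg_iff]
  constructor
  · intro h x hx h1 y hy hc
    refine hf ((h _ (mem_map_of_mem f hx) (fun e => h1 (hf (e.trans (map_one f).symm))) _
      (mem_map_of_mem f hy) ?_).trans (map_one f).symm)
    rw [← map_mul, hc, map_mul]
  · rintro h _ ⟨x, hx, rfl⟩ h1 _ ⟨y, hy, rfl⟩ hc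
    rw [h x hx (fun e => h1 (by rw [e, map_one])) y hy (hf (by rwa [map_mul, map_mul])), map_one]

theorem Semireg.cj (h : Semireg K H) (g : G) : Semireg (cj g K) (cj g H) :=
  (semireg_map_iff (conj_injective' g)).2 h

/-- MathComp `regular_norm_dvd_pred`. -/
theorem Semireg.dvd_pred [Finite G] (h : Semireg K H) (hn : H ≤ N[K]) :
    Nat.card H ∣ Nat.card K - 1 :=
  H2.card_dvd_sub_one_of_fpf hn h

/-- MathComp `regular_norm_coprime`. -/
theorem Semireg.coprime [Finite G] (h : Semireg K H) (hn : H ≤ N[K]) :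
    (Nat.card K).Coprime (Nat.card H) :=
  (H2.coprime_card_of_fpf hn h).symm

theorem Semiprime.inf_C (h : Semiprime K H) (hX : X ≤ H) (h1 : X ≠ ⊥) :
    K ⊓ C[X] = K ⊓ C[H] := by
  obtain ⟨x, hx, hx1⟩ := exists_ne_one h1
  exact le_antisymm ((inf_le_inf_left K (C_le_C1 hx)).trans (h x (hX hx) hx1).le)
    (inf_le_inf_left K (C_anti hX))

theorem semiprime_iff : Semiprime K H ↔ ∀ x ∈ H, x ≠ 1 → K ⊓ C{x} ≤ C[H] :=
  ⟨fun h x hx h1 => (h x hx h1).le.trans inf_le_right, fun h x hx h1 =>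
    le_antisymm (le_inf inf_le_left (h x hx h1)) (inf_le_inf_left K (C_le_C1 hx))⟩

/-- MathComp `semiprimeS`. -/
theorem Semiprime.mono (h : Semiprime K H) (hA : A ≤ K) (hB : B ≤ H) : Semiprime A B :=
  semiprime_iff.2 fun x hx h1 => (inf_le_inf_right _ hA).trans
    ((semiprime_iff.1 h x (hB hx) h1).trans (C_anti hB))

theorem semiprime_of_prime (K : Subgroup G) (hp : (Nat.card H).Prime) : Semiprime K H :=
  fun _ hx h1 => C_eq_C1_of_prime hp hx h1 ▸ rfl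

theorem semiprime_of_forall_prime [Finite G]
    (h : ∀ X ≤ H, (Nat.card X).Prime → K ⊓ C[X] ≤ C[H]) : Semiprime K H :=
  semiprime_iff.2 fun x hx h1 => by
    obtain ⟨X, hX, hp⟩ := exists_card_isPrime (H := zpowers x) (by rwa [Ne, zpowers_eq_bot])
    refine (inf_le_inf_left K ?_).trans (h X (hX.trans ((zpowers_le (G := G)).2 hx)) hp)
    rw [← C_zpowers]
    exact C_anti hX

theorem Semireg.semiprime (h : Semireg K H) : Semiprime K H :=
  semiprime_iff.2 fun x hx h1 => (h x hx h1).le.trans bot_le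

/-- MathComp `semiprime_regular`. -/
theorem Semiprime.semireg (h : Semiprime K H) (h1 : K ⊓ C[H] = ⊥) : Semireg K H :=
  fun x hx hx1 => (h x hx hx1).trans h1

theorem Semiprime.cj (h : Semiprime K H) (g : G) : Semiprime (cj g K) (cj g H) := by
  intro x hx h1
  obtain ⟨y, hy, rfl⟩ := mem_cj'.1 hx
  rw [← cj_C1, ← cj_C, ← cj_inf, ← cj_inf, h y hy fun e => h1 (by rw [e, mul_one, mul_inv_cancel])]

theorem Frob.mk' (hn : H ≤ N[K]) (hK : K ≠ ⊥) (hH : H ≠ ⊥) (h : Semireg K H) :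
    Frob (K ⊔ H) K H :=
  ⟨SD.mk_sup hn h.inf_eq_bot, hK, hH, h⟩

theorem Frob.nml (h : Frob M K H) : K ⊴ M := h.sd.nml

theorem Frob.norm (h : Frob M K H) : H ≤ N[K] := h.sd.norm

theorem Frob.ker_le (h : Frob M K H) : K ≤ M := h.sd.left_le

theorem Frob.compl_le (h : Frob M K H) : H ≤ M := h.sd.right_le

theorem Frob.coprime [Finite G] (h : Frob M K H) : (Nat.card K).Coprime (Nat.card H) :=
  h.reg.coprime h.norm

theorem Frob.dvd_pred [Finite G] (h : Frob M K H) : Nat.card H ∣ Nat.card K - 1 :=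
  h.reg.dvd_pred h.norm

theorem Frob.inf_C (h : Frob M K H) : K ⊓ C[H] = ⊥ := h.reg.inf_C le_rfl h.compl_ne

theorem Frob.isHall_ker [Finite G] (h : Frob M K H) : IsHall M K := h.sd.isHall_left h.coprime

theorem Frob.isHall_compl [Finite G] (h : Frob M K H) : IsHall M H := h.sd.isHall_right h.coprime

theorem Frob.cj (h : Frob M K H) (g : G) : Frob (cj g M) (cj g K) (cj g H) :=
  ⟨h.sd.cj g, by rw [Ne, cj_eq_bot]; exact h.ker_ne, by rw [Ne, cj_eq_bot]; exact h.compl_ne,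
    h.reg.cj g⟩

theorem Frob.cj_compl (h : Frob M K H) {g : G} (hg : g ∈ M) : Frob M K (H24.cj g H) := by
  have := h.cj g
  rwa [cj_of_mem hg, cj_of_mem_N (h.nml.norm hg)] at this

theorem Frob.map (h : Frob M K H) {f : G →* G'} (hf : Function.Injective f) :
    Frob (M.map f) (K.map f) (H.map f) :=
  ⟨h.sd.map hf, by rw [Ne, map_eq_bot_iff_of_injective _ hf]; exact h.ker_ne,
    by rw [Ne, map_eq_bot_iff_of_injective _ hf]; exact h.compl_ne, (semireg_map_iff hf).2 h.reg⟩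

/-- MathComp `Frobenius_subl`. -/
theorem Frob.subl (h : Frob M K H) (hA : A ≤ K) (h1 : A ≠ ⊥) (hn : H ≤ N[A]) :
    Frob (A ⊔ H) A H :=
  Frob.mk' hn h1 h.compl_ne (h.reg.mono hA le_rfl)

/-- MathComp `Frobenius_subr`. -/
theorem Frob.subr (h : Frob M K H) (hB : B ≤ H) (h1 : B ≠ ⊥) : Frob (K ⊔ B) K B :=
  Frob.mk' (hB.trans h.norm) h.ker_ne h1 (h.reg.mono le_rfl hB)

/-- the map `k ↦ [k, x]` is onto `K` when `x` acts on `K` without fixed points. -/
theorem exists_conj_of_fpf [Finite G] (hx : x ∈ N[K]) (h : K ⊓ C{x} = ⊥) (hy : y ∈ K) :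
    ∃ k ∈ K, k * x * k⁻¹ = y * x := by
  let φ : K → K := fun k => ⟨k * (x * (k : G)⁻¹ * x⁻¹), mul_mem k.2 (conj_mem hx (inv_mem k.2))⟩
  have hinj : Function.Injective φ := by
    intro a b hab
    have e : (a : G) * (x * (a : G)⁻¹ * x⁻¹) = b * (x * (b : G)⁻¹ * x⁻¹) :=
      congrArg Subtype.val hab
    have h1 : (b : G)⁻¹ * a ∈ K ⊓ C{x} := by
      refine mem_inf.2 ⟨mul_mem (inv_mem b.2) a.2, mem_C1.2 ?_⟩
      calc (b : G)⁻¹ * a * x = (b : G)⁻¹ * (a * (x * (a : G)⁻¹ * x⁻¹)) * (x * a) := by group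
        _ = x * ((b : G)⁻¹ * a) := by rw [e]; group
    rw [h, mem_bot, inv_mul_eq_one] at h1
    exact Subtype.ext h1.symm
  obtain ⟨k, hk⟩ := Finite.surjective_of_injective hinj ⟨y, hy⟩
  have e : (k : G) * (x * (k : G)⁻¹ * x⁻¹) = y := congrArg Subtype.val hk
  exact ⟨k, k.2, by rw [← e]; group⟩

/-- every element of a Frobenius group outside the kernel is conjugate under the kernel to an
element of the complement (MathComp `Frobenius_partition`). -/
theorem Frob.exists_conj [Finite G] (h : Frob M K H) (hx : x ∈ M) (hK : x ∉ K) :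
    ∃ k ∈ K, ∃ y ∈ H, y ≠ 1 ∧ x = k * y * k⁻¹ := by
  obtain ⟨a, ha, b, hb, rfl⟩ := h.sd.isProd.mul x hx
  have hb1 : b ≠ 1 := fun e => hK (by rwa [e, mul_one])
  obtain ⟨k, hk, e⟩ := exists_conj_of_fpf (h.norm hb) (h.reg b hb hb1) ha
  exact ⟨k, hk, b, hb, hb1, e.symm⟩

theorem Frob.inf_C1_of_not_mem [Finite G] (h : Frob M K H) (hx : x ∈ M) (hK : x ∉ K) :
    K ⊓ C{x} = ⊥ := by
  obtain ⟨k, hk, y, hy, hy1, rfl⟩ := h.exists_conj hx hK
  have e := cj_inf k K C{y}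
  rw [h.reg y hy hy1, cj_bot, cj_of_mem hk, cj_C1] at e
  exact e.symm

/-- MathComp `Frobenius_cent1_ker`. -/
theorem Frob.cent1_ker [Finite G] (h : Frob M K H) (hx : x ∈ K) (h1 : x ≠ 1) : M ⊓ C{x} ≤ K :=
  fun y hy => by_contra fun hK => h1 (mem_bot.1 (h.inf_C1_of_not_mem (mem_inf.1 hy).1 hK ▸
    mem_inf.2 ⟨hx, mem_C1_comm.1 (mem_inf.1 hy).2⟩))

theorem Frob.mem_compl_of_conj (h : Frob M K H) {g : G} (hg : g ∈ M) (hx : x ∈ H) (h1 : x ≠ 1)
    (hc : g * x * g⁻¹ ∈ H) : g ∈ H := by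
  obtain ⟨a, ha, b, hb, rfl⟩ := h.sd.isProd.mul g hg
  have hy : b * x * b⁻¹ ∈ H := mul_mem (mul_mem hb hx) (inv_mem hb)
  have hy1 : b * x * b⁻¹ ≠ 1 := by rwa [Ne, conj_eq_one_iff']
  set y := b * x * b⁻¹ with hyd
  have e : a * b * x * (a * b)⁻¹ = a * y * a⁻¹ := by rw [hyd]; group
  rw [e] at hc
  have h2 : a * (y * a⁻¹ * y⁻¹) ∈ K ⊓ H := by
    refine mem_inf.2 ⟨mul_mem ha (conj_mem (h.norm hy) (inv_mem ha)), ?_⟩
    have := mul_mem hc (inv_mem hy)
    rwa [mul_assoc, mul_assoc, ← mul_assoc y] at this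
  rw [h.sd.inf, mem_bot] at h2
  have h3 : a = 1 := h.reg.eq_one hy hy1 ha (by
    calc a * y = a * (y * a⁻¹ * y⁻¹) * (y * a) := by group
      _ = y * a := by rw [h2, one_mul])
  rwa [h3, one_mul]

theorem Frob.cent1_compl (h : Frob M K H) (hx : x ∈ H) (h1 : x ≠ 1) : M ⊓ C{x} ≤ H :=
  fun _ hg => h.mem_compl_of_conj (mem_inf.1 hg).1 hx h1
    ((mem_C1_iff_conj.1 (mem_inf.1 hg).2).symm ▸ hx)

theorem Frob.inf_N_le (h : Frob M K H) (hX : X ≤ H) (h1 : X ≠ ⊥) : M ⊓ N[X] ≤ H := by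
  obtain ⟨x, hx, hx1⟩ := exists_ne_one h1
  exact fun g hg => h.mem_compl_of_conj (mem_inf.1 hg).1 (hX hx) hx1
    (hX (conj_mem (mem_inf.1 hg).2 hx))

/-- the converse of `Frob.cent1_ker` (MathComp `Frobenius_semiregularP` / `FrobeniusWker`). -/
theorem SD.frob_of_cent1 (h : SD K H M) (hK : K ≠ ⊥) (hH : H ≠ ⊥)
    (hc : ∀ x ∈ K, x ≠ 1 → M ⊓ C{x} ≤ K) : Frob M K H :=
  ⟨h, hK, hH, Semireg.symm fun x hx h1 => eq_bot_of_le h.inf
    (le_inf ((inf_le_inf_right _ h.right_le).trans (hc x hx h1)) inf_le_left)⟩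

theorem Frob.comm_eq [Finite G] (h : Frob M K H) : ⁅K, H⁆ = K := by
  refine le_antisymm (comm_le_left h.norm) fun y hy => ?_
  obtain ⟨x, hx, hx1⟩ := exists_ne_one h.compl_ne
  obtain ⟨k, hk, e⟩ := exists_conj_of_fpf (h.norm hx) (h.reg x hx hx1) hy
  have : y = ⁅k, x⁆ := by rw [commutatorElement_def, e]; group
  exact this ▸ commutator_mem_commutator hk hx

theorem Frob.ker_le_der1 [Finite G] (h : Frob M K H) : K ≤ ⁅M, M⁆ :=
  h.comm_eq.ge.trans (commutator_mono h.ker_le h.compl_le)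

theorem comm_eq_of_fpf [Finite G] (hx : x ∈ H) (hn : H ≤ N[K]) (h : K ⊓ C{x} = ⊥) :
    ⁅K, H⁆ = K := by
  refine le_antisymm (comm_le_left hn) fun y hy => ?_
  obtain ⟨k, hk, e⟩ := exists_conj_of_fpf (hn hx) h hy
  have : y = ⁅k, x⁆ := by rw [commutatorElement_def, e]; group
  exact this ▸ commutator_mem_commutator hk hx

/-- a fixed-point-free element stays fixed-point-free on quotients. -/
theorem quo_inf_C1_eq_bot [Finite G] (hx : x ∈ N[K]) (hL : x ∈ N[L]) (hLK : L ⊴ K)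
    (h : K ⊓ C{x} = ⊥) : quo K L ⊓ C{cs L x} = ⊥ := by
  refine eq_bot_iff.2 fun z hz => ?_
  obtain ⟨y, hy, hyN, rfl⟩ := mem_quo.1 (mem_inf.1 hz).1
  have h1 := mem_C1.1 (mem_inf.1 hz).2
  rw [← ap_mul _ hyN hL, ← ap_mul _ hL hyN, cs_eq_cs (mul_mem hyN hL) (mul_mem hL hyN)] at h1
  have h2 : y * x * y⁻¹ * x⁻¹ ∈ L := by
    have h3 := conj_mem (mul_mem hyN hL) (inv_mem h1)
    have e : y * x * ((y * x)⁻¹ * (x * y))⁻¹ * (y * x)⁻¹ = y * x * y⁻¹ * x⁻¹ := by group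
    rwa [e] at h3
  obtain ⟨l, hl, e⟩ := exists_conj_of_fpf hL
    (eq_bot_of_le h (inf_le_inf_right _ hLK.le)) h2
  have h4 : l⁻¹ * y ∈ K ⊓ C{x} := by
    refine mem_inf.2 ⟨mul_mem (inv_mem (hLK.le hl)) hy, mem_C1.2 ?_⟩
    calc l⁻¹ * y * x = l⁻¹ * (y * x * y⁻¹ * x⁻¹ * x) * y := by group
      _ = x * (l⁻¹ * y) := by rw [← e]; group
  rw [h, mem_bot, inv_mul_eq_one] at h4
  have _ := hx
  rw [mem_bot, cs_eq_one hyN]
  exact h4 ▸ hl

theorem Semireg.quo [Finite G] (h : Semireg K H) (hn : H ≤ N[K]) (hL : L ⊴ K) (hHL : H ≤ N[L]) :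
    Semireg (quo K L) (quo H L) := by
  intro z hz h1
  obtain ⟨x, hx, hxN, rfl⟩ := mem_quo.1 hz
  exact quo_inf_C1_eq_bot (hn hx) hxN hL (h x hx fun e => h1 (by rw [e]; exact ap_one _))

/-- MathComp `Frobenius_proper_quotient`. -/
theorem Frob.quo [Finite G] (h : Frob M K H) (hL : L ⊴ M) (hLK : L < K) :
    Frob (quo M L) (quo K L) (quo H L) := by
  have hLK' : L ⊴ K := hL.of_le hLK.le h.ker_le
  refine ⟨h.sd.quo_of_le hLK.le hL.norm, fun e => hLK.not_ge ((quo_eq_bot hLK'.norm).1 e),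
    fun e => h.compl_ne ?_, h.reg.quo h.norm hLK' (h.compl_le.trans hL.norm)⟩
  exact eq_bot_of_le h.sd.inf
    (le_inf (((quo_eq_bot (h.compl_le.trans hL.norm)).1 e).trans hLK.le) le_rfl)

end Semireg

/-! ## TI sets -/

section TI

variable {A B : Set G} {H K L M : Subgroup G} {g x y : G}

theorem conj_mem_set (hg : g ∈ normalizer A) (hx : x ∈ A) : g * x * g⁻¹ ∈ A :=
  (mem_set_normalizer_iff.1 hg x).1 hx

theorem conj_mem_set_iff (hg : g ∈ normalizer A) : g * x * g⁻¹ ∈ A ↔ x ∈ A :=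
  (mem_set_normalizer_iff.1 hg x).symm

theorem le_normalizer_set_iff : L ≤ normalizer A ↔ ∀ g ∈ L, ∀ x ∈ A, g * x * g⁻¹ ∈ A := by
  refine ⟨fun h g hg x hx => conj_mem_set (h hg) hx, fun h g hg => ?_⟩
  refine mem_set_normalizer_iff.2 fun x => ⟨h g hg x, fun hx => ?_⟩
  have := h g⁻¹ (inv_mem hg) _ hx
  rwa [show g⁻¹ * (g * x * g⁻¹) * g⁻¹⁻¹ = x by group] at this

theorem normalizer_diff_one (H : Subgroup G) : normalizer ((H : Set G) \ {1}) = N[H] := by
  ext g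
  rw [mem_set_normalizer_iff, mem_N]
  refine forall_congr' fun x => ?_
  by_cases e : x = 1
  · subst e
    simp [one_mem]
  · simp [e, conj_eq_one_iff']

theorem NormedTI.conj_mem (h : NormedTI A L) (hg : g ∈ L) (hx : x ∈ A) : g * x * g⁻¹ ∈ A :=
  conj_mem_set (h.norm hg) hx

/-- MathComp `normedTI_memJ_P`. -/
theorem NormedTI.conj_mem_iff (h : NormedTI A L) (hx : x ∈ A) : g * x * g⁻¹ ∈ A ↔ g ∈ L :=
  ⟨h.ti x hx g, fun hg => h.conj_mem hg hx⟩

theorem NormedTI.norm_eq (h : NormedTI A L) : normalizer A = L := by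
  refine le_antisymm (fun g hg => ?_) h.norm
  obtain ⟨a, ha⟩ := h.nonempty
  exact h.ti a ha g (conj_mem_set hg ha)

/-- MathComp `cent1_normedTI`. -/
theorem NormedTI.cent1_le (h : NormedTI A L) (hx : x ∈ A) : C{x} ≤ L :=
  fun g hg => h.ti x hx g ((mem_C1_iff_conj.1 hg).symm ▸ hx)

theorem NormedTI.normalizer_le (h : NormedTI A L) (hB : B ⊆ A) (h1 : B.Nonempty) :
    normalizer B ≤ L := by
  obtain ⟨b, hb⟩ := h1
  exact fun g hg => h.ti b (hB hb) g (hB (conj_mem_set hg hb))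

/-- MathComp `normedTI_S`. -/
theorem NormedTI.mono (h : NormedTI A L) (hB : B ⊆ A) (h1 : B.Nonempty)
    (hn : L ≤ normalizer B) : NormedTI B L :=
  ⟨h1, hn, fun a ha g hg => h.ti a (hB ha) g (hB hg)⟩

theorem NormedTI.isTISubset (h : NormedTI A L) : IsTISubset A :=
  fun g hg x hx hgx => absurd (h.norm (h.ti x hx g hgx)) hg

theorem normedTI_of_isTISubset (h : IsTISubset A) (h1 : A.Nonempty) (h0 : (1 : G) ∉ A) :
    NormedTI A (normalizer A) :=
  ⟨h1, le_rfl, fun a ha g hg => by_contra fun hn => h0 (h g hn a ha hg ▸ ha)⟩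

theorem isTISubset_iff_subgroup :
    IsTISubset (H : Set G) ↔ ∀ g, g ∉ N[H] → H ⊓ cj g H = ⊥ := by
  constructor
  · intro h g hg
    refine eq_bot_iff.2 fun x hx => mem_bot.2 ?_
    have h1 := mem_cj.1 (mem_inf.1 hx).2
    exact h g⁻¹ (fun e => hg (inv_mem_iff.1 e)) x (mem_inf.1 hx).1 (by rwa [inv_inv])
  · intro h g hg x hx hgx
    have : g * x * g⁻¹ ∈ H ⊓ cj g H := mem_inf.2 ⟨hgx, conj_mem_cj g hx⟩
    rwa [h g hg, mem_bot, conj_eq_one_iff'] at this

theorem normedTI_subgroup_iff (h1 : H ≠ ⊥) :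
    NormedTI ((H : Set G) \ {1}) N[H] ↔ IsTISubset (H : Set G) := by
  constructor
  · intro h g hg x hx hgx
    by_contra hx1
    exact hg (h.ti x ⟨hx, hx1⟩ g ⟨hgx, fun e => hx1 (conj_eq_one_iff'.1 e)⟩)
  · intro h
    obtain ⟨x, hx, hx1⟩ := exists_ne_one h1
    exact ⟨⟨x, hx, hx1⟩, (normalizer_diff_one H).ge, fun a ha g hg =>
      by_contra fun hn => ha.2 (h g hn a ha.1 hg.1)⟩

theorem normedTI_subgroup (h1 : H ≠ ⊥) (hn : L ≤ N[H])
    (h : ∀ g, H ⊓ cj g H ≠ ⊥ → g ∈ L) : NormedTI ((H : Set G) \ {1}) L := by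
  obtain ⟨x, hx, hx1⟩ := exists_ne_one h1
  exact ⟨⟨x, hx, hx1⟩, (normalizer_diff_one H).symm ▸ hn, fun a ha g hg =>
    h g (ne_bot_of_mem (mem_inf.2 ⟨hg.1, conj_mem_cj g ha.1⟩) hg.2)⟩

theorem NormedTI.mem_of_inf_cj (h : NormedTI ((H : Set G) \ {1}) L) (hg : H ⊓ cj g H ≠ ⊥) :
    g ∈ L := by
  obtain ⟨x, hx, hx1⟩ := exists_ne_one hg
  obtain ⟨y, hy, rfl⟩ := mem_cj'.1 (mem_inf.1 hx).2
  exact h.ti y ⟨hy, fun e => hx1 (conj_eq_one_iff'.2 e)⟩ g ⟨(mem_inf.1 hx).1, hx1⟩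

theorem NormedTI.inf_cj_eq_bot (h : NormedTI ((H : Set G) \ {1}) L) (hg : g ∉ L) :
    H ⊓ cj g H = ⊥ :=
  by_contra fun e => hg (h.mem_of_inf_cj e)

theorem NormedTI.ne_bot (h : NormedTI ((H : Set G) \ {1}) L) : H ≠ ⊥ := by
  obtain ⟨x, hx, hx1⟩ := h.nonempty
  exact ne_bot_of_mem hx hx1

theorem NormedTI.N_eq (h : NormedTI ((H : Set G) \ {1}) L) : N[H] = L :=
  (normalizer_diff_one H).symm.trans h.norm_eq

theorem NormedTI.N_le (h : NormedTI ((H : Set G) \ {1}) L) (hK : K ≤ H) (h1 : K ≠ ⊥) :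
    N[K] ≤ L := by
  obtain ⟨x, hx, hx1⟩ := exists_ne_one h1
  exact fun g hg => h.ti x ⟨hK hx, hx1⟩ g ⟨hK (H24.conj_mem hg hx), fun e =>
    hx1 (conj_eq_one_iff'.1 e)⟩

theorem mem_classSupp : y ∈ classSupp A H ↔ ∃ a ∈ A, ∃ h ∈ H, y = h * a * h⁻¹ := Iff.rfl

theorem subset_classSupp (A : Set G) (H : Subgroup G) : A ⊆ classSupp A H :=
  fun a ha => ⟨a, ha, 1, one_mem H, by simp⟩

theorem conj_mem_classSupp (hx : x ∈ A) (hg : g ∈ H) : g * x * g⁻¹ ∈ classSupp A H :=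
  ⟨x, hx, g, hg, rfl⟩

theorem classSupp_mono (h : A ⊆ B) (h' : H ≤ K) : classSupp A H ⊆ classSupp B K :=
  fun _ ⟨a, ha, g, hg, e⟩ => ⟨a, h ha, g, h' hg, e⟩

theorem norm_classSupp (A : Set G) (H : Subgroup G) : H ≤ normalizer (classSupp A H) :=
  le_normalizer_set_iff.2 fun g hg _ ⟨a, ha, k, hk, e⟩ =>
    ⟨a, ha, g * k, mul_mem hg hk, by rw [e]; group⟩

theorem conj_mem_classSupp_iff (hg : g ∈ H) : g * x * g⁻¹ ∈ classSupp A H ↔ x ∈ classSupp A H :=
  conj_mem_set_iff (norm_classSupp A H hg)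

theorem classSupp_subset (hA : A ⊆ B) (hn : H ≤ normalizer B) : classSupp A H ⊆ B :=
  fun _ ⟨_, ha, _, hk, e⟩ => e ▸ conj_mem_set (hn hk) (hA ha)

theorem classSupp_top (A : Set G) : classSupp A ⊤ = Group.conjugatesOfSet A := by
  ext y
  rw [Group.mem_conjugatesOfSet_iff, mem_classSupp]
  refine exists_congr fun a => and_congr_right fun _ => ?_
  rw [isConj_iff]
  exact ⟨fun ⟨g, _, e⟩ => ⟨g, e.symm⟩, fun ⟨g, e⟩ => ⟨g, mem_top g, e.symm⟩⟩

/-- MathComp `card_support_normedTI`. -/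
theorem NormedTI.ncard_classSupp (h : NormedTI A L) : (classSupp A ⊤).ncard = L.index * A.ncard :=
  classSupp_top A ▸ H2.ncard_conjugatesOfSet_of_TI L A (fun _ hg _ ha => h.conj_mem hg ha)
    fun g a ha hg => h.ti a ha g hg

end TI

/-! ## Coprime action on quotients -/

section CoprimeQuo

variable [Finite G] {A H K L V X : Subgroup G}

/-- MathComp `coprime_quotient_cent` (`V ≤ K`, `V` or `A` solvable). -/
theorem coprime_quo_cent' (hVK : V ≤ K) (hAV : A ≤ N[V]) (hcop : (♯V).Coprime ♯A)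
    (hs : Sol V ∨ Sol A) : quo (K ⊓ C[A]) V = quo K V ⊓ C[quo A V] := by
  refine le_antisymm (img_inf_C_le _ K A) fun z hz => ?_
  obtain ⟨g, hg, hgN, rfl⟩ := mem_quo.1 (mem_inf.1 hz).1
  obtain ⟨v, hv, hc⟩ := H26.coprime_lift_cent hAV hcop hs (g := g) fun a ha => by
    have h1 := mem_C.1 (mem_inf.1 hz).2 _ (cs_mem_quo ha (hAV ha))
    have h2 : cs V ⁅a, g⁆ = 1 := by
      rw [cs, ap_commutator _ (hAV ha) hgN, commutatorElement_eq_one_iff_mul_comm]
      exact h1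
    exact (cs_eq_one (mul_mem (mul_mem (mul_mem (hAV ha) hgN) (inv_mem (hAV ha)))
      (inv_mem hgN))).1 h2
  have e : cs V g = cs V (v * g) := by
    rw [cs, cs, ap_mul _ (norm_self V hv) hgN]
    change _ = cs V v * _
    rw [cs_of_mem hv, one_mul]
  rw [e]
  exact cs_mem_quo (mem_inf.2 ⟨mul_mem (hVK hv) hg, hc⟩) (mul_mem (norm_self V hv) hgN)

theorem coprime_quo_cent (hVK : V ≤ K) (hAV : A ≤ N[V]) (hcop : (♯V).Coprime ♯A) (hs : Sol V) :
    quo (K ⊓ C[A]) V = quo K V ⊓ C[quo A V] :=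
  coprime_quo_cent' hVK hAV hcop (Or.inl hs)

/-- MathComp `coprime_norm_quotient_cent`: no inclusion `V ≤ K`, but `A` normalises `K` and
`K` normalises `V`. -/
theorem coprime_norm_quo_cent (hAK : A ≤ N[K]) (hAV : A ≤ N[V]) (hKV : K ≤ N[V])
    (hcop : (♯V).Coprime ♯A) (hs : Sol V ∨ Sol A) :
    quo (K ⊓ C[A]) V = quo K V ⊓ C[quo A V] := by
  refine le_antisymm (img_inf_C_le _ K A) fun z hz => ?_
  obtain ⟨g, hg, hgN, rfl⟩ := mem_quo.1 (mem_inf.1 hz).1
  obtain ⟨v, hv, hc⟩ := H26.coprime_lift_cent (V := V ⊓ K) (norm_inf hAV hAK)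
    (hcop.coprime_dvd_left (card_dvd inf_le_left)) (H26.sol_or_of_le hs inf_le_left) (g := g)
    fun a ha => by
      have h1 := mem_C.1 (mem_inf.1 hz).2 _ (cs_mem_quo ha (hAV ha))
      have h2 : cs V ⁅a, g⁆ = 1 := by
        rw [cs, ap_commutator _ (hAV ha) hgN, commutatorElement_eq_one_iff_mul_comm]
        exact h1
      exact mem_inf.2 ⟨(cs_eq_one (mul_mem (mul_mem (mul_mem (hAV ha) hgN) (inv_mem (hAV ha)))
        (inv_mem hgN))).1 h2, mul_mem (conj_mem (hAK ha) hg) (inv_mem hg)⟩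
  have hv1 := (mem_inf.1 hv).1
  have _ := hKV
  have e : cs V g = cs V (v * g) := by
    rw [cs, cs, ap_mul _ (norm_self V hv1) hgN]
    change _ = cs V v * _
    rw [cs_of_mem hv1, one_mul]
  rw [e]
  exact cs_mem_quo (mem_inf.2 ⟨mul_mem (mem_inf.1 hv).2 hg, hc⟩)
    (mul_mem (norm_self V hv1) hgN)

/-- element version of `coprime_norm_quo_cent`. -/
theorem coprime_quo_cent1 {x : G} (hxK : x ∈ N[K]) (hxV : x ∈ N[V]) (hKV : K ≤ N[V])
    (hcop : (♯V).Coprime (orderOf x)) : quo (K ⊓ C{x}) V = quo K V ⊓ C{cs V x} := by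
  rw [← C_zpowers, ← C_zpowers, ← quo_zpowers hxV]
  exact coprime_norm_quo_cent ((zpowers_le (G := G)).2 hxK) ((zpowers_le (G := G)).2 hxV) hKV
    (by rwa [card_zpowers']) (Or.inr (cyc_zpowers x).sol)

/-- MathComp `coprime_quotient_norm`-style lemma: `N_K(A) / V = N_{K/V}(A / V)`. -/
theorem coprime_quo_norm (hVK : V ⊴ K) (hAK : A ≤ K) (hcop : (♯V).Coprime ♯A)
    (hs : Sol V ∨ Sol A) : quo (K ⊓ N[A]) V = quo K V ⊓ N[quo A V] := by
  refine le_antisymm (img_inf_N_le _ K A) fun z hz => ?_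
  obtain ⟨g, hg, hgN, rfl⟩ := mem_quo.1 (mem_inf.1 hz).1
  have hAV := hAK.trans hVK.norm
  have h1 : cj g A ≤ V ⊔ A := by
    rw [sup_comm, ← quo_le_quo_iff (cj_le_of_mem hAV hgN) hAV, quo_cj hgN,
      cj_of_mem_N (mem_inf.1 hz).2]
  obtain ⟨v, hv, h2⟩ := H26.SchurZassenhaus_subJ hAV h1 (by rwa [card_cj])
    (hs.imp_right fun h => h.cj g)
  have h3 : v⁻¹ * g ∈ N[A] := mem_N_of_cj_le (by rwa [cj_mul, ← le_cj_iff])
  have e : cs V g = cs V (v⁻¹ * g) := by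
    rw [cs, cs, ap_mul _ (norm_self V (inv_mem hv)) hgN]
    change _ = cs V v⁻¹ * _
    rw [cs_of_mem (inv_mem hv), one_mul]
  rw [e]
  exact cs_mem_quo (mem_inf.2 ⟨mul_mem (hVK.le (inv_mem hv)) hg, h3⟩)
    (mul_mem (norm_self V (inv_mem hv)) hgN)

theorem Semiprime.quo (h : Semiprime K H) (hn : H ≤ N[K]) (hHV : H ≤ N[V]) (hKV : K ≤ N[V])
    (hcop : (♯V).Coprime ♯H) : Semiprime (quo K V) (quo H V) := by
  refine semiprime_iff.2 fun z hz h1 => ?_
  obtain ⟨x, hx, hxN, rfl⟩ := mem_quo.1 hz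
  rw [← coprime_quo_cent1 (hn hx) hxN hKV (hcop.coprime_dvd_right (orderOf_dvd_card' hx))]
  exact quo_cent V (semiprime_iff.1 h x hx fun e => h1 (by rw [e]; exact ap_one _))

theorem Semireg.quo_of_coprime (h : Semireg K H) (hn : H ≤ N[K]) (hHV : H ≤ N[V])
    (hKV : K ≤ N[V]) (hcop : (♯V).Coprime ♯H) : Semireg (H24.quo K V) (H24.quo H V) := by
  intro z hz h1
  obtain ⟨x, hx, hxN, rfl⟩ := mem_quo.1 hz
  rw [← coprime_quo_cent1 (hn hx) hxN hKV (hcop.coprime_dvd_right (orderOf_dvd_card' hx)),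
    h x hx fun e => h1 (by rw [e]; exact ap_one _)]
  exact img_bot _

/-- if `A` centralises `K / V` and acts coprimely on `V`, then `K = V C_K(A)`. -/
theorem coprime_isProd_of_quo_cent (hVK : V ⊴ K) (hAV : A ≤ N[V]) (hcop : (♯V).Coprime ♯A)
    (hs : Sol V ∨ Sol A) (h : quo A V ≤ C[quo K V]) : IsProd V (K ⊓ C[A]) K :=
  H26.coprime_isProd_of_comm_le hAV hcop hs hVK.le ((quo_cents hVK.norm hAV).1 (cents_symm h))

end CoprimeQuo

/-! ## `p`-length one, bridge to `PLengthLE` -/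

theorem plen1_top_iff [Finite G] {p : ℕ} (hp : p.Prime) :
    PLen1 p (⊤ : Subgroup G) ↔ PLengthLE p 1 G := by
  have e1 : (upperPSeries p G 1).1 = pPrimeCore p G := by
    change (pPrimeCore p (G ⧸ (⊥ : Subgroup G))).comap (QuotientGroup.mk' ⊥) = _
    exact H2.comap_pPrimeCore_mk' ⊥ (by simp)
  have key : ∀ (N : Subgroup G) [N.Normal], N = pPrimeCore p G →
      (pCore p (G ⧸ N)).comap (QuotientGroup.mk' N) = pPrimePCore p G := by
    intro N _ e
    subst e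
    rfl
  have e2 : (upperPSeries p G 2).1 = pPrimePCore p G := key _ e1
  have e3 : (upperPSeries p G 3).1 = (pPrimeCore p (G ⧸ (upperPSeries p G 2).1)).comap
    (QuotientGroup.mk' _) := rfl
  unfold PLen1 PLengthLE
  rw [Opp_top hp, relIndex_top_right, ← e2, e3, piNat_compl_iff_coprime hp, Nat.coprime_comm,
    index_eq_card, ← H2.pPrimeCore_eq_top_iff]
  constructor
  · intro h
    rw [h, Subgroup.comap_top]
  · intro h
    rw [← H2.map_comap_mk' _ (pPrimeCore p _), h]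
    exact map_top_of_surjective _ (QuotientGroup.mk'_surjective _)

theorem plen1_iff [Finite G] {p : ℕ} (hp : p.Prime) {H : Subgroup G} :
    PLen1 p H ↔ PLengthLE p 1 H := by
  rw [← plen1_top_iff hp, ← plen1_map_iff H.subtype_injective, map_subtype_top]

end H24
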