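import Mathlib
import Cfsg.Agent.H24.Base5
import Cfsg.Agent.H25.MFT

/-!
# Vocabulary of B & G, section 7: invariant `π`-subgroups, Hypothesis 7.1
-/

set_option autoImplicit false

namespace H24

open Cfsg Subgroup

universe u

variable {G : Type u} [Group G]

/-- Hypothesis 7.1 (MathComp `normed_constrained A`). -/
structure NormedConstrained (A : Subgroup G) : Prop where
  ne_bot : A ≠ ⊥
  ne_top : A ≠ ⊤
  le_core : ∀ X Y : Subgroup G, A ≤ X → X ≠ ⊤ → Y ≤ X → IsPi (primesOf A)ᶜ Y → A ≤ N[Y] →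
    Y ≤ O[(primesOf A)ᶜ, X]

/-- `K` acts transitively by conjugation on `И*(A; q)`. -/
def TransOn (K A : Subgroup G) (q : ℕ) : Prop :=
  ∀ Q₁ ∈ maxInvSubgroups ⊤ A {q}, ∀ Q₂ ∈ maxInvSubgroups ⊤ A {q}, ∃ k ∈ K, Q₂ = cj k Q₁

section MaxNormed

variable {π : Set ℕ} {A B H K Q R : Subgroup G} {q : ℕ}

theorem mem_inv : Q ∈ invSubgroups H A π ↔ Q ≤ H ∧ IsPi π Q ∧ A ≤ N[Q] := Iff.rfl

theorem mem_max_normed_iff : Q ∈ maxInvSubgroups ⊤ A π ↔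
    IsPi π Q ∧ A ≤ N[Q] ∧ ∀ R, IsPi π R → A ≤ N[R] → Q ≤ R → R = Q :=
  ⟨fun h => ⟨h.1.2.1, h.1.2.2, fun R h1 h2 h3 => h.2 R ⟨le_top, h1, h2⟩ h3⟩,
    fun h => ⟨⟨le_top, h.1, h.2.1⟩, fun R hR h3 => h.2.2 R hR.2.1 hR.2.2 h3⟩⟩

theorem max_normed_pi (h : Q ∈ maxInvSubgroups ⊤ A π) : IsPi π Q := h.1.2.1

theorem max_normed_norm (h : Q ∈ maxInvSubgroups ⊤ A π) : A ≤ N[Q] := h.1.2.2

theorem max_normed_max (h : Q ∈ maxInvSubgroups ⊤ A π) (hR : IsPi π R) (hn : A ≤ N[R])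
    (hle : Q ≤ R) : R = Q :=
  h.2 R ⟨le_top, hR, hn⟩ hle

/-- MathComp `max_normed_exists`. -/
theorem max_normed_exists [Finite G] (hQ : IsPi π Q) (hn : A ≤ N[Q]) :
    ∃ R ∈ maxInvSubgroups ⊤ A π, Q ≤ R := by
  obtain ⟨R, h1, h2, h3⟩ := exists_max (P := fun R => IsPi π R ∧ A ≤ N[R]) ⟨hQ, hn⟩
  exact ⟨R, mem_max_normed_iff.2 ⟨h2.1, h2.2, fun S h4 h5 h6 => h3 S ⟨h4, h5⟩ h6⟩, h1⟩

theorem max_normed_nonempty [Finite G] (A : Subgroup G) (π : Set ℕ) :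
    ∃ R, R ∈ maxInvSubgroups ⊤ A π := by
  obtain ⟨R, hR, -⟩ := max_normed_exists (A := A) (isPi_bot π) (by rw [N_bot]; exact le_top)
  exact ⟨R, hR⟩

theorem max_normed_cj (h : Q ∈ maxInvSubgroups ⊤ A π) (g : G) :
    cj g Q ∈ maxInvSubgroups ⊤ (cj g A) π := by
  refine mem_max_normed_iff.2 ⟨(max_normed_pi h).cj g, norm_cj (max_normed_norm h) g,
    fun R h1 h2 h3 => ?_⟩
  have h4 := norm_cj h2 g⁻¹
  rw [cj_inv_cj] at h4
  rw [← max_normed_max h (h1.cj g⁻¹) h4 (cj_le_iff.1 h3), cj_cj_inv]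

/-- MathComp `norm_acts_max_norm`. -/
theorem norm_acts_max_norm (h : Q ∈ maxInvSubgroups ⊤ A π) {g : G} (hg : g ∈ N[A]) :
    cj g Q ∈ maxInvSubgroups ⊤ A π := by
  have := max_normed_cj h g
  rwa [cj_of_mem_N hg] at this

/-- MathComp `trivg_max_norm`. -/
theorem trivg_max_norm (h : (⊥ : Subgroup G) ∈ maxInvSubgroups ⊤ A π) (hQ : IsPi π Q)
    (hn : A ≤ N[Q]) : Q = ⊥ :=
  max_normed_max h hQ hn bot_le

/-- MathComp `max_normed_uniq`. -/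
theorem max_normed_uniq [Finite G] (hQ : Q ∈ maxInvSubgroups ⊤ A π)
    (h : ∀ R ∈ maxInvSubgroups ⊤ A π, R = Q) (hAB : A ≤ B) (hn : B ≤ N[Q]) :
    Q ∈ maxInvSubgroups ⊤ B π ∧ ∀ R ∈ maxInvSubgroups ⊤ B π, R = Q := by
  have h1 : ∀ R, IsPi π R → B ≤ N[R] → R ≤ Q := fun R h2 h3 => by
    obtain ⟨S, hS, hRS⟩ := max_normed_exists h2 (hAB.trans h3)
    exact h S hS ▸ hRS
  exact ⟨mem_max_normed_iff.2 ⟨max_normed_pi hQ, hn, fun R h2 h3 h4 =>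
      le_antisymm (h1 R h2 h3) h4⟩, fun R hR => (max_normed_max hR (max_normed_pi hQ) hn
        (h1 R (max_normed_pi hR) (max_normed_norm hR))).symm⟩

theorem TransOn.mono (h : TransOn K A q) (hK : K ≤ H) : TransOn H A q :=
  fun Q₁ h1 Q₂ h2 => (h Q₁ h1 Q₂ h2).imp fun _ hk => ⟨hK hk.1, hk.2⟩

/-- if a group acting transitively on `И*(A; q)` normalises one member, it is the only one. -/
theorem TransOn.eq_of_norm (h : TransOn K A q) (hQ : Q ∈ maxInvSubgroups ⊤ A {q})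
    (hn : K ≤ N[Q]) (hR : R ∈ maxInvSubgroups ⊤ A {q}) : R = Q := by
  obtain ⟨k, hk, rfl⟩ := h Q hQ R hR
  exact cj_of_mem_N (hn hk)

theorem pcore_primesNotDvd [Finite G] (A X : Subgroup G) :
    O[primesNotDvd (Nat.card A), X] = O[(primesOf A)ᶜ, X] :=
  pcore_congr fun _ hp _ => ⟨fun h h' => h.2 h'.2, fun h => ⟨hp, fun h' => h ⟨hp, h'⟩⟩⟩

theorem isPi_primesNotDvd {n : ℕ} : IsPi (primesNotDvd n) Q ↔ IsPi {p | p.Prime ∧ p ∣ n}ᶜ Q :=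
  ⟨fun h p hp hd h' => (h p hp hd).2 h'.2, fun h p hp hd => ⟨hp, fun h' => h p hp hd ⟨hp, h'⟩⟩⟩

theorem normedConstrained_iff [Finite G] : NormedConstrained A ↔ TransitivityHypothesis A := by
  constructor
  · intro h
    refine ⟨h.ne_bot, h.ne_top, fun X hX hAX => ?_⟩
    rw [pcore_primesNotDvd]
    exact le_antisymm (sSup_le fun Y hY => h.le_core X Y hAX hX hY.1
      (isPi_primesNotDvd.1 hY.2.1) hY.2.2) (le_sSup ⟨pcore_le _ _,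
        isPi_primesNotDvd.2 (pcore_pi _ _), hAX.trans (pcore_nml _ X).norm⟩)
  · rintro ⟨h1, h2, h3⟩
    refine ⟨h1, h2, fun X Y hAX hX hY hπ hn => ?_⟩
    rw [← pcore_primesNotDvd, ← h3 X hX hAX]
    exact le_sSup ⟨hY, isPi_primesNotDvd.2 hπ, hn⟩

theorem primesOf_pgroup {p : ℕ} (hA : IsPi {p} A) (h1 : A ≠ ⊥) : primesOf A = {p} :=
  Set.Subset.antisymm (isPi_iff_primesOf.1 hA)
    (Set.singleton_subset_iff.2 (hA.mem_primesOf h1 le_rfl))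

end MaxNormed

end H24
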