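import Mathlib
import Cfsg.Agent.H24.S07Defs
import Cfsg.Agent.H26.S06

/-!
# B & G, section 7: the transitivity theorems
-/

set_option autoImplicit false

namespace H24

open Cfsg Subgroup
open H25 hiding abl_iff cyc_zpowers cyc_bot exists_prime_dvd_card cyc_cj
open H26 hiding Fitting_stab_chief

universe u

variable {G : Type u} [Group G] [Finite G]

/-- a subgroup of index dividing `p` in a `p`-group is normal. -/
theorem nml_of_relIndex_dvd_prime {p : ℕ} {K P : Subgroup G} (hp : p.Prime) (hP : IsPi {p} P)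
    (hK : K ≤ P) (h : K.relIndex P ∣ p) : K ⊴ P := by
  rcases (Nat.dvd_prime hp).1 h with h | h
  · rw [le_antisymm hK (relIndex_eq_one.1 h)]
    exact Nml.refl P
  · exact nml_of_relIndex_eq_prime hp hP hK h

/-- a `p'`-subgroup of `O_{p',p}(X)` lies in `O_{p'}(X)`. -/
theorem le_pcore_of_le_Opp {p : ℕ} {X Y : Subgroup G} (hY : IsPi {p}ᶜ Y) (h : Y ≤ Opp p X) :
    Y ≤ O[{p}ᶜ, X] :=
  (hall_pcore_core2 {p} X).le_of_nml (pcore_nml_core2 _ _ X).norm hY h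

variable [FT G] {A B H P Q Q₁ Q₂ : Subgroup G} {p q : ℕ}

theorem NormedConstrained.hall (hA : NormedConstrained A) :
    Hall (primesOf A)ᶜ C[A] O[(primesOf A)ᶜ, C[A]] := by
  obtain ⟨L, hL⟩ := Hall_exists (primesOf A)ᶜ (mFT_sol_cent hA.ne_bot)
  have h1 : L ≤ O[(primesOf A)ᶜ, N[A]] :=
    hA.le_core N[A] L (norm_self A) (mFT_norm_proper hA.ne_bot hA.ne_top) (hL.le.trans (C_le_N A))
      hL.pi (norm_of_cent (cents_symm hL.le))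
  have h2 : L ≤ O[(primesOf A)ᶜ, C[A]] := by
    rw [← pcore_inf_nml _ (C_nml_N A)]
    exact le_inf h1 hL.le
  exact hL.of_ge (pcore_le _ _) (pcore_pi _ _) h2

omit [Finite G] [FT G] in
theorem isPi_compl_primesOf (hq : q.Prime) (hqA : ¬ q ∣ ♯A) (hQ : IsPi {q} Q) :
    IsPi (primesOf A)ᶜ Q := hQ.of_mem fun h => hqA h.2

theorem normed_constrained_meet_trans_aux (hA : NormedConstrained A) (hq : q.Prime)
    (hqA : ¬ q ∣ ♯A) (n : ℕ) : ∀ H Q₁ Q₂ : Subgroup G, Nat.card G - ♯(Q₁ ⊓ Q₂) < n → A ≤ H →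
      H ≠ ⊤ → Q₁ ∈ maxInvSubgroups ⊤ A {q} → Q₂ ∈ maxInvSubgroups ⊤ A {q} → Q₁ ⊓ H ≠ ⊥ →
      Q₂ ⊓ H ≠ ⊥ → ∃ k ∈ O[(primesOf A)ᶜ, C[A]], Q₂ = cj k Q₁ := by
  induction n with
  | zero => intro _ _ _ h; omega
  | succ n ih =>
  intro H Q₁ Q₂ hn hAH hH h1 h2 hH1 hH2
  have q1 := max_normed_pi h1
  have q2 := max_normed_pi h2
  have n1 := max_normed_norm h1
  have n2 := max_normed_norm h2
  by_cases e : Q₁ = Q₂
  · exact ⟨1, one_mem _, by rw [cj_one, e]⟩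
  have lt1 : Q₁ ⊓ Q₂ < Q₁ := lt_of_le_of_ne inf_le_left fun h =>
    e (max_normed_max h1 q2 n2 (inf_eq_left.1 h)).symm
  have lt2 : Q₁ ⊓ Q₂ < Q₂ := lt_of_le_of_ne inf_le_right fun h =>
    e (max_normed_max h2 q1 n1 (inf_eq_right.1 h))
  -- choose a better `H`
  obtain ⟨H, hAH, hH, l1, l2⟩ : ∃ H : Subgroup G, A ≤ H ∧ H ≠ ⊤ ∧ Q₁ ⊓ Q₂ < Q₁ ⊓ H ∧
      Q₁ ⊓ Q₂ < Q₂ ⊓ H := by
    by_cases h0 : Q₁ ⊓ Q₂ = ⊥
    · exact ⟨H, hAH, hH, h0 ▸ bot_lt_iff_ne_bot.2 hH1, h0 ▸ bot_lt_iff_ne_bot.2 hH2⟩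
    · exact ⟨N[Q₁ ⊓ Q₂], norm_inf n1 n2,
        mFT_norm_proper h0 (mFT_pgroup_proper (q1.inf_left Q₂)), (q1.nil hq).proper_norm lt1,
        (q2.nil hq).proper_norm lt2⟩
  have hH1 : Q₁ ⊓ H ≠ ⊥ := (bot_le.trans_lt l1).ne'
  have hH2 : Q₂ ⊓ H ≠ ⊥ := (bot_le.trans_lt l2).ne'
  have nLA : A ≤ N[O[(primesOf A)ᶜ, H]] := norm_pcore _ (norm_of_le hAH)
  have coLA : (♯O[(primesOf A)ᶜ, H]).Coprime ♯A := (pcore_pi _ H).coprime' (isPi_primesOf A)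
  have solL : Sol O[(primesOf A)ᶜ, H] := (mFT_sol hH).of_le (pcore_le _ H)
  have Qsyl : ∀ Q ∈ maxInvSubgroups ⊤ A {q},
      ∃ R, Syl q O[(primesOf A)ᶜ, H] R ∧ A ≤ N[R] ∧ Q ⊓ H ≤ R := fun Q hQ => by
    have a1 : IsPi {q} (Q ⊓ H) := (max_normed_pi hQ).inf_left H
    have a2 : A ≤ N[Q ⊓ H] := norm_inf (max_normed_norm hQ) (norm_of_le hAH)
    exact coprime_Hall_subset nLA coLA solL
      (hA.le_core H _ hAH hH inf_le_right (isPi_compl_primesOf hq hqA a1) a2) a1 a2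
  obtain ⟨R₁, s1, m1, r1⟩ := Qsyl Q₁ h1
  obtain ⟨R₂, s2, m2, r2⟩ := Qsyl Q₂ h2
  obtain ⟨h, hh, eR⟩ := coprime_Hall_trans nLA coLA solL s1 m1 s2 m2
  have hhH : h ∈ H := pcore_le _ H hh.1
  have hhK : h ∈ O[(primesOf A)ᶜ, C[A]] := hA.hall.mem_pcore ((pcore_pi _ H).piElt hh.1) hh.2
  obtain ⟨Q₃, h3, r3⟩ := max_normed_exists s2.pi m2
  have h1h : cj h Q₁ ∈ maxInvSubgroups ⊤ A {q} := norm_acts_max_norm h1 (C_le_N A hh.2)
  have hH3 : Q₃ ⊓ H ≠ ⊥ := ne_bot_of_le hH2 (le_inf (r2.trans r3) inf_le_right)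
  have e1 : cj h (Q₁ ⊓ H) = cj h Q₁ ⊓ H := by rw [cj_inf, cj_of_mem hhH]
  have hH1h : cj h Q₁ ⊓ H ≠ ⊥ := by rw [← e1, ne_eq, cj_eq_bot]; exact hH1
  have cle : ∀ X : Subgroup G, ♯X ≤ Nat.card G := fun X => X.card_le_card_group
  have c1 : ♯(Q₁ ⊓ Q₂) < ♯(cj h Q₁ ⊓ Q₃) := by
    refine (card_lt l1).trans_le ?_
    rw [← card_cj h (Q₁ ⊓ H)]
    exact card_le (le_inf (cj_mono h inf_le_left) ((cj_mono h r1).trans (eR ▸ r3)))
  have c2 : ♯(Q₁ ⊓ Q₂) < ♯(Q₃ ⊓ Q₂) :=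
    (card_lt l2).trans_le (card_le (le_inf (r2.trans r3) inf_le_left))
  have := cle (cj h Q₁ ⊓ Q₃)
  have := cle (Q₃ ⊓ Q₂)
  obtain ⟨k₁, hk₁, e3⟩ := ih H (cj h Q₁) Q₃ (by omega) hAH hH h1h h3 hH1h hH3
  obtain ⟨k₂, hk₂, e2⟩ := ih H Q₃ Q₂ (by omega) hAH hH h3 h2 hH3 hH2
  exact ⟨k₂ * (k₁ * h), mul_mem hk₂ (mul_mem hk₁ hhK), by rw [cj_mul, cj_mul, ← e3, ← e2]⟩

/-- 7.1 -/
theorem normed_constrained_meet_trans (hA : NormedConstrained A) (hq : q.Prime) (hqA : ¬ q ∣ ♯A)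
    (hAH : A ≤ H) (hH : H ≠ ⊤) (h1 : Q₁ ∈ maxInvSubgroups ⊤ A {q})
    (h2 : Q₂ ∈ maxInvSubgroups ⊤ A {q}) (hH1 : Q₁ ⊓ H ≠ ⊥) (hH2 : Q₂ ⊓ H ≠ ⊥) :
    ∃ k ∈ O[(primesOf A)ᶜ, C[A]], Q₂ = cj k Q₁ :=
  normed_constrained_meet_trans_aux hA hq hqA _ H Q₁ Q₂ (Nat.lt_succ_self _) hAH hH h1 h2 hH1 hH2

omit [FT G] in
theorem exists_cent1_ne_bot (hB : Abl B) (hnc : ¬ Cyc B) (hn : B ≤ N[Q]) (hc : (♯Q).Coprime ♯B)
    (h1 : Q ≠ ⊥) : ∃ z ∈ B, z ≠ 1 ∧ Q ⊓ C{z} ≠ ⊥ := by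
  by_contra h
  push Not at h
  exact h1 (le_bot_iff.1 (coprime_abelian_gen_cent1 hB hnc hn hc fun a ha a1 => (h a ha a1).le))

omit [FT G] in
theorem max_normed_eq_of_bot {π : Set ℕ} (h1 : Q₁ ∈ maxInvSubgroups ⊤ A π)
    (h2 : Q₂ ∈ maxInvSubgroups ⊤ A π) (h : Q₁ = ⊥ ∨ Q₂ = ⊥) : Q₂ = Q₁ := by
  rcases h with rfl | rfl
  · exact trivg_max_norm h1 (max_normed_pi h2) (max_normed_norm h2)
  · exact (trivg_max_norm h2 (max_normed_pi h1) (max_normed_norm h1)).symm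

/-- 7.2 -/
theorem normed_constrained_rank3_trans (hA : NormedConstrained A) (hq : q.Prime) (hqA : ¬ q ∣ ♯A)
    (hr : 3 ≤ rank Z[A]) : TransOn O[(primesOf A)ᶜ, C[A]] A q := by
  obtain ⟨p, hp, B, hB⟩ := rank_geP.1 hr
  intro Q₁ h1 Q₂ h2
  by_cases h0 : Q₁ = ⊥ ∨ Q₂ = ⊥
  · exact ⟨1, one_mem _, by rw [cj_one, max_normed_eq_of_bot h1 h2 h0]⟩
  push Not at h0
  have hBA : B ≤ A := hB.le.trans inf_le_left
  have cop : ∀ Q ∈ maxInvSubgroups ⊤ A {q}, (♯Q).Coprime ♯B := fun Q hQ =>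
    (isPi_compl_primesOf hq hqA (max_normed_pi hQ)).coprime' ((isPi_primesOf A).of_le hBA)
  obtain ⟨D, hDB, ⟨a, ha, hD⟩, hD1⟩ : ∃ D ≤ B, (∃ a ∈ B, B ≤ D ⊔ zpowers a) ∧ Q₁ ⊓ C[D] ≠ ⊥ := by
    by_contra h
    push Not at h
    exact h0.1 (le_bot_iff.1 (coprime_abelian_gen_cent hB.abl (hBA.trans (max_normed_norm h1))
      (cop Q₁ h1) fun D hD hx => (h D hD (by
        obtain ⟨a, ha, h'⟩ := hx
        exact ⟨a, ha, h'⟩)).le))
  have hnc : ¬ Cyc D := fun hc => by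
    have d1 : ♯D ∣ p := (hB.elem.mono hDB).card_dvd_of_cyc hc
    have d2 : ♯(zpowers a) ∣ p := (hB.elem.mono (zpowers_le.2 ha)).card_dvd_of_cyc (cyc_zpowers a)
    have d3 : ♯B ∣ p * p :=
      ((card_dvd hD).trans (isProd_sup (hB.abl.norm (zpowers_le.2 ha) hDB)).card_dvd).trans
        (mul_dvd_mul d1 d2)
    rw [hB.card, ← pow_two] at d3
    have := (Nat.pow_dvd_pow_iff_le_right hp.one_lt).1 d3
    omega
  obtain ⟨z, hz, z1, hz2⟩ := exists_cent1_ne_bot (hB.abl.of_le hDB) hnc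
    ((hDB.trans hBA).trans (max_normed_norm h2)) ((cop Q₂ h2).coprime_dvd_right (card_dvd hDB)) h0.2
  exact normed_constrained_meet_trans hA hq hqA
    (mem_C_iff_le_C1.1 (hB.le (hDB hz)).2) (mFT_cent1_proper z1) h1 h2
    (ne_bot_of_le hD1 (inf_le_inf_left _ (C_le_C1 hz))) hz2

/-- 7.3 -/
theorem normed_constrained_rank2_trans (hA : NormedConstrained A) (hq : q.Prime) (hqA : ¬ q ∣ ♯A)
    (hqC : q ∣ ♯C[A]) (hr : 2 ≤ rank Z[A]) : TransOn O[(primesOf A)ᶜ, C[A]] A q := by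
  obtain ⟨p, hp, B, hB⟩ := rank_geP.1 hr
  have hBA : B ≤ A := hB.le.trans inf_le_left
  obtain ⟨R₀, hR₀⟩ := Sylow_exists hq C[A]
  obtain ⟨R, hR, hR₀R⟩ := max_normed_exists hR₀.pi (norm_of_cent (cents_symm hR₀.le))
  have hRC : R ⊓ C[A] ≠ ⊥ := ne_bot_of_le (hR₀.ne_bot hq rfl hqC) (le_inf hR₀R hR₀.le)
  have key : ∀ Q ∈ maxInvSubgroups ⊤ A {q}, ∃ k ∈ O[(primesOf A)ᶜ, C[A]], Q = cj k R := by
    intro Q hQ
    have hQ1 : Q ≠ ⊥ := fun e =>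
      hRC (by rw [← max_normed_eq_of_bot hR hQ (Or.inr e), e, bot_inf_eq])
    obtain ⟨z, hz, z1, hz2⟩ := exists_cent1_ne_bot hB.abl (hB.not_cyc hp le_rfl)
      (hBA.trans (max_normed_norm hQ))
      ((isPi_compl_primesOf hq hqA (max_normed_pi hQ)).coprime' ((isPi_primesOf A).of_le hBA)) hQ1
    exact normed_constrained_meet_trans hA hq hqA (mem_C_iff_le_C1.1 (hB.le hz).2)
      (mFT_cent1_proper z1) hR hQ (ne_bot_of_le hRC (inf_le_inf_left _ (C_le_C1 (hBA hz)))) hz2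
  intro Q₁ h1 Q₂ h2
  obtain ⟨k₁, hk₁, rfl⟩ := key Q₁ h1
  obtain ⟨k₂, hk₂, rfl⟩ := key Q₂ h2
  exact ⟨k₂ * k₁⁻¹, mul_mem hk₂ (inv_mem hk₁), by rw [cj_mul, cj_inv_cj]⟩

/-- the inductive step of 7.4. -/
theorem normed_trans_step (hA : NormedConstrained A) (hq : q.Prime) (hqA : ¬ q ∣ ♯A)
    (hAB : A ≤ B) (hB : B ≠ ⊤) (hBP : B ⊴ P) (hP : IsPi (primesOf A) P)
    (htr : TransOn O[(primesOf A)ᶜ, C[B]] B q)
    (hsub : maxInvSubgroups ⊤ B {q} ⊆ maxInvSubgroups ⊤ A {q}) :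
    TransOn O[(primesOf A)ᶜ, C[P]] P q ∧ maxInvSubgroups ⊤ P {q} ⊆ maxInvSubgroups ⊤ B {q} := by
  set K := O[(primesOf A)ᶜ, C[B]] with hK
  have B1 : B ≠ ⊥ := ne_bot_of_le hA.ne_bot hAB
  have nKP : P ≤ N[K] := norm_pcore _ (norm_C hBP.norm)
  have piK : IsPi (primesOf A)ᶜ K := pcore_pi _ _
  have hKP : K ⊔ P ≤ N[B] := sup_le ((pcore_le _ _).trans (C_le_N B)) hBP.norm
  have solKP : Sol (K ⊔ P) := (mFT_sol_norm B1 hB).of_le hKP
  have hallP : Hall (primesOf A) (K ⊔ P) P := (isProd_sup nKP).hall_right piK hP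
  obtain ⟨Q, hQ, nQP⟩ : ∃ Q ∈ maxInvSubgroups ⊤ B {q}, P ≤ N[Q] := by
    obtain ⟨Q₀, hQ₀⟩ := max_normed_nonempty B {q}
    have pr : IsProd K ((K ⊔ P) ⊓ N[Q₀]) (K ⊔ P) := isProd_of_trans le_sup_left fun m hm =>
      htr Q₀ hQ₀ _ (norm_acts_max_norm hQ₀ (hKP hm))
    obtain ⟨L, hL⟩ := Hall_exists (primesOf A) (solKP.of_le pr.right_le)
    obtain ⟨g, hg, hPg⟩ := Hall_subJ solKP
      (hL.of_idx pr.right_le (piK.piNat.dvd pr.symm.relIndex_dvd)) le_sup_right hP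
    refine ⟨cj g Q₀, norm_acts_max_norm hQ₀ (hKP hg), hPg.trans ?_⟩
    rw [← cj_N]
    exact cj_mono g (hL.le.trans inf_le_right)
  have hPB : maxInvSubgroups ⊤ P {q} ⊆ maxInvSubgroups ⊤ B {q} := by
    intro R hR
    have qR := max_normed_pi hR
    have nRP := max_normed_norm hR
    by_cases R1 : R = ⊥
    · subst R1
      rwa [trivg_max_norm hR (max_normed_pi hQ) nQP] at hQ
    obtain ⟨R', hR', hRR'⟩ := max_normed_exists qR (hBP.le.trans nRP)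
    have qR' := max_normed_pi hR'
    have nRA : A ≤ N[R] := (hAB.trans hBP.le).trans nRP
    have prN : N[R] ≠ ⊤ := mFT_norm_proper R1 (mFT_pgroup_proper qR)
    have h1 : R' ⊓ N[R] ≤ O[(primesOf A)ᶜ, N[R]] :=
      hA.le_core _ _ nRA prN inf_le_right (isPi_compl_primesOf hq hqA (qR'.inf_left _))
        (norm_inf (hAB.trans (max_normed_norm hR')) (norm_N nRA))
    have h2 : R ≤ R' ⊓ N[R] := le_inf hRR' (norm_self R)
    obtain ⟨S, hS, nS, hRS⟩ := coprime_Hall_subset (norm_pcore _ (norm_N nRP))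
      ((pcore_pi _ _).coprime' hP) ((mFT_sol prN).of_le (pcore_le _ _)) (h2.trans h1) qR nRP
    rw [max_normed_max hR hS.pi nS hRS] at hS
    rwa [(qR'.nil hq).eq_of_norm_le hRR' (hS.eq_of_le (qR'.inf_left _) h2 h1).le]
  refine ⟨fun Q₁ h1 Q₂ h2 => ?_, hPB⟩
  obtain ⟨k, hk, e⟩ := htr Q₁ (hPB h1) Q₂ (hPB h2)
  have hT1 : Hall (primesOf A) ((K ⊔ P) ⊓ N[Q₂]) P :=
    hallP.of_le (le_inf le_sup_right (max_normed_norm h2)) inf_le_left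
  have hT2 : Hall (primesOf A) ((K ⊔ P) ⊓ N[Q₂]) (cj k P) := by
    have := hallP.cj_mem (mem_sup_left hk)
    refine this.of_le (le_inf this.le ?_) inf_le_left
    rw [e]
    exact norm_cj (max_normed_norm h1) k
  obtain ⟨h, hh, eP⟩ := Hall_trans (solKP.of_le inf_le_left) hT2 hT1
  obtain ⟨x, hx, k', hk', rfl⟩ := (isProd_sup nKP).symm.mul h hh.1
  have hk'N : k' ∈ N[Q₂] := by
    have := mul_mem (inv_mem (max_normed_norm h2 hx)) hh.2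
    rwa [inv_mul_cancel_left] at this
  have hN : k' * k ∈ N[P] := by
    rw [mem_N_iff_cj, cj_mul]
    have := congrArg (cj x⁻¹) eP
    rw [cj_mul, cj_inv_cj, cj_of_mem (inv_mem hx)] at this
    exact this.symm
  have hC : k' * k ∈ K ⊓ C[P] := by
    rw [← coprime_norm_cent nKP (piK.coprime' hP)]
    exact ⟨mul_mem hk' hk, hN⟩
  exact ⟨k' * k, pcore_inf_le _ (C_anti hBP.le) hC, by rw [cj_mul, ← e, cj_of_mem_N hk'N]⟩

/-- 7.4 -/
theorem normed_trans_superset (hA : NormedConstrained A) (hq : q.Prime) (hqA : ¬ q ∣ ♯A)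
    (hAP : Sbn A P) (hP : IsPi (primesOf A) P) (htr : TransOn O[(primesOf A)ᶜ, C[A]] A q) :
    O[(primesOf A)ᶜ, C[A]] ⊓ C[P] = O[(primesOf A)ᶜ, C[P]] ∧
      TransOn O[(primesOf A)ᶜ, C[P]] P q ∧
      maxInvSubgroups ⊤ P {q} ⊆ maxInvSubgroups ⊤ A {q} ∧
      ∀ Q ∈ maxInvSubgroups ⊤ P {q}, P ⊓ ⁅N[P], N[P]⁆ ≤ ⁅N[Q], N[Q]⁆ ∧
        IsProd O[(primesOf A)ᶜ, C[P]] (N[P] ⊓ N[Q]) N[P] := by
  have main : ∀ P : Subgroup G, Sbn A P → IsPi (primesOf A) P →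
      TransOn O[(primesOf A)ᶜ, C[P]] P q ∧ maxInvSubgroups ⊤ P {q} ⊆ maxInvSubgroups ⊤ A {q} := by
    intro P
    induction P using subgroup_ind with
    | h P ih =>
    intro hAP hP
    rcases hAP.eq_or with rfl | ⟨B, hAB, hBP, hlt⟩
    · exact ⟨htr, subset_rfl⟩
    obtain ⟨h1, h2⟩ := ih B hlt hAB (hP.of_le hBP.le)
    obtain ⟨h3, h4⟩ := normed_trans_step hA hq hqA hAB.le hlt.ne_top hBP hP h1 h2
    exact ⟨h3, h4.trans h2⟩
  obtain ⟨h1, h2⟩ := main P hAP hP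
  refine ⟨le_antisymm (pcore_inf_le _ (C_anti hAP.le)) (le_inf (hA.hall.le_pcore (pcore_pi _ _)
    ((pcore_le _ _).trans (C_anti hAP.le))) (pcore_le _ _)), h1, h2, fun Q hQ => ?_⟩
  have hn : O[(primesOf A)ᶜ, C[P]] ⊴ N[P] := (C_nml_N P).pcore _
  have pr : IsProd O[(primesOf A)ᶜ, C[P]] (N[P] ⊓ N[Q]) N[P] :=
    isProd_of_trans hn.le fun m hm => h1 Q hQ _ (norm_acts_max_norm hQ hm)
  refine ⟨?_, pr⟩
  rw [pprod_focal_coprime pr hn (le_inf (norm_self P) (max_normed_norm hQ))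
    ((pcore_pi _ _).coprime' hP)]
  exact inf_le_right.trans (der1_mono inf_le_right)

/-- 7.5(a) -/
theorem plength_1_normed_constrained (hp : p.Prime) (h1 : A ≠ ⊥) (hA : PmaxElem p ⊤ A)
    (hl : ∀ M : Subgroup G, M ≠ ⊤ → PLen1 p M) : NormedConstrained A := by
  have pA : IsPi {p} A := hA.elem.isPi hp
  refine ⟨h1, mFT_pgroup_proper pA, fun X Y hAX hX hY hπ hn => ?_⟩
  rw [primesOf_pgroup pA h1] at hπ ⊢
  exact plength1_norm_pmaxElem hp (hA.restrict hAX le_top) (mFT_ne_two (pA.dvd_card h1))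
    (mFT_sol hX) (hl X hX) hY hn hπ

omit [FT G] in
/-- the easy case of 7.5(b): a Sylow subgroup containing `A` as an SCN subgroup lies in `X`. -/
theorem SCN_normed_le_pcore {X Y : Subgroup G} (hp : p.Prime) (hodd : Odd ♯X) (hX : Sol X)
    (hP : Syl p X P) (hA : IsSCN P A) (hY : Y ≤ X) (hY' : IsPi {p}ᶜ Y) (hn : A ≤ N[Y]) :
    Y ≤ O[{p}ᶜ, X] := by
  set K := O[{p}ᶜ, X] with hK
  have nK : X ≤ N[K] := (pcore_nml _ X).norm
  have pA : IsPi {p} A := hP.pi.of_le hA.le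
  have hAX : A ≤ X := hA.le.trans hP.le
  have h0 : O[{p}ᶜ, quo X K] = ⊥ := pcore_quo_pcore _ X
  have a1 : quo A K ≤ O[{p}, quo X K] := by
    rw [← quo_core2]
    exact quo_mono K (odd_p_abelian_constrained hp hodd hX hP hA.abl hA.nml)
  have nY : quo Y K ≤ N[O[{p}, quo X K]] := (quo_mono K hY).trans (pcore_nml _ _).norm
  have a2 : quo A K ≤ C[quo Y K] := by
    rw [← comm_eq_bot, ← le_bot_iff, ← (pcore_pi {p} (quo X K)).inf_eq_bot (hY'.quo K)]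
    exact le_inf ((comm_mono_left a1).trans (comm_le_left nY)) (comm_le_right (quo_norm K hn))
  have a3 : O[{p}, quo X K] ⊓ C[quo A K] ≤ quo A K := by
    have s : Syl p (quo X K) (quo P K) := hP.quo nK
    refine (inf_le_inf_right _ (pcore_le_Hall s)).trans ?_
    rw [← coprime_norm_quo_cent (norm_of_le hA.le) (hAX.trans nK) (hP.le.trans nK)
      ((pcore_pi _ X).coprime' pA) (Or.inr (pA.sol hp)), hA.cent]
  have a4 : quo Y K ≤ C[O[{p}, quo X K]] := by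
    refine coprime_nil_faithful_cent_stab nY ((pcore_pi _ _).coprime (hY'.quo K))
      ((pcore_pi _ _).nil hp) ?_
    exact ((inf_le_inf_left _ (C_anti (le_inf a1 a2))).trans a3).trans (le_inf a1 a2)
  have a5 : quo Y K ≤ O[{p}, quo X K] :=
    (le_inf (quo_mono K hY) a4).trans (cent_pcore_sub hp (hX.quo K) h0)
  rw [← quo_eq_bot (hY.trans nK)]
  exact ((pcore_pi _ _).of_le a5).eq_bot (hY'.quo K)

/-- 7.5(b) -/
theorem SCN_normed_constrained (hp : p.Prime) (hP : Syl p ⊤ P) (hA : SCNn 2 P A) :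
    NormedConstrained A := by
  obtain ⟨hA, hr⟩ := hA
  have pA : IsPi {p} A := hP.pi.of_le hA.le
  have A1 : A ≠ ⊥ := rank_pos_iff.1 (by omega)
  rw [rank_pgroup hp pA] at hr
  obtain ⟨B, hBA, hBP, cB⟩ := normal_pgroup hp hP.pi (hA.nml.omegaOne p) (r := 2) (by
    rw [card_omegaOne_of_abl hp hA.abl]; exact pow_dvd_pow p hr)
  have hB : PnElem p 2 A B := ⟨hBA.trans (omegaOne_le p A), (omegaOne_elem hA.abl).mono hBA, cB⟩
  obtain ⟨z, hz, z1⟩ := exists_ne_one (IsPi.inf_C_ne_bot hp hP.pi (hB.isPi hp) hBP.norm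
    (hB.ne_bot hp (by omega)))
  have pz : IsPi {p} (zpowers z) := (hB.isPi hp).of_le (zpowers_le.2 hz.1)
  have hPz : P ≤ C{z} := mem_C_iff_le_C1.1 hz.2
  have key : ∀ b ∈ B, b ≠ 1 → ∀ Y, Y ≤ C{b} → IsPi {p}ᶜ Y → A ≤ N[Y] → Y ≤ O[{p}ᶜ, C{b}] := by
    intro b hb b1 Y hY hY' hn
    have solb : Sol C{b} := mFT_sol_cent1 b1
    obtain ⟨P₂, hP₂, h12⟩ := Sylow_superset hp (hP.pi.inf_left C[B])
      (inf_le_right.trans (C_le_C1 hb))
    have n12 : P ⊓ C[B] ⊴ P₂ := by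
      refine nml_of_relIndex_dvd_prime hp hP₂.pi h12 ?_
      have i1 : (P ⊓ C[B]).relIndex P ∣ p := by
        rw [inf_relIndex_left]
        exact pgroup_relIndex_cent_abelem2 hp hP.pi hBP.norm hB.elem cB.dvd
      have i2 : ♯P₂ ∣ ♯P := hP.card_dvd hP₂.pi le_top
      rw [← card_mul_relIndex h12, ← card_mul_relIndex (inf_le_left : P ⊓ C[B] ≤ P)] at i2
      exact (Nat.dvd_of_mul_dvd_mul_left (card_pos _) i2).trans i1
    have hzO : zpowers z ≤ Opp p C{b} := by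
      refine le_trans (zpowers_le.2 ?_)
        (odd_p_abelian_constrained hp (mFT_odd _) solb hP₂ (abl_center _) n12.center)
      exact ⟨⟨hBP.le hz.1, hB.le_cent hz.1⟩, C_anti inf_le_left hz.2⟩
    have nYz : zpowers z ≤ N[Y] := (zpowers_le.2 (hB.le hz.1)).trans hn
    have c1 : ⁅Y, zpowers z⁆ ≤ O[{p}ᶜ, C{b}] :=
      le_pcore_of_le_Opp (hY'.of_le (comm_le_left nYz)) ((comm_mono_right hzO).trans
        (comm_le_right (hY.trans (core2_nml _ _ _).norm)))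
    have c2 : Y ⊓ C[zpowers z] ≤ O[{p}ᶜ, C{b}] := by
      have d1 : Y ⊓ C[zpowers z] ≤ O[{p}ᶜ, C[zpowers z]] := by
        rw [C_zpowers]
        exact SCN_normed_le_pcore hp (mFT_odd _) (mFT_sol_cent1 z1) (hP.of_le hPz le_top) hA
          inf_le_right (hY'.inf_left _) (norm_inf hn (norm_of_le (hA.le.trans hPz)))
      refine le_trans ?_ (p'core_cent_pgroup hp pz (hzO.trans (core2_le _ _ _)) solb)
      exact (le_inf d1 (inf_le_inf_right _ hY)).trans (pcore_inf_le _ inf_le_right)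
    rw [← (coprime_cent_prod nYz (hY'.coprime' pz) (solb.of_le hY)).sup_eq]
    exact sup_le c1 c2
  refine ⟨A1, mFT_pgroup_proper pA, fun X Y hAX hX hY hπ hn => ?_⟩
  rw [primesOf_pgroup pA A1] at hπ ⊢
  refine coprime_abelian_gen_cent1 hB.abl (hB.not_cyc hp le_rfl) (hB.le.trans hn)
    (hπ.coprime' (hB.isPi hp)) fun b hb b1 => ?_
  have d1 := key b hb b1 (Y ⊓ C{b}) inf_le_right (hπ.inf_left _)
    (norm_inf hn (norm_of_le (hA.abl.le_C.trans (C_le_C1 (hB.le hb)))))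
  refine le_trans ?_ (p'core_cent_pgroup hp ((hB.isPi hp).of_le (zpowers_le.2 hb))
    (zpowers_le.2 (hAX (hB.le hb))) (mFT_sol hX))
  rw [C_zpowers]
  exact (le_inf d1 (inf_le_inf_right _ hY)).trans (pcore_inf_le _ inf_le_right)

/-- 7.6 -/
theorem Thompson_transitivity (hp : p.Prime) (hq : q.Prime) (hqp : q ≠ p) (hA : SCNnp 3 p A) :
    TransOn O[{p}ᶜ, C[A]] A q := by
  obtain ⟨P, hP, hA, hr⟩ := hA
  have pA : IsPi {p} A := hP.pi.of_le hA.le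
  have A1 : A ≠ ⊥ := rank_pos_iff.1 (by omega)
  have := normed_constrained_rank3_trans (SCN_normed_constrained hp hP ⟨hA, by omega⟩) hq
    (pA.not_dvd hq hqp) (by rwa [hA.abl.center_eq])
  rwa [primesOf_pgroup pA A1] at this

end H24
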