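import Mathlib
import Cfsg.Agent.H24.S07
import Cfsg.Agent.H26.S04

/-!
# B & G, section 8: the Fitting subgroup of a maximal subgroup
-/

set_option autoImplicit false

namespace H24

open Cfsg Subgroup
open H25 hiding abl_iff cyc_zpowers cyc_bot exists_prime_dvd_card cyc_cj
open H26 hiding Fitting_stab_chief

universe u

variable {G : Type u} [Group G] [Finite G]

/-- MathComp `bigcap_p'core`. -/
theorem le_pcore_compl_of_forall {π : Set ℕ} {X Y : Subgroup G} (hY : Y ≤ X)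
    (h : ∀ q, q.Prime → q ∈ π → Y ≤ O[{q}ᶜ, X]) : Y ≤ O[πᶜ, X] := by
  have n : (X ⊓ ⨅ q : {q : ℕ // q.Prime ∧ q ∈ π}, O[{q.1}ᶜ, X]) ⊴ X :=
    nml_inf_of_norm (norm_iInf fun q => (pcore_nml _ X).norm)
  have h1 : Y ≤ ⨅ q : {q : ℕ // q.Prime ∧ q ∈ π}, O[{q.1}ᶜ, X] := le_iInf fun q => h q.1 q.2.1 q.2.2
  refine le_trans (le_inf hY h1) (pcore_max ?_ n)
  intro q hq hd hπ
  have h2 : (⨅ q : {q : ℕ // q.Prime ∧ q ∈ π}, O[{q.1}ᶜ, X]) ≤ O[{q}ᶜ, X] :=
    iInf_le (fun q : {q : ℕ // q.Prime ∧ q ∈ π} => O[{q.1}ᶜ, X]) ⟨q, hq, hπ⟩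
  exact ((pcore_pi {q}ᶜ X).of_le (inf_le_right.trans h2)).mem hq hd rfl

theorem Nil.dvd_card_center {H : Subgroup G} {q : ℕ} (h : Nil H) (hq : q.Prime) (hd : q ∣ ♯H) :
    q ∣ ♯Z[H] := by
  have h1 : Z[O[{q}, H]] ≠ ⊥ := ((pcore_pi _ H).nil hq).center_ne_bot (h.pcore_ne_bot hq rfl hd)
  rw [← h.pcore_center] at h1
  exact ((pcore_pi _ _).dvd_card h1).trans (card_dvd (pcore_le _ _))

/-- to centralise a solvable group coprimely it is enough to centralise its `q`-cores. -/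
theorem coprime_cent_of_pcores {A K : Subgroup G} (hAK : A ≤ N[K]) (hcop : (♯K).Coprime ♯A)
    (hK : Sol K) (h : ∀ q, q.Prime → q ∣ ♯K → O[{q}, K] ≤ C[A]) : A ≤ C[K] :=
  (le_inf le_rfl (cents_symm (Fitting_le_of_pcore_le fun q hq hd =>
    h q hq (hd.trans (card_dvd (Fitting_le K)))))).trans (coprime_cent_Fitting hAK hcop hK)

variable [FT G] {A A₀ F M P Q : Subgroup G} {p q : ℕ}

theorem normed_eq_bot_of_trans (hM : IsCoatom M) (hA : NormedConstrained A) (hq : q.Prime)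
    (hqA : ¬ q ∣ ♯A) (hF : F ⊴ M) (hAF : Sbn A F) (piF : IsPi (primesOf A) F)
    (hK : O[(primesOf A)ᶜ, C[A]] = ⊥) (htr : TransOn O[(primesOf A)ᶜ, C[A]] A q)
    (hO : O[{q}, M] = ⊥) (hQ : IsPi {q} Q) (hn : A ≤ N[Q]) : Q = ⊥ := by
  obtain ⟨-, -, hsub, -⟩ := normed_trans_superset hA hq hqA hAF piF htr
  obtain ⟨R, hR⟩ := max_normed_nonempty F {q}
  have nR : M ≤ N[R] := fun m hm => mem_N_iff_cj.2
    (htr.eq_of_norm (hsub hR) (hK ▸ bot_le) (hsub (norm_acts_max_norm hR (hF.norm hm))))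
  have R1 : R = ⊥ := by
    by_contra R1
    have e := mmax_norm hM R1 (mFT_pgroup_proper (max_normed_pi hR)) nR
    exact R1 (eq_bot_of_le hO (pcore_max (max_normed_pi hR) (e ▸ nml_N R)))
  exact trivg_max_norm (R1 ▸ hsub hR) hQ hn

/-- 8.1(a) -/
theorem non_pcore_Fitting_Uniqueness (hp : p.Prime) (hM : IsCoatom M) (hF : ¬ IsPi {p} F[M])
    (hA : PmaxElem p F[M] A₀) (hr : 3 ≤ prank p A₀) : Uniq (F[M] ⊓ C[A₀]) := by
  set F := F[M] with hFdef
  set A := F ⊓ C[A₀] with hAdef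
  have nilF : Nil F := Fitting_nil M
  have nF : F ⊴ M := Fitting_nml M
  have solM := mmax_sol hM
  have pA₀ : IsPi {p} A₀ := hA.elem.isPi hp
  have sAF : A ≤ F := inf_le_left
  have sAM : A ≤ M := sAF.trans nF.le
  have nilA : Nil A := nilF.of_le sAF
  have sZA : Z[F] ≤ A := inf_le_inf_left _ (C_anti hA.le)
  have sA₀A : A₀ ≤ A := le_inf hA.le hA.elem.le_cent
  have piF : IsPi (primesOf A) F := fun q hq hd =>
    ⟨hq, (nilF.dvd_card_center hq hd).trans (card_dvd sZA)⟩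
  have nZq : ∀ q ∈ primesOf A, N[O[{q}, Z[F]]] = M := fun q hq =>
    mmax_normal hM (nF.center.pcore _) ((nilF.of_le inf_le_left).pcore_ne_bot hq.1 rfl
      (nilF.dvd_card_center hq.1 (hq.2.trans (card_dvd sAF))))
  have sCqM : ∀ q ∈ primesOf A, C[O[{q}, A]] ≤ M := fun q hq =>
    nZq q hq ▸ (C_anti (nilA.pcore_mono _ sZA)).trans (C_le_N _)
  have pi_p : p ∈ primesOf A :=
    ⟨hp, ((prank_pos_iff hp).1 (by omega)).trans (card_dvd sA₀A)⟩
  have A1 : A ≠ ⊥ := ne_bot_of_prime_dvd hp pi_p.2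
  have sCAM : C[A] ≤ M := (C_anti (pcore_le _ A)).trans (sCqM p pi_p)
  have piCA : IsPi (primesOf A) C[A] := by
    intro q hq hd
    by_contra hπ
    obtain ⟨X, hX, cX⟩ := exists_card_prime hq hd
    have qX : IsPi {q} X := isPi_of_card_prime hq cX
    have sAC : A ≤ F ⊓ C[X] := le_inf sAF (cents_symm hX)
    have h1 : X ≤ C[F] := coprime_nil_faithful_cent_stab ((hX.trans sCAM).trans nF.norm)
      (piF.coprime (qX.of_mem hπ)) nilF
      ((inf_le_inf_left _ (C_anti (sA₀A.trans sAC))).trans sAC)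
    exact hπ (piF q hq (cX ▸ card_dvd (le_Fitting_of_cent solM (hX.trans sCAM) h1)))
  have pi_alt : ∀ q, ∃ r ∈ primesOf A, r ≠ q := fun q => by
    by_cases e : p = q
    · subst e
      by_contra h
      push Not at h
      exact hF fun r hr hd => h r (piF r hr hd)
    · exact ⟨p, pi_p, e⟩
  have sNX : ∀ q ∈ primesOf A, ∀ X, A ≤ X → X ≠ ⊤ → O[{q}ᶜ, M] ⊓ X ≤ O[{q}ᶜ, X] := by
    intro q hq X hAX hX
    refine le_trans ?_ (p'core_norm_pgroup hq.1 (pcore_pi {q} Z[F])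
      ((pcore_le _ _).trans (sZA.trans hAX)) (mFT_sol hX))
    rw [nZq q hq]
    exact (le_inf inf_le_left (le_inf inf_le_right (inf_le_left.trans (pcore_le _ M)))).trans
      (pcore_inf_le _ inf_le_right)
  have sArX : ∀ q ∈ primesOf A, ∀ r, r ≠ q → ∀ X, A ≤ X → X ≠ ⊤ → O[{r}, A] ≤ O[{q}ᶜ, X] :=
    fun q hq r hrq X hAX hX => (le_inf (le_pcore_of_le_Fitting ((pcore_pi _ A).compl_of_ne hrq)
      ((pcore_le _ A).trans sAF)) ((pcore_le _ A).trans hAX)).trans (sNX q hq X hAX hX)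
  have cstrA : NormedConstrained A := by
    refine ⟨A1, sub_mmax_proper hM sAM, fun X Y hAX hX hY hπ hn => ?_⟩
    refine le_pcore_compl_of_forall hY fun q _ hq => ?_
    obtain ⟨r, hr, hrq⟩ := pi_alt q
    have h1 : Y ⊓ C[O[{r}, A]] ≤ C[A] := by
      rw [← comm_eq_bot, ← le_bot_iff, ← hπ.inf_eq_bot' piF]
      exact le_inf ((comm_mono_left inf_le_left).trans (comm_le_left hn))
        ((comm_mono_right sAF).trans (comm_le_right ((inf_le_right.trans (sCqM r hr)).trans nF.norm)))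
    have h2 : Y ⊓ C[O[{r}, A]] = ⊥ := (piCA.of_le h1).eq_bot (hπ.inf_left _)
    rw [← (coprime_cent_prod ((pcore_le {r} A).trans hn)
      (hπ.coprime' ((isPi_primesOf A).of_le (pcore_le _ A))) ((mFT_sol hX).of_le hY)).sup_eq, h2,
      sup_bot_eq]
    exact (comm_mono_right (sArX q hq r hrq X hAX hX)).trans
      (comm_le_right (hY.trans (pcore_nml _ X).norm))
  have nby : ∀ q, q.Prime → q ∉ primesOf A → ∀ Q, IsPi {q} Q → A ≤ N[Q] → Q = ⊥ := by
    intro q hq hπ Q hQ hn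
    have hqA : ¬ q ∣ ♯A := fun h => hπ ⟨hq, h⟩
    refine normed_eq_bot_of_trans hM cstrA hq hqA nF (nilF.sbn sAF) piF piCA.pcore_compl_eq_bot
      (normed_constrained_rank3_trans cstrA hq hqA ?_) ?_ hQ hn
    · exact (hr.trans (prank_le_rank hp _)).trans
        (rank_mono (le_inf sA₀A (cents_symm inf_le_right)))
    · exact (piF.of_le (pcore_le_Fitting hq M)).eq_bot ((pcore_pi _ M).of_mem hπ)
  refine (uniqMax_of_forall (M := M) (sub_mmax_proper hM sAM) fun H hH sAH => ?_).isUniq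
  have solH := mmax_sol hH
  have piD : IsPi (primesOf A) F[H] := fun q hq hd => by
    by_contra hπ
    exact (pcore_ne_bot_iff_dvd_Fitting hq).2 hd
      (nby q hq hπ _ (pcore_pi _ H) (sAH.trans (pcore_nml _ H).norm))
  have piD' : ∀ q ∈ primesOf A, O[{q}, H] ≠ ⊥ := fun q hq => by
    rw [pcore_ne_bot_iff_dvd_Fitting hq.1]
    by_contra hd
    have h0 : O[(primesOf F[H])ᶜ, H] = ⊥ := by
      by_contra h0
      exact pcore_Fitting_ne_bot solH h0 (isPi_primesOf F[H]).pcore_compl_eq_bot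
    refine nilA.pcore_ne_bot (π := {q}) hq.1 rfl hq.2 (eq_bot_of_le h0 ?_)
    exact le_pcore_compl_of_forall ((pcore_le _ A).trans sAH) fun r hr hr' =>
      sArX r (piD r hr hr'.2) q (fun e => hd (e ▸ hr'.2)) H sAH hH.1
  have cAD : ∀ q r, q.Prime → r ≠ q → O[{q}, H] ≤ C[O[{r}, A]] := fun q r hq hrq => by
    by_cases h0 : O[{q}, H] = ⊥
    · rw [h0]; exact bot_le
    · exact (pcore_cent_pcore_compl _ H).trans (C_anti (sArX q
        (piD q hq ((pcore_ne_bot_iff_dvd_Fitting hq).1 h0)) r hrq H sAH hH.1))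
  have sDM : O[{p}, H] ≤ M := by
    obtain ⟨r, hr, hrp⟩ := pi_alt p
    exact (cAD p r hp hrp).trans (sCqM r hr)
  have cApH : O[{p}, A] ≤ C[O[{p}ᶜ, H]] :=
    coprime_cent_of_pcores (((pcore_le _ A).trans sAH).trans (pcore_nml _ H).norm)
      ((pcore_pi _ H).coprime' (pcore_pi _ A)) (solH.of_le (pcore_le _ H)) fun q hq hd =>
        ((pcore_nml _ H).pcore_le _).trans
          (cAD q p hq fun e => (pcore_pi {p}ᶜ H).mem hq hd e.symm)
  have sHM : O[{p}ᶜ, H] ≤ M := (cents_symm cApH).trans (sCqM p pi_p)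
  have nDp : N[O[{p}, H]] = H := mmax_normal hH (pcore_nml _ H) (piD' p pi_p)
  have sHp'Mp' : O[{p}ᶜ, H] ≤ O[{p}ᶜ, M] := by
    refine le_trans ?_ (p'core_norm_pgroup hp (pcore_pi {p} H) sDM solM)
    rw [nDp]
    exact (le_inf le_rfl (le_inf sHM (pcore_le _ H))).trans (pcore_inf_le _ inf_le_right)
  have sMp'H : O[{p}ᶜ, M] ≤ H := by
    refine le_trans (cents_symm ?_) ((C_le_N _).trans nDp.le)
    refine coprime_cent_of_pcores (sDM.trans (pcore_nml _ M).norm)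
      ((pcore_pi _ M).coprime' (pcore_pi _ H)) (solM.of_le (pcore_le _ M)) fun q hq hd => ?_
    have hqp : q ≠ p := fun e => (pcore_pi {p}ᶜ M).mem hq hd e
    refine le_trans ?_ (cents_symm (cAD p q hp hqp))
    have h1 : O[{q}, O[{p}ᶜ, M]] ≤ F := ((pcore_nml _ M).pcore_le _).trans (pcore_le_Fitting hq M)
    exact nilA.le_pcore (pcore_pi _ _) (le_inf h1 (cents_symm
      (nilF.cents_of_pi hA.le h1 pA₀ ((pcore_pi _ _).compl_of_ne hqp))))
  have e : O[{p}ᶜ, M] = O[{p}ᶜ, H] :=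
    le_antisymm ((le_inf le_rfl sMp'H).trans (sNX p pi_p H sAH hH.1)) sHp'Mp'
  obtain ⟨r, hr, hrp⟩ := pi_alt p
  have ne : O[{p}ᶜ, M] ≠ ⊥ :=
    ne_bot_of_le (nilA.pcore_ne_bot (π := {r}) hr.1 rfl hr.2) (sArX p pi_p r hrp M sAM hM.1)
  rw [← mmax_normal hM (pcore_nml _ M) ne, e, mmax_normal hH (pcore_nml _ H) (e ▸ ne)]

/-- if `O_{p'}(M) = 1` then `M = N(Z(L(P)))` and `P` is a Sylow subgroup of `G`. -/
theorem mmax_Puig_center (hp : p.Prime) (hM : IsCoatom M) (hO : O[{p}ᶜ, M] = ⊥) (hP : Syl p M P)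
    (h1 : P ≠ ⊥) : N[Z[puigL P]] = M ∧ N[P] ≤ M ∧ Syl p ⊤ P := by
  have e : N[Z[puigL P]] = M := mmax_normal hM (Puig_center_normal hp (mFT_odd _) (mmax_sol hM) hP hO)
    fun h => h1 (trivg_center_Puig (hP.pi.nil hp) h)
  have h2 : N[P] ≤ M := e ▸ norm_center_puigL le_rfl
  exact ⟨e, h2, hP.of_norm_le hp le_top (inf_le_right.trans h2)⟩

/-- 8.1(b) -/
theorem SCN_Fitting_Uniqueness (hp : p.Prime) (hM : IsCoatom M) (hF : IsPi {p} F[M])
    (hP : Syl p M P) (hr : 3 ≤ prank p F[M]) (hA : SCNn 3 P A) :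
    Syl p ⊤ P ∧ A ≤ F[M] ∧ Uniq A := by
  have solM := mmax_sol hM
  have scn := hA.1
  have A1 : A ≠ ⊥ := rank_pos_iff.1 (by have := hA.2; omega)
  have pA : IsPi {p} A := hP.pi.of_le scn.le
  have sAM : A ≤ M := scn.le.trans hP.le
  have Mp'1 : O[{p}ᶜ, M] = ⊥ := by
    by_contra h0
    exact pcore_Fitting_ne_bot solM h0 hF.pcore_compl_eq_bot
  have defF : F[M] = O[{p}, M] := Fitting_eq_pcore hp Mp'1
  have sFP : F[M] ≤ P := defF ▸ pcore_le_Hall hP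
  have sAF : A ≤ F[M] :=
    defF ▸ odd_p_abelian_constrained_pcore hp (mFT_odd _) solM Mp'1 hP scn.abl scn.nml
  have sCFA : F[M] ⊓ C[A] ≤ A := (inf_le_inf_right _ sFP).trans scn.cent.le
  have sCAM : C[A] ≤ M := by
    rw [← mmax_normal hM (Fitting_nml M).center
      ((Fitting_nil M).center_ne_bot (ne_bot_of_le A1 sAF))]
    exact (C_anti ((inf_le_inf_left _ (C_anti sAF)).trans sCFA)).trans (C_le_N _)
  obtain ⟨-, -, sylP⟩ := mmax_Puig_center hp hM Mp'1 hP (ne_bot_of_le A1 scn.le)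
  refine ⟨sylP, sAF, ?_⟩
  have K1 : O[{p}ᶜ, C[A]] = ⊥ := by
    have sKM : O[{p}ᶜ, C[A]] ≤ M := (pcore_le _ _).trans sCAM
    have sAC : A ≤ F[M] ⊓ C[O[{p}ᶜ, C[A]]] := le_inf sAF (cents_symm (pcore_le _ _))
    exact (hF.of_le (le_Fitting_of_cent solM sKM (coprime_nil_faithful_cent_stab
      (sKM.trans (Fitting_nml M).norm) (hF.coprime (pcore_pi _ _)) (Fitting_nil M)
      (((inf_le_inf_left _ (C_anti sAC)).trans sCFA).trans sAC)))).eq_bot (pcore_pi _ _)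
  have eπ := primesOf_pgroup pA A1
  have nby : ∀ X : Subgroup G, Sol X → IsPi {p}ᶜ X → A ≤ N[X] → X = ⊥ := by
    intro X hX hX' hn
    by_contra h1
    obtain ⟨V, q, hV, hVX, hq, eV⟩ := solvable_norm_abelem hX h1 hn
    have hqp : q ≠ p := fun e => (eV.isPi hq).mem_of_ne_bot (hX'.of_le hVX) hV.ne_bot e
    refine hV.ne_bot (normed_eq_bot_of_trans hM (SCN_normed_constrained hp sylP ⟨scn, ?_⟩) hq
      (pA.not_dvd hq hqp) (Fitting_nml M) ((Fitting_nil M).sbn sAF) (eπ ▸ hF) (eπ ▸ K1)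
      (eπ ▸ Thompson_transitivity hp hq hqp ⟨P, sylP, hA⟩)
      (eq_bot_of_le Mp'1 (pcore_le_of_mem M hqp)) (eV.isPi hq) hV.norm)
    have := hA.2
    omega
  refine (uniqMax_of_forall (M := M) (sub_mmax_proper hM sAM) fun H₀ hH₀ sAH₀ => ?_).isUniq
  by_contra ne₀
  obtain ⟨R, sAR, ⟨pR, sRM, H, hH, neH, sRH⟩, mR⟩ := exists_max
    (P := fun R => IsPi {p} R ∧ R ≤ M ∧ ∃ H, IsCoatom H ∧ H ≠ M ∧ R ≤ H)
    ⟨pA, sAM, H₀, hH₀, ne₀, sAH₀⟩
  have R1 : R ≠ ⊥ := ne_bot_of_le A1 sAR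
  have sylH : Syl p H R := by
    by_cases hs : Syl p M R
    · exact (sylP.of_card le_top (hs.card_eq hP)).of_le sRH le_top
    · obtain ⟨Q, pQ, lt, sQM, nQ⟩ := exists_lt_norm_of_not_syl hp pR sRM hs
      obtain ⟨D, hD, sND⟩ := exists_mmax_norm R1 (mFT_pgroup_proper pR)
      have eD : D = M := by
        by_contra neD
        exact lt.ne' (mR Q ⟨pQ, sQM, D, hD, neD, nQ.trans sND⟩ lt.le)
      have s1 : Syl p (H ⊓ M) R := syl_of_max hp pR (le_inf sRH sRM) fun S pS h1 h2 =>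
        (mR S ⟨pS, h2.trans inf_le_right, H, hH, neH, h2.trans inf_le_left⟩ h1).le
      exact s1.of_norm_le hp inf_le_left (inf_le_inf_left _ (eD ▸ sND))
  have Hp'1 : O[{p}ᶜ, H] = ⊥ := nby _ ((mmax_sol hH).of_le (pcore_le _ H)) (pcore_pi _ H)
    ((sAR.trans sRH).trans (pcore_nml _ H).norm)
  obtain ⟨e1, -, sylR⟩ := mmax_Puig_center hp hH Hp'1 sylH R1
  obtain ⟨e2, -, -⟩ := mmax_Puig_center hp hM Mp'1 (sylR.of_le sRM le_top) R1
  exact neH (e1.symm.trans e2)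

omit [FT G] in
theorem exists_SCN3 (hp : p.Prime) (hP : IsPi {p} P) (hodd : Odd ♯P) (hr : 3 ≤ prank p P) :
    ∃ A, SCNn 3 P A := by
  by_contra h
  push Not at h
  have := (rank2_SCN3_empty hp hP hodd).2 h
  rw [rank_pgroup hp hP] at this
  omega

/-- summary of 8.1 -/
theorem Fitting_Uniqueness (hM : IsCoatom M) (hr : 3 ≤ rank F[M]) : Uniq F[M] := by
  obtain ⟨p, hp, hr⟩ := le_rank_iff.1 hr
  have prF : F[M] ≠ ⊤ := sub_mmax_proper hM (Fitting_le M)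
  by_cases hF : IsPi {p} F[M]
  · obtain ⟨P, hP⟩ := Sylow_exists hp M
    obtain ⟨A, hA⟩ := exists_SCN3 hp hP.pi (mFT_odd _)
      (by rw [prank_Syl hp hP]; exact hr.trans (prank_mono hp (Fitting_le M)))
    obtain ⟨-, h1, h2⟩ := SCN_Fitting_Uniqueness hp hM hF hP hr hA
    exact h2.mono h1 prF
  · obtain ⟨A, hA⟩ := (prank_geP hp).1 hr
    obtain ⟨A₀, hA₀, h1⟩ := pmaxElem_exists hA.le hA.elem
    exact (non_pcore_Fitting_Uniqueness hp hM hF hA₀ ((hA.of_le h1).le_prank hp)).mono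
      inf_le_left prF

end H24
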