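import Mathlib

/-!
# Carmichael's presentation of the alternating group (upper bound for the order)
-/

set_option autoImplicit false

namespace H24

open Subgroup

theorem carmichael {G : Type*} [Group G] [Finite G] {ι : Type*} (x : ι → G) (s : Finset ι)
    (h3 : ∀ i ∈ s, x i ^ 3 = 1) (h2 : ∀ i ∈ s, ∀ j ∈ s, i ≠ j → (x i * x j) ^ 2 = 1) :
    2 * Nat.card (closure (x '' s)) ≤ (s.card + 2).factorial := by
  classical
  induction s using Finset.induction_on with
  | empty => simp
  | insert m s hm ih =>
    have ih := ih (fun i hi => h3 i (by simp [hi]))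
      (fun i hi j hj => h2 i (by simp [hi]) j (by simp [hj]))
    set H := closure (x '' s) with hH
    have hx : ∀ j ∈ s, x j ∈ H := fun j hj => subset_closure ⟨j, hj, rfl⟩
    have e3 : ∀ i ∈ insert m s, x i * x i = (x i)⁻¹ := fun i hi => by
      rw [eq_inv_iff_mul_eq_one, ← h3 i hi, pow_succ, pow_two]
    have e2 : ∀ i ∈ insert m s, ∀ j ∈ insert m s, i ≠ j → x i * x j = (x j)⁻¹ * (x i)⁻¹ :=
      fun i hi j hj hij => by
        rw [← mul_inv_rev, eq_inv_iff_mul_eq_one, ← pow_two, h2 i hi j hj hij]
    set y := x m with hy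
    have hmm : m ∈ insert m s := by simp
    have hne : ∀ j ∈ s, m ≠ j := fun j hj h => hm (h ▸ hj)
    let R : Finset G := insert 1 (insert y (insert y⁻¹ (s.image fun i => y⁻¹ * x i)))
    have hR : R.card ≤ s.card + 3 := by
      refine (Finset.card_insert_le _ _).trans (Nat.succ_le_succ ?_)
      refine (Finset.card_insert_le _ _).trans (Nat.succ_le_succ ?_)
      refine (Finset.card_insert_le _ _).trans (Nat.succ_le_succ ?_)
      exact Finset.card_image_le
    have r1 : (1 : G) ∈ R := by simp [R]
    have r2 : y ∈ R := by simp [R]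
    have r3 : y⁻¹ ∈ R := by simp [R]
    have r4 : ∀ i ∈ s, y⁻¹ * x i ∈ R := fun i hi => by
      simp only [R, Finset.mem_insert, Finset.mem_image]
      exact Or.inr (Or.inr (Or.inr ⟨i, hi, rfl⟩))
    have step : ∀ r ∈ R, ∀ j ∈ insert m s, ∃ h ∈ H, ∃ r' ∈ R, r * x j = h * r' := by
      intro r hr j hj
      have hj' := hj
      simp only [R, Finset.mem_insert, Finset.mem_image] at hr hj
      rcases hj with rfl | hj
      · rcases hr with rfl | rfl | rfl | ⟨i, hi, rfl⟩
        · exact ⟨1, one_mem _, y, r2, rfl⟩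
        · exact ⟨1, one_mem _, y⁻¹, r3, by rw [one_mul]; exact e3 _ hmm⟩
        · exact ⟨1, one_mem _, 1, r1, by simp [hy]⟩
        · have hi' : i ∈ insert j s := by simp [hi]
          refine ⟨(x i)⁻¹, inv_mem (hx i hi), y⁻¹ * x i, r4 i hi, ?_⟩
          have a1 := e2 i hi' j hmm (hne i hi).symm
          have a2 := e2 j hmm i hi' (hne i hi)
          have a3 := e3 j hmm
          have a4 := e3 i hi'
          rw [← hy] at a1 a2 a3
          rw [← hy, mul_assoc, a1, ← mul_assoc, ← mul_inv_rev, a3, inv_inv, ← a4, ← mul_assoc, a2,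
            ← mul_assoc, a4]
      · have a2 := e2 m hmm j hj' (hne j hj)
        rw [← hy] at a2
        rcases hr with rfl | rfl | rfl | ⟨i, hi, rfl⟩
        · exact ⟨x j, hx j hj, 1, r1, by simp⟩
        · exact ⟨(x j)⁻¹, inv_mem (hx j hj), y⁻¹, r3, a2⟩
        · exact ⟨1, one_mem _, _, r4 j hj, by simp⟩
        · have hi' : i ∈ insert m s := by simp [hi]
          have a1 := e2 j hj' m hmm (hne j hj).symm
          rw [← hy] at a1
          by_cases hij : i = j
          · subst hij
            exact ⟨x i, hx i hi, y, r2, by rw [mul_assoc, e3 i hi', a1]⟩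
          · have a3 := e2 m hmm i hi' (hne i hi)
            rw [← hy] at a3
            refine ⟨x j * (x i)⁻¹, mul_mem (hx j hj) (inv_mem (hx i hi)), _, r4 i hi, ?_⟩
            rw [mul_assoc, e2 i hi' j hj' hij, ← mul_assoc, ← a1, ← e3 i hi', mul_assoc,
              ← mul_assoc y, a3, e3 i hi']
            group
    have step' : ∀ g, (∃ h ∈ H, ∃ r ∈ R, g = h * r) → ∀ j ∈ insert m s,
        ∃ h ∈ H, ∃ r ∈ R, g * x j = h * r := by
      rintro _ ⟨h, hh, r, hr, rfl⟩ j hj
      obtain ⟨h', hh', r', hr', e⟩ := step r hr j hj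
      exact ⟨h * h', mul_mem hh hh', r', hr', by rw [mul_assoc, e, mul_assoc]⟩
    have all : ∀ g ∈ closure (x '' (insert m s : Finset ι)), ∃ h ∈ H, ∃ r ∈ R, g = h * r := by
      intro g hg
      induction hg using closure_induction_right with
      | one => exact ⟨1, one_mem _, 1, r1, by simp⟩
      | mul_right g _ _ hz ih =>
        obtain ⟨j, hj, rfl⟩ := hz
        exact step' g ih j hj
      | mul_inv_cancel g _ _ hz ih =>
        obtain ⟨j, hj, rfl⟩ := hz
        rw [← e3 j hj, ← mul_assoc]
        exact step' _ (step' g ih j hj) j hj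
    have hc : Nat.card (closure (x '' (insert m s : Finset ι))) ≤ Nat.card H * R.card := by
      rw [← Nat.card_eq_finsetCard R, ← Nat.card_prod]
      choose f hf g hg hfg using all
      refine Nat.card_le_card_of_injective
        (fun a : closure (x '' (insert m s : Finset ι)) =>
          ((⟨f a.1 a.2, hf a.1 a.2⟩ : H), (⟨g a.1 a.2, hg a.1 a.2⟩ : R))) fun a b hab => ?_
      simp only [Prod.mk.injEq, Subtype.mk.injEq] at hab
      exact Subtype.ext (by rw [hfg a.1 a.2, hfg b.1 b.2, hab.1, hab.2])
    rw [Finset.card_insert_of_notMem hm, show s.card + 1 + 2 = (s.card + 2) + 1 by ring,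
      Nat.factorial_succ]
    calc _ ≤ 2 * (Nat.card H * (s.card + 3)) :=
          Nat.mul_le_mul_left _ (hc.trans (Nat.mul_le_mul_left _ hR))
      _ = (s.card + 2 + 1) * (2 * Nat.card H) := by ring
      _ ≤ _ := Nat.mul_le_mul_left _ ih

end H24
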