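import Mathlib
import Cfsg.Agent.H24.Carmichael
import Cfsg.Agent.H3.Transfer

/-!
# Central extensions of alternating groups
-/

set_option autoImplicit false

namespace H24.AltMult

open Equiv Equiv.Perm Subgroup

variable {α : Type*} [Fintype α] [DecidableEq α] {Γ : Type*} [Group Γ] [Finite Γ]

/-- The 3-cycle `(a i b)`. -/
def c (a b i : α) : Perm α := swap a b * swap a i

omit [Finite Γ] in
theorem central_of_eq {H : Type*} [Group H] {π : Γ →* H} (hc : ∀ g, π g = 1 → g ∈ center Γ)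
    {g g' : Γ} (h : π g = π g') : ∃ w ∈ center Γ, π w = 1 ∧ g' = g * w :=
  ⟨g⁻¹ * g', hc _ (by simp [h]), by simp [h], by simp⟩

theorem closure_c {a b : α} (hab : a ≠ b) (σ : Perm α) (hσ : sign σ = 1) :
    σ ∈ closure (c a b '' (Finset.univ.filter fun i => i ≠ a ∧ i ≠ b : Finset α)) := by
  set H := closure (c a b '' (Finset.univ.filter fun i => i ≠ a ∧ i ≠ b : Finset α)) with hH
  have hc : ∀ i, i ≠ a → i ≠ b → c a b i ∈ H := fun i h1 h2 =>
    subset_closure ⟨i, by simp [h1, h2], rfl⟩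
  have hn : ∀ τ ∈ H, swap a b * τ * swap a b ∈ H := by
    intro τ hτ
    induction hτ using closure_induction with
    | mem x hx =>
      obtain ⟨i, hi, rfl⟩ := hx
      simp only [Finset.coe_filter, Finset.mem_univ, true_and, Set.mem_ofPred_eq] at hi
      have : swap a b * c a b i * swap a b = (c a b i)⁻¹ := by
        simp [c, ← mul_assoc]
      rw [this]
      exact inv_mem (hc i hi.1 hi.2)
    | one => simp
    | mul x y _ _ h1 h2 =>
      have := mul_mem h1 h2
      simpa [mul_assoc] using this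
    | inv x _ h1 =>
      have := inv_mem h1
      simpa [mul_assoc] using this
  have hs : ∀ τ ∈ H, sign τ = 1 := by
    intro τ hτ
    refine (closure_le (alternatingGroup α)).2 ?_ hτ
    rintro _ ⟨i, hi, rfl⟩
    simp only [Finset.coe_filter, Finset.mem_univ, true_and, Set.mem_ofPred_eq] at hi
    simp [c, hab, hi.1.symm]
  -- the union of `H` and `H (a b)` is stable under the swaps `(a i)`
  have h1 : ∀ i, ∀ τ, (τ ∈ H ∨ swap a b * τ ∈ H) → (swap a i * τ ∈ H ∨ swap a b * (swap a i * τ) ∈ H) := by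
    intro i τ hτ
    by_cases hia : i = a
    · subst hia; rw [swap_self]; exact hτ
    by_cases hib : i = b
    · subst hib
      rcases hτ with h | h
      · right; simpa [← mul_assoc] using h
      · left; exact h
    rcases hτ with h | h
    · right
      have := mul_mem (hc i hia hib) h
      rwa [c, mul_assoc] at this
    · left
      have h2 : swap a i * τ = (swap a b * c a b i * swap a b) * (swap a b * τ) := by
        simp [c, ← mul_assoc]
      rw [h2]
      exact mul_mem (hn _ (hc i hia hib)) h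
  have h2 : ∀ τ : Perm α, τ ∈ H ∨ swap a b * τ ∈ H := by
    intro τ
    induction τ using swap_induction_on with
    | one => exact Or.inl (one_mem _)
    | swap_mul f x y hxy ih =>
      by_cases hx : x = a
      · subst hx; exact h1 y f ih
      by_cases hy : y = a
      · subst hy; rw [swap_comm x y]; exact h1 x f ih
      have : swap x y = swap a x * swap a y * swap a x := by
        ext k; simp only [mul_apply, swap_apply_def]; grind
      rw [this, mul_assoc, mul_assoc]
      exact h1 _ _ (h1 _ _ (h1 _ _ ih))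
  rcases h2 σ with h | h
  · exact h
  · have := hs _ h
    simp [hσ, hab] at this

/-- The canonical lifts of the 3-cycle `(a i b)`. -/
def T (π : Γ →* Perm α) (a b i : α) (t : Γ) : Prop :=
  π t = c a b i ∧ t ^ 3 = 1 ∧ ∀ d e, d ≠ e → d ≠ a → d ≠ b → d ≠ i → e ≠ a → e ≠ b → e ≠ i →
    ∀ g, π g = swap a b * swap d e → g * t * g⁻¹ = t⁻¹

omit [Finite Γ] in
theorem T.conj {π : Γ →* Perm α} {a b i : α} {t : Γ} (ht : T π a b i t) (h : Γ) :
    T π (π h a) (π h b) (π h i) (h * t * h⁻¹) := by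
  refine ⟨?_, by rw [conj_pow, ht.2.1]; simp, fun d e hde h1 h2 h3 h4 h5 h6 g hg => ?_⟩
  · simp only [map_mul, map_inv, ht.1, c, swap_apply_apply]
    group
  · have key : ∀ {u v : α}, u ≠ π h v → (π h)⁻¹ u ≠ v := fun h1 h2 => h1 (by rw [← h2]; simp)
    have := ht.2.2 ((π h)⁻¹ d) ((π h)⁻¹ e) (by simpa using hde) (key h1) (key h2) (key h3) (key h4)
      (key h5) (key h6) (h⁻¹ * g * h) (by
        simp only [map_mul, map_inv, hg, swap_apply_apply]
        group)
    calc _ = h * (h⁻¹ * g * h * t * (h⁻¹ * g * h)⁻¹) * h⁻¹ := by group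
      _ = _ := by rw [this]; group

omit [Finite Γ] in
theorem T.inv {π : Γ →* Perm α} {a b i : α} {t : Γ} (hab : a ≠ b) (hia : i ≠ a) (hib : i ≠ b)
    (ht : T π b a i t) : T π a b i t⁻¹ := by
  refine ⟨?_, by rw [inv_pow, ht.2.1]; simp, fun d e hde h1 h2 h3 h4 h5 h6 g hg => ?_⟩
  · rw [map_inv, ht.1, inv_eq_iff_mul_eq_one]
    ext k; simp only [c, mul_apply, swap_apply_def, one_apply]; grind
  · have := ht.2.2 d e hde h2 h1 h3 h5 h4 h6 g (by rw [hg, swap_comm])
    calc _ = (g * t * g⁻¹)⁻¹ := by group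
      _ = _ := by rw [this]

theorem card_ker_le {π : Γ →* Perm α} (hr : ∀ σ, sign σ = 1 → ∃ g, π g = σ)
    (hs : ∀ g, sign (π g) = 1) (hc : ∀ g, π g = 1 → g ∈ center Γ)
    (hd : ∀ g, π g = 1 → g ∈ commutator Γ) {a b : α} (hab : a ≠ b) (h4 : 4 ≤ Fintype.card α)
    (hT : ∀ i, i ≠ a → i ≠ b → ∃! t, T π a b i t) : Nat.card π.ker ≤ 2 := by
  classical
  choose! t ht hu using hT
  set s : Finset α := Finset.univ.filter fun i => i ≠ a ∧ i ≠ b with hsdef
  have hms : ∀ i, i ∈ s ↔ i ≠ a ∧ i ≠ b := fun i => by simp [hsdef]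
  have hs2 : s.card + 2 = Fintype.card α := by
    have : s = (Finset.univ.erase a).erase b := by ext i; simp [hms, and_comm]
    rw [this, Finset.card_erase_of_mem (by simp [hab.symm]), Finset.card_erase_of_mem (by simp),
      Finset.card_univ]
    omega
  let z : α → α → Γ := fun i j => (t i * t j) ^ 2
  have zk : ∀ i ∈ s, ∀ j ∈ s, i ≠ j → π (z i j) = 1 := fun i hi j hj hij => by
    rw [hms] at hi hj
    simp only [z, map_pow, map_mul, (ht i hi.1 hi.2).1, (ht j hj.1 hj.2).1, pow_two]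
    ext k; simp only [c, mul_apply, swap_apply_def, one_apply]; grind
  have zfix : ∀ i ∈ s, ∀ j ∈ s, i ≠ j → ∀ h, h * z i j * h⁻¹ = z i j := fun i hi j hj hij h => by
    rw [mem_center_iff.1 (hc _ (zk i hi j hj hij)) h]; simp
  have zsymm : ∀ i ∈ s, ∀ j ∈ s, i ≠ j → z i j = z j i := fun i hi j hj hij => by
    rw [← zfix j hj i hi hij.symm (t i)]
    simp only [z, pow_two]; group
  have zinv : ∀ i ∈ s, ∀ j ∈ s, i ≠ j → z i j ^ 2 = 1 := fun i hi j hj hij => by
    have hi' := (hms i).1 hi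
    have hj' := (hms j).1 hj
    obtain ⟨g, hg⟩ := hr (swap a b * swap i j) (by simp [hab, hij])
    have e1 : π g a = b := by rw [hg]; simp only [mul_apply, swap_apply_def]; grind
    have e2 : π g b = a := by rw [hg]; simp only [mul_apply, swap_apply_def]; grind
    have e3 : π g i = j := by rw [hg]; simp only [mul_apply, swap_apply_def]; grind
    have e4 : π g j = i := by rw [hg]; simp only [mul_apply, swap_apply_def]; grind
    have f1 := (ht i hi'.1 hi'.2).conj g
    have f2 := (ht j hj'.1 hj'.2).conj g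
    rw [e1, e2, e3] at f1
    rw [e1, e2, e4] at f2
    have g1 := hu j hj'.1 hj'.2 _ (f1.inv hab hj'.1 hj'.2)
    have g2 := hu i hi'.1 hi'.2 _ (f2.inv hab hi'.1 hi'.2)
    have := zfix i hi j hj hij g
    have h5 : g * z i j * g⁻¹ = (g * t i * g⁻¹) * (g * t j * g⁻¹) * ((g * t i * g⁻¹) *
      (g * t j * g⁻¹)) := by simp only [z, pow_two]; group
    rw [inv_eq_iff_eq_inv] at g1 g2
    rw [h5, g1, g2] at this
    rw [pow_two]
    nth_rewrite 1 [← this]
    simp only [z, pow_two]; group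
  have zrot : ∀ i ∈ s, ∀ j ∈ s, ∀ k ∈ s, i ≠ j → i ≠ k → j ≠ k → z i j = z j k :=
    fun i hi j hj k hk hij hik hjk => by
    have hi' := (hms i).1 hi
    have hj' := (hms j).1 hj
    have hk' := (hms k).1 hk
    obtain ⟨g, hg⟩ := hr (swap i j * swap j k) (by simp [hjk, hij])
    have e1 : π g a = a := by rw [hg]; simp only [mul_apply, swap_apply_def]; grind
    have e2 : π g b = b := by rw [hg]; simp only [mul_apply, swap_apply_def]; grind
    have e3 : π g i = j := by rw [hg]; simp only [mul_apply, swap_apply_def]; grind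
    have e4 : π g j = k := by rw [hg]; simp only [mul_apply, swap_apply_def]; grind
    have f1 := (ht i hi'.1 hi'.2).conj g
    have f2 := (ht j hj'.1 hj'.2).conj g
    rw [e1, e2, e3] at f1
    rw [e1, e2, e4] at f2
    have g1 := hu j hj'.1 hj'.2 _ f1
    have g2 := hu k hk'.1 hk'.2 _ f2
    rw [← zfix i hi j hj hij g]
    have h5 : g * z i j * g⁻¹ = (g * t i * g⁻¹) * (g * t j * g⁻¹) * ((g * t i * g⁻¹) *
      (g * t j * g⁻¹)) := by simp only [z, pow_two]; group
    rw [h5, g1, g2]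
    simp only [z, pow_two]
  obtain ⟨i₀, hi₀, j₀, hj₀, h₀⟩ : ∃ i ∈ s, ∃ j ∈ s, i ≠ j := Finset.one_lt_card.1 (by omega)
  have zall : ∀ i ∈ s, ∀ j ∈ s, i ≠ j → z i j = z i₀ j₀ := fun i hi j hj hij => by
    by_cases h1 : i = i₀
    · subst h1
      by_cases h2 : j = j₀
      · rw [h2]
      · rw [zsymm i hi j hj hij, zrot j hj i hi j₀ hj₀ hij.symm h2 h₀]
    by_cases h2 : j = i₀
    · subst h2
      by_cases h3 : i = j₀
      · subst h3; exact zsymm _ hi _ hj hij
      · exact zrot i hi j hj j₀ hj₀ hij h3 h₀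
    rw [zrot i hi j hj i₀ hi₀ hij h1 h2]
    by_cases h3 : j = j₀
    · subst h3; exact zsymm _ hj _ hi₀ h2
    · exact zrot j hj i₀ hi₀ j₀ hj₀ h2 h3 h₀
  let W := zpowers (z i₀ j₀)
  have hWc : W ≤ center Γ := zpowers_le.2 (hc _ (zk _ hi₀ _ hj₀ h₀))
  have hWn : W.Normal := ⟨fun w hw g => by
    rw [mem_center_iff.1 (hWc hw) g]; simpa using hw⟩
  have hW2 : Nat.card W ≤ 2 := by
    rw [Nat.card_zpowers]
    exact Nat.le_of_dvd two_pos (orderOf_dvd_of_pow_eq_one (zinv _ hi₀ _ hj₀ h₀))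
  -- the canonical lifts generate
  let K := closure (t '' s)
  have hKc : ∀ g, ∃ k ∈ K, ∃ w ∈ center Γ, π w = 1 ∧ g = k * w := fun g => by
    have h1 : K.map π = closure (c a b '' s) := by
      rw [MonoidHom.map_closure, Set.image_image]
      congr 1
      exact Set.image_congr fun i hi => (ht i ((hms i).1 hi).1 ((hms i).1 hi).2).1
    have h2 := closure_c hab (π g) (hs g)
    rw [← hsdef, ← h1] at h2
    obtain ⟨k, hk, hk'⟩ := h2
    obtain ⟨w, hw, hw', e⟩ := central_of_eq hc hk'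
    exact ⟨k, hk, w, hw, hw', e⟩
  have hK : K = ⊤ := by
    have h1 : commutator Γ ≤ K := by
      rw [_root_.commutator_def, commutator_le]
      intro g _ g' _
      obtain ⟨k, hk, w, hw, -, rfl⟩ := hKc g
      obtain ⟨k', hk', w', hw', -, rfl⟩ := hKc g'
      have e : k * w * (k' * w') * (k * w)⁻¹ * (k' * w')⁻¹ = k * k' * k⁻¹ * k'⁻¹ := by
        have a1 := mem_center_iff.1 hw
        have a2 := mem_center_iff.1 hw'
        calc _ = k * (w * (k' * w') * w⁻¹) * k⁻¹ * w'⁻¹ * k'⁻¹ := by group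
          _ = k * k' * (w' * k⁻¹ * w'⁻¹) * k'⁻¹ := by rw [← a1 (k' * w')]; group
          _ = _ := by rw [← a2 k⁻¹]; group
      rw [commutatorElement_def, e]
      exact mul_mem (mul_mem (mul_mem hk hk') (inv_mem hk)) (inv_mem hk')
    rw [eq_top_iff]
    intro g _
    obtain ⟨k, hk, w, -, hw, rfl⟩ := hKc g
    exact mul_mem hk (h1 (hd w hw))
  have hcar := carmichael (fun i => (QuotientGroup.mk (t i) : Γ ⧸ W)) s
    (fun i hi => by
      rw [← QuotientGroup.mk_pow, (ht i ((hms i).1 hi).1 ((hms i).1 hi).2).2.1]; rfl)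
    (fun i hi j hj hij => by
      rw [← QuotientGroup.mk_mul, ← QuotientGroup.mk_pow, QuotientGroup.eq_one_iff]
      change z i j ∈ W
      rw [zall i hi j hj hij]
      exact mem_zpowers _)
  have htop : closure ((fun i => (QuotientGroup.mk (t i) : Γ ⧸ W)) '' s) = ⊤ := by
    have := congrArg (map (QuotientGroup.mk' W)) hK
    rw [MonoidHom.map_closure, Set.image_image,
      map_top_of_surjective _ (QuotientGroup.mk'_surjective W)] at this
    exact this
  rw [htop, card_top, hs2] at hcar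
  have hrange : π.range = alternatingGroup α := by
    ext σ
    exact ⟨by rintro ⟨g, rfl⟩; exact hs g, fun h => hr σ h⟩
  have : Nontrivial α := ⟨a, b, hab⟩
  have c1 := two_mul_nat_card_alternatingGroup (α := α)
  rw [Nat.card_perm, ← hrange, ← index_ker, Nat.card_eq_fintype_card] at c1
  have c2 := card_mul_index π.ker
  have c3 := card_eq_card_quotient_mul_card_subgroup W
  have c4 : 0 < π.ker.index := Nat.pos_of_ne_zero index_ne_zero_of_finite
  have c5 : Nat.card (Γ ⧸ W) ≤ π.ker.index := by omega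
  refine Nat.le_of_mul_le_mul_right ?_ c4
  rw [c2, c3, mul_comm]
  exact Nat.mul_le_mul hW2 c5

omit [Finite Γ] in
theorem conj_eq_of {π : Γ →* Perm α} (hc : ∀ g, π g = 1 → g ∈ center Γ) {t k : Γ}
    (h3 : t ^ 3 = 1) (hk : π k * π k = 1) (hcm : π k * π t = π t * π k) : k * t * k⁻¹ = t := by
  obtain ⟨w, hw, -, e⟩ := central_of_eq hc (g := t) (g' := k * t * k⁻¹) (by simp [hcm])
  have a1 := mem_center_iff.1 hw
  have a2 := mem_center_iff.1 (hc (k * k) (by simpa using hk))
  have b1 : w ^ 3 = 1 := by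
    have : (k * t * k⁻¹) ^ 3 = 1 := by rw [conj_pow, h3]; simp
    rwa [e, Commute.mul_pow (a1 t), h3, one_mul] at this
  have b2 : w ^ 2 = 1 := by
    have : t = t * w ^ 2 := by
      calc t = (k * k) * t * (k * k)⁻¹ := by rw [← a2 t]; group
        _ = k * (k * t * k⁻¹) * k⁻¹ := by group
        _ = (k * t * k⁻¹) * w := by rw [e, ← mul_assoc, mul_assoc _ w, ← a1 k⁻¹, ← e]; group
        _ = _ := by rw [e, pow_two, mul_assoc]
    simpa using this
  have : w = 1 := by rw [pow_succ, b2, one_mul] at b1; exact b1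
  rw [e, this, mul_one]

theorem exists_fresh (s : Finset α) (h : s.card + 2 ≤ Fintype.card α) :
    ∃ u v, u ≠ v ∧ u ∉ s ∧ v ∉ s := by
  obtain ⟨u, hu, v, hv, huv⟩ := Finset.one_lt_card.1
    (show 1 < sᶜ.card by rw [Finset.card_compl]; omega)
  exact ⟨u, v, huv, by simpa using hu, by simpa using hv⟩

omit [Finite Γ] in
theorem existsUnique_T {π : Γ →* Perm α} (hr : ∀ σ, sign σ = 1 → ∃ g, π g = σ)
    (hc : ∀ g, π g = 1 → g ∈ center Γ) {a b : α} (hab : a ≠ b)
    (h5 : Fintype.card α = 5 ∨ 8 ≤ Fintype.card α) (i : α) (hia : i ≠ a) (hib : i ≠ b) :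
    ∃! t, T π a b i t := by
  have c3 : ({a, b, i} : Finset α).card ≤ 3 := Finset.card_le_three
  obtain ⟨d₀, e₀, h₀, hd₀, he₀⟩ := exists_fresh ({a, b, i} : Finset α) (by omega)
  simp only [Finset.mem_insert, Finset.mem_singleton, not_or] at hd₀ he₀
  obtain ⟨g₀, hg₀⟩ := hr (swap a b * swap d₀ e₀) (by simp [hab, h₀])
  refine existsUnique_of_exists_of_unique ?_ fun t t' ht ht' => ?_
  · obtain ⟨t₀, ht₀⟩ := hr (c a b i) (by simp [c, hab, hia.symm])
    let t₁ := g₀ * t₀ * g₀⁻¹ * t₀⁻¹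
    have p1 : π t₁ = c a b i := by
      simp only [t₁, map_mul, map_inv, hg₀, ht₀, c, mul_inv_rev, swap_inv]
      ext k; simp only [mul_apply, swap_apply_def]; grind
    have q0 := mem_center_iff.1 (hc (g₀ * g₀) (by
      simp only [map_mul, hg₀]
      ext k; simp only [mul_apply, swap_apply_def, one_apply]; grind))
    have p2 : g₀ * t₁ * g₀⁻¹ = t₁⁻¹ := by
      calc _ = (g₀ * g₀) * t₀ * (g₀ * g₀)⁻¹ * g₀ * t₀⁻¹ * g₀⁻¹ := by simp only [t₁]; group
        _ = _ := by rw [← q0 t₀]; simp only [t₁]; group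
    have c1 : c a b i ^ 3 = 1 := by
      ext k; simp only [c, pow_succ, pow_zero, one_mul, mul_apply, swap_apply_def, one_apply]; grind
    have p3 : t₁ ^ 6 = 1 := by
      have q1 := mem_center_iff.1 (hc (t₁ ^ 3) (by rw [map_pow, p1, c1]))
      have q2 : g₀ * t₁ ^ 3 * g₀⁻¹ = (t₁ ^ 3)⁻¹ := by rw [← conj_pow, p2, inv_pow]
      rw [q1 g₀, mul_inv_cancel_right, eq_inv_iff_mul_eq_one, ← pow_add] at q2
      exact q2
    have p4 : (t₁ ^ 4) ^ 3 = 1 := by rw [← pow_mul, show 4 * 3 = 6 * 2 from rfl, pow_mul, p3, one_pow]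
    have p5 : π (t₁ ^ 4) = c a b i := by rw [map_pow, p1, pow_succ, c1, one_mul]
    have p6 : g₀ * t₁ ^ 4 * g₀⁻¹ = (t₁ ^ 4)⁻¹ := by rw [← conj_pow, p2, inv_pow]
    generalize t₁ ^ 4 = t at p4 p5 p6
    let I : α → α → Prop := fun d e => ∀ g, π g = swap a b * swap d e → g * t * g⁻¹ = t⁻¹
    have i0 : I d₀ e₀ := fun g hg => by
      obtain ⟨w, hw, -, rfl⟩ := central_of_eq hc (hg₀.trans hg.symm)
      rw [← p6, mul_inv_rev, mul_assoc g₀ w, ← mem_center_iff.1 hw t]; group
    have istep : ∀ d e d' e', d ≠ e → d ≠ a → d ≠ b → d ≠ i → e ≠ a → e ≠ b → e ≠ i →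
        d' ≠ e' → d' ≠ a → d' ≠ b → d' ≠ i → e' ≠ a → e' ≠ b → e' ≠ i →
        d ≠ d' → d ≠ e' → e ≠ d' → e ≠ e' → I d e → I d' e' := by
      intro d e d' e' _ _ _ _ _ _ _ _ _ _ _ _ _ _ _ _ _ _ hI g' hg'
      obtain ⟨g, hg⟩ := hr (swap a b * swap d e) (by simp [*])
      have hk : π (g⁻¹ * g') = swap d e * swap d' e' := by
        simp [hg, hg', mul_assoc]
      have := conj_eq_of hc p4 (k := g⁻¹ * g') (by
        rw [hk]; ext k; simp only [mul_apply, swap_apply_def, one_apply]; grind) (by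
        rw [hk, p5]; ext k; simp only [c, mul_apply, swap_apply_def]; grind)
      rw [← hI g hg]
      conv_rhs => rw [← this]
      group
    refine ⟨t, p5, p4, fun d e hde h1 h2 h3 h4 h5' h6 => ?_⟩
    change I d e
    by_cases hs : swap d e = swap d₀ e₀
    · intro g hg
      exact i0 g (by rw [hg, hs])
    by_cases hdisj : d₀ ≠ d ∧ d₀ ≠ e ∧ e₀ ≠ d ∧ e₀ ≠ e
    · exact istep d₀ e₀ d e h₀ hd₀.1 hd₀.2.1 hd₀.2.2 he₀.1 he₀.2.1 he₀.2.2 hde h1 h2 h3 h4 h5' h6
        hdisj.1 hdisj.2.1 hdisj.2.2.1 hdisj.2.2.2 i0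
    rcases h5 with h5 | h8
    · exfalso
      have hu : ({a, b, i, d₀, e₀} : Finset α) = Finset.univ := by
        apply Finset.eq_univ_of_card
        rw [h5, Finset.card_insert_of_notMem (by simp; grind),
          Finset.card_insert_of_notMem (by simp; grind),
          Finset.card_insert_of_notMem (by simp; grind), Finset.card_pair h₀]
      have m1 : d ∈ ({a, b, i, d₀, e₀} : Finset α) := by rw [hu]; simp
      have m2 : e ∈ ({a, b, i, d₀, e₀} : Finset α) := by rw [hu]; simp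
      simp only [Finset.mem_insert, Finset.mem_singleton] at m1 m2
      apply hs
      have : (d = d₀ ∧ e = e₀) ∨ (d = e₀ ∧ e = d₀) := by grind
      rcases this with ⟨rfl, rfl⟩ | ⟨rfl, rfl⟩
      · rfl
      · exact swap_comm _ _
    · obtain ⟨f, hf⟩ : ∃ f, (d = d₀ ∨ d = e₀ ∨ d = f) ∧ (e = d₀ ∨ e = e₀ ∨ e = f) := by
        by_cases h : d = d₀ ∨ d = e₀
        · exact ⟨e, by grind, by grind⟩
        · exact ⟨d, by grind, by grind⟩
      obtain ⟨u, v, huv, hu, hv⟩ := exists_fresh ({a, b, i, d₀, e₀, f} : Finset α)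
        (by have : ({a, b, i, d₀, e₀, f} : Finset α).card ≤ 6 := Finset.card_le_six; omega)
      simp only [Finset.mem_insert, Finset.mem_singleton, not_or] at hu hv
      refine istep u v d e huv hu.1 hu.2.1 hu.2.2.1 hv.1 hv.2.1 hv.2.2.1 hde h1 h2 h3 h4 h5' h6
        (by grind) (by grind) (by grind) (by grind) ?_
      exact istep d₀ e₀ u v h₀ hd₀.1 hd₀.2.1 hd₀.2.2 he₀.1 he₀.2.1 he₀.2.2 huv hu.1 hu.2.1 hu.2.2.1
        hv.1 hv.2.1 hv.2.2.1 (by grind) (by grind) (by grind) (by grind) i0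
  · obtain ⟨w, hw, -, rfl⟩ := central_of_eq hc (ht.1.trans ht'.1.symm)
    have a1 := mem_center_iff.1 hw
    have b1 : w ^ 3 = 1 := by
      have := ht'.2.1
      rwa [Commute.mul_pow (a1 t), ht.2.1, one_mul] at this
    have b2 := ht.2.2 d₀ e₀ h₀ hd₀.1 hd₀.2.1 hd₀.2.2 he₀.1 he₀.2.1 he₀.2.2 g₀ hg₀
    have b3 := ht'.2.2 d₀ e₀ h₀ hd₀.1 hd₀.2.1 hd₀.2.2 he₀.1 he₀.2.1 he₀.2.2 g₀ hg₀
    rw [← mul_assoc, mul_assoc _ w, ← a1 g₀⁻¹, ← mul_assoc, b2, mul_inv_rev, a1 t⁻¹,
      mul_left_inj, eq_inv_iff_mul_eq_one, ← pow_two] at b3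
    rw [pow_succ, b3, one_mul] at b1
    rw [b1, mul_one]

theorem existsUnique_T_four {π : Γ →* Perm α} (hr : ∀ σ, sign σ = 1 → ∃ g, π g = σ)
    (hc : ∀ g, π g = 1 → g ∈ center Γ) (hd : ∀ g, π g = 1 → g ∈ commutator Γ) {a b : α}
    (hab : a ≠ b) (h4 : Fintype.card α = 4) (i : α) (hia : i ≠ a) (hib : i ≠ b) :
    ∃! t, T π a b i t := by
  have : Fact (Nat.Prime 3) := ⟨Nat.prime_three⟩
  have h3 : ∀ w, π w = 1 → w ^ 3 = 1 → w = 1 := by
    intro w hw hw3
    obtain ⟨P, hP⟩ := (show IsPGroup 3 (zpowers w) from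
      IsPGroup.of_card (n := (orderOf w).factorization 3) (by
        rw [Nat.card_zpowers]
        rcases (Nat.dvd_prime Nat.prime_three).1 (orderOf_dvd_of_pow_eq_one hw3) with h | h
        · simp [h]
        · rw [h, Nat.Prime.factorization_self Nat.prime_three, pow_one])).exists_le_sylow
    let φ := π.rangeRestrict.comp (P : Subgroup Γ).subtype
    have hcyc : IsCyclic φ.range := by
      obtain ⟨k, hk⟩ := IsPGroup.iff_card.1 (P.isPGroup'.of_surjective _ φ.rangeRestrict_surjective)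
      have h1 : Nat.card φ.range ∣ 24 := by
        refine (card_subgroup_dvd_card _).trans ((card_subgroup_dvd_card _).trans ?_)
        rw [Nat.card_perm, Nat.card_eq_fintype_card, h4]; rfl
      rw [hk] at h1
      have : k ≤ 1 := by
        by_contra h
        have : 3 ^ 2 ∣ 24 := (pow_dvd_pow 3 (by omega)).trans h1
        norm_num at this
      interval_cases k
      · have : Subsingleton φ.range := (Nat.card_eq_one_iff_unique.1 hk).1
        infer_instance
      · exact isCyclic_of_prime_card (p := 3) (by simpa using hk)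
    have hcomm : IsMulCommutative P := by
      refine MonoidHom.isMulCommutative_of_isCyclic_of_ker_le_center φ.rangeRestrict fun g hg => ?_
      have h1 : π g = 1 := congrArg (fun x : φ.range => ((x : π.range) : Perm α)) hg
      exact mem_center_iff.2 fun g' => Subtype.ext (mem_center_iff.1 (hc _ h1) g')
    have := H3.abelian_hall_inf_commutator_inf_center hcomm P.card_coprime_index
    have hm : w ∈ (P : Subgroup Γ) ⊓ commutator Γ ⊓ center Γ :=
      ⟨⟨hP (mem_zpowers w), hd w hw⟩, hc w hw⟩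
    rwa [this, mem_bot] at hm
  have c1 : c a b i ^ 3 = 1 := by
    ext k; simp only [c, pow_succ, pow_zero, one_mul, mul_apply, swap_apply_def, one_apply]; grind
  refine existsUnique_of_exists_of_unique ?_ fun t t' ht ht' => ?_
  · obtain ⟨t₀, ht₀⟩ := hr (c a b i) (by simp [c, hab, hia.symm])
    have hw : π (t₀ ^ 3) = 1 := by rw [map_pow, ht₀, c1]
    have hm : ¬ 3 ∣ orderOf (t₀ ^ 3) := by
      rintro ⟨m, hm⟩
      have h0 : 0 < orderOf (t₀ ^ 3) := orderOf_pos _
      have := h3 ((t₀ ^ 3) ^ m) (by rw [map_pow, hw, one_pow])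
        (by rw [← pow_mul, mul_comm, ← hm, pow_orderOf_eq_one])
      have := Nat.le_of_dvd (by omega) (orderOf_dvd_of_pow_eq_one this)
      omega
    generalize hm' : orderOf (t₀ ^ 3) = m at hm
    refine ⟨t₀ ^ (m * m), ?_, ?_, fun d e hde h1 h2 h3 h4' h5 h6 => ?_⟩
    · obtain ⟨k, hk⟩ : ∃ k, m * m = 3 * k + 1 := by
        refine ⟨m * m / 3, ?_⟩
        have : m % 3 = 1 ∨ m % 3 = 2 := by omega
        have h5 : m * m % 3 = 1 := by rcases this with h | h <;> simp [Nat.mul_mod, h]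
        omega
      rw [map_pow, ht₀, hk, pow_succ, pow_mul, c1, one_pow, one_mul]
    · rw [← pow_mul, mul_comm, pow_mul, pow_mul, ← hm', pow_orderOf_eq_one, one_pow]
    · exfalso
      have := Finset.card_le_univ ({a, b, i, d, e} : Finset α)
      rw [h4, Finset.card_insert_of_notMem (by simp; grind),
        Finset.card_insert_of_notMem (by simp; grind),
        Finset.card_insert_of_notMem (by simp; grind), Finset.card_pair hde] at this
      omega
  · obtain ⟨w, hw, hw', rfl⟩ := central_of_eq hc (ht.1.trans ht'.1.symm)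
    have := ht'.2.1
    rw [Commute.mul_pow (mem_center_iff.1 hw t), ht.2.1, one_mul] at this
    rw [h3 w hw' this, mul_one]

theorem card_le_two (n : ℕ) (hn : 4 ≤ n) (h6 : n ≠ 6) (h7 : n ≠ 7) (Z : Subgroup Γ) [Z.Normal]
    (hZc : Z ≤ center Γ) (hZd : Z ≤ commutator Γ) (e : Γ ⧸ Z ≃* alternatingGroup (Fin n)) :
    Nat.card Z ≤ 2 := by
  let π : Γ →* Perm (Fin n) :=
    (alternatingGroup (Fin n)).subtype.comp (e.toMonoidHom.comp (QuotientGroup.mk' Z))
  have hk : π.ker = Z := by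
    ext g
    simp [π, MonoidHom.mem_ker]
  have hr : ∀ σ, sign σ = 1 → ∃ g, π g = σ := fun σ hσ => by
    obtain ⟨g, hg⟩ := QuotientGroup.mk'_surjective Z (e.symm ⟨σ, hσ⟩)
    refine ⟨g, ?_⟩
    change ((e (QuotientGroup.mk' Z g) : alternatingGroup (Fin n)) : Perm (Fin n)) = σ
    rw [hg, e.apply_symm_apply]
  have hc : ∀ g, π g = 1 → g ∈ center Γ := fun g hg => hZc (hk ▸ hg)
  have hd : ∀ g, π g = 1 → g ∈ commutator Γ := fun g hg => hZd (hk ▸ hg)
  have hab : (⟨0, by omega⟩ : Fin n) ≠ ⟨1, by omega⟩ := by simp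
  rw [← hk]
  refine card_ker_le hr (fun g => (e (QuotientGroup.mk' Z g)).2) hc hd hab (by simpa using hn) ?_
  by_cases h4 : n = 4
  · exact existsUnique_T_four hr hc hd hab (by simpa using h4)
  · exact existsUnique_T hr hc hab (by simp; omega)

end H24.AltMult
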