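import Mathlib
import Cfsg.Agent.H15.Spinor

/-!
# The double cover of the alternating group inside the Clifford algebra
-/

set_option autoImplicit false

namespace H24.Pin

open CliffordAlgebra
open scoped commutatorElement

variable {n : ℕ}

/-- The form `½ ∑ xᵢ²`. -/
noncomputable def Q (n : ℕ) : QuadraticForm ℚ (Fin n → ℚ) :=
  QuadraticMap.weightedSumSquares ℚ (fun _ : Fin n => (1 / 2 : ℚ))

theorem Q_apply (x : Fin n → ℚ) : Q n x = ∑ i, (1 / 2 : ℚ) * (x i * x i) := by
  simp [Q, QuadraticMap.weightedSumSquares_apply]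

theorem polar_Q (x y : Fin n → ℚ) : QuadraticMap.polar (Q n) x y = ∑ i, x i * y i := by
  simp only [QuadraticMap.polar, Q_apply, Pi.add_apply, ← Finset.sum_sub_distrib]
  exact Finset.sum_congr rfl fun i _ => by ring

/-- The basis vectors in the Clifford algebra. -/
noncomputable def e (i : Fin n) : CliffordAlgebra (Q n) := ι (Q n) (Pi.single i 1)

theorem e_mul_self (i : Fin n) : e i * e i = algebraMap ℚ _ (1 / 2) := by
  rw [e, ι_sq_scalar, Q_apply, Finset.sum_eq_single i] <;> simp +contextual [Pi.single_apply]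

theorem e_anti {i j : Fin n} (h : i ≠ j) : e i * e j = -(e j * e i) := by
  rw [eq_neg_iff_add_eq_zero, e, e, ι_mul_ι_add_swap, polar_Q, Finset.sum_eq_zero, map_zero]
  intro k _
  by_cases hk : k = i
  · subst hk; simp [Pi.single_apply, h]
  · simp [Pi.single_apply, hk]

theorem involute_e (i : Fin n) : involute (e i) = -e i := involute_ι _

theorem reverse_e (i : Fin n) : reverse (e i) = e i := reverse_ι _

theorem v_sq {i j : Fin n} (h : i ≠ j) : (e i - e j) * (e i - e j) = 1 := by
  rw [mul_sub, sub_mul, sub_mul, e_mul_self, e_mul_self, e_anti h]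
  have : algebraMap ℚ (CliffordAlgebra (Q n)) (1 / 2) + algebraMap ℚ _ (1 / 2) = 1 := by
    rw [← map_add]; norm_num
  rw [← this]; abel

/-- The unit `eᵢ - eⱼ`. -/
noncomputable def v {i j : Fin n} (h : i ≠ j) : (CliffordAlgebra (Q n))ˣ :=
  ⟨e i - e j, e i - e j, v_sq h, v_sq h⟩

/-- The pin group over the symmetric group. -/
def P (n : ℕ) : Subgroup ((CliffordAlgebra (Q n))ˣ × Equiv.Perm (Fin n)) where
  carrier := {x | (∀ i, involute (x.1 : CliffordAlgebra (Q n)) * e i = e (x.2 i) * x.1) ∧
    reverse (x.1 : CliffordAlgebra (Q n)) * x.1 = 1}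
  one_mem' := by simp
  mul_mem' := by
    rintro ⟨u, σ⟩ ⟨u', σ'⟩ ⟨h1, h2⟩ ⟨h3, h4⟩
    refine ⟨fun i => ?_, ?_⟩
    · simp only [Prod.fst_mul, Units.val_mul, map_mul, Prod.snd_mul, Equiv.Perm.mul_apply] at *
      rw [mul_assoc, h3, ← mul_assoc, h1, mul_assoc]
    · simp only [Prod.fst_mul, Units.val_mul, reverse.map_mul] at *
      rw [mul_assoc, ← mul_assoc (reverse _) (u : CliffordAlgebra (Q n)), h2, one_mul, h4]
  inv_mem' := by
    rintro ⟨u, σ⟩ ⟨h1, h2⟩
    refine ⟨fun i => ?_, ?_⟩
    · simp only [Prod.fst_inv, Prod.snd_inv] at *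
      have h3 := h1 (σ⁻¹ i)
      rw [show σ (σ⁻¹ i) = i by simp] at h3
      have h4 : involute ((u⁻¹ : (CliffordAlgebra (Q n))ˣ) : CliffordAlgebra (Q n)) *
          involute (u : CliffordAlgebra (Q n)) = 1 := by rw [← map_mul]; simp
      calc _ = involute ((u⁻¹ : (CliffordAlgebra (Q n))ˣ) : CliffordAlgebra (Q n)) *
            (e i * u) * (u⁻¹ : (CliffordAlgebra (Q n))ˣ) := by simp [mul_assoc]
        _ = _ := by rw [← h3, ← mul_assoc, h4, one_mul]
    · simp only [Prod.fst_inv] at *
      have h3 : reverse (u : CliffordAlgebra (Q n)) = (u⁻¹ : (CliffordAlgebra (Q n))ˣ) := by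
        calc _ = reverse (u : CliffordAlgebra (Q n)) * u * (u⁻¹ : (CliffordAlgebra (Q n))ˣ) := by
              simp [mul_assoc]
          _ = _ := by rw [h2, one_mul]
      conv_lhs => arg 2; rw [← h3]
      rw [← reverse.map_mul]; simp

theorem v_mem {i j : Fin n} (h : i ≠ j) : (v h, Equiv.swap i j) ∈ P n := by
  refine ⟨fun k => ?_, ?_⟩
  · change involute (e i - e j) * e k = e (Equiv.swap i j k) * (e i - e j)
    rw [map_sub, involute_e, involute_e]
    by_cases hi : k = i
    · subst hi
      rw [Equiv.swap_apply_left, sub_mul, mul_sub, neg_mul, neg_mul, e_mul_self, e_mul_self]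
      abel
    by_cases hj : k = j
    · subst hj
      rw [Equiv.swap_apply_right, sub_mul, mul_sub, neg_mul, neg_mul, e_mul_self, e_mul_self]
      abel
    rw [Equiv.swap_apply_of_ne_of_ne hi hj, sub_mul, mul_sub, neg_mul, neg_mul, e_anti hi,
      e_anti hj]
  · change reverse (e i - e j) * (e i - e j) = 1
    rw [map_sub, reverse_e, reverse_e, v_sq h]

theorem exists_lift (σ : Equiv.Perm (Fin n)) : ∃ u, (u, σ) ∈ P n := by
  induction σ using Equiv.Perm.swap_induction_on with
  | one => exact ⟨1, (P n).one_mem⟩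
  | swap_mul f x y h ih =>
    obtain ⟨u, hu⟩ := ih
    exact ⟨v h * u, (P n).mul_mem (v_mem h) hu⟩

theorem neg_one_mem : ((-1 : (CliffordAlgebra (Q n))ˣ), (1 : Equiv.Perm (Fin n))) ∈ P n := by
  refine ⟨fun i => ?_, ?_⟩ <;> simp

theorem ker_cases {u : (CliffordAlgebra (Q n))ˣ} (h : (u, (1 : Equiv.Perm (Fin n))) ∈ P n) :
    u = 1 ∨ u = -1 := by
  have := H15.clifford_nontrivial (Q n)
  obtain ⟨h1, h2⟩ := h
  simp only [Equiv.Perm.one_apply] at h1 h2
  obtain ⟨c, hc⟩ := H15.scalar_of_contract (x := (u : CliffordAlgebra (Q n))) fun d => by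
    have hd : d = ∑ i, d (Pi.single i 1) • H15.pol (Q n) (Pi.single i 1) := by
      ext j
      simp only [LinearMap.coe_comp, LinearMap.coe_single, Function.comp_apply,
        LinearMap.coe_sum, Finset.sum_apply, LinearMap.smul_apply, H15.pol_eq, polar_Q]
      rw [Finset.sum_eq_single j]
      · rw [Finset.sum_eq_single j] <;> simp +contextual [Pi.single_apply]
      · intro k _ hk
        rw [Finset.sum_eq_zero, smul_zero]
        intro l _
        by_cases hl : l = k
        · subst hl; simp [Pi.single_apply, hk]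
        · simp [Pi.single_apply, hl]
      · simp
    rw [hd, map_sum, LinearMap.sum_apply]
    refine Finset.sum_eq_zero fun i _ => ?_
    rw [map_smul, LinearMap.smul_apply, H15.contractLeft_pol]
    have := h1 i
    rw [e] at this
    rw [this, sub_self, smul_zero]
  rw [hc, reverse.commutes, ← map_mul] at h2
  have h3 : c * c = 1 := (algebraMap ℚ (CliffordAlgebra (Q n))).injective (by rw [h2, map_one])
  rcases mul_self_eq_one_iff.1 h3 with rfl | rfl
  · exact Or.inl (Units.ext (by simpa using hc))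
  · exact Or.inr (Units.ext (by simpa using hc))

theorem neg_one_ne : (-1 : (CliffordAlgebra (Q n))ˣ) ≠ 1 := by
  have := H15.clifford_nontrivial (Q n)
  intro h
  have h1 := congrArg Units.val h
  simp only [Units.val_neg, Units.val_one] at h1
  have h2 : algebraMap ℚ (CliffordAlgebra (Q n)) (-1) = algebraMap ℚ _ 1 := by simpa using h1
  have := (algebraMap ℚ (CliffordAlgebra (Q n))).injective h2
  norm_num at this

/-- The double cover. -/
noncomputable def G (n : ℕ) : Subgroup ((CliffordAlgebra (Q n))ˣ × Equiv.Perm (Fin n)) :=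
  P n ⊓ (alternatingGroup (Fin n)).comap (MonoidHom.snd _ _)

/-- The projection. -/
noncomputable def proj (n : ℕ) : G n →* alternatingGroup (Fin n) :=
  ((MonoidHom.snd _ _).comp (G n).subtype).codRestrict _ fun x => x.2.2

theorem proj_surj : Function.Surjective (proj n) := by
  rintro ⟨σ, hσ⟩
  obtain ⟨u, hu⟩ := exists_lift σ
  exact ⟨⟨(u, σ), hu, hσ⟩, rfl⟩

/-- The central involution. -/
noncomputable def z (n : ℕ) : G n := ⟨(-1, 1), neg_one_mem, (alternatingGroup (Fin n)).one_mem⟩

theorem z_mem_center : z n ∈ Subgroup.center (G n) := by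
  rw [Subgroup.mem_center_iff]
  rintro ⟨⟨u, σ⟩, h⟩
  ext : 1
  simp [z]

theorem orderOf_z : orderOf (z n) = 2 := by
  have : Fact (Nat.Prime 2) := ⟨Nat.prime_two⟩
  refine orderOf_eq_prime ?_ fun h => neg_one_ne (n := n) (congrArg (fun x : G n => x.1.1) h)
  ext : 1
  simp [z]

theorem ker_proj : (proj n).ker = Subgroup.zpowers (z n) := by
  ext ⟨⟨u, σ⟩, h⟩
  constructor
  · intro h1
    have h2 : σ = 1 := congrArg Subtype.val h1
    subst h2
    rcases ker_cases h.1 with rfl | rfl
    · exact one_mem _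
    · exact Subgroup.mem_zpowers _
  · intro h1
    refine (Subgroup.zpowers_le.2 ?_ : Subgroup.zpowers (z n) ≤ (proj n).ker) h1
    rfl

theorem finite_G : Finite (G n) := by
  have h1 : Finite (proj n).ker := by
    rw [ker_proj]
    exact finite_zpowers.2 (isOfFinOrder_iff_pow_eq_one.2
      ⟨2, two_pos, by rw [← orderOf_z (n := n), pow_orderOf_eq_one]⟩)
  have h2 : Finite (G n ⧸ (proj n).ker) :=
    Finite.of_equiv _ (QuotientGroup.quotientKerEquivOfSurjective _ proj_surj).symm.toEquiv
  exact Finite.of_equiv _ (Subgroup.groupEquivQuotientProdSubgroup (s := (proj n).ker)).symm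

theorem z_mem_commutator (hn : 4 ≤ n) : z n ∈ commutator (G n) := by
  obtain ⟨a, b, c, d, hab, hac, had, hbc, hbd, hcd⟩ :
      ∃ a b c d : Fin n, a ≠ b ∧ a ≠ c ∧ a ≠ d ∧ b ≠ c ∧ b ≠ d ∧ c ≠ d :=
    ⟨⟨0, by omega⟩, ⟨1, by omega⟩, ⟨2, by omega⟩, ⟨3, by omega⟩, by simp, by simp, by simp,
      by simp, by simp, by simp⟩
  have hm : ∀ {i j k l : Fin n} (h : i ≠ j) (h' : k ≠ l),
      (v h * v h', Equiv.swap i j * Equiv.swap k l) ∈ G n := fun h h' =>
    ⟨(P n).mul_mem (v_mem h) (v_mem h'), by simp [h, h']⟩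
  let x : G n := ⟨_, hm hab hcd⟩
  let y : G n := ⟨_, hm hac hbd⟩
  have key : y * x = z n * (x * y) := by
    ext : 2
    · ext
      change (e a - e c) * (e b - e d) * ((e a - e b) * (e c - e d)) =
        -1 * ((e a - e b) * (e c - e d) * ((e a - e c) * (e b - e d)))
      have hy := (y.2.1).1
      have h0 : involute (y.1.1 : CliffordAlgebra (Q n)) = y.1.1 := by
        change involute ((e a - e c) * (e b - e d)) = (e a - e c) * (e b - e d)
        simp only [map_mul, map_sub, involute_e]
        noncomm_ring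
      rw [h0] at hy
      change ∀ i, (e a - e c) * (e b - e d) * e i =
        e (Equiv.swap a c (Equiv.swap b d i)) * ((e a - e c) * (e b - e d)) at hy
      have ha := hy a
      have hb := hy b
      have hc := hy c
      have hd := hy d
      rw [Equiv.swap_apply_of_ne_of_ne hab had, Equiv.swap_apply_left] at ha
      rw [Equiv.swap_apply_left, Equiv.swap_apply_of_ne_of_ne had.symm hcd.symm] at hb
      rw [Equiv.swap_apply_of_ne_of_ne hbc.symm hcd, Equiv.swap_apply_right] at hc
      rw [Equiv.swap_apply_right, Equiv.swap_apply_of_ne_of_ne hab.symm hbc] at hd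
      generalize (e a - e c) * (e b - e d) = Y at *
      have h1 : Y * (e a - e b) = (e c - e d) * Y := by rw [mul_sub, sub_mul, ha, hb]
      have h2 : Y * (e c - e d) = (e a - e b) * Y := by rw [mul_sub, sub_mul, hc, hd]
      rw [← mul_assoc, h1, mul_assoc, h2, ← mul_assoc, ← mul_assoc]
      congr 1
      simp only [mul_sub, sub_mul, e_anti hac, e_anti had, e_anti hbc, e_anti hbd]
      noncomm_ring
    · change Equiv.swap a c * Equiv.swap b d * (Equiv.swap a b * Equiv.swap c d) =
        1 * (Equiv.swap a b * Equiv.swap c d * (Equiv.swap a c * Equiv.swap b d))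
      ext k
      simp only [Equiv.Perm.mul_apply, Equiv.swap_apply_def, one_mul]
      grind
  have : z n = ⁅y, x⁆ := by
    rw [commutatorElement_def, key]; group
  rw [this]
  exact Subgroup.commutator_mem_commutator (Subgroup.mem_top _) (Subgroup.mem_top _)

theorem double_cover (n : ℕ) (hn : 4 ≤ n) : ∃ (Γ : Type) (_ : Group Γ) (_ : Finite Γ) (z : Γ)
    (_ : z ∈ Subgroup.center Γ), orderOf z = 2 ∧ z ∈ commutator Γ ∧
      ∃ _ : (Subgroup.zpowers z).Normal,
        Nonempty (Γ ⧸ Subgroup.zpowers z ≃* alternatingGroup (Fin n)) := by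
  have hN : (Subgroup.zpowers (z n)).Normal := by rw [← ker_proj]; infer_instance
  exact ⟨G n, inferInstance, finite_G, z n, z_mem_center, orderOf_z, z_mem_commutator hn, hN,
    ⟨(QuotientGroup.quotientMulEquivOfEq ker_proj.symm).trans
      (QuotientGroup.quotientKerEquivOfSurjective _ proj_surj)⟩⟩

end H24.Pin
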