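import Mathlib
import Cfsg.Agent.H24.S08

/-!
# B & G, section 9: the Uniqueness Theorem
-/

set_option autoImplicit false

namespace H24

open Cfsg Subgroup
open H25 hiding abl_iff cyc_zpowers cyc_bot exists_prime_dvd_card cyc_cj
open H26 hiding Fitting_stab_chief

universe u

variable {G : Type u} [Group G] [Finite G] {A B D E K L M P : Subgroup G} {p : ℕ}

theorem prank_le_cent_p2Elem (hp : p.Prime) (hD : PnElem p 2 K D) (hn : A ≤ N[D]) :
    prank p A ≤ prank p (A ⊓ C[D]) + 1 :=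
  prank_le_add_of_relIndex hp (nml_inf_of_norm (norm_C hn)) (by
    rw [inf_relIndex_left]
    exact logn_quotient_cent_abelem hp hn hD.elem hD.card.dvd)

theorem not_cyc_of_cocyclic (hp : p.Prime) (hE : IsElementaryAbelian p E) (hr : 3 ≤ prank p E)
    (hB : B ≤ E) {a : G} (ha : a ∈ E) (h : E ≤ B ⊔ zpowers a) : ¬ Cyc B := fun hc => by
  have d1 : ♯B ∣ p := (hE.mono hB).card_dvd_of_cyc hc
  have d2 : ♯(zpowers a) ∣ p := (hE.mono (zpowers_le.2 ha)).card_dvd_of_cyc (cyc_zpowers a)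
  have d3 : ♯E ∣ p * p :=
    ((card_dvd h).trans (isProd_sup (hE.abl.norm (zpowers_le.2 ha) hB)).card_dvd).trans
      (mul_dvd_mul d1 d2)
  rw [hE.card_eq hp, ← pow_two] at d3
  have := (Nat.pow_dvd_pow_iff_le_right hp.one_lt).1 d3
  omega

/-- in a solvable group a `p'`-subgroup normalised by a Sylow `p`-subgroup lies in `O_{p'}`. -/
theorem le_pcore_of_syl_norm (hp : p.Prime) (hM : Sol M) (hP : Syl p M P) (hK : K ≤ M)
    (hK' : IsPi {p}ᶜ K) (hn : P ≤ N[K]) : K ≤ O[{p}ᶜ, M] := by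
  set V := O[{p}ᶜ, M] with hV
  have nV : M ≤ N[V] := (pcore_nml _ M).norm
  have nK : quo K V ≤ N[O[{p}, quo M V]] := (quo_mono V hK).trans (pcore_nml _ _).norm
  have a1 : quo K V ≤ C[O[{p}, quo M V]] :=
    cents_of_inf_eq_bot nK ((pcore_le_Hall (hP.quo nV)).trans (quo_norm V hn))
      ((hK'.quo V).inf_eq_bot' (pcore_pi _ _))
  rw [← quo_eq_bot (hK.trans nV)]
  exact ((pcore_pi _ _).of_le ((le_inf (quo_mono V hK) a1).trans
    (cent_pcore_sub hp (hM.quo V) (pcore_quo_pcore _ M)))).eq_bot (hK'.quo V)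

theorem prank_pcore_Fitting (hp : p.Prime) (M : Subgroup G) : prank p O[{p}, M] = prank p F[M] :=
  prank_Syl hp (syl_pcore_Fitting hp M)

variable [FT G]

/-- 9.1(b) -/
theorem noncyclic_normed_sub_Uniqueness (hp : p.Prime) (hM : IsCoatom M) (hB : PElem p M B)
    (hnc : ¬ Cyc B) (h : ∀ K : Subgroup G, IsPi {p}ᶜ K → B ≤ N[K] → K ≤ M) : Uniq B := by
  have solM := mmax_sol hM
  have pB : IsPi {p} B := hB.elem.isPi hp
  refine (uniqMax_of_forall (M := M) (sub_mmax_proper hM hB.le) fun H₀ hH₀ sBH₀ => ?_).isUniq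
  by_contra ne₀
  obtain ⟨R, sBR, ⟨pR, sRM, H, hH, neH, sRH⟩, mR⟩ := exists_max
    (P := fun R => IsPi {p} R ∧ R ≤ M ∧ ∃ H, IsCoatom H ∧ H ≠ M ∧ R ≤ H)
    ⟨pB, hB.le, H₀, hH₀, ne₀, sBH₀⟩
  have R1 : R ≠ ⊥ := fun e => hnc (by rw [eq_bot_of_le e sBR]; exact cyc_bot)
  obtain ⟨P, hP, sRP⟩ := Sylow_superset hp pR sRM
  have sHp'M : O[{p}ᶜ, H] ≤ M := h _ (pcore_pi _ H) ((sBR.trans sRH).trans (pcore_nml _ H).norm)
  have sNPM : N[P] ≤ M := by
    by_cases h0 : O[{p}ᶜ, M] = ⊥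
    · exact (mmax_Puig_center hp hM h0 hP (ne_bot_of_le R1 sRP)).2.1
    · rw [← mmax_normal hM (pcore_nml _ M) h0]
      intro x hx
      have h1 : P ≤ N[cj x O[{p}ᶜ, M]] := by
        have := norm_cj (hP.le.trans (pcore_nml {p}ᶜ M).norm) x
        rwa [cj_of_mem_N hx] at this
      exact mem_N_of_cj_le (le_pcore_of_syl_norm hp solM hP
        (h _ ((pcore_pi _ M).cj x) ((sBR.trans sRP).trans h1)) ((pcore_pi _ M).cj x) h1)
  have sylP : Syl p ⊤ P := hP.of_norm_le hp le_top (inf_le_right.trans sNPM)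
  obtain ⟨sNRM, sylH⟩ : N[R] ≤ M ∧ Syl p H R := by
    rcases sRP.eq_or_lt with rfl | lt
    · exact ⟨sNPM, sylP.of_le sRH le_top⟩
    · have lt' := (hP.pi.nil hp).proper_norm lt
      obtain ⟨D, hD, sND⟩ := exists_mmax_norm R1 (mFT_pgroup_proper pR)
      have eD : D = M := by
        by_contra neD
        exact lt'.ne' (mR _ ⟨hP.pi.inf_left _, inf_le_left.trans hP.le, D, hD, neD,
          inf_le_right.trans sND⟩ lt'.le)
      have s1 : Syl p (H ⊓ M) R := syl_of_max hp pR (le_inf sRH sRM) fun S pS h1 h2 =>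
        (mR S ⟨pS, h2.trans inf_le_right, H, hH, neH, h2.trans inf_le_left⟩ h1).le
      exact ⟨eD ▸ sND, s1.of_norm_le hp inf_le_left (inf_le_inf_left _ (eD ▸ sND))⟩
  have sF : F[H] ≤ O[{p}ᶜ, H] ⊔ R := by
    rw [← ((Fitting_nil H).pcoreC' {p}).sup, p_core_Fitting hp]
    exact sup_le_sup (pcore_Fitting_le _ H) (pcore_le_Hall sylH)
  have sM : O[{p}ᶜ, H] ⊔ R ≤ M := sup_le sHp'M sRM
  by_cases hr : 3 ≤ rank F[H]
  · exact neH ((Fitting_Uniqueness hH hr).eq hM (sF.trans sM) hH (Fitting_le H))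
  have sH : O[{p}ᶜ, H] ⊔ R ≤ H := sup_le (pcore_le _ H) sRH
  have n : O[{p}ᶜ, H] ⊔ R ⊴ H := nml_of_der1_le
    ((rank2_der1_sub_Fitting (mFT_odd _) (mmax_sol hH) (by omega)).trans sF) sH
  refine neH (eq_mmax hH hM ?_)
  rw [← (Frattini_arg hp n (sylH.of_le le_sup_right sH)).sup_eq]
  exact sup_le sM (inf_le_right.trans sNRM)

/-- 9.1(a) -/
theorem noncyclic_cent1_sub_Uniqueness (hp : p.Prime) (hM : IsCoatom M) (hB : PElem p M B)
    (hnc : ¬ Cyc B) (h : ∀ b ∈ B, b ≠ 1 → C{b} ≤ M) : Uniq B :=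
  noncyclic_normed_sub_Uniqueness hp hM hB hnc fun _ hK hn =>
    coprime_abelian_gen_cent1 hB.elem.abl hnc hn (hK.coprime' (hB.elem.isPi hp))
      fun b hb b1 => inf_le_right.trans (h b hb b1)

/-- 9.2 -/
theorem cent_uniq_Uniqueness (hL : Uniq L) (hK : K ≤ C[L]) (hr : 2 ≤ rank K) : Uniq K := by
  obtain ⟨H, hH⟩ := uniq_iff.1 hL
  obtain ⟨p, hp, B, hB⟩ := rank_geP.1 hr
  have h1 : ∀ b ∈ B, b ≠ 1 → C{b} ≤ H := fun b hb b1 =>
    hH.le_of_ne_top (mem_C_iff_le_C1.1 (hK (hB.le hb))) (mFT_cent1_proper b1)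
  have h2 : B ≤ H := fun b hb => by
    by_cases b1 : b = 1
    · rw [b1]; exact H.one_mem
    · exact h1 b hb b1 (self_mem_C1 b)
  exact (noncyclic_cent1_sub_Uniqueness hp hH.coatom ⟨h2, hB.elem⟩ (hB.not_cyc hp le_rfl) h1).mono
    hB.le (ne_top_of_le hK (mFT_cent_proper (uniq_ne_bot hL)))

/-- 9.3 -/
theorem any_cent_rank3_Uniquness (hp : p.Prime) (hAa : Abl A) (hA : IsPi {p} A) (hr : 3 ≤ rank A)
    (hU : Uniq A) (hB : IsPi {p} B) (hnc : ¬ Cyc B) (hrB : 3 ≤ prank p C[B]) : Uniq B := by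
  obtain ⟨E, hE⟩ := (prank_geP hp).1 hrB
  obtain ⟨P, hP, hEP⟩ := Sylow_superset hp (hE.isPi hp) le_top
  obtain ⟨x, -, hx⟩ := Sylow_Jsub hp hP hA le_top
  obtain ⟨D, nD, hD⟩ := ex_odd_normal_p2Elem hp hP.pi (mFT_odd _)
    fun hc => hE.not_cyc hp (by omega) (hc.of_le hEP)
  have r1 : 2 ≤ rank (cj x A ⊓ C[D]) := by
    have := prank_le_cent_p2Elem hp hD (hx.trans nD.norm)
    rw [prank_cj hp, ← rank_pgroup hp hA] at this
    exact le_trans (by omega) (prank_le_rank hp _)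
  have r2 : 2 ≤ rank (E ⊓ C[D]) := by
    have := prank_le_cent_p2Elem hp hD (hEP.trans nD.norm)
    rw [hE.prank_eq hp] at this
    exact le_trans (by omega) (prank_le_rank hp _)
  have u1 : Uniq (cj x A ⊓ C[D]) :=
    cent_uniq_Uniqueness (hU.cj x) (inf_le_left.trans (hAa.cj x).le_C) r1
  have u2 : Uniq D := cent_uniq_Uniqueness u1 (cents_symm inf_le_right) (hD.rank_eq hp).ge
  have u3 : Uniq (E ⊓ C[D]) := cent_uniq_Uniqueness u2 inf_le_right r2
  exact cent_uniq_Uniqueness u3 (cents_symm (inf_le_left.trans hE.le))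
    ((odd_pgroup_two_le_prank hp hB (mFT_odd _) hnc).trans (prank_le_rank hp _))

/-- 9.4 -/
theorem any_rank3_Fitting_Uniqueness (hp : p.Prime) (hM : IsCoatom M) (hr : 3 ≤ prank p F[M])
    (hP : IsPi {p} P) (hrP : 3 ≤ rank P) : Uniq P := by
  rw [rank_pgroup hp hP] at hrP
  obtain ⟨B, hB⟩ := (prank_geP hp).1 hrP
  refine Uniq.mono ?_ hB.le (mFT_pgroup_proper hP)
  have c3 : 3 ≤ prank p C[B] := (hB.of_le hB.le_cent).le_prank hp
  have nc : ¬ Cyc B := hB.not_cyc hp (by omega)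
  by_cases hF : IsPi {p} F[M]
  · obtain ⟨S, hS, hFS⟩ := Sylow_superset hp hF (Fitting_le M)
    obtain ⟨A, hA⟩ := exists_SCN3 hp hS.pi (mFT_odd _) (hr.trans (prank_mono hp hFS))
    exact any_cent_rank3_Uniquness hp hA.1.abl (hS.pi.of_le hA.1.le) hA.2
      (SCN_Fitting_Uniqueness hp hM hF hS hr hA).2.2 (hB.isPi hp) nc c3
  · obtain ⟨A, hA⟩ := (prank_geP hp).1 hr
    obtain ⟨A₀, hA₀, h1⟩ := pmaxElem_exists hA.le hA.elem
    have r3 : 3 ≤ prank p A₀ := (hA.of_le h1).le_prank hp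
    have r3' := r3.trans (prank_le_rank hp _)
    exact any_cent_rank3_Uniquness hp hA₀.elem.abl (hA₀.elem.isPi hp) r3'
      (cent_uniq_Uniqueness (non_pcore_Fitting_Uniqueness hp hM hF hA₀ r3)
        (cents_symm inf_le_right) (by omega)) (hB.isPi hp) nc c3

theorem uniqMax_pcore_of_rank3 {q : ℕ} (hq : q.Prime) (hM : IsCoatom M) (hr : 3 ≤ prank q F[M]) :
    UniqMax O[{q}, M] M :=
  (any_rank3_Fitting_Uniqueness hq hM hr (pcore_pi _ M)
    (by rwa [rank_pgroup hq (pcore_pi _ M), prank_pcore_Fitting hq])).uniqMax hM (pcore_le _ M)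

theorem comm_Sylow_norm_ne_bot (hp : p.Prime) (hP : Syl p ⊤ P) (h1 : P ≠ ⊥) : ⁅P, N[P]⁆ ≠ ⊥ := by
  intro h
  have sd := Burnside_normal_complement hp hP (inf_le_right.trans (comm_eq_bot'.1 h))
  rcases mFT_normal sd.nml.norm with e | e
  · rw [e] at sd
    exact mFT_pgroup_proper hP.pi sd.eq_of_left_bot
  · exact h1 (by rw [← sd.inf, e, top_inf_eq])

section SCN3

variable (hp : p.Prime) (hP : Syl p ⊤ P) (hA : SCNn 3 P A) (hU : ¬ Uniq A)
include hp hP hA hU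

theorem SCN3_prank_le (hM : IsCoatom M) : prank p F[M] ≤ 2 := by
  by_contra h
  exact hU (any_rank3_Fitting_Uniqueness hp hM (by omega) (hP.pi.of_le hA.1.le) hA.2)

theorem SCN3_norm_le (hM : IsCoatom M) (sCAM : C[A] ≤ M) : N[P] ≤ M := by
  have pA : IsPi {p} A := hP.pi.of_le hA.1.le
  have r3 := hA.2
  have A1 : A ≠ ⊥ := rank_pos_iff.1 (by omega)
  have eπ := primesOf_pgroup pA A1
  have Fp2 := SCN3_prank_le hp hP hA hU hM
  obtain ⟨q, hq, hqp, hqQ⟩ : ∃ q, q.Prime ∧ q ≠ p ∧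
      ∀ Q, IsPi {q} Q → O[{q}, M] ≤ Q → N[Q] ≤ M := by
    by_cases hr : 3 ≤ rank F[M]
    · obtain ⟨q, hq, h3⟩ := le_rank_iff.1 hr
      have u := uniqMax_pcore_of_rank3 hq hM h3
      exact ⟨q, hq, fun e => by subst e; omega, fun Q hQ h => u.le_of_ne_top
        (h.trans (norm_self Q)) (mFT_norm_proper (ne_bot_of_le (uniq_ne_bot u.isUniq) h)
          (mFT_pgroup_proper hQ))⟩
    · have ne : (♯M).primeFactors.Nonempty :=
        Nat.nonempty_primeFactors.2 (one_lt_card (mmax_neq1 hM))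
      have hq := Finset.max'_mem _ ne
      set q := (♯M).primeFactors.max' ne
      have hq' := Nat.prime_of_mem_primeFactors hq
      have s1 : Syl q M O[{q}, M] := rank2_max_pcore_Sylow (mFT_odd _) (mmax_sol hM) (by omega)
        fun r hr hd => Finset.le_max' _ r (Nat.mem_primeFactors.2 ⟨hr, hd, card_ne_zero M⟩)
      have e : N[O[{q}, M]] = M := mmax_normal hM (pcore_nml _ M)
        (s1.ne_bot hq' rfl (Nat.dvd_of_mem_primeFactors hq))
      have s2 : Syl q ⊤ O[{q}, M] := s1.of_norm_le hq' le_top (inf_le_right.trans e.le)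
      refine ⟨q, hq', fun e' => ?_, fun Q hQ h => by rw [s2.eq_of_le hQ h le_top, e]⟩
      rw [e'] at s2
      have := prank_mono hp (le_top : A ≤ ⊤)
      rw [← prank_Syl hp s2, prank_pcore_Fitting hp, ← rank_pgroup hp pA] at this
      omega
  have sNR : ∀ R, A ≤ R → R ≤ P → R ≤ M → N[R] ≤ M := by
    intro R hAR hRP hRM
    have pR := hP.pi.of_le hRP
    obtain ⟨Q, hQ, sQ⟩ := max_normed_exists (pcore_pi {q} M) (hRM.trans (pcore_nml _ M).norm)
    obtain ⟨-, -, -, h4⟩ := normed_trans_superset (SCN_normed_constrained hp hP ⟨hA.1, by omega⟩)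
      hq (pA.not_dvd hq hqp) ((pR.nil hp).sbn hAR) (eπ ▸ pR)
      (eπ ▸ Thompson_transitivity hp hq hqp ⟨P, hP, hA⟩)
    rw [← (h4 Q hQ).2.sup_eq]
    exact sup_le (((pcore_le _ _).trans (C_anti hAR)).trans sCAM)
      (inf_le_right.trans (hqQ Q (max_normed_pi hQ) sQ))
  exact sNR P hA.1.le le_rfl
    (hA.1.norm.trans (sNR A le_rfl hA.1.le (hA.1.abl.le_C.trans sCAM)))

theorem SCN3_exists_cent1 (hM : IsCoatom M) (sCAM : C[A] ≤ M) (hB : B ≤ omegaOne p A)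
    (hnc : ¬ Cyc B) : ∃ x ∈ B, ∃ L, IsCoatom L ∧ L ≠ M ∧ C{x} ≤ L ∧ C[A] ≤ L := by
  have hBA : B ≤ A := hB.trans (omegaOne_le p A)
  obtain ⟨x, hx, x1, hC⟩ : ∃ x ∈ B, x ≠ 1 ∧ ¬ C{x} ≤ M := by
    by_contra h
    push Not at h
    exact hU ((noncyclic_cent1_sub_Uniqueness hp hM ⟨hBA.trans (hA.1.abl.le_C.trans sCAM),
      (omegaOne_elem hA.1.abl).mono hB⟩ hnc h).mono hBA (mFT_pgroup_proper (hP.pi.of_le hA.1.le)))
  obtain ⟨L, hL, sL⟩ := exists_mmax_cent1 x1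
  exact ⟨x, hx, L, hL, fun e => hC (e ▸ sL), sL, (C_le_C1 (hBA hx)).trans sL⟩

theorem SCN3_prank_omega : 3 ≤ prank p (omegaOne p A) := by
  rw [prank_omegaOne hp, ← rank_pgroup hp (hP.pi.of_le hA.1.le)]
  exact hA.2

theorem SCN3_comm_cent (hM : IsCoatom M) (sCAM : C[A] ≤ M) : O[{p}ᶜ, F[M]] ≤ C[⁅P, N[P]⁆] := by
  set D := O[{p}ᶜ, F[M]] with hD
  have nD : D ⊴ M := pcore_Fitting_nml _ M
  have pD : IsPi {p}ᶜ D := pcore_pi _ _
  have eO := omegaOne_elem (p := p) hA.1.abl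
  refine coprime_abelian_gen_cent eO.abl
    (((omegaOne_le p A).trans (hA.1.abl.le_C.trans sCAM)).trans nD.norm)
    (pD.coprime' (eO.isPi hp)) fun B hB ⟨a, ha, hBa⟩ => ?_
  obtain ⟨x, hx, L, hL, neL, sCx, sCL⟩ := SCN3_exists_cent1 hp hP hA hU hM sCAM hB
    (not_cyc_of_cocyclic hp eO (SCN3_prank_omega hp hP hA hU) hB ha hBa)
  have sNP : N[P] ≤ L ⊓ M :=
    le_inf (SCN3_norm_le hp hP hA hU hL sCL) (SCN3_norm_le hp hP hA hU hM sCAM)
  have sP0 : ⁅P, N[P]⁆ ≤ ⁅L ⊓ M, L ⊓ M⁆ := (comm_mono_left (norm_self P)).trans (der1_mono sNP)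
  have r2 : ∀ q, q.Prime → prank q (D ⊓ L) ≤ 2 := fun q hq => by
    by_contra h
    obtain ⟨E, hE⟩ := (prank_geP (n := 3) hq).1 (not_le.1 h)
    have sEF : E ≤ F[M] := hE.le.trans (inf_le_left.trans (pcore_le _ _))
    exact neL ((any_rank3_Fitting_Uniqueness hq hM ((hE.of_le sEF).le_prank hq) (hE.isPi hq)
      (hE.rank_eq hq).ge).eq hM (sEF.trans (Fitting_le M)) hL (hE.le.trans inf_le_right))
  have nDL : D ⊓ L ⊴ L ⊓ M :=
    ⟨le_inf inf_le_right (inf_le_left.trans nD.le),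
      norm_inf (inf_le_right.trans nD.norm) (norm_of_le inf_le_left)⟩
  have solLM : Sol (L ⊓ M) := mmax_sub_sol hM inf_le_right
  have c : ⁅P, N[P]⁆ ≤ C[D ⊓ L] := by
    refine stable_chief_cent nDL ((pD.inf_left L).coprime' (hP.pi.of_le (comm_le_left le_rfl)))
      (Or.inl (solLM.of_le nDL.le)) fun X W hW hX => ?_
    obtain ⟨q, hq, e⟩ := sol_chief_abelem solLM hW
    exact (comm_mono_right sP0).trans (rank2_der1_cent_chief hq (mFT_odd _) solLM nDL (r2 q hq) hW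
      ((isPi_quo_iff hW.nml.norm).1 (e.isPi hq)) hX)
  exact (inf_le_inf_left _ ((C_le_C1 hx).trans sCx)).trans (cents_symm c)

theorem SCN3_uniqMax (hM : IsCoatom M) (sCAM : C[A] ≤ M) : UniqMax N[⁅P, N[P]⁆] M := by
  have r3 := hA.2
  have ne : ⁅P, N[P]⁆ ≠ ⊥ :=
    comm_Sylow_norm_ne_bot hp hP (ne_bot_of_le (rank_pos_iff.1 (by omega)) hA.1.le)
  have pr : ⁅P, N[P]⁆ ≠ ⊤ := mFT_pgroup_proper (hP.pi.of_le (comm_le_left le_rfl))
  have cD := SCN3_comm_cent hp hP hA hU hM sCAM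
  by_cases hr : 3 ≤ rank F[M]
  · obtain ⟨q, hq, h3⟩ := le_rank_iff.1 hr
    have hqp : q ≠ p := fun e => by
      have := SCN3_prank_le hp hP hA hU hM
      subst e
      omega
    refine (uniqMax_pcore_of_rank3 hq hM h3).mono' (norm_of_cent (le_trans ?_ cD))
      (mFT_norm_proper ne pr)
    rw [← p_core_Fitting hq]
    exact pcore_le_of_mem _ hqp
  · have sNP := SCN3_norm_le hp hP hA hU hM sCAM
    have sPM : P ≤ M := (norm_self P).trans sNP
    have sFP : F[M] ⊔ P ≤ M := sup_le (Fitting_le M) sPM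
    have n : F[M] ⊔ P ⊴ M := nml_of_der1_le
      ((rank2_der1_sub_Fitting (mFT_odd _) (mmax_sol hM) (by omega)).trans le_sup_left) sFP
    have nP : N[P] ≤ N[⁅P, N[P]⁆] := norm_comm_right _ _
    have h : M ≤ N[⁅P, N[P]⁆] := by
      rw [← (Frattini_arg hp n (hP.of_le le_sup_right le_top)).sup_eq]
      refine sup_le (sup_le ?_ ((norm_self P).trans nP)) (inf_le_right.trans nP)
      rw [← ((Fitting_nil M).pcoreC' {p}).sup, p_core_Fitting hp]
      exact sup_le (norm_of_cent cD)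
        ((pcore_le_Hall (hP.of_le sPM le_top)).trans ((norm_self P).trans nP))
    rw [mmax_norm hM ne pr h]
    exact uniqMax_self hM

end SCN3

/-- 9.5 -/
theorem SCN_3_Uniqueness (hp : p.Prime) (hA : SCNnp 3 p A) : Uniq A := by
  obtain ⟨P, hP, hA⟩ := hA
  by_contra hU
  have r3 := hA.2
  obtain ⟨M, hM, sCAM⟩ := exists_mmax_cent (H := A) (rank_pos_iff.1 (by omega))
  obtain ⟨x, -, L, hL, neL, -, sCL⟩ := SCN3_exists_cent1 hp hP hA hU hM sCAM le_rfl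
    (not_cyc_of_prank hp (by have := SCN3_prank_omega hp hP hA hU; omega))
  exact neL ((SCN3_uniqMax hp hP hA hU hM sCAM).eq (SCN3_uniqMax hp hP hA hU hL sCL))

/-- 9.6, first assertion -/
theorem rank3_Uniqueness (hK : K ≠ ⊤) (hr : 3 ≤ rank K) : Uniq K := by
  obtain ⟨p, hp, B, hB⟩ := rank_geP.1 hr
  obtain ⟨P, hP, hBP⟩ := Sylow_superset hp (hB.isPi hp) le_top
  obtain ⟨A, hA⟩ := exists_SCN3 hp hP.pi (mFT_odd _) ((hB.of_le hBP).le_prank hp)
  exact (any_cent_rank3_Uniquness hp hA.1.abl (hP.pi.of_le hA.1.le) hA.2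
    (SCN_3_Uniqueness hp ⟨P, hP, hA⟩) (hB.isPi hp) (hB.not_cyc hp (by omega))
    ((hB.of_le hB.le_cent).le_prank hp)).mono hB.le hK

/-- 9.6, second assertion -/
theorem cent_rank3_Uniqueness (hr : 2 ≤ rank K) (hC : 3 ≤ rank C[K]) : Uniq K :=
  cent_uniq_Uniqueness (rank3_Uniqueness (mFT_cent_proper (rank_pos_iff.1 (by omega))) hC)
    (le_CC K) hr

/-- 9.6, final observation -/
theorem nonmaxElem2_Uniqueness (hp : p.Prime) (hA : PnElem p 2 ⊤ A) (hm : ¬ PmaxElem p ⊤ A) :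
    Uniq A := by
  obtain ⟨B, hB, hAB⟩ := hA.exists_succ_of_not_pmax hp hm
  exact cent_rank3_Uniqueness (hA.rank_eq hp).ge
    ((hB.of_le (hB.le_cent.trans (C_anti hAB))).le_rank hp)

end H24
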