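import Mathlib
import Cfsg.Agent.H24.S07Defs
import Cfsg.Agent.H25.Voc

/-!
# Vocabulary of B & G, sections 14–15: `κ(M)`, the classes `𝓜_F, 𝓜_P, 𝓜_P1, 𝓜_P2`,
`κ`-complements, the signalizer `R(x)`, the sets `M~` and `Ẑ`
-/

set_option autoImplicit false

namespace H24

open Cfsg Subgroup H25

universe u

variable {G : Type u} [Group G]

/-- `M ∈ 𝓜_F`. -/
structure Fmax (M : Subgroup G) : Prop where
  coatom : IsCoatom M
  kappa : kappa M = ∅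

/-- `M ∈ 𝓜_P`. -/
structure Pmax (M : Subgroup G) : Prop where
  coatom : IsCoatom M
  kappa : (kappa M).Nonempty

/-- `M ∈ 𝓜_P1`. -/
structure P1max (M : Subgroup G) : Prop where
  pmax : Pmax M
  pi : IsPi (sigma M ∪ kappa M) M

/-- `M ∈ 𝓜_P2`. -/
structure P2max (M : Subgroup G) : Prop where
  pmax : Pmax M
  not_pi : ¬ IsPi (sigma M ∪ kappa M) M

/-- MathComp `kappa_complement M U K`. -/
structure KappaCompl (M U K : Subgroup G) : Prop where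
  hallU : Hall (sigma M ∪ kappa M)ᶜ M U
  hallK : Hall (kappa M) M K
  prod : IsProd U K (U ⊔ K)

/-- `ℓ_σ(x) = 1`. -/
def SigmaElt (x : G) : Prop := x ≠ 1 ∧ ∃ M, IsCoatom M ∧ x ∈ sigmaCore M

open scoped Classical in
/-- `N[x]`: the unique maximal subgroup containing `C(x)`, if there is one. -/
noncomputable def sigN (x : G) : Subgroup G :=
  if h : ∃ N, UniqMax C{x} N then h.choose else ⊤

open scoped Classical in
/-- the signalizer `R(x)` of Theorem 14.4. -/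
noncomputable def sigR (x : G) : Subgroup G :=
  if ∃ M, IsCoatom M ∧ x ∈ sigmaCore M ∧ ¬ C{x} ≤ M then sigmaCore (sigN x) ⊓ C{x} else ⊥

/-- `M~`: the union of the cosets `x R(x)`, `x ∈ M_σ#`. -/
def sigmaCover (M : Subgroup G) : Set G :=
  {g | ∃ x ∈ sigmaCore M, x ≠ 1 ∧ ∃ r ∈ sigR x, g = x * r}

/-- `Ẑ = K L \ (K ∪ L)` (MathComp `cyclicTIset`). -/
def Zhat (K L : Subgroup G) : Set G := ((K ⊔ L : Subgroup G) : Set G) \ ((K : Set G) ∪ (L : Set G))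

section

variable {M N K L U X P : Subgroup G} {x y g : G} {p : ℕ}

theorem mem_Zhat : x ∈ Zhat K L ↔ x ∈ K ⊔ L ∧ x ∉ K ∧ x ∉ L := by
  simp [Zhat, not_or]

theorem Zhat_comm (K L : Subgroup G) : Zhat K L = Zhat L K := by
  unfold Zhat
  rw [sup_comm, Set.union_comm]

theorem mem_sigmaCover :
    g ∈ sigmaCover M ↔ ∃ x ∈ sigmaCore M, x ≠ 1 ∧ ∃ r ∈ sigR x, g = x * r := Iff.rfl

theorem UniqMax.sigN_eq (h : UniqMax C{x} N) : sigN x = N := by
  have h1 : ∃ N, UniqMax C{x} N := ⟨N, h⟩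
  rw [sigN, dif_pos h1]
  exact h.eq h1.choose_spec

theorem sigR_of_not_le (hM : IsCoatom M) (hx : x ∈ sigmaCore M) (h : ¬ C{x} ≤ M) :
    sigR x = sigmaCore (sigN x) ⊓ C{x} := by
  rw [sigR, if_pos ⟨M, hM, hx, h⟩]

theorem sigR_le_C1 (x : G) : sigR x ≤ C{x} := by
  unfold sigR
  split_ifs
  exacts [inf_le_right, bot_le]

theorem P1max.coatom (h : P1max M) : IsCoatom M := h.pmax.coatom

theorem P2max.coatom (h : P2max M) : IsCoatom M := h.pmax.coatom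

theorem Fmax.not_pmax (h : Fmax M) : ¬ Pmax M := fun h' => h'.kappa.ne_empty h.kappa

theorem Pmax.not_fmax (h : Pmax M) : ¬ Fmax M := fun h' => h'.not_pmax h

theorem fmax_or_pmax (h : IsCoatom M) : Fmax M ∨ Pmax M :=
  (Set.eq_empty_or_nonempty (kappa M)).imp (fun e => ⟨h, e⟩) fun e => ⟨h, e⟩

theorem pmax_of_not_fmax (h : IsCoatom M) (h' : ¬ Fmax M) : Pmax M :=
  (fmax_or_pmax h).resolve_left h'

theorem fmax_of_not_pmax (h : IsCoatom M) (h' : ¬ Pmax M) : Fmax M :=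
  (fmax_or_pmax h).resolve_right h'

theorem Pmax.p1_or_p2 (h : Pmax M) : P1max M ∨ P2max M := by
  by_cases e : IsPi (sigma M ∪ Cfsg.kappa M) M
  exacts [Or.inl ⟨h, e⟩, Or.inr ⟨h, e⟩]

theorem P1max.not_p2 (h : P1max M) : ¬ P2max M := fun h' => h'.not_pi h.pi

theorem P2max.not_p1 (h : P2max M) : ¬ P1max M := fun h' => h.not_pi h'.pi

theorem Fmax.not_p1 (h : Fmax M) : ¬ P1max M := fun h' => h.not_pmax h'.pmax

theorem Fmax.not_p2 (h : Fmax M) : ¬ P2max M := fun h' => h.not_pmax h'.pmax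

theorem not_p1_iff (h : IsCoatom M) : ¬ P1max M ↔ Fmax M ∨ P2max M :=
  ⟨fun h1 => (fmax_or_pmax h).imp_right fun h2 => h2.p1_or_p2.resolve_left h1,
    fun h1 => h1.elim Fmax.not_p1 P2max.not_p1⟩

theorem not_p2_iff (h : IsCoatom M) : ¬ P2max M ↔ Fmax M ∨ P1max M :=
  ⟨fun h1 => (fmax_or_pmax h).imp_right fun h2 => h2.p1_or_p2.resolve_right h1,
    fun h1 => h1.elim Fmax.not_p2 P1max.not_p2⟩

theorem kappa_prime (h : p ∈ kappa M) : p.Prime := h.1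

theorem kappa_dvd (h : p ∈ kappa M) : p ∣ ♯M := h.2.1

theorem kappa_not_sigma (h : p ∈ kappa M) : p ∉ sigma M := h.2.2.1

theorem kappa_sub_sigma' (M : Subgroup G) : kappa M ⊆ (sigma M)ᶜ := fun _ h => kappa_not_sigma h

theorem sigma_sub_kappa' (M : Subgroup G) : sigma M ⊆ (kappa M)ᶜ :=
  fun _ h h' => kappa_not_sigma h' h

theorem kappa_sub_pi (M : Subgroup G) : kappa M ⊆ primesOf M := fun _ h => ⟨h.1, h.2.1⟩

theorem SigmaElt.ne_one (h : SigmaElt x) : x ≠ 1 := h.1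

theorem sigmaElt_of_mem (hM : IsCoatom M) (hx : x ∈ sigmaCore M) (h1 : x ≠ 1) : SigmaElt x :=
  ⟨h1, M, hM, hx⟩

variable [Finite G]

/-- the MathComp definition of `κ(M)`. -/
theorem mem_kappa (hodd : Odd ♯M) : p ∈ kappa M ↔
    (p ∈ tau1 M ∨ p ∈ tau3 M) ∧ ∃ P, PnElem p 1 M P ∧ sigmaCore M ⊓ C[P] ≠ ⊥ := by
  constructor
  · rintro ⟨hp, hd, hs, h⟩
    obtain ⟨S, hS⟩ := Sylow_exists hp M
    obtain ⟨T, rfl⟩ := hS.exists_sylow hp
    obtain ⟨hc, x, hx, hx1, y, hy, hy1, e⟩ := h T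
    have hr : prank p M = 1 := by
      rw [← prank_Syl hp hS]
      exact le_antisymm (cyc_prank_le_one hp (Cyc.map hc _)) ((prank_pos_iff hp).2
        (hS.prime_dvd hp rfl hd))
    refine ⟨?_, ?_⟩
    · by_cases hd' : p ∣ ♯⁅M, M⁆
      exacts [Or.inr (mem_tau3.2 ⟨hp, hs, hr, hd'⟩), Or.inl (mem_tau1.2 ⟨hp, hs, hr, hd'⟩)]
    · have hx' : (x : G) ∈ (T : Subgroup M).map M.subtype := mem_map_of_mem _ hx
      have hx1' : (x : G) ≠ 1 := fun e => hx1 (Subtype.ext e)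
      obtain ⟨X, hX⟩ := exists_pnElem_one hp (H := zpowers (x : G))
        (((hS.pi.piElt hx').isPi).dvd_card (by rwa [Ne, zpowers_eq_bot]))
      refine ⟨X, hX.mono ((zpowers_le (G := G)).2 x.2), ne_bot_of_mem (mem_inf.2 ⟨hy, ?_⟩) hy1⟩
      refine C_anti hX.le ?_
      rw [C_zpowers]
      exact mem_C1.2 e.symm
  · rintro ⟨ht, X, hX, hne⟩
    have hp : p.Prime := ht.elim tau1_prime tau3_prime
    have hr : prank p M = 1 := ht.elim tau1_prank tau3_prank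
    refine ⟨hp, ht.elim tau1_dvd tau3_dvd, ht.elim tau1_not_sigma tau3_not_sigma, fun T => ?_⟩
    have hS := syl_of_sylow hp T
    refine ⟨(cyc_map_iff M.subtype_injective).1
      (odd_pgroup_cyc hp hS.pi (odd_of_le hodd hS.le) (by rw [prank_Syl hp hS, hr])), ?_⟩
    obtain ⟨g, hg, hle⟩ := Sylow_Jsub hp hS (hX.isPi hp) hX.le
    obtain ⟨x, hx, hx1⟩ := exists_ne_one (hX.ne_bot hp one_pos)
    obtain ⟨y, hy, hy1⟩ := exists_ne_one hne
    obtain ⟨z, hz, e⟩ := hle (conj_mem_cj g hx)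
    refine ⟨z, hz, fun e1 => hx1 ?_, g * y * g⁻¹,
      (pcore_nml (sigma M) M).conj_mem hg (mem_inf.1 hy).1, by rwa [Ne, conj_eq_one_iff'], ?_⟩
    · rw [e1, map_one] at e
      exact conj_eq_one_iff'.1 e.symm
    · have e' : (z : G) = g * x * g⁻¹ := e
      have := mem_C.1 (mem_inf.1 hy).2 x hx
      rw [e']
      calc g * x * g⁻¹ * (g * y * g⁻¹) = g * (x * y) * g⁻¹ := by group
        _ = g * y * g⁻¹ * (g * x * g⁻¹) := by rw [this]; group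

theorem sigmaCore_cj' (g : G) (M : Subgroup G) : sigmaCore (cj g M) = cj g (sigmaCore M) := by
  rw [sigmaCore_def, sigma_cj, pcore_cj, sigmaCore_def]

theorem kappa_cj_sub (g : G) (M : Subgroup G) : kappa M ⊆ kappa (cj g M) := by
  rintro p ⟨hp, hd, hs, h⟩
  refine ⟨hp, by rwa [card_cj], by rwa [sigma_cj], fun T => ?_⟩
  have hS := (syl_of_sylow hp T).cj g⁻¹
  rw [cj_inv_cj] at hS
  obtain ⟨S, e⟩ := Syl.exists_sylow hp hS
  obtain ⟨hc, x, hx, hx1, y, hy, hy1, e1⟩ := h S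
  have hc' : Cyc (cj g⁻¹ ((T : Subgroup (cj g M)).map (cj g M).subtype)) := e ▸ Cyc.map hc _
  refine ⟨(cyc_map_iff (cj g M).subtype_injective).1 (H24.cyc_cj.1 hc'), ?_⟩
  have hx' : (x : G) ∈ cj g⁻¹ ((T : Subgroup (cj g M)).map (cj g M).subtype) :=
    e ▸ mem_map_of_mem _ hx
  obtain ⟨z, hz, e2⟩ := mem_cj.1 hx'
  have e3 : (z : G) = g * x * g⁻¹ := by simpa using e2
  refine ⟨z, hz, fun e4 => hx1 (Subtype.ext ?_), g * y * g⁻¹,
    by rw [sigmaCore_cj']; exact conj_mem_cj g hy, by rwa [Ne, conj_eq_one_iff'], ?_⟩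
  · rw [e4] at e3
    exact conj_eq_one_iff'.1 e3.symm
  · rw [e3]
    calc g * x * g⁻¹ * (g * y * g⁻¹) = g * (x * y) * g⁻¹ := by group
      _ = g * y * g⁻¹ * (g * x * g⁻¹) := by rw [e1]; group

theorem kappa_cj (g : G) (M : Subgroup G) : kappa (cj g M) = kappa M := by
  refine Set.Subset.antisymm ?_ (kappa_cj_sub g M)
  have := kappa_cj_sub g⁻¹ (cj g M)
  rwa [cj_inv_cj] at this

theorem Fmax.cj (h : Fmax M) (g : G) : Fmax (cj g M) :=
  ⟨isCoatom_cj h.coatom g, (kappa_cj g M).trans h.kappa⟩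

theorem Pmax.cj (h : Pmax M) (g : G) : Pmax (cj g M) :=
  ⟨isCoatom_cj h.coatom g, (kappa_cj g M).symm ▸ h.kappa⟩

theorem P1max.cj (h : P1max M) (g : G) : P1max (cj g M) :=
  ⟨h.pmax.cj g, by rw [sigma_cj, kappa_cj, isPi_cj]; exact h.pi⟩

theorem P2max.cj (h : P2max M) (g : G) : P2max (cj g M) :=
  ⟨h.pmax.cj g, by rw [sigma_cj, kappa_cj, isPi_cj]; exact h.not_pi⟩

theorem KappaCompl.cj (h : KappaCompl M U K) (g : G) : KappaCompl (cj g M) (cj g U) (cj g K) := by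
  refine ⟨by rw [sigma_cj, kappa_cj]; exact h.hallU.cj g, by rw [kappa_cj]; exact h.hallK.cj g,
    le_sup_left, le_sup_right, fun m hm => ?_⟩
  rw [← cj_sup] at hm
  obtain ⟨z, hz, rfl⟩ := mem_cj'.1 hm
  obtain ⟨a, ha, b, hb, rfl⟩ := h.prod.mul z hz
  exact ⟨_, conj_mem_cj g ha, _, conj_mem_cj g hb, by group⟩

theorem SigmaElt.conj (h : SigmaElt x) (g : G) : SigmaElt (g * x * g⁻¹) := by
  obtain ⟨h1, M, hM, hx⟩ := h
  exact ⟨by rwa [Ne, conj_eq_one_iff'], cj g M, isCoatom_cj hM g,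
    by rw [sigmaCore_cj']; exact conj_mem_cj g hx⟩

omit [Finite G] in
theorem sigN_conj (g x : G) : sigN (g * x * g⁻¹) = cj g (sigN x) := by
  by_cases h : ∃ N, UniqMax C{x} N
  · obtain ⟨N, hN⟩ := h
    have h2 := hN.cj g
    rw [cj_C1] at h2
    rw [hN.sigN_eq, h2.sigN_eq]
  · have h2 : ¬ ∃ N, UniqMax C{g * x * g⁻¹} N := fun ⟨N, hN⟩ => h ⟨cj g⁻¹ N, by
      have := hN.cj g⁻¹
      rwa [← cj_C1, cj_inv_cj] at this⟩
    rw [sigN, sigN, dif_neg h, dif_neg h2, cj_top]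

theorem sigR_conj (g x : G) : sigR (g * x * g⁻¹) = cj g (sigR x) := by
  by_cases h : ∃ M, IsCoatom M ∧ x ∈ sigmaCore M ∧ ¬ C{x} ≤ M
  · obtain ⟨M, hM, hx, hC⟩ := h
    rw [sigR_of_not_le hM hx hC, sigR_of_not_le (isCoatom_cj hM g)
      (by rw [sigmaCore_cj']; exact conj_mem_cj g hx) (by rwa [← cj_C1, cj_le_cj]),
      sigN_conj, sigmaCore_cj', cj_inf, cj_C1]
  · have h2 : ¬ ∃ M, IsCoatom M ∧ g * x * g⁻¹ ∈ sigmaCore M ∧ ¬ C{g * x * g⁻¹} ≤ M :=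
      fun ⟨M, hM, hx, hC⟩ => h ⟨cj g⁻¹ M, isCoatom_cj hM _, by
        rw [sigmaCore_cj', mem_cj]
        simpa using hx, by rwa [← cj_le_iff, cj_C1]⟩
    rw [sigR, sigR, if_neg h, if_neg h2, cj_bot]

theorem conj_mem_sigmaCover (g : G) (hx : x ∈ sigmaCover M) :
    g * x * g⁻¹ ∈ sigmaCover (cj g M) := by
  obtain ⟨y, hy, hy1, r, hr, rfl⟩ := hx
  exact ⟨g * y * g⁻¹, by rw [sigmaCore_cj']; exact conj_mem_cj g hy,
    by rwa [Ne, conj_eq_one_iff'], g * r * g⁻¹, by rw [sigR_conj]; exact conj_mem_cj g hr,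
    by group⟩

/-- MathComp `trivg_kappa`. -/
theorem trivg_kappa (hM : IsCoatom M) (hK : Hall (kappa M) M K) : K = ⊥ ↔ Fmax M :=
  ⟨fun e => ⟨hM, Set.eq_empty_of_forall_notMem fun _ hp =>
      hK.ne_bot (kappa_prime hp) hp (kappa_dvd hp) e⟩,
    fun h => hK.eq_bot_of_isPi (by rw [h.kappa, Set.compl_empty]; exact isPi_univ M)⟩

theorem kappa_ne_bot_iff (hM : IsCoatom M) (hK : Hall (kappa M) M K) : K ≠ ⊥ ↔ Pmax M :=
  ⟨fun h => pmax_of_not_fmax hM fun h' => h ((trivg_kappa hM hK).2 h'),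
    fun h e => h.not_fmax ((trivg_kappa hM hK).1 e)⟩

theorem Pmax.ne_bot (h : Pmax M) (hK : Hall (Cfsg.kappa M) M K) : K ≠ ⊥ :=
  (kappa_ne_bot_iff h.coatom hK).2 h

theorem KappaCompl.eq_bot_iff (h : KappaCompl M U K) : U = ⊥ ↔ IsPi (sigma M ∪ kappa M) M :=
  ⟨fun e => compl_compl (sigma M ∪ kappa M) ▸ h.hallU.isPi_compl_of_eq_bot e,
    fun e => h.hallU.eq_bot_of_isPi (by rwa [compl_compl])⟩

theorem KappaCompl.p1max (h : KappaCompl M U K) (hM : IsCoatom M) (hK : K ≠ ⊥) (hU : U = ⊥) :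
    P1max M :=
  ⟨(kappa_ne_bot_iff hM h.hallK).1 hK, h.eq_bot_iff.1 hU⟩

theorem KappaCompl.p2max (h : KappaCompl M U K) (hM : IsCoatom M) (hK : K ≠ ⊥) (hU : U ≠ ⊥) :
    P2max M :=
  ⟨(kappa_ne_bot_iff hM h.hallK).1 hK, fun e => hU (h.eq_bot_iff.2 e)⟩

theorem P1max.eq_bot (hM : P1max M) (h : KappaCompl M U K) : U = ⊥ := h.eq_bot_iff.2 hM.pi

theorem P2max.ne_bot (hM : P2max M) (h : KappaCompl M U K) : U ≠ ⊥ :=
  fun e => hM.not_pi (h.eq_bot_iff.1 e)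

theorem Fmax.kappaCompl (hM : Fmax M) (hE : Hall (sigma M)ᶜ M U) : KappaCompl M U ⊥ :=
  ⟨by rwa [hM.kappa, Set.union_empty],
    hall_bot (by rw [hM.kappa, Set.compl_empty]; exact isPi_univ M),
    isProd_sup (by rw [← bot_sup_eq N[U]]; exact le_sup_left)⟩

theorem Fmax.hall_sigma' (hM : Fmax M) (h : KappaCompl M U K) : Hall (sigma M)ᶜ M U := by
  have := h.hallU
  rwa [hM.kappa, Set.union_empty] at this

end

end H24
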