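import Mathlib
import Cfsg.Agent.H26.GMain
import Cfsg.Agent.H7.SyG
import Cfsg.Agent.H25.TwG
import Cfsg.Agent.H6.OneFix

/-! General lemmas: four-groups, characters of order two, and a fixed point criterion. -/

set_option autoImplicit false
set_option linter.unusedSectionVars false

namespace H24.He

open Cfsg H26 H26.Gold H7.SJ Subgroup
open H25.Tw (Ch)

variable {G : Type*} [Group G] [Finite G] {B H P X Y S Q R N : Subgroup G} {a b d e g t u x : G}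

theorem four_mem (hB : EA B) (h4 : ♯B = 4) (ht : t ∈ B) (hu : u ∈ B) (t1 : t ≠ 1) (u1 : u ≠ 1)
    (tu : u ≠ t) (hx : x ∈ B) : x = 1 ∨ x = t ∨ x = u ∨ x = t * u := by
  classical
  by_contra! k
  have h5 : ({1, t, u, t * u, x} : Finset G).card = 5 := by
    have e1 : t * u ≠ 1 := fun e => tu (by rw [← mul_eq_one_iff_inv_eq.1 e, hB.inv ht])
    rw [Finset.card_insert_of_notMem, Finset.card_insert_of_notMem, Finset.card_insert_of_notMem,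
      Finset.card_pair k.2.2.2.symm]
    · simp [t1, k.2.2.1.symm]
    · simp [u1, tu.symm, k.2.1.symm]
    · simp [t1.symm, u1.symm, e1.symm, k.1.symm]
  have := Set.ncard_le_ncard (s := (({1, t, u, t * u, x} : Finset G) : Set G)) (t := B) (by
    intro y hy
    simp only [Finset.coe_insert, Finset.coe_singleton, Set.mem_insert_iff,
      Set.mem_singleton_iff] at hy
    rcases hy with rfl | rfl | rfl | rfl | rfl
    exacts [one_mem B, ht, hu, mul_mem ht hu, hx])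
  rw [Set.ncard_coe_finset, h5, ← Nat.card_coe_set_eq] at this
  exact absurd (this.trans_eq h4) (by norm_num)

theorem fix3 (hB : EA B) (h4 : ♯B = 4) (ht : t ∈ B) (t1 : t ≠ 1) (ha : a ∈ N[B]) (ha' : a ∈ C{t})
    (hb : b ∈ N[B]) (hb' : b ∈ C{t}) : a ∈ C[B] ∨ b ∈ C[B] ∨ a * b ∈ C[B] := by
  obtain ⟨u, hu, h1⟩ := SetLike.not_le_iff_exists.1 fun h : B ≤ zpowers t => by
    have := card_le h
    rw [card_zpowers', H6.orderOf_eq_two_of (hB.sq ht) t1] at this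
    omega
  have u1 : u ≠ 1 := fun e => h1 (e ▸ one_mem _)
  have ut : u ≠ t := fun e => h1 (e ▸ mem_zpowers _)
  have k : ∀ g ∈ C{t}, g * u * g⁻¹ = u → g ∈ C[B] := fun g hg e => mem_C'.2 fun x hx => by
    have e1 := mem_C1.1 hg
    have e2 := mul_inv_eq_iff_eq_mul.1 e
    rcases four_mem hB h4 ht hu t1 u1 ut hx with rfl | rfl | rfl | rfl
    exacts [by simp, e1, e2, by rw [← mul_assoc, e1, mul_assoc, e2, mul_assoc]]
  have k2 : ∀ g ∈ N[B], g ∈ C{t} → g * u * g⁻¹ = u ∨ g * u * g⁻¹ = t * u := fun g hg hg' => by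
    rcases four_mem hB h4 ht hu t1 u1 ut (conj_mem hg hu) with e | e | e | e
    · exact absurd (conj_eq_one_iff'.1 e) u1
    · rw [← mem_C1_iff_conj.1 hg'] at e
      exact absurd (mul_left_cancel (mul_right_cancel e)) ut
    exacts [Or.inl e, Or.inr e]
  rcases k2 a ha ha' with e1 | e1
  · exact Or.inl (k a ha' e1)
  rcases k2 b hb hb' with e2 | e2
  · exact Or.inr (Or.inl (k b hb' e2))
  refine Or.inr (Or.inr (k _ (mul_mem ha' hb') ?_))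
  calc a * b * u * (a * b)⁻¹ = a * (b * u * b⁻¹) * a⁻¹ := by group
    _ = a * t * a⁻¹ * (a * u * a⁻¹) := by rw [e2]; group
    _ = u := by rw [mem_C1_iff_conj.1 ha', e1, ← mul_assoc, hB.sq ht, one_mul]

theorem ch_all {κ : G → Prop} (h : Ch H κ) (hS : Syl 2 H S) (hk : ∀ s ∈ S, κ s) (hg : g ∈ H) :
    κ g := by
  obtain ⟨s, o, h1, h2, h3, ⟨k, rfl⟩, h5⟩ := exists_piElt_decomp {2} g
  have k1 : s ∈ h.sub := le_of_idx_compl h.nml (hS.idx_of_ge fun s hs => ⟨hS.le hs, hk s hs⟩) h1.isPi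
    (zpowers_le.2 (zpowers_le.2 hg h3)) (mem_zpowers s)
  have k2 : g ^ k ∈ h.sub := mem_of_odd h2 ⟨mul_mem (zpow_mem hg k) (zpow_mem hg k),
    (h _ (zpow_mem hg k) _ (zpow_mem hg k)).2 Iff.rfl⟩
  exact (h5 ▸ mul_mem k1 k2 : g ∈ h.sub).2

theorem ch_idx {κ : G → Prop} (h : Ch H κ) (hx : x ∈ H) (h1 : ¬ κ x) : h.sub.relIndex H = 2 :=
  index_eq_two_iff.2 ⟨⟨x, hx⟩, fun b => by
    simp only [mem_subgroupOf, Ch.mem, coe_mul, h _ b.2 _ hx, mul_mem b.2 hx, b.2, true_and]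
    by_cases e : κ b <;> simp [e, h1]⟩

/-- swapping two subgroups is a character. -/
theorem ch_swap {A : Subgroup G} (hAB : A ≠ B)
    (h : ∀ g ∈ H, (cj g A = A ∧ cj g B = B) ∨ (cj g A = B ∧ cj g B = A)) :
    Ch H fun g => cj g A = A := fun a ha b hb => by
  rcases h a ha with h1 | h1 <;> rcases h b hb with h2 | h2 <;>
    simp [cj_mul, h1.1, h1.2, h2.1, h2.2, hAB.symm]

theorem gold [IsSimpleGroup G] (hS : Syl 2 ⊤ S) (hna : ¬ Abl S) (hQ : Q ≤ S) (hab : Abl Q)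
    (sc : ∀ a ∈ Q, ∀ g : G, g * a * g⁻¹ ∈ S → g * a * g⁻¹ ∈ Q) (hd : d ∈ Q) (d1 : d ≠ 1)
    (d2 : d * d = 1) (he : e ∈ S) (e2 : e * e = 1) : e ∈ Q := by
  obtain ⟨H, hH⟩ := (goldschmidt hS (ne_bot_of_mem hd d1) hab ⟨hQ, sc⟩).resolve_left hna
  by_cases e1 : e = 1
  · exact e1 ▸ one_mem Q
  obtain ⟨g, rfl⟩ := isConj_iff.1 (H6.isConj_of_isStronglyEmbedded hH (H6.orderOf_eq_two_of d2 d1)
    (H6.orderOf_eq_two_of e2 e1))
  exact sc d hd g he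

/-- The hypotheses of the fixed point criterion. -/
structure AH (X Y S Q R : Subgroup G) (d e : G) : Prop where
  syl : Syl 2 X S
  QS : Q ≤ S
  SY : S ≤ Y
  nQ : Y ≤ N[Q]
  ea : EA Q
  RY : R ≤ Y
  RC : R ≤ C[Q]
  SR : S ⊓ R ≤ Q
  dQ : d ∈ Q
  d1 : d ≠ 1
  Sd : S ≤ C{d}
  fix : ∀ g ∈ X, g * d * g⁻¹ ∈ Y → g ∈ Y
  dich : ∀ Y' N, S ≤ Y' → Y' ≤ Y → Y ≤ Y' ⊔ R → N ⊴ Y' → N ≤ R ∨ (S ≤ N ∧ Y ≤ N ⊔ R)
  nc : ∀ T ≤ Q, T ≠ ⊥ → Y ≤ N[T] → ¬ S ≤ C[T]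
  odd : ∀ D ≤ X, OddG D → S ≤ N[D] → D ≤ R
  eS : e ∈ S
  eQ : e ∉ Q
  e2 : e * e = 1

namespace AH

variable (h : AH X Y S Q R d e)
include h

theorem sc (ha : a ∈ Q) (hg : g ∈ X) (h1 : g * a * g⁻¹ ∈ S) : g * a * g⁻¹ ∈ Q := by
  have QX := h.QS.trans h.syl.le
  obtain ⟨P, hP, h2⟩ := Sylow_superset p2 (h.ea.two.cj g) (M := X ⊓ C{g * a * g⁻¹})
    (le_inf (cj_le_of_mem QX hg) (by
      rw [← cj_C1]; exact cj_mono g (mem_C_iff_le_C1.1 (h.ea.le_C ha))))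
  obtain ⟨c, hc, h3⟩ := Sylow_Jsub p2 hP (twoG_zp (h.ea.sq h.dQ))
    (zpowers_le.2 ⟨QX h.dQ, mem_C1_comm.1 (h.Sd h1)⟩)
  obtain ⟨k, hk, h4⟩ := Sylow_Jsub p2 h.syl hP.pi (hP.le.trans inf_le_left)
  have k1 : k * g ∈ Y := h.fix _ (mul_mem hk hg) (h.SY (h4 (by
    rw [show k * g * d * (k * g)⁻¹ = k * (g * d * g⁻¹) * k⁻¹ by group]
    exact conj_mem_cj k (h2 (conj_mem_cj g h.dQ)))))
  have k2 : k * c ∈ Y := h.fix _ (mul_mem hk hc.1) (h.SY (h4 (by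
    rw [show k * c * d * (k * c)⁻¹ = k * (c * d * c⁻¹) * k⁻¹ by group]
    exact conj_mem_cj k (h3 (conj_mem_cj c (mem_zpowers d))))))
  have := conj_mem (h.nQ (mul_mem (inv_mem k2) k1)) ha
  rwa [show (k * c)⁻¹ * (k * g) * a * ((k * c)⁻¹ * (k * g))⁻¹ = c⁻¹ * (g * a * g⁻¹) * c⁻¹⁻¹ by group,
    mem_C1_iff_conj.1 (inv_mem hc.2)] at this

theorem burn {X' : Subgroup G} (h1 : X' ≤ X) (h2 : S ≤ X') (hN : N ⊴ X') (h3 : N ⊓ Y ≤ R)
    (h4 : X' ⊓ N[S ⊓ N] ≤ Y) : X' ≤ Y := by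
  have hT := (h.syl.of_le h2 h1).inf_nml hN
  have TQ : S ⊓ N ≤ Q := (le_inf inf_le_left ((le_inf inf_le_right
    (inf_le_left.trans h.SY)).trans h3)).trans h.SR
  have k := (Burnside_normal_complement p2 hT ((le_inf inf_le_left ((inf_le_inf_right _ hN.le).trans
    h4)).trans (h3.trans (h.RC.trans (C_anti TQ))))).sup
  refine (Frattini_arg p2 hN hT).sup_eq.ge.trans (sup_le (k.ge.trans (sup_le ?_
    (inf_le_left.trans h.SY))) h4)
  exact (h.odd _ ((pcore_le _ N).trans (hN.le.trans h1)) (Od_odd N)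
    (h2.trans (hN.pcore _).norm)).trans h.RY

theorem step {X' : Subgroup G} (h1 : X' ≤ X) (h2 : S ≤ X') (h3 : Y ≤ X' ⊓ Y ⊔ R)
    (ih : ∀ K < X', S ≤ K → Y ≤ K ⊓ Y ⊔ R → K ≤ Y) (hN : N ⊴ X') (n1 : N ≠ X') (n2 : S ⊓ N ≠ ⊥) :
    X' ≤ Y := by
  have dich := fun N (hN : N ⊴ X') => h.dich _ _ (le_inf h2 h.SY) inf_le_right h3
    (hN.inf_right (L := X' ⊓ Y) inf_le_left)
  have e : ∀ N, N ≤ X' → N ⊓ (X' ⊓ Y) = N ⊓ Y := fun N hN => by rw [← inf_assoc, inf_eq_left.2 hN]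
  rcases dich N hN with k | k <;> rw [e N hN.le] at k
  · have TQ : S ⊓ N = Q ⊓ N := le_antisymm (le_inf ((le_inf inf_le_left ((le_inf inf_le_right
      (inf_le_left.trans h.SY)).trans k)).trans h.SR) inf_le_right) (inf_le_inf_right _ h.QS)
    have nT : X' ⊓ Y ≤ N[S ⊓ N] := TQ ▸ norm_inf (inf_le_right.trans h.nQ) (inf_le_left.trans hN.norm)
    have SN : S ≤ N[S ⊓ N] := (le_inf h2 h.SY).trans nT
    by_cases k1 : X' ≤ N[S ⊓ N]
    · have hN' : X' ⊓ C[S ⊓ N] ⊴ X' := nml_inf_of_norm (norm_C k1)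
      have TC : Q ≤ C[S ⊓ N] := h.ea.le_C.trans (C_anti (TQ ▸ inf_le_left))
      rcases dich _ hN' with k2 | k2 <;> rw [e _ hN'.le] at k2
      · refine h.burn h1 h2 hN' k2 fun g hg => h.fix g (h1 hg.1) (h.SY ?_)
        exact (conj_mem hg.2 (x := d) ⟨h.QS h.dQ, h2 (h.QS h.dQ), TC h.dQ⟩).1
      · exact absurd (k2.1.trans (inf_le_left.trans inf_le_right)) (h.nc _ (TQ ▸ inf_le_left) n2
          (h3.trans (sup_le nT (norm_of_cent (h.RC.trans (C_anti (TQ ▸ inf_le_left)))))))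
    · exact h.burn h1 h2 hN k (ih _ (inf_lt_left.2 k1) (le_inf h2 SN)
        (h3.trans (sup_le_sup_right (le_inf (le_inf inf_le_left nT) inf_le_right) _)))
  · have k1 := k.1.trans inf_le_left
    refine (Frattini_arg p2 hN (h.syl.of_le k1 (hN.le.trans h1))).sup_eq.ge.trans
      (sup_le (ih N (lt_of_le_of_ne hN.le n1) k1 k.2) fun g hg => ?_)
    exact h.fix g (h1 hg.1) (h.SY (conj_mem hg.2 (h.QS h.dQ)))

theorem main : ∀ X' ≤ X, S ≤ X' → Y ≤ X' ⊓ Y ⊔ R → X' ≤ Y := by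
  refine subgroup_ind fun X' ih h1 h2 h3 => ?_
  by_contra hc
  have st := fun N hN n1 n2 => hc (h.step (N := N) h1 h2 h3
    (fun K hK => ih K hK (hK.le.trans h1)) hN n1 n2)
  have hS := h.syl.of_le h2 h1
  have hO := pcore_nml ({2}ᶜ : Set ℕ) X'
  have OR := h.odd _ (hO.le.trans h1) (Od_odd X') (h2.trans hO.norm)
  have SO : S ⊓ Od[X'] = ⊥ := hS.inf_eq_bot (Od_odd X')
  haveI := hO.normal
  let π := QuotientGroup.mk' ((Od[X']).subgroupOf X')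
  have hπ : pre π ⊥ = Od[X'] := by
    rw [pre, MonoidHom.comap_bot, QuotientGroup.ker_mk', map_subgroupOf' hO.le]
  have top : img π X' = ⊤ := by
    rw [img_dom, MonoidHom.range_eq_top]; exact QuotientGroup.mk'_surjective _
  have mem : ∀ {x} {A : Subgroup G}, x ∈ X' → A ≤ X' → ap π x ∈ img π A → x ∈ A ⊔ Od[X'] :=
    fun hx hA e => by rw [← hπ, ← pre_img π hA]; exact mem_pre.2 ⟨hx, e⟩
  have dX := h2 (h.QS h.dQ)
  have d1 : ap π d ≠ 1 := fun e => h.d1 (SO.le ⟨h.QS h.dQ, hπ ▸ mem_pre_bot.2 ⟨dX, e⟩⟩)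
  haveI : Nontrivial (X' ⧸ (Od[X']).subgroupOf X') := ⟨_, _, d1⟩
  haveI : IsSimpleGroup (X' ⧸ (Od[X']).subgroupOf X') := ⟨fun B hB => by
    have k1 : pre π B ⊴ X' := by simpa [pre_top] using (nml_top B).pre π
    have k2 := img_pre_of_le (f := π) (X := B) (by rw [← img_dom, top]; exact le_top)
    by_cases k3 : pre π B = X'
    · exact Or.inr (by rw [← k2, k3, top])
    refine Or.inl (by_contra fun k4 => st _ k1 k3 fun k5 => k4 ?_)
    rw [← k2, img_eq_bot k1.le, hπ]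
    exact pcore_max ((hS.inf_nml k1).isPi_compl_of_eq_bot k5) k1⟩
  have QX := h.QS.trans h2
  refine absurd (mem (h2 h.eS) QX (gold (top ▸ hS.img π le_rfl) (fun k => h.nc Q le_rfl (ne_bot_of_mem h.dQ h.d1)
      h.nQ ((abl_of_img h2 (by rw [hπ, inf_comm, SO]) k).cents le_rfl h.QS)) (img_mono π h.QS)
      (h.ea.abl.img π) (fun a' ha' g' k => ?_) (ap_mem_img π h.dQ dX) d1
      (by rw [← ap_mul π dX dX, h.ea.sq h.dQ, ap_one]) (ap_mem_img π h.eS (h2 h.eS))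
      (by rw [← ap_mul π (h2 h.eS) (h2 h.eS), h.e2, ap_one]))) fun k => ?_
  swap
  · obtain ⟨q, hq, o, ho, e1⟩ := (mem_sup_of_norm (OR.trans (norm_of_cent h.RC))).1 k
    have := SO.le (x := o) ⟨(mul_mem_cancel_left (h.QS hq)).1 (e1 ▸ h.eS), ho⟩
    exact h.eQ (by rw [e1, mem_bot.1 this, mul_one]; exact hq)
  obtain ⟨a, ha, -, rfl⟩ := mem_img.1 ha'
  obtain ⟨g, hg, -, rfl⟩ := mem_img.1 (top ▸ mem_top g' : g' ∈ img π X')
  rw [← ap_conj π hg (QX ha)] at k ⊢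
  have k1 := mul_mem (mul_mem hg (QX ha)) (inv_mem hg)
  obtain ⟨m, hm, k2⟩ := Sylow_Jsub p2 (syl_sup (Od_odd X') hS.pi (h2.trans hO.norm))
    (twoG_zp (H7.SJ.conj_sq (h.ea.sq ha) g)) (zpowers_le.2 (sup_comm S _ ▸ mem k1 h2 k))
  have k3 := k2 (conj_mem_cj m (mem_zpowers _))
  have k4 : m ∈ Y := sup_le (OR.trans h.RY) h.SY hm
  have e : m * (g * a * g⁻¹) * m⁻¹ = m * g * a * (m * g)⁻¹ := by group
  refine ap_mem_img π ((conj_mem_iff (h.nQ k4)).1 ?_) k1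
  exact e ▸ h.sc ha (mul_mem (h1 (sup_le hO.le h2 hm)) (h1 hg)) (e ▸ k3)

theorem le (hY : Y ≤ X) : X ≤ Y :=
  h.main X le_rfl h.syl.le ((le_inf hY le_rfl).trans le_sup_left)

end AH

end H24.He
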