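import Mathlib
import Cfsg.Agent.H24.HeG

/-! The data of the last step. -/

set_option autoImplicit false
set_option linter.unusedSectionVars false

namespace H24.Sz

open H26 H26.Gold Subgroup
open H7.SJ (p2)

/-- `Q` is extraspecial of order `2⁷` with centre `z`, `T` is a Sylow subgroup. -/
structure En {G : Type*} [Group G] (z z' t : G) (Q T O P A R : Subgroup G) : Prop where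
  syl : Syl 2 ⊤ T
  big : 2 ^ 11 ∣ Nat.card G
  z1 : z ≠ 1
  z2 : z * z = 1
  zQ : z ∈ Q
  z'Q : z' ∈ Q
  Tz : T ≤ C{z}
  QT : Q ≤ T
  nQ : T ≤ N[Q]
  card : ♯Q = 2 ^ 7
  sq : ∀ a ∈ Q, a * a ∈ zpowers z
  CQ : ∀ e ∈ T, e ∈ C[Q] → e ∈ zpowers z
  t2 : t * t = 1
  tP : t ∈ P
  tQ : t ∉ Q
  PT : P ≤ T
  tz : ¬ IsConj t z
  ttz : IsConj t (t * z)
  IY : ∀ u ∈ T, IsConj t u → ∃ y ∈ N[Q], u = y * t * y⁻¹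
  Ct : C{t} ⊓ C{z} ≤ N[Q]
  cm : ∀ e ∈ T, e * e ∈ zpowers z → ∃ u ∈ N[Q], IsConj t u ∧ e * u * e⁻¹ * u⁻¹ ∈ zpowers z
  odd : OddG O
  OQ : O ≤ C[Q]
  omax : ∀ D, OddG D → T ≤ N[D] → D ≤ O
  cP : ∀ e ∈ T, (∀ p ∈ P, e * p * e⁻¹ * p⁻¹ ∈ zpowers z) → e ∈ zpowers z ∨ e * z' ∈ zpowers z
  genQ : ∀ N : Subgroup G, N[Q] ≤ N[N] → z ∈ N → z' ∈ N → Q ≤ N
  dich : ∀ N : Subgroup G, N[Q] ≤ N[N] → Q ≤ N → N ⊓ T ≤ Q ∨ P ≤ N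
  nP : ∀ N : Subgroup G, N[Q] ≤ N[N] → P ≤ N → ¬ N ≤ T
  eaR : EA R
  R4 : 4 ≤ ♯R
  RT : R ≤ T
  RQ : R ⊓ Q = ⊥
  Rz : ∀ r ∈ R, r ≠ 1 → ∀ x ∈ N[Q], x * r * x⁻¹ * r⁻¹ ∈ Q → x * z' * x⁻¹ * z'⁻¹ ∈ zpowers z
  eaA : EA A
  zA : z ∈ A
  Az : ∀ a ∈ A, a ≠ 1 → ∃ m ∈ C[O], m * z * m⁻¹ = a
  zc : ∀ e ∈ T, e * e = 1 → (∃ y ∈ N[Q], y * e * y⁻¹ ∈ A) ∨ IsConj t e ∨
    ∃ u, IsConj t u ∧ u * e = e * u ∧ ¬ IsConj t (u * e)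

end H24.Sz
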