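import Mathlib
import Cfsg.Agent.H28.HC3
import Cfsg.Agent.H26.GBase

/-! The model of the Sylow subgroup of `2².L₃(4)` inside the centraliser of a transvection of
`L₅(2)`: partial embeddings and actions. -/

set_option autoImplicit false
set_option linter.unusedSectionVars false
set_option maxRecDepth 100000
set_option synthInstance.maxSize 4096

namespace H24.He

open H28 H28.Held H29 H26 H26.Gold Subgroup

/-- generators of a point of `U`. -/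
def g1 (i : Bool) : Hc := cond i ⟪17044177⟫ ⟪17051737⟫
/-- generators of a point of `U`. -/
def g2 (i : Bool) : Hc := cond i ⟪17044037⟫ ⟪17059913⟫
/-- the involutions of the point. -/
def pU (i : Bool) : List Hc := [g1 i, g2 i, cond i ⟪17043669⟫ ⟪17068113⟫]
/-- the centre of `L`. -/
def lV4 : List Hc := [1, tB, eB, ⟪17043801⟫]
/-- an involution of the second point of `Z`. -/
def w0 : Hc := ⟪17044057⟫
/-- the second point of `Z`. -/
def lW4 : List Hc := [1, w0, ⟪17043793⟫, ⟪17044297⟫]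

/-- the centre of `L`. -/
noncomputable def V0 : Subgroup Hc := subOf (· ∈ lV4) (by simp [lV4]) fun a b ha hb =>
  (show ∀ a ∈ lV4, ∀ b ∈ lV4, a * b ∈ lV4 by decide +kernel) a ha b hb
/-- the second point of `Z`. -/
noncomputable def W0 : Subgroup Hc := subOf (· ∈ lW4) (by simp [lW4]) fun a b ha hb =>
  (show ∀ a ∈ lW4, ∀ b ∈ lW4, a * b ∈ lW4 by decide +kernel) a ha b hb

noncomputable instance (a : Hc) : Decidable (a ∈ V0) := decidable_of_iff (a ∈ lV4) Iff.rfl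
noncomputable instance (a : Hc) : Decidable (a ∈ W0) := decidable_of_iff (a ∈ lW4) Iff.rfl
noncomputable instance (P : Hc → Prop) [DecidablePred P] : Decidable (∀ a ∈ V0, P a) :=
  decidable_of_iff (∀ a ∈ lV4, P a) Iff.rfl
noncomputable instance (P : Hc → Prop) [DecidablePred P] : Decidable (∀ a ∈ W0, P a) :=
  decidable_of_iff (∀ a ∈ lW4, P a) Iff.rfl
noncomputable instance (P : Hc → Prop) [DecidablePred P] : Decidable (∃ a ∈ V0, P a) :=
  decidable_of_iff (∃ a ∈ lV4, P a) Iff.rfl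

/-- the class of the involutions of the points. -/
abbrev dD (a : Hc) : Prop := cls a = 3 ∨ cls a = 5

/-- square of a product. -/
def sq2 (a b : Hc) : Hc := a * b * (a * b)

/-- the sifting list of `R`. -/
def glR (b1 b2 b3 b4 : Hc) : List (ℕ × Hc × Hc) :=
  [(7, g1 true, b1), (2, g2 true, b2), (13, g1 false, b3), (14, g2 false, b4),
    (8, ⟪17043777⟫, sq2 b1 b3), (3, ⟪17043529⟫, sq2 b2 b3), (9, ⟪17044033⟫, sq2 b1 b4),
    (4, ⟪17043537⟫, sq2 b2 b4)]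

/-- the endomorphism of `R` with given images of the generators. -/
noncomputable def th (b1 b2 b3 b4 : Hc) : Hc → Hc := sig (glR b1 b2 b3 b4)

/-- the action of the element of order three of `L`. -/
noncomputable def τc : Hc → Hc := th ⟪17043669⟫ ⟪17044177⟫ ⟪17068113⟫ ⟪17051737⟫
/-- the action of the element of order three centralising `W`. -/
noncomputable def τd : Hc → Hc := th ⟪17043669⟫ ⟪17044177⟫ ⟪17059913⟫ ⟪17068113⟫
/-- the action of the unitary automorphism. -/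
noncomputable def τu : Hc → Hc := th ⟪17068113⟫ ⟪17059913⟫ ⟪17043669⟫ ⟪17044037⟫

/-- the sifting list of the action of `y i`. -/
def glY (i : Bool) : List (ℕ × Hc × Hc) := cond i
  [(7, g1 true, ⟪17043793⟫), (2, g2 true, ⟪17044057⟫), (8, ⟪17043777⟫, ⟪17044189⟫),
    (3, ⟪17043529⟫, ⟪17044425⟫), (9, ⟪17044033⟫, ⟪17043905⟫), (4, ⟪17043537⟫, ⟪17043533⟫)]
  [(13, g1 false, ⟪17043793⟫), (14, g2 false, ⟪17044057⟫), (8, ⟪17043777⟫, ⟪17068633⟫),
    (3, ⟪17043529⟫, ⟪17051969⟫), (9, ⟪17044033⟫, ⟪17052489⟫), (4, ⟪17043537⟫, ⟪17060417⟫)]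

/-- the action of `y i`. -/
noncomputable def τy (i : Bool) : Hc → Hc := sig (glY i)

/-- conjugation. -/
noncomputable def cn (t a : Hc) : Hc := t * a * hinv t

theorem cn_eq (t a : Hc) : cn t a = t * a * t⁻¹ := by rw [cn, hinv_eq]

theorem V0_le : V0 ≤ Zc := show ∀ a ∈ V0, a ∈ Zc by decide +kernel
theorem W0_le : W0 ≤ Zc := show ∀ a ∈ W0, a ∈ Zc by decide +kernel
theorem Z_le (i : Bool) : Zc ≤ Uc i := fun _ ha => by
  cases i
  exacts [(Zc_iff.1 ha).2, (Zc_iff.1 ha).1]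
theorem Z_R : Zc ≤ Rc := (Z_le true).trans (Uc_le_Rc true)
theorem V_R : V0 ≤ Rc := V0_le.trans Z_R
theorem W_R : W0 ≤ Rc := W0_le.trans Z_R
theorem Z_sq {a : Hc} (ha : a ∈ Zc) : a * a = 1 := Uc_sq true a (Z_le true ha)
theorem zc_Z : zc ∈ Zc := by decide +kernel
theorem zc_V : zc ∉ V0 := by decide +kernel
theorem tB_V : tB ∈ V0 := by decide +kernel
theorem tB_ne : tB ≠ 1 := by decide +kernel
theorem w0_W : w0 ∈ W0 := by decide +kernel
theorem w0_V : w0 ∉ V0 := by decide +kernel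
theorem g1_U (i : Bool) : g1 i ∈ Uc i := by cases i <;> decide +kernel
theorem g2_U (i : Bool) : g2 i ∈ Uc i := by cases i <;> decide +kernel
theorem g1_R (i : Bool) : g1 i ∈ Rc := Uc_le_Rc i (g1_U i)
theorem g2_R (i : Bool) : g2 i ∈ Rc := Uc_le_Rc i (g2_U i)

theorem card_list {A : Subgroup Hc} {l : List Hc} (h : ∀ a, a ∈ A ↔ a ∈ l) (hn : l.Nodup) :
    ♯A = l.length := by
  classical
  rw [← List.toFinset_card_of_nodup hn, ← Nat.card_eq_finsetCard]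
  exact Nat.card_congr (Equiv.subtypeEquivRight fun a => by simp [h])

theorem card_V0 : ♯V0 = 4 := card_list (l := lV4) (fun _ => Iff.rfl) (by decide +kernel)
theorem card_W0 : ♯W0 = 4 := card_list (l := lW4) (fun _ => Iff.rfl) (by decide +kernel)

theorem rem_R (b1 b2 b3 b4 : Hc) : ∀ a ∈ Rc, rem (glR b1 b2 b3 b4) a = 1 := by
  have h : ∀ a ∈ Rc, rem (glR 1 1 1 1) a = 1 := by decide +kernel
  exact h

variable {G : Type*} [Group G] {A B : Subgroup Hc} {f : Hc → G} {g g' : G} {a b : Hc}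
  {θ θ' : Hc → Hc}

/-- `f` is an injective homomorphism on `A`. -/
structure Emb (A : Subgroup Hc) (f : Hc → G) : Prop where
  mul : ∀ a ∈ A, ∀ b ∈ A, f (a * b) = f a * f b
  inj : ∀ a ∈ A, f a = 1 → a = 1

theorem Emb.one (h : Emb A f) : f 1 = 1 := by simpa using h.mul 1 A.one_mem 1 A.one_mem

theorem Emb.inv (h : Emb A f) (ha : a ∈ A) : f a⁻¹ = (f a)⁻¹ :=
  eq_inv_of_mul_eq_one_left (by rw [← h.mul _ (inv_mem ha) _ ha, inv_mul_cancel, h.one])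

theorem Emb.eq (h : Emb A f) (ha : a ∈ A) (hb : b ∈ A) (e : f a = f b) : a = b :=
  inv_mul_eq_one.1 (h.inj _ (mul_mem (inv_mem ha) hb) (by
    rw [h.mul _ (inv_mem ha) _ hb, h.inv ha, e, inv_mul_cancel]))

theorem Emb.of_le (h : Emb A f) (hB : B ≤ A) : Emb B f :=
  ⟨fun a ha b hb => h.mul a (hB ha) b (hB hb), fun a ha => h.inj a (hB ha)⟩

theorem Emb.ne (h : Emb A f) (ha : a ∈ A) (h1 : a ≠ 1) : f a ≠ 1 := fun e => h1 (h.inj a ha e)

theorem Emb.comm (h : Emb A f) (ha : a ∈ A) (hb : b ∈ A) :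
    f a * f b = f b * f a ↔ a * b = b * a := by
  rw [← h.mul a ha b hb, ← h.mul b hb a ha]
  exact ⟨h.eq (mul_mem ha hb) (mul_mem hb ha), congrArg f⟩

theorem Emb.conj (h : Emb A f) (ha : a ∈ A) (hb : b ∈ A) :
    f a * f b * (f a)⁻¹ = f (cn a b) := by
  rw [cn_eq, h.mul _ (mul_mem ha hb) _ (inv_mem ha), h.mul a ha b hb, h.inv ha]

theorem Emb.sq (h : Emb A f) (ha : a ∈ A) : f a * f a = 1 ↔ a * a = 1 := by
  rw [← h.mul a ha a ha]
  exact ⟨h.inj _ (mul_mem ha ha), fun e => by rw [e, h.one]⟩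

/-- the image of a subgroup. -/
def im (f : Hc → G) (B : Subgroup Hc) : Subgroup G := closure (f '' B)

theorem mem_im (ha : a ∈ B) : f a ∈ im f B := subset_closure ⟨a, ha, rfl⟩

theorem im_le {X : Subgroup G} : im f B ≤ X ↔ ∀ a ∈ B, f a ∈ X := by
  rw [im, closure_le]
  exact ⟨fun h a ha => h ⟨a, ha, rfl⟩, fun h _ ⟨a, ha, e⟩ => e ▸ h a ha⟩

theorem im_mono (h : A ≤ B) : im f A ≤ im f B := im_le.2 fun _ ha => mem_im (h ha)

/-- the homomorphism on the subgroup. -/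
noncomputable def Emb.hom (h : Emb A f) : A →* G := MonoidHom.mk' (fun a => f a) fun a b => h.mul a a.2 b b.2

theorem Emb.im_eq (h : Emb A f) : im f A = h.hom.range :=
  le_antisymm (im_le.2 fun a ha => ⟨⟨a, ha⟩, rfl⟩) fun _ ⟨a, e⟩ => e ▸ mem_im a.2

theorem Emb.ex (h : Emb A f) (hg : g ∈ im f A) : ∃ a ∈ A, f a = g := by
  rw [h.im_eq] at hg
  obtain ⟨a, e⟩ := hg
  exact ⟨a, a.2, e⟩

theorem Emb.mem (h : Emb A f) (hB : B ≤ A) (ha : a ∈ A) : f a ∈ im f B ↔ a ∈ B :=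
  ⟨fun e => by
    obtain ⟨b, hb, e⟩ := (h.of_le hB).ex e
    exact h.eq (hB hb) ha e ▸ hb, mem_im⟩

theorem Emb.card (h : Emb A f) : ♯(im f A) = ♯A := by
  rw [h.im_eq]
  exact (Nat.card_congr (MonoidHom.ofInjective (f := h.hom)
    fun a b e => Subtype.ext (h.eq a.2 b.2 e)).toEquiv).symm

theorem Emb.two [Finite G] (h : Emb A f) (hA : A ≤ Tc) : TwoG (im f A) := by
  refine PiNat.dvd (piNat_self_pow Nat.prime_two 10) ?_
  rw [h.card, ← card_Tc]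
  exact card_dvd_of_le hA

theorem Emb.ea [Finite G] (h : Emb A f) (hA : ∀ a ∈ A, a * a = 1) : EA (im f A) :=
  ea_of_sq fun g hg => by
    obtain ⟨a, ha, rfl⟩ := h.ex hg
    exact (h.sq ha).2 (hA a ha)

theorem im_congr {f' : Hc → G} (h : ∀ a ∈ A, f a = f' a) : im f A = im f' A :=
  le_antisymm (im_le.2 fun a ha => h a ha ▸ mem_im ha) (im_le.2 fun a ha => h a ha ▸ mem_im ha)

/-- `g` acts on the image of `A` as `θ`. -/
def Ac (A : Subgroup Hc) (f : Hc → G) (g : G) (θ : Hc → Hc) : Prop :=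
  ∀ a ∈ A, θ a ∈ A ∧ g * f a * g⁻¹ = f (θ a)

theorem Ac.mul (h : Ac A f g θ) (h' : Ac A f g' θ') : Ac A f (g * g') fun a => θ (θ' a) :=
  fun a ha => ⟨(h _ (h' a ha).1).1, by rw [← (h _ (h' a ha).1).2, ← (h' a ha).2]; group⟩

theorem Ac.congr (h : Ac A f g θ) (e : ∀ a ∈ A, θ a = θ' a) : Ac A f g θ' :=
  fun a ha => e a ha ▸ h a ha

theorem ac_one : Ac A f 1 id := fun a ha => ⟨ha, by simp⟩

theorem Ac.pow (h : Ac A f g θ) : ∀ n : ℕ, Ac A f (g ^ n) θ^[n]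
  | 0 => by simpa using ac_one
  | n + 1 => by rw [pow_succ]; exact (h.pow n).mul h

theorem Ac.of_le (h : Ac A f g θ) (hB : B ≤ A) (hθ : ∀ a ∈ B, θ a ∈ B) : Ac B f g θ :=
  fun a ha => ⟨hθ a ha, (h a (hB ha)).2⟩

theorem Emb.ac (h : Emb A f) (ha : a ∈ A) (hB : B ≤ A) (hn : ∀ b ∈ B, cn a b ∈ B) :
    Ac B f (f a) (cn a) := fun b hb => ⟨hn b hb, h.conj ha (hB hb)⟩

theorem Ac.norm [Finite G] (h : Ac A f g θ) (he : Emb A f) : g ∈ N[im f A] :=
  mem_N_of_finite fun x hx => by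
    obtain ⟨a, ha, rfl⟩ := he.ex hx
    exact (h a ha).2 ▸ mem_im (h a ha).1

theorem Ac.cent (h : Ac A f g θ) (e : ∀ a ∈ A, θ a = a) : g ∈ C[im f A] := by
  have : im f A ≤ C{g} := im_le.2 fun a ha => by
    have := (h a ha).2
    rw [e a ha, mul_inv_eq_iff_eq_mul] at this
    exact mem_C1.2 this.symm
  exact mem_C_iff_le_C1.2 this

theorem Ac.cent2 (h : Ac A f g θ) (h' : Ac A f g' θ) : g⁻¹ * g' ∈ C[im f A] := by
  have : im f A ≤ C{g⁻¹ * g'} := im_le.2 fun a ha => mem_C1.2 (by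
    have := (h a ha).2.trans (h' a ha).2.symm
    calc f a * (g⁻¹ * g') = g⁻¹ * (g * f a * g⁻¹) * g' := by group
      _ = _ := by rw [this]; group)
  exact mem_C_iff_le_C1.2 this

theorem Ac.of_cent (h : Ac A f g θ) (h' : g' ∈ C[im f A]) : Ac A f (g * g') θ := fun a ha =>
  ⟨(h a ha).1, by rw [← (h a ha).2, mul_assoc g, ← mem_C.1 h' _ (mem_im ha)]; group⟩

theorem ac_sift (he : Emb A f) {l : List (ℕ × Hc × Hc)} (hl : ∀ x ∈ l, x.2.1 ∈ A ∧ x.2.2 ∈ A ∧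
    x.2.1 * x.2.1 = 1 ∧ g * f x.2.1 * g⁻¹ = f x.2.2) (hr : ∀ a ∈ A, rem l a = 1) :
    Ac A f g (sig l) := fun a ha =>
  (sift_ind (P := fun a b => a ∈ A ∧ b ∈ A ∧ g * f a * g⁻¹ = f b) ⟨one_mem _, one_mem _, by
    simp [he.one]⟩ (fun a b a' b' h1 h2 => ⟨mul_mem h1.1 h2.1, mul_mem h1.2.1 h2.2.1, by
      rw [he.mul _ h1.1 _ h2.1, he.mul _ h1.2.1 _ h2.2.1, ← h1.2.2, ← h2.2.2]; group⟩) l
    (fun x hx => ⟨⟨(hl x hx).1, (hl x hx).2.1, (hl x hx).2.2.2⟩, (hl x hx).2.2.1⟩) a (hr a ha)).2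

theorem ac_th (he : Emb Rc f) {b1 b2 b3 b4 : Hc} (m1 : b1 ∈ Rc) (m2 : b2 ∈ Rc) (m3 : b3 ∈ Rc)
    (m4 : b4 ∈ Rc) (e1 : g * f (g1 true) * g⁻¹ = f b1) (e2 : g * f (g2 true) * g⁻¹ = f b2)
    (e3 : g * f (g1 false) * g⁻¹ = f b3) (e4 : g * f (g2 false) * g⁻¹ = f b4) :
    Ac Rc f g (th b1 b2 b3 b4) := by
  have k : ∀ {a a' b b' c : Hc}, a ∈ Rc → a' ∈ Rc → b ∈ Rc → b' ∈ Rc → g * f a * g⁻¹ = f b →
      g * f a' * g⁻¹ = f b' → (c = sq2 a a' ∧ c * c = 1) → c ∈ Rc ∧ sq2 b b' ∈ Rc ∧ c * c = 1 ∧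
      g * f c * g⁻¹ = f (sq2 b b') := fun h1 h2 h3 h4 h5 h6 h7 => by
    obtain ⟨rfl, h7⟩ := h7
    refine ⟨mul_mem (mul_mem h1 h2) (mul_mem h1 h2), mul_mem (mul_mem h3 h4) (mul_mem h3 h4), h7, ?_⟩
    rw [sq2, sq2, he.mul _ (mul_mem h1 h2) _ (mul_mem h1 h2), he.mul _ h1 _ h2,
      he.mul _ (mul_mem h3 h4) _ (mul_mem h3 h4), he.mul _ h3 _ h4, ← h5, ← h6]
    group
  refine ac_sift he ?_ (rem_R _ _ _ _)
  simp only [glR, List.forall_mem_cons, List.not_mem_nil, IsEmpty.forall_iff, implies_true, and_true]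
  exact ⟨⟨g1_R _, m1, Uc_sq _ _ (g1_U _), e1⟩, ⟨g2_R _, m2, Uc_sq _ _ (g2_U _), e2⟩,
    ⟨g1_R _, m3, Uc_sq _ _ (g1_U _), e3⟩, ⟨g2_R _, m4, Uc_sq _ _ (g2_U _), e4⟩,
    k (g1_R _) (g1_R _) m1 m3 e1 e3 (by decide +kernel),
    k (g2_R _) (g1_R _) m2 m3 e2 e3 (by decide +kernel),
    k (g1_R _) (g2_R _) m1 m4 e1 e4 (by decide +kernel),
    k (g2_R _) (g2_R _) m2 m4 e2 e4 (by decide +kernel)⟩

/-- two actions on `R` agree if they agree on the generators. -/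
theorem Ac.ext (he : Emb Rc f) (h : Ac Rc f g θ) (h' : Ac Rc f g' θ')
    (e : ∀ i, θ (g1 i) = θ' (g1 i) ∧ θ (g2 i) = θ' (g2 i)) : Ac Rc f g θ' := by
  have k := fun {g : G} {θ : Hc → Hc} (h : Ac Rc f g θ) =>
    ac_th he (h _ (g1_R true)).1 (h _ (g2_R true)).1 (h _ (g1_R false)).1 (h _ (g2_R false)).1
      (h _ (g1_R true)).2 (h _ (g2_R true)).2 (h _ (g1_R false)).2 (h _ (g2_R false)).2
  have k1 := k h
  rw [(e true).1, (e true).2, (e false).1, (e false).2] at k1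
  exact k1.congr fun a ha => he.eq (k1 a ha).1 (h' a ha).1 ((k h' a ha).2.symm.trans (h' a ha).2)

/-- A frame of the standard subgroup. -/
structure Fr (L : Subgroup G) (f : Hc → G) (c : G) (y : Bool → G) : Prop where
  emb : Emb Rc f
  mem : im f Rc ≤ L
  cen : L ⊓ C[L] = im f V0
  inv : ∀ l ∈ L, l * l ∈ C[L] → l ∉ C[L] → ∃ m ∈ L, ∃ v ∈ V0, m * l * m⁻¹ = f (zc * v)
  cz : ∀ l ∈ L, l * f zc * l⁻¹ * (f zc)⁻¹ ∈ C[L] → l ∈ im f Rc
  syl : Syl 2 L (im f Rc)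
  cL : c ∈ L
  cA : Ac Rc f c τc
  yL : ∀ i, y i ∈ L
  yA : ∀ i, Ac (Uc i) f (y i) (τy i)
  aut : ∀ g ∈ N[L] ⊓ C[im f V0], g ∈ L ⊔ C[L] ∨ ∃ m ∈ L, Ac Rc f (m * g) τu

end H24.He
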