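import Mathlib
import Cfsg.Agent.H24.HeM
import Cfsg.Agent.H24.HeG
import Cfsg.Agent.H28.HeldA

/-! The conjugates of the centre of the standard subgroup. -/

set_option autoImplicit false
set_option linter.unusedSectionVars false
set_option maxRecDepth 100000
set_option synthInstance.maxSize 4096

namespace H24.He

open H28 H28.Held H29 H26 H26.Gold Subgroup
open H7.SJ (p2 ea_cj twoG_zp mem_of_odd)

variable {G : Type*} [Group G] [Finite G] {L X : Subgroup G} {f : Hc → G} {c g g' t u k σ x : G}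
  {y : Bool → G} {a b ζ : Hc}

local notation "𝐕" => im f V0
local notation "𝐖" => im f W0
local notation "𝐙" => im f Zc
local notation "𝐏" => im f Rc

/-- commutator. -/
noncomputable def cm (a b : Hc) : Hc := a * b * hinv (b * a)

theorem cm_eq (a b : Hc) : cm a b = a * b * a⁻¹ * b⁻¹ := by rw [cm, hinv_eq]; group

/-- representatives modulo `Z`. -/
noncomputable def R16 : List Hc := [1, g1 true, g2 true, g1 true * g2 true].flatMap fun a =>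
  [1, g1 false, g2 false, g1 false * g2 false].map (a * ·)

theorem cm_V (ha : a ∈ Rc) (h0 : a ∉ Zc) {b1 b2 : Hc} (m1 : b1 ∈ Rc) (m2 : b2 ∈ Rc)
    (h1 : cm a b1 ∈ V0) (h2 : cm a b2 ∈ V0) : cm b1 b2 ∈ V0 := by
  have k1 : ∀ a ∈ Rc, ∃ r ∈ R16, r ∈ Rc ∧ hinv r * a ∈ Zc := by decide +kernel
  have k2 : ∀ a ∈ R16, a ∉ Zc → ∀ b1 ∈ R16, cm a b1 ∈ V0 → ∀ b2 ∈ R16, cm a b2 ∈ V0 →
    cm b1 b2 ∈ V0 := by decide +kernel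
  have k3 : ∀ {r r' a a' : Hc}, r ∈ Rc → r' ∈ Rc → hinv r * a ∈ Zc → hinv r' * a' ∈ Zc →
      cm a a' = cm r r' := fun {r r' a a'} h1 h2 h3 h4 => by
    rw [hinv_eq] at h3 h4
    obtain ⟨z, rfl⟩ : ∃ z, a = r * z := ⟨r⁻¹ * a, by group⟩
    obtain ⟨w, rfl⟩ : ∃ z, a' = r' * z := ⟨r'⁻¹ * a', by group⟩
    rw [inv_mul_cancel_left] at h3 h4
    rw [cm, cm, hinv_eq, hinv_eq, mul_assoc r, ← mul_assoc z, Zc_comm h3 h2, mul_assoc r' w,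
      ← mul_assoc w, Zc_comm h4 h1, mul_assoc r w, Zc_comm h4 (Z_R h3)]
    group
  obtain ⟨r, r1, r2, r3⟩ := k1 a ha
  obtain ⟨s, s1, s2, s3⟩ := k1 b1 m1
  obtain ⟨t, t1, t2, t3⟩ := k1 b2 m2
  rw [k3 s2 t2 s3 t3]
  exact k2 r r1 (fun e => h0 (by simpa [hinv_eq] using mul_mem e r3)) s s1 (k3 r2 s2 r3 s3 ▸ h1) t t1
    (k3 r2 t2 r3 t3 ▸ h2)

theorem sq_V : ∀ a ∈ Rc, a * a ∈ V0 → a * a = 1 := by decide +kernel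
theorem eB_V : eB ∈ V0 := by decide +kernel
theorem eB_ne : eB ≠ 1 := by decide +kernel
theorem tB_eB : tB * eB ≠ 1 := by decide +kernel

theorem Z_gen (he : Emb Rc f) (hX : ∀ a ∈ Rc, f (a * a) ∈ X) : 𝐙 ≤ X := by
  have k : ∀ x ∈ (glR 1 1 1 1).drop 4, x.2.1 ∈ Rc ∧ x.2.1 * x.2.1 = 1 ∧ ∃ a ∈ R16, a ∈ Rc ∧
    a * a = x.2.1 := by decide +kernel
  have : Zc ≤ subOf (fun a => a ∈ Rc ∧ f a ∈ X) ⟨one_mem _, he.one ▸ one_mem _⟩ fun a b h1 h2 =>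
      ⟨mul_mem h1.1 h2.1, he.mul a h1.1 b h2.1 ▸ mul_mem h1.2 h2.2⟩ := fun a ha =>
    mem_of_sift (fun x hx => by
      obtain ⟨k1, k2, a, -, k3, k4⟩ := k x hx
      exact ⟨⟨k1, k4 ▸ hX a k3⟩, k2⟩)
      ((show ∀ a ∈ Zc, rem ((glR 1 1 1 1).drop 4) a = 1 by decide +kernel) a ha)
  exact im_le.2 fun a ha => (this ha).2

/-- A frame of a standard subgroup whose centraliser is tightly embedded. -/
structure St (L : Subgroup G) (f : Hc → G) (c : G) (y : Bool → G) : Prop extends Fr L f c y where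
  ti : ∀ g, g ∉ N[L] → OddG (C[L] ⊓ cj g C[L])

namespace St

variable (h : St L f c y)
include h

theorem fL (ha : a ∈ Rc) : f a ∈ L := h.mem (mem_im ha)
theorem V_K : 𝐕 ≤ C[L] := h.cen ▸ inf_le_right
theorem V_L : 𝐕 ≤ L := h.cen ▸ inf_le_left
theorem nV : N[L] ≤ N[𝐕] := h.cen ▸ norm_Z le_rfl
theorem L_CV : L ≤ C[𝐕] := cents_symm h.V_K
theorem eaV : EA 𝐕 := (h.emb.of_le V_R).ea fun _ ha => Z_sq (V0_le ha)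
theorem cardV : ♯𝐕 = 4 := (h.emb.of_le V_R).card.trans card_V0
theorem eaZ : EA 𝐙 := (h.emb.of_le Z_R).ea fun _ ha => Z_sq ha
theorem twoP : TwoG 𝐏 := h.emb.two Rc_le_Tc
theorem Z_CP : 𝐙 ≤ C[𝐏] := im_le.2 fun a ha => mem_C_iff_le_C1.2 (im_le.2 fun b hb =>
  mem_C1.2 ((h.emb.comm hb (Z_R ha)).2 (Zc_comm ha hb).symm))
theorem K_CP : C[L] ≤ C[𝐏] := C_anti h.mem
theorem inK (ha : a ∈ Rc) : f a ∈ C[L] ↔ a ∈ V0 :=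
  ⟨fun e => (h.emb.mem V_R ha).1 (h.cen ▸ ⟨h.fL ha, e⟩), fun e => h.V_K (mem_im e)⟩
theorem kc (hk : k ∈ C[L]) (ha : a ∈ Rc) : k * f a = f a * k := mem_C'.1 hk _ (h.fL ha)

theorem ti2 (t1 : t ≠ 1) (t2 : t * t = 1) (h1 : t ∈ C[L]) (h2 : t ∈ cj g C[L]) : g ∈ N[L] :=
  by_contra fun hg => t1 (eq_one_of_odd_sq ((h.ti g hg).piElt ⟨h1, h2⟩) t2)

theorem tiV (ht : t ∈ cj g 𝐕) (t1 : t ≠ 1) (h1 : t ∈ C[L]) : g ∈ N[L] :=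
  h.ti2 t1 ((ea_cj h.eaV g).sq ht) h1 (cj_mono g h.V_K ht)

theorem tB1 : f tB ≠ 1 := h.emb.ne (V_R tB_V) tB_ne

theorem NV : N[𝐕] ≤ N[L] := fun g hg =>
  h.tiV ((cj_of_mem_N hg).ge (mem_im tB_V)) h.tB1 (h.V_K (mem_im tB_V))

theorem CV : C[𝐕] ≤ N[L] := (C_le_N _).trans h.NV

theorem cenV (ht : t ∈ cj g 𝐕) (t1 : t ≠ 1) : C{t} ≤ N[cj g 𝐕] := fun k hk => by
  rw [← cj_N, mem_cj]
  refine h.nV (h.tiV (t := g⁻¹ * t * g) ?_ (fun e => t1 ?_) (h.V_K (mem_cj.1 ht)))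
  · rw [mem_cj, show (g⁻¹ * k * g)⁻¹ * (g⁻¹ * t * g) * (g⁻¹ * k * g) = g⁻¹ * (k⁻¹ * t * k⁻¹⁻¹) * g
      by group, mem_C1_iff_conj.1 (inv_mem hk)]
    exact mem_cj.1 ht
  · rw [← conj_eq_one_iff' (g := g⁻¹), inv_inv, e]

theorem cenV1 (ht : t ∈ 𝐕) (t1 : t ≠ 1) : C{t} ≤ N[𝐕] := by
  simpa using h.cenV (g := 1) (by simpa) t1

theorem fix (ht : t ∈ cj g 𝐕) (t1 : t ≠ 1) {a b : G} (ha : a ∈ C{t}) (hb : b ∈ C{t}) :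
    a ∈ C[cj g 𝐕] ∨ b ∈ C[cj g 𝐕] ∨ a * b ∈ C[cj g 𝐕] :=
  fix3 (ea_cj h.eaV g) (by rw [card_cj, h.cardV]) ht t1 (h.cenV ht t1 ha) ha (h.cenV ht t1 hb) hb

/-- one of three involutions of a conjugate of `V`. -/
theorem three {p : G → Prop} (g : G) (hp : p (g * f tB * g⁻¹) ∨ p (g * f eB * g⁻¹) ∨
    p (g * f tB * g⁻¹ * (g * f eB * g⁻¹))) : ∃ u ∈ cj g 𝐕, u ≠ 1 ∧ p u := by
  have k : ∀ a ∈ V0, a ≠ 1 → p (g * f a * g⁻¹) → ∃ u ∈ cj g 𝐕, u ≠ 1 ∧ p u := fun a ha a1 e =>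
    ⟨_, conj_mem_cj g (mem_im ha), fun e => h.emb.ne (V_R ha) a1 (conj_eq_one_iff'.1 e), e⟩
  rcases hp with e | e | e
  exacts [k _ tB_V tB_ne e, k _ eB_V eB_ne e, k _ (mul_mem tB_V eB_V) tB_eB
    (by rwa [h.emb.mul _ (V_R tB_V) _ (V_R eB_V), ← conj_mul])]

theorem inf_bot (hg : g ∉ N[L]) : cj g 𝐕 ⊓ 𝐕 = ⊥ :=
  eq_bot_iff.2 fun _ ht => by_contra fun t1 => hg (h.tiV ht.1 t1 (h.V_K ht.2))

theorem t3 (ht : t ∈ cj g 𝐕) (t1 : t ≠ 1) (tC : t ∈ C[𝐕]) : cj g 𝐕 ≤ C[𝐕] := by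
  by_cases hg : g ∈ N[L]
  · rw [cj_of_mem_N (h.nV hg)]; exact h.eaV.le_C
  have k := mem_C_iff_le_C1.1 tC
  obtain ⟨v, hv, v1, e⟩ := h.three (p := (· ∈ C[cj g 𝐕])) 1
    (by simpa using h.fix ht t1 (k (mem_im tB_V)) (k (mem_im eB_V)))
  exact cents_of_inf_eq_bot ((mem_C_iff_le_C1.1 e).trans (h.cenV1 (by simpa using hv) v1))
    (k.trans (h.cenV ht t1)) (h.inf_bot hg)

theorem cz' (hl : u ∈ L) {θ : Hc → Hc} (e : u * f zc * u⁻¹ * (f zc)⁻¹ ∈ C[L]) :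
    ∃ a ∈ Rc, f a = u := h.emb.ex (h.cz u hl e)

theorem cZ (hu : u ∈ C[𝐕]) (hz : ∀ ζ ∈ Zc, u * f ζ * u⁻¹ * (f ζ)⁻¹ ∈ C[L]) :
    ∃ a ∈ Rc, ∃ k ∈ C[L], u = f a * k := by
  rcases h.aut u ⟨h.CV hu, hu⟩ with e | ⟨m, hm, e⟩
  · obtain ⟨l, hl, k, hk, rfl⟩ := (mem_sup_of_norm (C_le_N L)).1 e
    obtain ⟨a, ha, rfl⟩ := h.emb.ex (h.cz l hl (by
      have := hz zc zc_Z
      rwa [mul_assoc l k, h.kc hk (Z_R zc_Z), mul_inv_rev, ← mul_assoc, ← mul_assoc,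
        mul_inv_cancel_right] at this))
    exact ⟨a, ha, k, hk, rfl⟩
  exfalso
  have k : ∀ ζ ∈ Zc, f (τu ζ) * (m * f ζ * m⁻¹)⁻¹ ∈ C[L] := fun ζ hζ => by
    have := conj_mem (N_le_NC L (norm_self L hm)) (hz ζ hζ)
    rwa [← (e ζ (Z_R hζ)).2, show m * u * f ζ * (m * u)⁻¹ * (m * f ζ * m⁻¹)⁻¹ =
      m * (u * f ζ * u⁻¹ * (f ζ)⁻¹) * m⁻¹ by group]
  obtain ⟨a, ha, rfl⟩ := h.emb.ex (h.cz m hm (by
    have := inv_mem (k zc zc_Z)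
    rwa [show τu zc = zc by decide +kernel, mul_inv_rev, inv_inv] at this))
  have k1 : ⟪17043793⟫ ∈ Zc ∧ τu ⟪17043793⟫ ∈ Zc ∧ τu ⟪17043793⟫ * ⟪17043793⟫ ∉ V0 := by
    decide +kernel
  have := k _ k1.1
  rw [(h.emb.comm ha (Z_R k1.1)).2 (Zc_comm k1.1 ha).symm, mul_inv_cancel_right,
    h.eaZ.inv (mem_im k1.1), ← h.emb.mul _ (Z_R k1.2.1) _ (Z_R k1.1),
    h.inK (Z_R (mul_mem k1.2.1 k1.1))] at this
  exact k1.2.2 this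

theorem not_τu (hu : u ∈ L) (e : Ac Rc f u τu) : False := by
  obtain ⟨a, ha, rfl⟩ := h.emb.ex (h.cz u hu (by
    rw [(e zc (Z_R zc_Z)).2, show τu zc = zc by decide +kernel, mul_inv_cancel]; exact one_mem _))
  exact (show ∀ a ∈ Rc, cn a (g1 true) ≠ τu (g1 true) by decide +kernel) a ha
    (h.emb.eq (by rw [cn_eq]; exact mul_mem (mul_mem ha (g1_R _)) (inv_mem ha)) (e _ (g1_R _)).1
      ((h.emb.conj ha (g1_R _)).symm.trans (e _ (g1_R _)).2))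

theorem two (hg : g ∈ C[𝐕]) (hg' : g' ∈ C[𝐕]) :
    g ∈ L ⊔ C[L] ∨ g' ∈ L ⊔ C[L] ∨ g * g' ∈ L ⊔ C[L] := by
  rcases h.aut g ⟨h.CV hg, hg⟩ with e | ⟨m, hm, e⟩
  · exact Or.inl e
  rcases h.aut g' ⟨h.CV hg', hg'⟩ with e' | ⟨m', hm', e'⟩
  · exact Or.inr (Or.inl e')
  rcases h.aut _ ⟨h.CV (mul_mem hg hg'), mul_mem hg hg'⟩ with e'' | ⟨n, hn, e''⟩
  · exact Or.inr (Or.inr e'')
  have k := e''.of_cent (inv_mem ((e.mul e').cent (by decide +kernel)))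
  rw [show n * (g * g') * (m * g * (m' * g'))⁻¹ = n * (g * m'⁻¹ * g⁻¹) * m⁻¹ by group] at k
  exact (h.not_τu (mul_mem (mul_mem hn (conj_mem (h.CV hg) (inv_mem hm'))) (inv_mem hm)) k).elim

theorem memZK (hu : u ∈ 𝐙 ⊔ C[L]) : ∃ ζ ∈ Zc, ∃ k ∈ C[L], u = f ζ * k := by
  obtain ⟨_, h1, k, hk, rfl⟩ := (mem_sup_of_norm (norm_of_cent
    (C_anti ((im_mono Z_R).trans h.mem)))).1 hu
  obtain ⟨ζ, hζ, rfl⟩ := (h.emb.of_le Z_R).ex h1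
  exact ⟨ζ, hζ, k, hk, rfl⟩

theorem ZK_CP : 𝐙 ⊔ C[L] ≤ C[𝐏] := sup_le h.Z_CP h.K_CP

theorem good0 (hc : cj g 𝐕 ≤ C[𝐕]) (hu : u ∈ cj g 𝐕) (u1 : u ≠ 1) (h1 : u ∈ 𝐙 ⊔ C[L]) :
    cj g 𝐕 ≤ 𝐙 ⊔ C[L] := fun v hv => by
  have k := mem_C_iff_le_C1.1 (h.ZK_CP h1)
  have k1 := fun a ha b hb => h.fix hu u1 (k (mem_im (a := a) ha)) (k (mem_im (a := b) hb))
  have k2 : 𝐙 ≤ C[cj g 𝐕] := Z_gen h.emb fun a ha => by
    rw [h.emb.mul a ha a ha]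
    rcases k1 a ha a ha with e | e | e
    exacts [mul_mem e e, mul_mem e e, e]
  obtain ⟨a, ha, k, hk, rfl⟩ := h.cZ (hc hv) fun ζ hζ => by
    rw [← mem_C'.1 (k2 (mem_im hζ)) v hv, mul_inv_cancel_right, mul_inv_cancel]; exact one_mem _
  refine mul_mem_sup (mem_im ((show ∀ a ∈ Rc, (∀ i : Bool, a * g1 i = g1 i * a ∨ a * g2 i = g2 i * a
    ∨ a * (g1 i * g2 i) = g1 i * g2 i * a) → a ∈ Zc by decide +kernel) a ha fun i => ?_)) hk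
  have k3 : ∀ b ∈ Rc, f b ∈ C[cj g 𝐕] → a * b = b * a := fun b hb e => by
    have := mem_C.1 e _ hv
    rw [mul_assoc, h.kc hk hb, ← mul_assoc, ← mul_assoc, mul_left_inj] at this
    exact (h.emb.comm ha hb).1 this
  refine (k1 _ (g1_R i) _ (g2_R i)).imp (k3 _ (g1_R i)) (Or.imp (k3 _ (g2_R i)) fun e => ?_)
  exact k3 _ (mul_mem (g1_R i) (g2_R i)) (by rwa [h.emb.mul _ (g1_R i) _ (g2_R i)])

theorem good1 (hg : g ∉ N[L]) (hc : cj g 𝐕 ≤ C[𝐕]) : ∃ m ∈ L, cj (m * g) 𝐕 ≤ 𝐙 ⊔ C[L] := by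
  obtain ⟨u, hu, u1, e⟩ := h.three (p := (· ∈ L ⊔ C[L])) g
    (h.two (hc (conj_mem_cj g (mem_im tB_V))) (hc (conj_mem_cj g (mem_im eB_V))))
  obtain ⟨l, hl, k, hk, rfl⟩ := (mem_sup_of_norm (C_le_N L)).1 e
  have e1 := mem_C.1 hk l hl
  obtain ⟨m, hm, v, hv, e2⟩ := h.inv l hl (by
      have := (ea_cj h.eaV g).sq hu
      rw [mul_assoc, ← mul_assoc k, ← e1, mul_assoc, ← mul_assoc, mul_eq_one_iff_eq_inv] at this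
      exact this ▸ inv_mem (mul_mem hk hk)) fun e => hg (h.tiV hu u1 (mul_mem e hk))
  refine ⟨m, hm, h.good0 (u := m * (l * k) * m⁻¹) ?_ (cj_mul m g _ ▸ conj_mem_cj m hu)
    (mt conj_eq_one_iff'.1 u1) ?_⟩
  · rw [cj_mul]; exact cj_le_of_mem hc (h.L_CV hm)
  · rw [← conj_mul, e2]
    exact mul_mem_sup (mem_im (mul_mem zc_Z (V0_le hv))) (conj_mem (N_le_NC L (norm_self L hm)) hk)

theorem cover (hg : σ ∉ N[L]) (h1 : cj σ 𝐕 ≤ 𝐙 ⊔ C[L]) (hζ : ζ ∈ Zc) :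
    ∃ u ∈ cj σ 𝐕, ∃ k ∈ C[L], f ζ = u * k := by
  have k0 : ∀ ζ ∈ Zc, ∀ k ∈ C[L], f ζ * k ∈ cj σ 𝐕 → f ζ * k ≠ 1 → ζ ∉ V0 :=
    fun ζ hζ k hk e e1 e2 => hg (h.tiV e e1 (mul_mem (h.V_K (mem_im e2)) hk))
  have k1 : ∀ ζ' ∈ Zc, ∀ k ∈ C[L], f ζ' * k ∈ cj σ 𝐕 → ζ' * ζ ∈ V0 →
      ∃ u ∈ cj σ 𝐕, ∃ k ∈ C[L], f ζ = u * k := fun ζ' h' k hk e e1 =>
    ⟨_, e, k⁻¹ * f (ζ' * ζ), mul_mem (inv_mem hk) (h.V_K (mem_im e1)), by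
      rw [h.emb.mul _ (Z_R h') _ (Z_R hζ), mul_assoc, mul_inv_cancel_left, ← mul_assoc,
        h.eaZ.sq (mem_im h'), one_mul]⟩
  have m1 := conj_mem_cj σ (mem_im (f := f) tB_V)
  have m2 := conj_mem_cj σ (mem_im (f := f) eB_V)
  obtain ⟨ζ1, z1, k1', hk1, e1⟩ := h.memZK (h1 m1)
  obtain ⟨ζ2, z2, k2, hk2, e2⟩ := h.memZK (h1 m2)
  have e3 : σ * f (tB * eB) * σ⁻¹ = f (ζ1 * ζ2) * (k1' * k2) := by
    rw [h.emb.mul _ (V_R tB_V) _ (V_R eB_V), ← conj_mul, e1, e2, h.emb.mul _ (Z_R z1) _ (Z_R z2),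
      mul_assoc, ← mul_assoc k1', h.kc hk1 (Z_R z2)]
    group
  have m3 := conj_mem_cj σ (mem_im (f := f) (mul_mem tB_V eB_V))
  have n := fun a ha a1 => mt (conj_eq_one_iff' (g := σ)).1 (h.emb.ne (a := a) (V_R ha) a1)
  rcases (show ∀ ζ1 ∈ Zc, ζ1 ∉ V0 → ∀ ζ2 ∈ Zc, ζ2 ∉ V0 → ζ1 * ζ2 ∉ V0 → ∀ ζ ∈ Zc, 1 * ζ ∈ V0 ∨
    ζ1 * ζ ∈ V0 ∨ ζ2 * ζ ∈ V0 ∨ ζ1 * ζ2 * ζ ∈ V0 by decide +kernel) ζ1 z1
    (k0 _ z1 _ hk1 (e1 ▸ m1) (e1 ▸ n _ tB_V tB_ne)) ζ2 z2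
    (k0 _ z2 _ hk2 (e2 ▸ m2) (e2 ▸ n _ eB_V eB_ne)) (k0 _ (mul_mem z1 z2) _ (mul_mem hk1 hk2)
      (e3 ▸ m3) (e3 ▸ n _ (mul_mem tB_V eB_V) tB_eB)) ζ hζ with e | e | e | e
  exacts [k1 1 (one_mem _) 1 (one_mem _) (by simp [h.emb.one]) e, k1 _ z1 _ hk1 (e1 ▸ m1) e,
    k1 _ z2 _ hk2 (e2 ▸ m2) e, k1 _ (mul_mem z1 z2) _ (mul_mem hk1 hk2) (e3 ▸ m3) e]

theorem cZ' (hg : σ ∉ N[L]) (h1 : cj σ 𝐕 ≤ 𝐙 ⊔ C[L]) (hu : u ∈ C[𝐕]) (hu' : u ∈ C[cj σ 𝐕]) :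
    ∃ a ∈ Rc, ∃ k ∈ C[L], u = f a * k := h.cZ hu fun ζ hζ => by
  obtain ⟨v, hv, k, hk, e⟩ := h.cover hg h1 hζ
  have := conj_mem (N_le_NC L (h.CV (C_anti (im_mono V_R) (h.ZK_CP (h1 hv)))))
    (mul_mem (conj_mem (N_le_NC L (h.CV hu)) hk) (inv_mem hk))
  rwa [e, ← mul_assoc u, mem_C'.1 hu' v hv,
    show v * u * k * u⁻¹ * (v * k)⁻¹ = v * (u * k * u⁻¹ * k⁻¹) * v⁻¹ by group]

theorem cm_K {k' : G} (ha : a ∈ Rc) (hb : b ∈ Rc) (hk : k ∈ C[L]) (hk' : k' ∈ C[L]) :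
    f a * k * (f b * k') * (f a * k)⁻¹ * (f b * k')⁻¹ = f (cm a b) * (k * k' * k⁻¹ * k'⁻¹) := by
  have e : ∀ l ∈ L, ∀ k ∈ C[L], k * l = l * k := fun l hl k hk => mem_C'.1 hk l hl
  have m := fun a ha => h.fL (a := a) ha
  rw [cm_eq, h.emb.mul _ (mul_mem (mul_mem ha hb) (inv_mem ha)) _ (inv_mem hb),
    h.emb.mul _ (mul_mem ha hb) _ (inv_mem ha), h.emb.mul _ ha _ hb, h.emb.inv ha, h.emb.inv hb]
  calc _ = f a * (k * f b) * (k' * k⁻¹ * (f a)⁻¹) * k'⁻¹ * (f b)⁻¹ := by group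
    _ = f a * f b * (k * (f a)⁻¹) * (k' * k⁻¹ * k'⁻¹ * (f b)⁻¹) := by
      rw [e _ (m b hb) k hk, e _ (inv_mem (m a ha)) _ (mul_mem hk' (inv_mem hk))]; group
    _ = f a * f b * (f a)⁻¹ * (k * (f b)⁻¹) * (k' * k⁻¹ * k'⁻¹) := by
      rw [e _ (inv_mem (m a ha)) k hk, e _ (inv_mem (m b hb)) _
        (mul_mem (mul_mem hk' (inv_mem hk)) (inv_mem hk'))]; group
    _ = _ := by rw [e _ (inv_mem (m b hb)) k hk]; group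

theorem cjP (h2 : cj σ⁻¹ 𝐕 ≤ 𝐙 ⊔ C[L]) : cj σ 𝐏 ≤ C[𝐕] := by
  simpa [← cj_mul] using cent_cj (cents_symm (h2.trans h.ZK_CP)) σ

theorem mainK (hg : σ ∉ N[L]) (h1 : cj σ 𝐕 ≤ 𝐙 ⊔ C[L]) (h2 : cj σ⁻¹ 𝐕 ≤ 𝐙 ⊔ C[L])
    (hx : x ∈ cj σ C[L]) (hx' : x ∈ C[𝐕]) : ∃ u ∈ cj σ 𝐕, ∃ k ∈ C[L] ⊓ cj σ C[L], x = u * k := by
  have xP := cent_cj h.K_CP σ hx
  have PV := cent_cj (h.mem.trans h.L_CV) σ
  obtain ⟨a, ha, k, hk, rfl⟩ := h.cZ' hg h1 hx' (C_anti (cj_mono σ (im_mono V_R)) xP)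
  by_cases h0 : a ∈ Zc
  · obtain ⟨u, hu, k', hk', e⟩ := h.cover hg h1 h0
    refine ⟨u, hu, k' * k, ⟨mul_mem hk' hk, ?_⟩, by rw [e, mul_assoc]⟩
    rwa [e, mul_assoc, mul_mem_cancel_left (cj_mono σ h.V_K hu)] at hx
  have k0 : ∀ b ∈ Rc, ∃ a' ∈ Rc, ∃ k' ∈ C[L], σ * f b * σ⁻¹ = f a' * k' ∧ cm a a' ∈ V0 :=
    fun b hb => by
      have m := conj_mem_cj σ (mem_im (f := f) hb)
      obtain ⟨a', ha', k', hk', e⟩ := h.cZ' hg h1 (h.cjP h2 m) (PV m)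
      refine ⟨a', ha', k', hk', e, (h.inK (by
        rw [cm_eq]; exact mul_mem (mul_mem (mul_mem ha ha') (inv_mem ha)) (inv_mem ha'))).1 ?_⟩
      have := h.cm_K ha ha' hk hk'
      rw [← e, mem_C'.1 xP _ m, mul_inv_cancel_right, mul_inv_cancel, eq_comm,
        mul_eq_one_iff_eq_inv] at this
      exact this ▸ inv_mem (mul_mem (mul_mem (mul_mem hk hk') (inv_mem hk)) (inv_mem hk'))
  have k1 : ⟪17051841⟫ ∈ Rc ∧ ⟪17059909⟫ ∈ Rc ∧ cm ⟪17051841⟫ ⟪17059909⟫ = tB := by decide +kernel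
  obtain ⟨a1, m1, l1, n1, e1, f1⟩ := k0 _ k1.1
  obtain ⟨a2, m2, l2, n2, e2, f2⟩ := k0 _ k1.2.1
  refine (hg (h.tiV (conj_mem_cj σ (mem_im tB_V)) (mt conj_eq_one_iff'.1 h.tB1) ?_)).elim
  have := h.cm_K k1.1 k1.2.1 (one_mem _) (one_mem _)
  simp only [mul_one, inv_one, k1.2.2] at this
  rw [← this, ← conj_mul, ← conj_mul, ← conj_mul, ← conj_inv, ← conj_inv, e1, e2, h.cm_K m1 m2 n1 n2]
  exact mul_mem (h.V_K (mem_im (cm_V ha h0 m1 m2 f1 f2)))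
    (mul_mem (mul_mem (mul_mem n1 n2) (inv_mem n1)) (inv_mem n2))

theorem mainZ (hg : σ ∉ N[L]) (h1 : cj σ 𝐕 ≤ 𝐙 ⊔ C[L]) (h2 : cj σ⁻¹ 𝐕 ≤ 𝐙 ⊔ C[L]) :
    cj σ⁻¹ 𝐕 ≤ 𝐙 := fun v hv => by
  obtain ⟨ζ, hζ, k, hk, rfl⟩ := h.memZK (h2 hv)
  have e0 : σ * k * σ⁻¹ = (σ * f ζ * σ⁻¹)⁻¹ * (σ * (f ζ * k) * σ⁻¹) := by group
  obtain ⟨u, hu, o, ho, e⟩ := h.mainK hg h1 h2 (conj_mem_cj σ hk) (e0 ▸ mul_mem (inv_mem
    (h.cjP h2 (conj_mem_cj σ (mem_im (Z_R hζ))))) (h.eaV.le_C (by simpa using mem_cj.1 hv)))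
  have k2 : k * k = 1 := by
    have := (ea_cj h.eaV _).sq hv
    rwa [mul_assoc, ← mul_assoc k, h.kc hk (Z_R hζ), mul_assoc, ← mul_assoc,
      h.eaZ.sq (mem_im hζ), one_mul] at this
  have o1 : o = 1 := eq_one_of_odd_sq ((h.ti σ hg).piElt ho) (by
    have := H7.SJ.conj_sq k2 σ
    rwa [e, mul_assoc, ← mul_assoc o, mem_C'.1 (cent_cj (C_anti h.V_L) σ ho.2) u hu, mul_assoc,
      ← mul_assoc, (ea_cj h.eaV _).sq hu, one_mul] at this)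
  rw [o1, mul_one] at e
  exact mul_mem (mem_im hζ) (im_mono V0_le (by
    have := mem_cj.1 (e ▸ hu : σ * k * σ⁻¹ ∈ _); simpa [mul_assoc] using this))

theorem pair (hg : g ∉ N[L]) (hc : cj g 𝐕 ≤ C[𝐕]) (h1 : cj g 𝐕 ≤ 𝐙 ⊔ C[L]) :
    cj g 𝐕 = 𝐖 ∧ C[L] ≤ 𝐕 ⊔ Od[C[L]] ∧ ∃ σ ∈ N[𝐏], cj σ 𝐕 = 𝐖 ∧ cj σ 𝐖 = 𝐕 := by
  obtain ⟨m, hm, h2⟩ := h.good1 (g := g⁻¹) (mt inv_mem_iff.1 hg)
    (by simpa [← cj_mul] using cent_cj (cents_symm hc) g⁻¹)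
  have e : cj (g * m⁻¹) 𝐕 = cj g 𝐕 := by rw [cj_mul, cj_of_mem_C (inv_mem (h.L_CV hm))]
  have hσ : g * m⁻¹ ∉ N[L] := fun e => hg ((mul_mem_cancel_right (inv_mem (norm_self L hm))).1 e)
  rw [← e] at h1 ⊢
  rw [show m * g⁻¹ = (g * m⁻¹)⁻¹ by group] at h2
  generalize g * m⁻¹ = σ at *
  have hσ' := mt inv_mem_iff.1 hσ
  have h1' : cj σ⁻¹⁻¹ 𝐕 ≤ 𝐙 ⊔ C[L] := by rwa [inv_inv]
  have z1 : cj σ 𝐕 ≤ 𝐙 := by simpa using h.mainZ hσ' h2 h1'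
  have k1 : C[L] ≤ 𝐕 ⊔ C[L] ⊓ cj σ C[L] := fun x hx => by
    obtain ⟨u, hu, k, hk, e⟩ := h.mainK hσ' h2 h1' (conj_mem_cj _ hx) (by
      simpa [← cj_mul] using cent_cj (C_anti (z1.trans ((im_mono Z_R).trans h.mem))) σ⁻¹
        (conj_mem_cj _ hx))
    rw [show x = σ * u * σ⁻¹ * (σ * k * σ⁻¹) by rw [conj_mul, ← e]; group]
    exact mul_mem_sup (by simpa using mem_cj.1 hu) ⟨by simpa using mem_cj.1 hk.2, conj_mem_cj σ hk.1⟩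
  have k2 : C[L] ≤ 𝐕 ⊔ Od[C[L]] := k1.trans (sup_le_sup_left (pcore_max' (h.ti σ hσ) inf_le_left
    (k1.trans (sup_le (norm_of_cent (cents_symm (inf_le_left.trans (C_anti h.V_L))))
      (norm_self _)))) _)
  have OP := norm_of_cent ((pcore_le ({2}ᶜ : Set ℕ) _).trans h.K_CP)
  have hP : σ ∈ N[𝐏] := mem_N_of_cj_le (((isProd_sup OP).hall_left h.twoP (Od_odd _)).le_of_nml
    (nml_sup_left OP).norm (h.twoP.cj σ) fun u hu => by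
      obtain ⟨a, ha, k, hk, rfl⟩ := h.cZ' hσ h1 (h.cjP h2 hu) (cent_cj (h.mem.trans h.L_CV) σ hu)
      exact mul_mem (mem_sup_left (mem_im ha)) (sup_le_sup_right (im_mono V_R) _ (k2 hk)))
  have k3 : ∀ σ ∈ N[𝐏], σ ∉ N[L] → cj σ 𝐕 ≤ 𝐙 → cj σ 𝐕 = 𝐖 := fun σ hP hσ z1 =>
    eq_of_card_eq (fun u hu => by
      obtain ⟨ζ, hζ, rfl⟩ := (h.emb.of_le Z_R).ex (z1 hu)
      by_cases u1 : f ζ = 1
      · exact u1 ▸ one_mem _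
      rcases (show ∀ ζ ∈ Zc, ζ ∈ V0 ∨ ζ ∈ W0 ∨ ∃ a ∈ R16, a ∈ Rc ∧ a * a = ζ by decide +kernel) ζ hζ
        with e | e | ⟨a, -, ha, rfl⟩
      · exact absurd (h.tiV hu u1 (h.V_K (mem_im e))) hσ
      · exact mem_im e
      obtain ⟨b, hb, e⟩ := h.emb.ex (conj_mem' hP (mem_im ha))
      have e1 : f (b * b) = σ⁻¹ * f (a * a) * σ := by
        rw [h.emb.mul b hb b hb, h.emb.mul a ha a ha, e]; group
      have := sq_V b hb ((h.emb.mem V_R (mul_mem hb hb)).1 (e1 ▸ mem_cj.1 hu))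
      rw [this, h.emb.one, eq_comm, mul_assoc, inv_mul_eq_one, eq_comm, mul_eq_right] at e1
      exact absurd e1 u1) (by rw [card_cj, h.cardV, (h.emb.of_le W_R).card, card_W0])
  exact ⟨k3 σ hP hσ z1, k2, σ, hP, k3 σ hP hσ z1,
    by rw [← k3 σ⁻¹ (inv_mem hP) hσ' (h.mainZ hσ h1 h2), ← cj_mul, mul_inv_cancel, cj_one]⟩

theorem cjV (ht : t ∈ cj g 𝐕) (t1 : t ≠ 1) (tC : t ∈ C[𝐕]) :
    g ∈ N[L] ∨ ∃ m ∈ L, cj (m * g) 𝐕 = 𝐖 := or_iff_not_imp_left.2 fun hg => by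
  obtain ⟨m, hm, e⟩ := h.good1 hg (h.t3 ht t1 tC)
  exact ⟨m, hm, (h.pair (fun e => hg ((mul_mem_cancel_left (norm_self L hm)).1 e))
    (e.trans (h.ZK_CP.trans (C_anti (im_mono V_R)))) e).1⟩

theorem cjV_L (ht : t ∈ cj g 𝐕) (t1 : t ≠ 1) (tC : t ∈ C[𝐕]) : cj g 𝐕 ≤ L := by
  rcases h.cjV ht t1 tC with e | ⟨m, hm, e⟩
  · rw [cj_of_mem_N (h.nV e)]; exact h.V_L
  · rw [cj_mul, cj_eq_iff] at e
    exact e ▸ cj_le_of_mem ((im_mono W_R).trans h.mem) (inv_mem hm)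

theorem cjZ (hζ : ζ ∈ Zc) (h1 : f ζ ∈ cj g 𝐕) : ζ ∈ V0 ∨ ζ ∈ W0 := or_iff_not_imp_left.2 fun h0 => by
  have z1 : f ζ ≠ 1 := h.emb.ne (Z_R hζ) fun e => h0 (e ▸ one_mem _)
  have hc := h.t3 h1 z1 (h.L_CV (h.fL (Z_R hζ)))
  rwa [(h.pair (fun e => h0 ((h.emb.mem V_R (Z_R hζ)).1 (cj_of_mem_N (h.nV e) ▸ h1))) hc
    (h.good0 hc h1 z1 (mem_sup_left (mem_im hζ)))).1, h.emb.mem W_R (Z_R hζ)] at h1

theorem nabP : ¬ Abl 𝐏 := fun e => absurd ((h.emb.comm (g1_R true) (g1_R false)).1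
  (e.comm (mem_im (g1_R _)) (mem_im (g1_R _)))) (by decide +kernel)

theorem caseB (ht : t ∈ cj g 𝐕) (hg : g ∉ N[L]) (tN : t ∈ N[L]) (tP : t ∈ N[𝐏]) (t1 : t ≠ 1) :
    ∃ g, g ∉ N[L] ∧ cj g 𝐕 ≤ C[𝐕] := by
  by_contra! hc
  have k0 : ∀ u ∈ cj g 𝐕, u ≠ 1 → u ∉ C[𝐕] := fun u hu u1 e => hc g hg (h.t3 hu u1 e)
  have t2 := (ea_cj h.eaV g).sq ht
  have tV := h.nV tN
  have PV := h.mem.trans h.L_CV
  have k1 : ∀ j ∈ 𝐏, j ∉ 𝐕 → j ∈ C[cj g 𝐕] → ∀ l, t * j ≠ l * t * l⁻¹ := fun j h1 h2 h3 l e => by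
    have m : t * j ∈ cj (l * g) 𝐕 := e ▸ cj_mul l g _ ▸ conj_mem_cj l ht
    refine hc (g⁻¹ * (l * g)) (fun k => k0 j ?_ (fun e => h2 (e ▸ one_mem _)) (PV h1))
      (h.t3 (t := g⁻¹ * (t * j) * g⁻¹⁻¹) (cj_mul g⁻¹ _ _ ▸ conj_mem_cj _ m) ?_ ?_)
    · rwa [cj_eq_cj_iff.2 (h.nV k), mul_mem_cancel_left ht] at m
    · rwa [Ne, conj_eq_one_iff', e, conj_eq_one_iff']
    · simpa [← cj_mul] using cent_cj le_rfl g⁻¹ (conj_mem_cj g⁻¹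
        (mul_mem ((ea_cj h.eaV g).le_C ht) h3))
  obtain ⟨v, hv, e⟩ : ∃ v ∈ 𝐕, t * v ≠ v * t := by
    by_contra! k; exact k0 t ht t1 (mem_C'.2 k)
  have ti := inv_eq_of_mul_eq_one_right t2
  have w1 : t * v * t⁻¹ * v ∈ 𝐕 := mul_mem (conj_mem tV hv) hv
  have w2 : t * v * t⁻¹ * v ≠ 1 := fun k => e (by
    rw [mul_eq_one_iff_eq_inv, h.eaV.inv hv, mul_inv_eq_iff_eq_mul] at k; exact k)
  have w3 : t * v * t⁻¹ * v ∈ C{t} := mem_C1.2 (by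
    have := h.eaV.comm (conj_mem tV hv) hv
    rw [ti] at this ⊢
    calc t * v * t * v * t = v * t * v * (t * t) := by rw [this]; group
      _ = t * t * v * t * v := by rw [t2]; group
      _ = _ := by group)
  obtain ⟨l, h1, h2, h3⟩ : ∃ l : G, t⁻¹ * (l * t * l⁻¹) ∈ 𝐏 ∧ t⁻¹ * (l * t * l⁻¹) ∉ 𝐕 ∧
      t⁻¹ * (l * t * l⁻¹ * t * (l * t * l⁻¹)⁻¹) ∈ 𝐕 := by
    have nP : 𝐏 ⊔ zpowers t ≤ N[𝐕] := sup_le (norm_of_cent PV) (zpowers_le.2 tV)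
    obtain ⟨l, l1, l2, l3⟩ := exists_norm (p := 2) (Q := H7.SJ.cz t 𝐕) ((h.twoP.sup (twoG_zp t2)
      (zpowers_le.2 tP)).isPGroup p2) fun k => k0 t ht t1 (C_anti (im_mono V0_le)
        (mem_C_iff_le_C1.2 (Z_gen h.emb fun a ha => by
          obtain ⟨-, k1⟩ := (H7.SJ.mem_cz tV).1 (k (mem_sup_left (mem_im ha)))
          have k2 := mem_C'.1 (PV (mem_im ha)) _ k1
          have k3 := h.eaV.sq k1
          rw [h.emb.mul a ha a ha, mem_C1_iff_conj]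
          generalize f a = p at *
          obtain ⟨w, hw⟩ : ∃ w, w = t⁻¹ * (p * t * p⁻¹) := ⟨_, rfl⟩
          rw [← hw] at k2 k3
          have k4 : p * t * p⁻¹ = t * w := by rw [hw]; group
          calc p * p * t * (p * p)⁻¹ = p * (p * t * p⁻¹) * p⁻¹ := by group
            _ = p * (t * w) * p⁻¹ := by rw [k4]
            _ = p * t * p⁻¹ * (p * w * p⁻¹) := by group
            _ = t := by rw [k4, k2, mul_inv_cancel_right, mul_assoc, k3, mul_one])))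
    refine ⟨l, ?_, fun k => l2 ((H7.SJ.mem_cz tV).2 ⟨nP l1, k⟩), ((H7.SJ.mem_cz tV).1
      (l3 t (mem_sup_right (mem_zpowers t)) ((H7.SJ.mem_cz tV).2 ⟨tV, by simp⟩))).2⟩
    obtain ⟨p, hp, s, hs, rfl⟩ := (mem_sup_of_norm (zpowers_le.2 tP)).1 l1
    rw [show p * s * t * (p * s)⁻¹ = p * (s * t * s⁻¹) * p⁻¹ by group,
      mem_C1_iff_conj.1 (zpowers_le_C1 t hs), ← mul_assoc, ← mul_assoc]
    exact mul_mem (conj_mem' tP hp) (inv_mem hp)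
  have l2 := H7.SJ.conj_sq t2 l
  rw [inv_eq_of_mul_eq_one_right l2] at h3
  obtain ⟨j, hj⟩ : ∃ j, l * t * l⁻¹ = t * j := ⟨t⁻¹ * (l * t * l⁻¹), by group⟩
  rw [hj, inv_mul_cancel_left] at h1 h2
  have j2 : j * j = 1 := by
    obtain ⟨a, ha, rfl⟩ := h.emb.ex h1
    rw [hj, show t⁻¹ * (t * f a * t * (t * f a)) = f a * (t * t) * f a by group, t2, mul_one,
      ← h.emb.mul a ha a ha, h.emb.mem V_R (mul_mem ha ha)] at h3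
    exact (h.emb.sq ha).2 (sq_V a ha h3)
  have jt : j ∈ C{t} := mem_C1.2 (by
    rw [hj] at l2
    rw [← inv_eq_of_mul_eq_one_right l2, mul_inv_rev, ti, inv_eq_of_mul_eq_one_right j2])
  rcases h.fix ht t1 jt w3 with k | k | k
  · exact k1 j h1 h2 k l hj.symm
  · have k2 := (mem_C_iff_le_C1.1 k).trans (h.cenV1 w1 w2)
    obtain ⟨u, hu, u1, k3⟩ := h.three (p := (· ∈ C[𝐕])) g (fix3 h.eaV h.cardV w1 w2
      (k2 (conj_mem_cj g (mem_im tB_V))) (mem_C_iff_le_C1.1 k (conj_mem_cj g (mem_im tB_V)))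
      (k2 (conj_mem_cj g (mem_im eB_V))) (mem_C_iff_le_C1.1 k (conj_mem_cj g (mem_im eB_V))))
    exact k0 u hu u1 k3
  · refine k1 _ (mul_mem h1 (im_mono V_R w1)) (fun k => h2 ((mul_mem_cancel_right w1).1 k)) k
      (v * l) ?_
    have e1 := mem_C'.1 (PV h1) _ hv
    have e2 := mem_C'.1 (PV h1) _ w1
    calc t * (j * (t * v * t⁻¹ * v)) = t * t * v * t⁻¹ * (v * j) := by rw [e2]; group
      _ = v * (t * j) * v⁻¹ := by rw [t2, ← e1, ti, h.eaV.inv hv]; group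
      _ = _ := by rw [← hj]; group

theorem ex_comm [IsSimpleGroup G] : ∃ g, g ∉ N[L] ∧ cj g 𝐕 ≤ C[𝐕] := by
  obtain ⟨T, hT, h1⟩ := Sylow_superset p2 h.twoP (h.mem.trans (norm_self L))
  have VT := (im_mono V_R).trans h1
  by_cases hS : Syl 2 ⊤ T
  · by_contra hc
    refine zc_V ((h.emb.mem V_R (Z_R zc_Z)).1 (gold hS (fun e => h.nabP (e.of_le h1)) VT h.eaV.abl
      (fun v hv g hg => by_contra fun k => hc ?_) (mem_im tB_V) h.tB1 (h.eaV.sq (mem_im tB_V))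
      (h1 (mem_im (Z_R zc_Z))) (h.eaZ.sq (mem_im zc_Z))))
    have e : T ⊓ L = 𝐏 := h.syl.eq_of_le (hT.pi.inf_left L) (le_inf h1 h.mem) inf_le_right
    exact h.caseB (conj_mem_cj g hv) (fun e => k (conj_mem (h.nV e) hv)) (hT.le hg)
      (e ▸ norm_inf (norm_self T) hT.le hg) fun e => k (e ▸ one_mem _)
  · obtain ⟨Q, q1, q2, -, q3⟩ := exists_lt_norm_of_not_syl p2 hT.pi le_top hS
    obtain ⟨x, x1, x2⟩ := SetLike.exists_of_lt q2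
    have hx : x ∉ N[L] := fun e => x2 ((hT.eq_of_le (q1.inf_left N[L]) (le_inf q2.le hT.le)
      inf_le_right).le ⟨x1, e⟩)
    have TN := hT.le.trans h.nV
    exact ⟨x, hx, cents_of_inf_eq_bot ((cj_le_of_mem_N VT (q3 x1)).trans TN)
      (VT.trans (by simpa [cj_of_mem_N (q3 x1)] using norm_cj TN x)) (h.inf_bot hx)⟩

theorem ex_σ [IsSimpleGroup G] :
    C[L] ≤ 𝐕 ⊔ Od[C[L]] ∧ ∃ σ ∈ N[𝐏], cj σ 𝐕 = 𝐖 ∧ cj σ 𝐖 = 𝐕 := by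
  obtain ⟨g, hg, hc⟩ := h.ex_comm
  obtain ⟨m, hm, e⟩ := h.good1 hg hc
  exact (h.pair (fun e => hg ((mul_mem_cancel_left (norm_self L hm)).1 e))
    (e.trans (h.ZK_CP.trans (C_anti (im_mono V_R)))) e).2

end St

end H24.He
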