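import Mathlib
import Cfsg.Agent.H24.HeT

/-! The normaliser of the Sylow subgroup of the standard subgroup. -/

set_option autoImplicit false
set_option linter.unusedSectionVars false
set_option maxRecDepth 100000
set_option synthInstance.maxSize 4096

namespace H24.He

open H28 H28.Held H29 H26 H26.Gold Subgroup
open H7.SJ (p2 ea_cj twoG_zp mem_of_odd)

variable {G : Type*} [Group G] [Finite G] {L X M : Subgroup G} {f : Hc → G}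
  {c c' g g' t u k σ x : G} {y : Bool → G} {a b ζ : Hc} {A B : Subgroup Hc} {θ : Hc → Hc} {i : Bool}

local notation "𝐕" => im f V0
local notation "𝐖" => im f W0
local notation "𝐙" => im f Zc
local notation "𝐏" => im f Rc
local notation "𝐎" => Od[C[L]]

theorem hall2 {A O : Subgroup G} (hA : TwoG A) (hO : OddG O) (hc : O ≤ C[A]) :
    Syl 2 (A ⊔ O) A ∧ A ⊔ O ≤ N[A] ∧ N[A ⊔ O] ≤ N[A] ∧ N[A ⊔ O] ≤ N[O] := by
  have h1 := isProd_sup (norm_of_cent hc)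
  have h2 := (nml_sup_left (norm_of_cent hc)).norm
  exact ⟨h1.hall_left hA hO, h2, (h1.hall_left hA hO).norm_of_nml h2 le_rfl,
    (h1.hall_right (π := {2}ᶜ) (by rwa [compl_compl]) hO).norm_of_nml
      (nml_sup_right (norm_of_cent (cents_symm hc))).norm le_rfl⟩

theorem Emb.exA (he : Emb A f) (hg : g ∈ N[im f A]) : ∃ θ, Ac A f g θ := by
  classical
  have := fun a (ha : a ∈ A) => he.ex (conj_mem hg (mem_im (f := f) ha))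
  choose θ h1 h2 using this
  exact ⟨fun a => if h : a ∈ A then θ a h else 1, fun a ha => by simp [ha, h1, h2]⟩

theorem Ac.hom (h : Ac A f g θ) (he : Emb A f) (ha : a ∈ A) (hb : b ∈ A) : θ (a * b) = θ a * θ b :=
  he.eq (h _ (mul_mem ha hb)).1 (mul_mem (h a ha).1 (h b hb).1) (by
    rw [← (h _ (mul_mem ha hb)).2, he.mul _ (h a ha).1 _ (h b hb).1, ← (h a ha).2, ← (h b hb).2,
      he.mul a ha b hb, conj_mul])

theorem Ac.inj (h : Ac A f g θ) (he : Emb A f) (ha : a ∈ A) (hb : b ∈ A) (e : θ a = θ b) : a = b :=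
  he.eq ha hb (mul_left_cancel (mul_right_cancel ((h a ha).2.trans (e ▸ (h b hb).2.symm))))

theorem Ac.one (h : Ac A f g θ) (he : Emb A f) : θ 1 = 1 :=
  he.inj _ (h 1 A.one_mem).1 (by rw [← (h 1 A.one_mem).2, he.one]; simp)

theorem Ac.eq (h : Ac A f g θ) (he : Emb A f) (ha : a ∈ A) (hb : b ∈ A) (e : g * f a * g⁻¹ = f b) :
    θ a = b := he.eq (h a ha).1 hb ((h a ha).2.symm.trans e)

theorem Ac.mem (h : Ac A f g θ) (he : Emb A f) (hB : B ≤ A) (hg : g ∈ N[im f B]) (ha : a ∈ A) :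
    θ a ∈ B ↔ a ∈ B := by rw [← he.mem hB (h a ha).1, ← (h a ha).2, conj_mem_iff hg, he.mem hB ha]

theorem cj_im {A' : Subgroup Hc} (he : Emb A' f) (hA : A ≤ A') (hB : B ≤ A')
    (h : ∀ a ∈ A, ∃ b ∈ B, g * f a * g⁻¹ = f b) (hc : ♯A = ♯B) : cj g (im f A) = im f B :=
  eq_of_card_eq (cj_le_iff.2 (im_le.2 fun a ha => by
    obtain ⟨b, hb, e⟩ := h a ha
    exact mem_cj.2 (by rw [inv_inv, e]; exact mem_im hb)))
    (by rw [card_cj, (he.of_le hA).card, (he.of_le hB).card, hc])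

theorem cn_mem (ha : a ∈ A) (hb : b ∈ A) : cn a b ∈ A := by
  rw [cn_eq]; exact mul_mem (mul_mem ha hb) (inv_mem ha)

theorem Emb.acs (he : Emb A f) (ha : a ∈ A) : Ac A f (f a) (cn a) :=
  he.ac ha le_rfl fun _ => cn_mem ha

theorem Emb.ext2 (he : Emb A f) {s : Hc} (t2 : s * s = 1) (t0 : s ∉ A)
    (hs : ∀ b ∈ B, b ∉ A → s * b ∈ A) (hg : Ac A f g (cn s)) (g2 : g * g = 1)
    (hn : ∀ a ∈ A, ∃ b ∈ A, cn a b ≠ cn s b) :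
    ∃ φ : Hc → G, Emb B φ ∧ (∀ a ∈ A, φ a = f a) ∧ φ s = g := by
  classical
  have gi := inv_eq_of_mul_eq_one_right g2
  have si := inv_eq_of_mul_eq_one_right t2
  refine ⟨fun b => if b ∈ A then f b else g * f (s * b), ⟨fun a ha b hb => ?_, fun a ha => ?_⟩,
    fun a ha => if_pos ha, by simp [t0, t2, he.one]⟩
  · by_cases h1 : a ∈ A <;> by_cases h2 : b ∈ A
    · simp [h1, h2, mul_mem h1 h2, he.mul]
    · simp only [h1, h2, mul_mem_cancel_left h1, if_true, if_false]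
      rw [show s * (a * b) = cn s a * (s * b) by rw [cn_eq]; group, he.mul _ (hg a h1).1 _ (hs b hb h2),
        ← (hg a h1).2, gi, ← mul_assoc, ← mul_assoc, ← mul_assoc, g2, one_mul, mul_assoc]
    · simp only [h1, h2, mul_mem_cancel_right h2, if_true, if_false]
      rw [← mul_assoc s, he.mul _ (hs a ha h1) _ h2, mul_assoc]
    · have e : a * b = cn s (s * a) * (s * b) := by
        rw [cn_eq, ← mul_assoc s, t2]; group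
      simp only [h1, h2, e ▸ mul_mem (hg _ (hs a ha h1)).1 (hs b hb h2), if_true, if_false]
      rw [e, he.mul _ (hg _ (hs a ha h1)).1 _ (hs b hb h2), ← (hg _ (hs a ha h1)).2, gi]
      group
  · by_cases h1 : a ∈ A
    · simpa [h1] using he.inj a h1
    · simp only [h1, if_false]
      intro e
      obtain ⟨b, hb, e1⟩ := hn _ (inv_mem (hs a ha h1))
      rw [mul_eq_one_iff_eq_inv, ← he.inv (hs a ha h1)] at e
      exact absurd ((he.acs (inv_mem (hs a ha h1))).eq he hb (hg b hb).1 (e ▸ (hg b hb).2)) e1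

/-- conjugates of elements of `V`. -/
def Dc (f : Hc → G) (x : G) : Prop := ∃ g, x ∈ cj g (im f V0)

theorem Dc.conj (h : Dc f x) (g : G) : Dc f (g * x * g⁻¹) := by
  obtain ⟨k, h⟩ := h
  exact ⟨g * k, cj_mul g k _ ▸ conj_mem_cj g h⟩

theorem dc_conj : Dc f (g * x * g⁻¹) ↔ Dc f x :=
  ⟨fun h => by simpa [mul_assoc] using h.conj g⁻¹, fun h => h.conj g⟩

theorem inv_U : ∀ a ∈ Rc, a * a = 1 → a ∈ Uc true ∨ a ∈ Uc false := by decide +kernel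

/-- the point. -/
noncomputable def P0 (i : Bool) : Subgroup Hc := subOf (· ∈ 1 :: pU i) (by simp) fun a b ha hb =>
  (show ∀ a ∈ 1 :: pU i, ∀ b ∈ 1 :: pU i, a * b ∈ 1 :: pU i by cases i <;> decide +kernel) a ha b hb

theorem card_P0 (i : Bool) : ♯(P0 i) = 4 :=
  card_list (l := 1 :: pU i) (fun _ => Iff.rfl) (by cases i <;> decide +kernel)

theorem P0_R (i : Bool) : P0 i ≤ Rc := show ∀ a ∈ 1 :: pU i, a ∈ Rc by cases i <;> decide +kernel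

/-- a property of the automorphisms that permute the two points. -/
abbrev PB (Q : (Hc → Hc) → Prop) : Prop := ∀ i : Bool, ∀ b1 ∈ pU i, ∀ b2 ∈ pU i, b1 ≠ b2 →
  ∀ b3 ∈ pU (!i), ∀ b4 ∈ pU (!i), b3 ≠ b4 → Q (th b1 b2 b3 b4)

/-- equality on the generators. -/
abbrev eqG (θ θ' : Hc → Hc) : Prop := ∀ i, θ (g1 i) = θ' (g1 i) ∧ θ (g2 i) = θ' (g2 i)

/-- determined by the generators. -/
abbrev okT (θ : Hc → Hc) : Prop :=
  ∀ a ∈ Rc, th (θ (g1 true)) (θ (g2 true)) (θ (g1 false)) (θ (g2 false)) a = θ a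

theorem Ac.gen (h : Ac Rc f g θ) (he : Emb Rc f) {θ' : Hc → Hc} (e : eqG θ θ') (k : okT θ') :
    Ac Rc f g θ' := by
  have := ac_th he (h _ (g1_R true)).1 (h _ (g2_R true)).1 (h _ (g1_R false)).1 (h _ (g2_R false)).1
    (h _ (g1_R true)).2 (h _ (g2_R true)).2 (h _ (g1_R false)).2 (h _ (g2_R false)).2
  rw [(e true).1, (e true).2, (e false).1, (e false).2] at this
  exact this.congr k

theorem Ac.cent_mul (h : Ac A f g θ) (h' : g' ∈ C[im f A]) : Ac A f (g' * g) θ := fun a ha =>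
  ⟨(h a ha).1, by
    rw [← conj_eq_of_mem_C h' (mem_im (h a ha).1), ← (h a ha).2]; group⟩

theorem odd_part (hx : x * x ∈ X) : ∃ s o, TwoE s ∧ o ∈ X ∧ s ∈ zpowers x ∧ x = s * o := by
  obtain ⟨s, o, h1, h2, h3, ⟨k, rfl⟩, h5⟩ := exists_piElt_decomp {2} x
  refine ⟨s, _, h1, mem_of_odd h2 ?_, h3, h5⟩
  simpa [mul_zpow_self, ← (Commute.refl x).mul_zpow] using zpow_mem hx k

/-- the action of `c ^ j * c' ^ k`. -/
noncomputable def τ3 (j k : ℕ) (a : Hc) : Hc := τc^[j] (τd^[k] a)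

/-- the unitary action or the identity. -/
noncomputable def sw (s : Bool) (a : Hc) : Hc := cond s a (τu a)

/-- A frame with a second point. -/
structure S2 (L : Subgroup G) (f : Hc → G) (c : G) (y : Bool → G) (σ : G) : Prop
    extends St L f c y where
  KO : C[L] ≤ im f V0 ⊔ Od[C[L]]
  σP : σ ∈ N[im f Rc]
  σV : cj σ (im f V0) = im f W0
  σW : cj σ (im f W0) = im f V0

namespace S2

variable (h : S2 L f c y σ)
include h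

theorem eU (i : Bool) : Emb (Uc i) f := h.emb.of_le (Uc_le_Rc i)
theorem O_CP : 𝐎 ≤ C[𝐏] := (pcore_le _ _).trans h.K_CP

theorem toZ (ha : a ∈ Uc i) : ∃ l ∈ N[im f (Uc i)], ∃ r ∈ Zc, l * f a * l⁻¹ = f r ∧ (dD a ↔ dD r) := by
  rcases (show ∀ a ∈ Uc i, a ∈ Zc ∨ ∃ p ∈ [1, g1 (!i), g2 (!i), g1 (!i) * g2 (!i)], p ∈ Rc ∧
    τy i (cn p a) ∈ Zc ∧ (dD a ↔ dD (τy i (cn p a))) by cases i <;> decide +kernel) a ha with
    e | ⟨p, -, hp, e1, e2⟩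
  · exact ⟨1, one_mem _, a, e, by simp, Iff.rfl⟩
  have k := h.emb.ac hp (Uc_le_Rc i) ((show ∀ p ∈ Rc, ∀ a ∈ Uc i, cn p a ∈ Uc i by
    cases i <;> decide +kernel) p hp)
  exact ⟨_, ((h.yA i).mul k).norm (h.eU i), _, e1, (((h.yA i).mul k) a ha).2, e2⟩

theorem dc (ha : a ∈ Rc) (a1 : a ≠ 1) : Dc f (f a) ↔ dD a := by
  by_cases a2 : a * a = 1
  · obtain ⟨l, r, hr, e1, e2⟩ : ∃ l, ∃ r ∈ Zc, l * f a * l⁻¹ = f r ∧ (dD a ↔ dD r) := by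
      rcases inv_U a ha a2 with e | e <;> obtain ⟨l, -, e⟩ := h.toZ e <;> exact ⟨l, e⟩
    rw [← dc_conj (g := l), e1, e2, (show ∀ r ∈ Zc, r ≠ 1 → (dD r ↔ r ∈ V0 ∨ r ∈ W0) by
      decide +kernel) r hr fun e => h.emb.ne ha a1 (by rwa [e, h.emb.one, conj_eq_one_iff'] at e1)]
    exact ⟨fun ⟨_, e⟩ => h.cjZ hr e, fun e => e.elim (fun e => ⟨1, by simpa using mem_im e⟩)
      fun e => ⟨σ, h.σV ▸ mem_im e⟩⟩
  · exact iff_of_false (fun ⟨g, e⟩ => a2 ((h.emb.sq ha).1 ((ea_cj h.eaV g).sq e)))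
      ((show ∀ a ∈ Rc, a * a ≠ 1 → ¬ dD a by decide +kernel) a ha a2)

theorem dc' (hθ : Ac Rc f g θ) (ha : a ∈ Rc) (hd : dD a) : dD (θ a) := by
  have a1 : a ≠ 1 := fun e => absurd (e ▸ hd) (by decide +kernel)
  rw [← h.dc (hθ a ha).1 fun e => a1 (hθ.inj h.emb ha (one_mem _) (e.trans (hθ.one h.emb).symm)),
    ← (hθ a ha).2, dc_conj, h.dc ha a1]
  exact hd

theorem memPO (hu : u ∈ C[𝐙]) : ∃ a ∈ Rc, ∃ o ∈ 𝐎, u = f a * o := by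
  obtain ⟨a, ha, k, hk, rfl⟩ := h.cZ (C_anti (im_mono V0_le) hu) fun ζ hζ => by
    rw [conj_eq_of_mem_C hu (mem_im hζ), mul_inv_cancel]; exact one_mem _
  obtain ⟨_, h1, o, ho, rfl⟩ := (mem_sup_of_norm (norm_of_cent (h.O_CP.trans
    (C_anti (im_mono V_R))))).1 (h.KO hk)
  obtain ⟨v, hv, rfl⟩ := (h.emb.of_le V_R).ex h1
  exact ⟨_, mul_mem ha (V_R hv), o, ho, by rw [h.emb.mul a ha v (V_R hv), mul_assoc]⟩

theorem cenA (h1 : Zc ≤ A) (h2 : A ≤ Rc) (hB : B ≤ Rc) (h3 : ∀ a ∈ A, ∀ b ∈ B, b * a = a * b)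
    (h4 : ∀ b ∈ Rc, (∀ a ∈ A, b * a = a * b) → b ∈ B) : C[im f A] = im f B ⊔ 𝐎 := by
  have k := h.O_CP.trans (C_anti (im_mono h2))
  refine le_antisymm (fun u hu => ?_) (sup_le (im_le.2 fun b hb => mem_C_iff_le_C1.2
    (im_le.2 fun a ha => mem_C1.2 ((h.emb.comm (h2 ha) (hB hb)).2 (h3 a ha b hb).symm))) k)
  obtain ⟨b, hb, o, ho, rfl⟩ := h.memPO (C_anti (im_mono h1) hu)
  exact mul_mem_sup (mem_im (h4 b hb fun a ha => (h.emb.comm hb (h2 ha)).1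
    (mem_C'.1 ((mul_mem_cancel_right (k ho)).1 hu) _ (mem_im ha)))) ho

theorem CZ : C[𝐙] = 𝐏 ⊔ 𝐎 :=
  h.cenA le_rfl Z_R le_rfl (fun _ ha _ hb => (Zc_comm ha hb).symm) fun _ hb _ => hb

theorem CP : C[𝐏] = 𝐙 ⊔ 𝐎 := h.cenA Z_R le_rfl Z_R (fun _ ha _ hb => Zc_comm hb ha) fun b hb e =>
  (show ∀ b ∈ Rc, (∀ i, b * g1 i = g1 i * b ∧ b * g2 i = g2 i * b) → b ∈ Zc by decide +kernel) b hb
    fun i => ⟨e _ (g1_R i), e _ (g2_R i)⟩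

theorem CE (i : Bool) : C[im f (Uc i)] = im f (Uc i) ⊔ 𝐎 :=
  h.cenA (Z_le i) (Uc_le_Rc i) (Uc_le_Rc i) (fun _ ha _ hb => Uc_comm i hb ha) fun b hb e =>
  (show ∀ b ∈ Rc, b * g1 i = g1 i * b → b * g2 i = g2 i * b → b ∈ Uc i by
    cases i <;> decide +kernel) b hb (e _ (g1_U i)) (e _ (g2_U i))

theorem hl (hA : A ≤ Rc) : Syl 2 (im f A ⊔ 𝐎) (im f A) ∧ im f A ⊔ 𝐎 ≤ N[im f A] ∧
    N[im f A ⊔ 𝐎] ≤ N[im f A] ∧ N[im f A ⊔ 𝐎] ≤ N[𝐎] :=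
  hall2 ((h.emb.of_le hA).two (hA.trans Rc_le_Tc)) (Od_odd _) (h.O_CP.trans (C_anti (im_mono hA)))

theorem NZ : N[𝐙] ≤ N[𝐏] := (N_le_NC _).trans (h.CZ ▸ (h.hl le_rfl).2.2.1)
theorem NP : N[𝐏] ≤ N[𝐙] := (N_le_NC _).trans (h.CP ▸ (h.hl Z_R).2.2.1)
theorem NPO : N[𝐏] ≤ N[𝐎] := (N_le_NC _).trans (h.CP ▸ (h.hl Z_R).2.2.2)
theorem NEO (i : Bool) : N[im f (Uc i)] ≤ N[𝐎] :=
  (N_le_NC _).trans (h.CE i ▸ (h.hl (Uc_le_Rc i)).2.2.2)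

theorem twoZ (hu : u ∈ C[𝐏]) (h2 : TwoE u) : ∃ ζ ∈ Zc, f ζ = u :=
  (h.emb.of_le Z_R).ex ((h.hl Z_R).1.mem_of_nml (h.hl Z_R).2.1 h2 (h.CP ▸ hu))

theorem VW : 𝐕 ⊔ 𝐖 = 𝐙 := le_antisymm (sup_le (im_mono V0_le) (im_mono W0_le)) (im_le.2 fun ζ hζ => by
  obtain ⟨v, hv, e⟩ := (show ∀ ζ ∈ Zc, ∃ v ∈ V0, v * ζ ∈ W0 by decide +kernel) ζ hζ
  rw [show f ζ = f v * f (v * ζ) by rw [← h.emb.mul _ (V_R hv) _ (W_R e), ← mul_assoc,
    Z_sq (V0_le hv), one_mul]]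
  exact mul_mem_sup (mem_im hv) (mem_im e))

theorem nP1 (h1 : g ∈ N[𝐕]) (h2 : g ∈ N[𝐖]) : g ∈ N[𝐏] :=
  h.NZ (h.VW ▸ norm_sup (zpowers_le.2 h1) (zpowers_le.2 h2) (mem_zpowers g))

theorem nP2 (h1 : cj g 𝐕 = 𝐖) (h2 : cj g 𝐖 = 𝐕) : g ∈ N[𝐏] :=
  h.NZ (by rw [mem_N_iff_cj, ← h.VW, cj_sup, h1, h2, sup_comm])

theorem cenW (ht : t ∈ 𝐖) (t1 : t ≠ 1) : C{t} ≤ N[𝐖] := h.σV ▸ h.cenV (h.σV ▸ ht) t1

theorem nP3 (h1 : g ∈ C{f tB}) (h2 : g ∈ C{f zc}) : g ∈ N[𝐏] :=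
  h.nP1 (h.cenV1 (mem_im tB_V) h.tB1 h1) (h.cenW (mem_im w0_W) (h.emb.ne (W_R w0_W) (by decide +kernel))
    (by
      rw [show w0 = tB * zc by decide +kernel, h.emb.mul _ (V_R tB_V) _ (Z_R zc_Z), mem_C1_comm]
      exact mul_mem (mem_C1_comm.1 h1) (mem_C1_comm.1 h2)))

theorem odd_le {D : Subgroup G} (hD : OddG D) (hn : 𝐙 ≤ N[D]) : D ≤ 𝐎 := by
  have k : ∀ g, ∀ v ∈ cj g 𝐕, v ≠ 1 → ∀ x ∈ D, x ∈ C{v} → x ∈ C[cj g 𝐕] := fun g v hv v1 x h1 h2 => by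
    rcases h.fix hv v1 h2 h2 with e | e | e
    exacts [e, e, mem_of_odd (hD.piElt h1) e]
  refine H7.SJ.gen1 h.eaV h.cardV.ge hD ((im_mono V0_le).trans hn) fun v hv v1 => ?_
  refine H7.SJ.gen1 (h.eaZ.of_le (im_mono W0_le)) (by rw [(h.emb.of_le W_R).card, card_W0])
    (hD.inf_left _) (norm_inf ((im_mono W0_le).trans hn) (norm_C1 (mem_C_iff_le_C1.1
      (C_anti (im_mono W0_le) (h.eaZ.le_C (im_mono V0_le hv)))))) fun w hw w1 => ?_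
  refine H7.SJ.odd_le (Od_odd _) h.twoP (norm_of_cent (cents_symm h.O_CP))
    ((hD.inf_left _).inf_left _) fun x hx => ?_
  rw [sup_comm, ← h.CZ, ← h.VW, C_sup]
  exact ⟨by simpa using k 1 v (by simpa) v1 x hx.1.1 hx.1.2,
    h.σV ▸ k σ w (h.σV ▸ hw) w1 x hx.1.1 hx.2⟩

theorem CL1 {Q : (Hc → Hc) → Prop} (hQ : PB Q) (hg : g ∈ N[𝐏]) :
    ∃ p ∈ Rc, ∃ θ, Q θ ∧ Ac Rc f (f p * g) θ := by
  obtain ⟨θ, hθ⟩ := h.emb.exA hg
  have m1 := fun i => (hθ _ (g1_R i)).1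
  have m2 := fun i => (hθ _ (g2_R i)).1
  have nz : ∀ a ∈ Rc, a ∉ Zc → θ a ∉ Zc := fun a ha => (hθ.mem h.emb Z_R (h.NP hg) ha).not.2
  have c0 : ∀ a ∈ Rc, ∀ b ∈ Rc, θ a * θ b = θ b * θ a ↔ a * b = b * a := fun a ha b hb => by
    rw [← hθ.hom h.emb ha hb, ← hθ.hom h.emb hb ha]
    exact ⟨hθ.inj h.emb (mul_mem ha hb) (mul_mem hb ha), congrArg θ⟩
  have k0 : ∀ i, g1 i ∉ Zc ∧ g2 i ∉ Zc ∧ g1 i * g2 i ∉ Zc ∧ dD (g1 i) ∧ dD (g2 i) ∧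
    dD (g1 i * g2 i) ∧ g1 i * g2 i = g2 i * g1 i ∧ g1 i ≠ g2 i := by decide +kernel
  have k1 : ∀ i j, θ (g1 j) ∈ Uc i → θ (g2 j) ∈ Uc i ∧ ∃ p ∈ Uc (!i), cn p (θ (g1 j)) ∈ pU i ∧
      cn p (θ (g2 j)) ∈ pU i := fun i j e => by
    have e2 := (show ∀ i, ∀ a ∈ Uc i, a ∉ Zc → ∀ b ∈ Rc, a * b = b * a → b ∈ Uc i by decide +kernel) i
      _ e (nz _ (g1_R j) (k0 j).1) _ (m2 j) ((c0 _ (g1_R j) _ (g2_R j)).2 (k0 j).2.2.2.2.2.2.1)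
    obtain ⟨p, -, p1, p2, p3⟩ := (show ∀ i, ∀ a ∈ Uc i, a ∉ Zc → dD a →
      ∃ p ∈ [1, g1 (!i), g2 (!i), g1 (!i) * g2 (!i)], p ∈ Uc (!i) ∧ cn p a ∈ pU i ∧ ∀ b ∈ Uc i, b ∉ Zc →
        dD b → a * b ∉ Zc → dD (a * b) → cn p b ∈ pU i by decide +kernel) i _ e
      (nz _ (g1_R j) (k0 j).1) (h.dc' hθ (g1_R j) (k0 j).2.2.2.1)
    refine ⟨e2, p, p1, p2, p3 _ e2 (nz _ (g2_R j) (k0 j).2.1) (h.dc' hθ (g2_R j) (k0 j).2.2.2.2.1)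
      ?_ ?_⟩ <;> rw [← hθ.hom h.emb (g1_R j) (g2_R j)]
    exacts [nz _ (mul_mem (g1_R j) (g2_R j)) (k0 j).2.2.1,
      h.dc' hθ (mul_mem (g1_R j) (g2_R j)) (k0 j).2.2.2.2.2.1]
  have k2 : ∀ j, ∃ i, θ (g1 j) ∈ Uc i := fun j => (inv_U _ (m1 j) (by
    rw [← hθ.hom h.emb (g1_R j) (g1_R j), Uc_sq j _ (g1_U j), hθ.one h.emb])).elim (⟨_, ·⟩) (⟨_, ·⟩)
  obtain ⟨i, e1⟩ := k2 true
  obtain ⟨j, e3⟩ := k2 false
  obtain rfl : j = !i := by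
    by_contra e
    obtain rfl : j = i := by cases i <;> simpa using e
    exact absurd ((c0 _ (g1_R _) _ (g1_R _)).1 (Uc_comm j e1 e3)) (by decide +kernel)
  obtain ⟨e2, p, p1, p2, p3⟩ := k1 _ _ e1
  obtain ⟨e4, q, q1, q2, q3⟩ := k1 _ _ e3
  rw [Bool.not_not] at q1
  have hp := Uc_le_Rc _ p1
  have hq := Uc_le_Rc _ q1
  have k3 := (h.emb.acs (mul_mem hp hq)).mul hθ
  have k4 : ∀ a ∈ Uc i, cn (p * q) a = cn p a := fun a ha => by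
    rw [cn_eq, cn_eq, mul_assoc p, Uc_comm i q1 ha]; group
  have k5 : ∀ a ∈ Uc (!i), cn q a ∈ pU (!i) → cn (p * q) a = cn q a := fun a ha e => by
    have := Uc_comm _ p1 ((show ∀ i, ∀ a ∈ pU i, a ∈ Uc i by decide +kernel) _ _ e)
    rw [cn_eq] at this ⊢
    rw [cn_eq, show p * q * a * (p * q)⁻¹ = p * (q * a * q⁻¹) * p⁻¹ by group, this]; group
  refine ⟨_, mul_mem hp hq, _, hQ i _ ((k4 _ e1).symm ▸ p2 : cn (p * q) _ ∈ _) _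
    ((k4 _ e2).symm ▸ p3 : cn (p * q) _ ∈ _) ?_ _ ((k5 _ e3 q2).symm ▸ q2 : cn (p * q) _ ∈ _) _
    ((k5 _ e4 q3).symm ▸ q3 : cn (p * q) _ ∈ _) ?_, ac_th h.emb (k3 _ (g1_R _)).1 (k3 _ (g2_R _)).1 (k3 _ (g1_R _)).1
      (k3 _ (g2_R _)).1 (k3 _ (g1_R _)).2 (k3 _ (g2_R _)).2 (k3 _ (g1_R _)).2 (k3 _ (g2_R _)).2⟩ <;>
    exact fun e => (k0 _).2.2.2.2.2.2.2 (k3.inj h.emb (g1_R _) (g2_R _) e)

end S2

end H24.He
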