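import Mathlib
import Cfsg.Agent.H9.M21
import Cfsg.Agent.H24.HeG

/-! A standard subgroup of type `L₃(4)`: vocabulary. -/

set_option autoImplicit false
set_option linter.unusedSectionVars false

namespace H24.Sz

open H26 H26.Gold Subgroup
open H9 (F4)
open H7.SJ (p2)

/-- a primitive element. -/
def om : F4 := F4.mk 2

@[simp] theorem f4_add_self (x : F4) : x + x = 0 := by revert x; decide

/-- The data: `a x = T₁₂(x)`, `b y = T₂₃(y)`, `z c = T₁₃(c)`, `h = diag(1, ω, ω²)`, `w = (2 3)`,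
`w' = (1 2)` in `L`; `r` lists a Sylow subgroup of `C(L)`; `d` centralises the Sylow subgroup. -/
structure Dat (G : Type*) [Group G] where
  L : Subgroup G
  Λ : AddSubgroup F4
  a : F4 → G
  b : F4 → G
  z : F4 → G
  r : F4 → G
  d : F4 → G
  h : G
  w : G
  w' : G

namespace Dat

variable {G : Type*} [Group G] (X : Dat G)

/-- exchange the two parabolics. -/
def symm : Dat G := { X with a := X.b, b := X.a, w := X.w', w' := X.w }

/-- conjugate everything. -/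
def cj (g : G) : Dat G :=
  ⟨H24.cj g X.L, X.Λ, fun x => g * X.a x * g⁻¹, fun x => g * X.b x * g⁻¹, fun x => g * X.z x * g⁻¹,
    fun x => g * X.r x * g⁻¹, fun x => g * X.d x * g⁻¹, g * X.h * g⁻¹, g * X.w * g⁻¹,
    g * X.w' * g⁻¹⟩

/-- the centraliser of `L`. -/
def K : Subgroup G := C[X.L]
/-- the centre of `S`. -/
def Z : Subgroup G := closure (Set.range X.z)
/-- the first group `2⁴`. -/
def A : Subgroup G := closure (Set.range X.a) ⊔ X.Z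
/-- the second group `2⁴`. -/
def B : Subgroup G := X.symm.A
/-- the Sylow subgroup of `L`. -/
def S : Subgroup G := X.A ⊔ X.B
/-- the Sylow subgroup of `K`. -/
def R : Subgroup G := closure (X.r '' X.Λ)
/-- the odd part of `C_K(R)`. -/
def O : Subgroup G := Od[X.K ⊓ C[X.R]]
/-- translations by `a`. -/
def q (x : F4) : G := X.w * X.d x * X.w⁻¹
/-- involutions in conjugates of `K`. -/
def I (u : G) : Prop := u ≠ 1 ∧ u * u = 1 ∧ ∃ g : G, g * u * g⁻¹ ∈ X.K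

/-- the frame in `L ≅ L₃(4)`. -/
structure Fr : Prop where
  aL : ∀ x, X.a x ∈ X.L
  bL : ∀ x, X.b x ∈ X.L
  hL : X.h ∈ X.L
  wL : X.w ∈ X.L
  wL' : X.w' ∈ X.L
  a_add : ∀ x y, X.a (x + y) = X.a x * X.a y
  b_add : ∀ x y, X.b (x + y) = X.b x * X.b y
  z_add : ∀ x y, X.z (x + y) = X.z x * X.z y
  az : ∀ x c, X.z c * X.a x = X.a x * X.z c
  bz : ∀ x c, X.z c * X.b x = X.b x * X.z c
  ba : ∀ x y, X.b y * X.a x = X.a x * X.b y * X.z (x * y)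
  z_inj : ∀ c, X.z c = 1 → c = 0
  ha : ∀ x, X.h * X.a x * X.h⁻¹ = X.a (om * om * x)
  hb : ∀ x, X.h * X.b x * X.h⁻¹ = X.b (om * om * x)
  hz : ∀ x, X.h * X.z x * X.h⁻¹ = X.z (om * x)
  h3 : X.h * X.h * X.h = 1
  wa : ∀ x, X.w * X.a x * X.w⁻¹ = X.z x
  ww : X.w * X.w = 1
  wh : X.w * X.h * X.w⁻¹ = X.h⁻¹
  wb : X.w * X.b 1 * X.w = X.b 1 * X.w * X.b 1
  wa' : ∀ x, X.w' * X.b x * X.w'⁻¹ = X.z x
  ww' : X.w' * X.w' = 1
  wh' : X.w' * X.h * X.w'⁻¹ = X.h⁻¹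
  wb' : X.w' * X.a 1 * X.w' = X.a 1 * X.w' * X.a 1
  gen : ∀ M : Subgroup G, (∀ x, X.a x ∈ M) → (∀ x, X.b x ∈ M) → X.w ∈ M → X.w' ∈ M → X.L ≤ M
  inv : ∀ l ∈ X.L, l ≠ 1 → l * l = 1 → ∃ m ∈ X.L, m * l * m⁻¹ = X.z 1
  cz : ∀ l ∈ X.L, l * X.z 1 = X.z 1 * l → l ∈ X.S
  simple : ∀ M, M ⊴ X.L → M = ⊥ ∨ M = X.L

/-- `L` is standard. -/
structure St : Prop extends X.Fr where
  tight : ∀ g : G, ∀ u ∈ X.K, u ≠ 1 → u * u = 1 → g * u * g⁻¹ ∈ X.K → g ∈ N[X.L]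
  nc : ∀ g : G, ¬ H24.cj g X.L ≤ X.K
  ev : ∃ u ∈ X.K, u ≠ 1 ∧ u * u = 1

/-- the Sylow subgroup of `K`. -/
structure S1 : Prop extends X.St where
  one : 1 ∈ X.Λ
  r_add : ∀ x ∈ X.Λ, ∀ y ∈ X.Λ, X.r (x + y) = X.r x * X.r y
  rK : ∀ x ∈ X.Λ, X.r x ∈ X.K
  r_inj : ∀ x ∈ X.Λ, X.r x = 1 → x = 0
  sylR : Syl 2 X.K X.R
  IL : ∀ l ∈ X.L, ¬ X.I l

/-- the output of the tight embedding. -/
structure S2 : Prop extends X.S1 where
  d1 : ∃ g ∈ C[X.S], ∀ x ∈ X.Λ, g * X.r x * g⁻¹ = X.r x * X.z x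

/-- the relations of `q`. -/
structure Hf (γ : F4) : Prop where
  lam : ∀ y x, γ * y * (x * x) ∈ X.Λ
  qd : ∀ x y, X.q x * X.d y * (X.q x)⁻¹ = X.d y * X.a (γ * (x * x) * y) * X.z (γ * x * (y * y))
  bq : ∀ y x, X.b y * X.q x * (X.b y)⁻¹ =
    X.q x * X.d (y * x) * X.r (γ * y * (x * x)) * X.a (γ * y * (x * x * x))

/-- the groups `Q₁`, `Q₂`. -/
structure S3 (γ γ' : F4) : Prop extends X.S1 where
  d_add : ∀ x y, X.d (x + y) = X.d x * X.d y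
  dS : ∀ x, X.d x ∈ C[X.S]
  hd : ∀ x, X.h * X.d x * X.h⁻¹ = X.d (om * x)
  dr : ∀ x, ∀ y ∈ X.Λ, X.d x * X.r y * (X.d x)⁻¹ = X.r y * X.z (y * x)
  dO : ∀ x, X.d x ∈ C[X.O]
  f1 : X.Hf γ
  f2 : X.symm.Hf γ'

/-- the cyclic case. -/
structure Cy : Prop extends X.S3 0 0 where
  cyc : ∀ x ∈ X.Λ, x = 0 ∨ x = 1

/-- the noncyclic case. -/
structure NC : Prop extends X.S3 1 1 where
  top : ∀ x, x ∈ X.Λ

variable {X} [Finite G] {g u v : G} {x y c : F4}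

@[simp] theorem symm_symm : X.symm.symm = X := rfl
@[simp] theorem symm_L : X.symm.L = X.L := rfl
@[simp] theorem symm_K : X.symm.K = X.K := rfl
@[simp] theorem symm_Z : X.symm.Z = X.Z := rfl
@[simp] theorem symm_A : X.symm.A = X.B := rfl
@[simp] theorem symm_B : X.symm.B = X.A := rfl
@[simp] theorem symm_R : X.symm.R = X.R := rfl
@[simp] theorem symm_O : X.symm.O = X.O := rfl
@[simp] theorem symm_S : X.symm.S = X.S := sup_comm _ _
theorem symm_I : X.symm.I u ↔ X.I u := Iff.rfl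

theorem cj_clos (g : G) {ι : Type} (f : ι → G) (s : Set ι) :
    closure ((fun x => g * f x * g⁻¹) '' s) = H24.cj g (closure (f '' s)) := by
  rw [cj_def, MonoidHom.map_closure, Set.image_image]; rfl

@[simp] theorem cj_L : (X.cj g).L = H24.cj g X.L := rfl
@[simp] theorem cj_K : (X.cj g).K = H24.cj g X.K := (cj_C g _).symm
@[simp] theorem cj_Z : (X.cj g).Z = H24.cj g X.Z := by
  simpa [Z, cj] using cj_clos g X.z Set.univ
@[simp] theorem cj_A : (X.cj g).A = H24.cj g X.A := by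
  rw [A, A, cj_Z, cj_sup]; congr 1; simpa [cj] using cj_clos g X.a Set.univ
@[simp] theorem cj_B : (X.cj g).B = H24.cj g X.B := cj_A (X := X.symm)
@[simp] theorem cj_S : (X.cj g).S = H24.cj g X.S := by rw [S, S, cj_A, cj_B, cj_sup]
@[simp] theorem cj_R : (X.cj g).R = H24.cj g X.R := cj_clos g X.r X.Λ
@[simp] theorem cj_O : (X.cj g).O = H24.cj g X.O := by
  rw [O, O, cj_K, cj_R, ← cj_C, ← cj_inf, pcore_cj]
theorem cj_q : (X.cj g).q x = g * X.q x * g⁻¹ := by simp only [q, cj]; group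

theorem I.conj (h : X.I u) (g : G) : X.I (g * u * g⁻¹) := by
  obtain ⟨h1, h2, k, h3⟩ := h
  exact ⟨fun e => h1 (conj_eq_one_iff'.1 e), conj_sq h2 g, k * g⁻¹, by
    rwa [show k * g⁻¹ * (g * u * g⁻¹) * (k * g⁻¹)⁻¹ = k * u * k⁻¹ by group]⟩

theorem I_conj : X.I (g * u * g⁻¹) ↔ X.I u :=
  ⟨fun h => by simpa [mul_assoc] using h.conj g⁻¹, fun h => h.conj g⟩

@[simp] theorem cj_I : (X.cj g).I u ↔ X.I u := by
  refine and_congr_right fun _ => and_congr_right fun _ => ⟨fun ⟨k, hk⟩ => ⟨g⁻¹ * k, ?_⟩,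
    fun ⟨k, hk⟩ => ⟨g * k, ?_⟩⟩
  · rw [cj_K, mem_cj] at hk; simpa [mul_assoc] using hk
  · rw [cj_K, mem_cj]; simpa [mul_assoc] using hk

theorem z_Z (c : F4) : X.z c ∈ X.Z := subset_closure ⟨c, rfl⟩
theorem Z_A : X.Z ≤ X.A := le_sup_right
theorem Z_B : X.Z ≤ X.B := le_sup_right
theorem A_S : X.A ≤ X.S := le_sup_left
theorem B_S : X.B ≤ X.S := le_sup_right
theorem Z_S : X.Z ≤ X.S := Z_A.trans A_S
theorem a_A (x : F4) : X.a x ∈ X.A := mem_sup_left (Subgroup.subset_closure ⟨x, rfl⟩)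
theorem b_B (x : F4) : X.b x ∈ X.B := a_A (X := X.symm) x
theorem z_A (x : F4) : X.z x ∈ X.A := Z_A (z_Z x)
theorem z_B (x : F4) : X.z x ∈ X.B := Z_B (z_Z x)
theorem a_S (x : F4) : X.a x ∈ X.S := A_S (a_A x)
theorem b_S (x : F4) : X.b x ∈ X.S := B_S (b_B x)
theorem z_S (x : F4) : X.z x ∈ X.S := Z_S (z_Z x)
theorem r_R (hx : x ∈ X.Λ) : X.r x ∈ X.R := subset_closure ⟨x, hx, rfl⟩
theorem Z_le {M : Subgroup G} (h : ∀ c, X.z c ∈ M) : X.Z ≤ M :=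
  (closure_le _).2 (by rintro _ ⟨c, rfl⟩; exact h c)
theorem A_le {M : Subgroup G} (h : ∀ c, X.a c ∈ M) (h' : ∀ c, X.z c ∈ M) : X.A ≤ M :=
  sup_le ((closure_le _).2 (by rintro _ ⟨c, rfl⟩; exact h c)) (Z_le h')
theorem B_le {M : Subgroup G} (h : ∀ c, X.b c ∈ M) (h' : ∀ c, X.z c ∈ M) : X.B ≤ M :=
  A_le (X := X.symm) h h'
theorem S_le {M : Subgroup G} (h : ∀ c, X.a c ∈ M) (h1 : ∀ c, X.b c ∈ M) (h' : ∀ c, X.z c ∈ M) :
    X.S ≤ M := sup_le (A_le h h') (B_le h1 h')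
theorem R_le {M : Subgroup G} (h : ∀ c ∈ X.Λ, X.r c ∈ M) : X.R ≤ M :=
  (closure_le _).2 (by rintro _ ⟨c, hc, rfl⟩; exact h c hc)
theorem O_odd : OddG X.O := Od_odd _
theorem O_K : X.O ≤ X.K := (pcore_le _ _).trans inf_le_left
theorem O_R : X.O ≤ C[X.R] := (pcore_le _ _).trans inf_le_right

theorem add_zero' {f : F4 → G} (h : ∀ x y, f (x + y) = f x * f y) : f 0 = 1 := by
  simpa using (h 0 0).symm

theorem add_sq {f : F4 → G} (h : ∀ x y, f (x + y) = f x * f y) (x : F4) : f x * f x = 1 := by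
  rw [← h, f4_add_self, add_zero' h]

theorem add_inv {f : F4 → G} (h : ∀ x y, f (x + y) = f x * f y) (x : F4) : (f x)⁻¹ = f x :=
  inv_eq_of_mul_eq_one_right (add_sq h x)

namespace Fr

variable (h : X.Fr)
include h

theorem a0 : X.a 0 = 1 := add_zero' h.a_add
theorem b0 : X.b 0 = 1 := add_zero' h.b_add
theorem z0 : X.z 0 = 1 := add_zero' h.z_add
theorem aa (x : F4) : X.a x * X.a x = 1 := add_sq h.a_add x
theorem bb (x : F4) : X.b x * X.b x = 1 := add_sq h.b_add x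
theorem zz (x : F4) : X.z x * X.z x = 1 := add_sq h.z_add x
theorem ai (x : F4) : (X.a x)⁻¹ = X.a x := add_inv h.a_add x
theorem bi (x : F4) : (X.b x)⁻¹ = X.b x := add_inv h.b_add x
theorem zi (x : F4) : (X.z x)⁻¹ = X.z x := add_inv h.z_add x
theorem wi : X.w⁻¹ = X.w := inv_eq_of_mul_eq_one_right h.ww
theorem wz (x : F4) : X.w * X.z x * X.w⁻¹ = X.a x := by
  rw [← h.wa, h.wi]; simp only [← mul_assoc, h.ww, one_mul]; rw [mul_assoc, h.ww, mul_one]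
theorem zL (x : F4) : X.z x ∈ X.L := h.wa x ▸ mul_mem (mul_mem h.wL (h.aL x)) (inv_mem h.wL)
theorem z_eq (e : X.z x = X.z y) : x = y := by
  have := h.z_inj (x + y) (by rw [h.z_add, e, h.zz])
  clear e; revert x y; decide
theorem z1 : X.z 1 ≠ 1 := fun e => one_ne_zero (h.z_inj 1 e)

theorem ab (x y : F4) : X.a x * X.b y = X.b y * X.a x * X.z (x * y) := by
  rw [h.ba, mul_assoc, h.zz, mul_one]

theorem symm : X.symm.Fr :=
  ⟨h.bL, h.aL, h.hL, h.wL', h.wL, h.b_add, h.a_add, h.z_add, h.bz, h.az,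
    fun x y => (h.ab y x).trans (by rw [mul_comm y x]; rfl), h.z_inj, h.hb, h.ha, h.hz, h.h3, h.wa',
    h.ww', h.wh', h.wb', h.wa, h.ww, h.wh, h.wb, fun M h1 h2 h3 h4 => h.gen M h2 h1 h4 h3, h.inv,
    fun l hl e => symm_S (X := X) ▸ h.cz l hl e, h.simple⟩

/-- conjugation of `a` by `b`. -/
theorem bab (x y : F4) : X.b y * X.a x * (X.b y)⁻¹ = X.a x * X.z (x * y) := by
  rw [h.ba, mul_assoc (X.a x), ← h.bz]; group

theorem aba (x y : F4) : X.a x * X.b y * (X.a x)⁻¹ = X.b y * X.z (y * x) := h.symm.bab y x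

theorem mem_Z : u ∈ X.Z ↔ ∃ c, u = X.z c := by
  refine ⟨fun hu => ?_, fun ⟨c, e⟩ => e ▸ z_Z c⟩
  induction hu using closure_induction with
  | mem x hx => obtain ⟨c, rfl⟩ := hx; exact ⟨c, rfl⟩
  | one => exact ⟨0, h.z0.symm⟩
  | mul x y _ _ h1 h2 => obtain ⟨c, rfl⟩ := h1; obtain ⟨e, rfl⟩ := h2; exact ⟨_, (h.z_add c e).symm⟩
  | inv x _ h1 => obtain ⟨c, rfl⟩ := h1; exact ⟨c, h.zi c⟩

theorem mul_A (x c y e : F4) : X.a x * X.z c * (X.a y * X.z e) = X.a (x + y) * X.z (c + e) := by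
  rw [h.a_add, h.z_add, mul_assoc (X.a x), ← mul_assoc (X.z c), h.az]; group

theorem mul_S (x y c x' y' c' : F4) : X.a x * X.b y * X.z c * (X.a x' * X.b y' * X.z c') =
    X.a (x + x') * X.b (y + y') * X.z (c + c' + x' * y) := by
  calc _ = X.a x * (X.b y * (X.z c * X.a x')) * X.b y' * X.z c' := by group
    _ = X.a x * X.a x' * X.b y * (X.z (x' * y) * (X.z c * X.b y')) * X.z c' := by
      rw [h.az, ← mul_assoc (X.b y), h.ba]; group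
    _ = _ := by
      rw [h.bz, ← mul_assoc (X.z _), h.bz, h.a_add, h.b_add, add_comm (c + c'), h.z_add, h.z_add]
      group

theorem mem_A : u ∈ X.A ↔ ∃ x c, u = X.a x * X.z c := by
  refine ⟨fun hu => ?_, fun ⟨x, c, e⟩ => e ▸ mul_mem (a_A x) (z_A c)⟩
  let M : Subgroup G := ⟨⟨⟨{u | ∃ x c, u = X.a x * X.z c}, by
    rintro _ _ ⟨x, c, rfl⟩ ⟨y, e, rfl⟩; exact ⟨_, _, h.mul_A x c y e⟩⟩,
    ⟨0, 0, by simp [h.a0, h.z0]⟩⟩, by
    rintro _ ⟨x, c, rfl⟩; exact ⟨x, c, by rw [mul_inv_rev, h.ai, h.zi, h.az]⟩⟩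
  exact A_le (M := M) (fun x => ⟨x, 0, by simp [h.z0]⟩) (fun x => ⟨0, x, by simp [h.a0]⟩) hu

theorem mem_B : u ∈ X.B ↔ ∃ x c, u = X.b x * X.z c := h.symm.mem_A

theorem mem_S : u ∈ X.S ↔ ∃ x y c, u = X.a x * X.b y * X.z c := by
  refine ⟨fun hu => ?_, fun ⟨x, y, c, e⟩ => e ▸ mul_mem (mul_mem (a_S x) (b_S y)) (z_S c)⟩
  let M : Subgroup G := ⟨⟨⟨{u | ∃ x y c, u = X.a x * X.b y * X.z c}, by
    rintro _ _ ⟨x, y, c, rfl⟩ ⟨x', y', c', rfl⟩; exact ⟨_, _, _, h.mul_S x y c x' y' c'⟩⟩,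
    ⟨0, 0, 0, by simp [h.a0, h.b0, h.z0]⟩⟩, by
    rintro _ ⟨x, y, c, rfl⟩
    exact ⟨x, y, c + x * y, inv_eq_of_mul_eq_one_right (by
      rw [h.mul_S, show c + (c + x * y) + x * y = 0 by revert c x y; decide]
      simp [h.a0, h.b0, h.z0])⟩⟩
  exact S_le (M := M) (fun x => ⟨x, 0, 0, by simp [h.b0, h.z0]⟩)
    (fun x => ⟨0, x, 0, by simp [h.a0, h.z0]⟩) (fun x => ⟨0, 0, x, by simp [h.a0, h.b0]⟩) hu

theorem S_L : X.S ≤ X.L := S_le h.aL h.bL h.zL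

theorem S_z (hu : u ∈ X.S) (c : F4) : u * X.z c = X.z c * u :=
  mem_C1.1 (S_le (M := C{X.z c}) (fun x => mem_C1.2 (h.az x c).symm)
    (fun x => mem_C1.2 (h.bz x c).symm)
    (fun x => mem_C1.2 (by rw [← h.z_add, ← h.z_add, add_comm])) hu)

theorem S_CZ : X.S ≤ C[X.Z] := fun _ hu => mem_C'.2 fun _ hv => by
  obtain ⟨c, rfl⟩ := h.mem_Z.1 hv; exact h.S_z hu c

theorem eq_one_S {x y c : F4} (e : X.a x * X.b y * X.z c = 1) : x = 0 ∧ y = 0 ∧ c = 0 := by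
  have k1 : X.a x * X.b y * X.z c * (X.a 1 * X.b 0 * X.z 0) =
    X.a 1 * X.b 0 * X.z 0 * (X.a x * X.b y * X.z c) := by rw [e, one_mul, mul_one]
  have k2 : X.a x * X.b y * X.z c * (X.a 0 * X.b 1 * X.z 0) =
    X.a 0 * X.b 1 * X.z 0 * (X.a x * X.b y * X.z c) := by rw [e, one_mul, mul_one]
  rw [h.mul_S, h.mul_S, add_comm x, add_comm y] at k1 k2
  have k3 := h.z_eq (mul_left_cancel k1)
  have k4 := h.z_eq (mul_left_cancel k2)
  obtain ⟨rfl, rfl⟩ : x = 0 ∧ y = 0 := by clear k1 k2 e; revert x y c; decide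
  exact ⟨rfl, rfl, h.z_inj c (by simpa [h.a0, h.b0] using e)⟩

theorem inj_S {x y c x' y' c' : F4} (e : X.a x * X.b y * X.z c = X.a x' * X.b y' * X.z c') :
    x = x' ∧ y = y' ∧ c = c' := by
  have k : ∀ x x' : F4, x + x' = 0 → x = x' := by decide
  obtain ⟨h1, h2, -⟩ := h.eq_one_S (x := x + x') (y := y + y') (c := c + (c' + x' * y') + x' * y) (by
    rw [← h.mul_S, e, h.mul_S, (by decide : ∀ a b : F4, a + (a + b) + b = 0)]
    simp [h.a0, h.b0, h.z0])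
  obtain rfl := k _ _ h1
  obtain rfl := k _ _ h2
  exact ⟨rfl, rfl, h.z_eq (mul_left_cancel e)⟩

theorem inj_A {x c x' c' : F4} (e : X.a x * X.z c = X.a x' * X.z c') : x = x' ∧ c = c' := by
  have := h.inj_S (x := x) (y := 0) (c := c) (x' := x') (y' := 0) (c' := c') (by simpa [h.b0] using e)
  exact ⟨this.1, this.2.2⟩

theorem a_mem_Z (e : X.a x * X.z c ∈ X.Z) : x = 0 := by
  obtain ⟨c', e⟩ := h.mem_Z.1 e
  exact (h.inj_A (x' := 0) (c' := c') (by simpa [h.a0] using e)).1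

theorem S_mem_A (e : X.a x * X.b y * X.z c ∈ X.A) : y = 0 := by
  obtain ⟨x', c', e⟩ := h.mem_A.1 e
  exact (h.inj_S (x' := x') (y' := 0) (c' := c') (by simpa [h.b0] using e)).2.1

theorem S_mem_B (e : X.a x * X.b y * X.z c ∈ X.B) : x = 0 := by
  obtain ⟨x', c', e⟩ := h.mem_B.1 e
  exact (h.inj_S (x' := 0) (y' := x') (c' := c') (by simpa [h.a0] using e)).1

theorem A_inf_B : X.A ⊓ X.B = X.Z := le_antisymm (fun u hu => by
  obtain ⟨x, c, rfl⟩ := h.mem_A.1 hu.1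
  obtain rfl := h.S_mem_B (x := x) (y := 0) (c := c) (by simpa [h.b0] using hu.2)
  simpa [h.a0] using z_Z c) (le_inf Z_A Z_B)

theorem A_ne_B : X.A ≠ X.B := fun e =>
  one_ne_zero (h.S_mem_B (x := 1) (y := 0) (c := 0) (by simpa [h.b0, h.z0, ← e] using a_A 1))

theorem sq_S (x y c : F4) : X.a x * X.b y * X.z c * (X.a x * X.b y * X.z c) = X.z (x * y) := by
  simp [h.mul_S, h.a0, h.b0]

theorem inv_S (hu : u ∈ X.S) (h2 : u * u = 1) : u ∈ X.A ∨ u ∈ X.B := by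
  obtain ⟨x, y, c, rfl⟩ := h.mem_S.1 hu
  rcases mul_eq_zero.1 (h.z_inj _ ((h.sq_S x y c).symm.trans h2)) with rfl | rfl
  · exact Or.inr (by simpa [h.a0] using mul_mem (b_B y) (z_B c))
  · exact Or.inl (by simpa [h.b0] using mul_mem (a_A x) (z_A c))

theorem eaA : EA X.A := ea_of_sq fun u hu => by
  obtain ⟨x, c, rfl⟩ := h.mem_A.1 hu; simp [h.mul_A, h.a0, h.z0]
theorem eaB : EA X.B := h.symm.eaA
theorem eaZ : EA X.Z := h.eaA.of_le Z_A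

theorem card_S : ♯X.S = 64 := by
  have : Function.Bijective fun v : F4 × F4 × F4 =>
      (⟨X.a v.1 * X.b v.2.1 * X.z v.2.2, h.mem_S.2 ⟨_, _, _, rfl⟩⟩ : X.S) :=
    ⟨fun v v' e => by
      obtain ⟨h1, h2, h3⟩ := h.inj_S (congrArg Subtype.val e)
      exact Prod.ext h1 (Prod.ext h2 h3), fun ⟨u, hu⟩ => by
      obtain ⟨x, y, c, rfl⟩ := h.mem_S.1 hu; exact ⟨(x, y, c), rfl⟩⟩
  rw [← Nat.card_eq_of_bijective _ this, Nat.card_eq_fintype_card]; rfl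

theorem card_A : ♯X.A = 16 := by
  have : Function.Bijective fun v : F4 × F4 =>
      (⟨X.a v.1 * X.z v.2, h.mem_A.2 ⟨_, _, rfl⟩⟩ : X.A) :=
    ⟨fun v v' e => by
      obtain ⟨h1, h2⟩ := h.inj_A (congrArg Subtype.val e)
      exact Prod.ext h1 h2, fun ⟨u, hu⟩ => by
      obtain ⟨x, c, rfl⟩ := h.mem_A.1 hu; exact ⟨(x, c), rfl⟩⟩
  rw [← Nat.card_eq_of_bijective _ this, Nat.card_eq_fintype_card]; rfl

theorem card_B : ♯X.B = 16 := h.symm.card_A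

theorem card_Z : ♯X.Z = 4 := by
  have : Function.Bijective fun v : F4 => (⟨X.z v, z_Z v⟩ : X.Z) :=
    ⟨fun v v' e => h.z_eq (congrArg Subtype.val e), fun ⟨u, hu⟩ => by
      obtain ⟨c, rfl⟩ := h.mem_Z.1 hu; exact ⟨c, rfl⟩⟩
  rw [← Nat.card_eq_of_bijective _ this, Nat.card_eq_fintype_card]; rfl

theorem twoS : TwoG X.S := isPi_of_card p2 (n := 6) h.card_S

theorem S_NA : X.S ≤ N[X.A] := sup_le (norm_self _) (B_le (fun y => mem_N_of_finite fun u hu => by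
    obtain ⟨x, c, rfl⟩ := h.mem_A.1 hu
    rw [show X.b y * (X.a x * X.z c) * (X.b y)⁻¹ = X.b y * X.a x * (X.b y)⁻¹ *
      (X.b y * X.z c * (X.b y)⁻¹) by group, h.bab, ← h.bz, mul_inv_cancel_right]
    exact mul_mem (mul_mem (a_A _) (z_A _)) (z_A _)) fun c => norm_self _ (z_A c))
theorem S_NB : X.S ≤ N[X.B] := symm_S (X := X) ▸ h.symm.S_NA

theorem LK : X.L ⊓ X.K = ⊥ := by
  refine (h.simple _ (nml_inf_of_norm (norm_C (norm_self _)))).resolve_right fun e => ?_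
  have k : X.a 1 ∈ X.K := (e.ge (h.aL 1)).2
  have := h.ba 1 1
  rw [mem_C.1 k _ (h.bL 1), mul_one, left_eq_mul] at this
  exact h.z1 this

theorem not_K (hu : u ∈ X.L) (h1 : u ≠ 1) : u ∉ X.K := fun e => h1 (h.LK.le ⟨hu, e⟩)

theorem syl : Syl 2 X.L X.S := by
  obtain ⟨T, hT, h1⟩ := Sylow_superset p2 h.twoS h.S_L
  obtain ⟨u, hu, u1, u2⟩ := TwoG.exists_inv (IsPi.of_le hT.pi (center_nml T).le)
    ((IsPi.nil p2 hT.pi).center_ne_bot (ne_bot_of_mem (h1 (z_S 1)) h.z1))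
  obtain ⟨m, hm, e⟩ := h.inv u (hT.le hu.1) u1 u2
  have k : H24.cj m T ≤ X.S := fun v hv => h.cz v (cj_le_of_mem hT.le hm hv) (by
    rw [← mem_C1, ← e, ← cj_C1]
    exact cj_mono m (mem_C_iff_le_C1.1 (cents_symm (le_C_center T) hu)) hv)
  have k2 := card_le k
  rw [card_cj] at k2
  rwa [eq_of_card_ge h1 k2]

theorem cj (g : G) : (X.cj g).Fr := by
  have e : ∀ x y : G, g * x * g⁻¹ * (g * y * g⁻¹) = g * (x * y) * g⁻¹ := fun x y => by group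
  have e' : ∀ x : G, (g * x * g⁻¹)⁻¹ = g * x⁻¹ * g⁻¹ := fun x => by group
  refine ⟨fun x => conj_mem_cj g (h.aL x), fun x => conj_mem_cj g (h.bL x), conj_mem_cj g h.hL,
    conj_mem_cj g h.wL, conj_mem_cj g h.wL', ?_, ?_, ?_, ?_, ?_, ?_,
    fun c e => h.z_inj c (conj_eq_one_iff'.1 e), ?_, ?_, ?_, ?_, ?_, ?_, ?_, ?_, ?_, ?_, ?_, ?_,
    fun M h1 h2 h3 h4 => cj_le_iff.2 (h.gen _ (fun x => ?_) (fun x => ?_) ?_ ?_),
    fun l hl l1 l2 => ?_, fun l hl e => ?_, fun M hM => ?_⟩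
  any_goals simp only [Dat.cj, e, e', h.a_add, h.b_add, h.z_add, h.az, h.bz, h.ba, h.ha, h.hb, h.hz,
    h.h3, h.wa, h.ww, h.wh, h.wb, h.wa', h.ww', h.wh', h.wb', mul_one, mul_inv_cancel, implies_true]
  · exact mem_cj.2 (by simpa [Dat.cj] using h1 x)
  · exact mem_cj.2 (by simpa [Dat.cj] using h2 x)
  · exact mem_cj.2 (by simpa [Dat.cj] using h3)
  · exact mem_cj.2 (by simpa [Dat.cj] using h4)
  · obtain ⟨k, hk, rfl⟩ := mem_cj'.1 hl
    obtain ⟨m, hm, e1⟩ := h.inv k hk (fun e => l1 (by simp [e]))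
      (conj_eq_one_iff'.1 ((e k k).symm.trans l2))
    exact ⟨_, conj_mem_cj g hm, by rw [e, e', e, e1]⟩
  · obtain ⟨k, hk, rfl⟩ := mem_cj'.1 hl
    refine cj_S (X := X) (g := g) ▸ conj_mem_cj g (h.cz k hk ?_)
    simp only [Dat.cj, ← mul_assoc, inv_mul_cancel_right, mul_left_inj] at e
    simpa [mul_assoc] using e
  · rcases h.simple (H24.cj g⁻¹ M) (by simpa using hM.cj g⁻¹) with k | k
    · exact Or.inl (by simpa using congrArg (H24.cj g) k)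
    · exact Or.inr (by simpa using congrArg (H24.cj g) k)

end Fr

theorem St.symm (h : X.St) : X.symm.St := ⟨h.toFr.symm, h.tight, h.nc, h.ev⟩

theorem S1.symm (h : X.S1) : X.symm.S1 :=
  ⟨h.toSt.symm, h.one, h.r_add, h.rK, h.r_inj, h.sylR, h.IL⟩

theorem S2.symm (h : X.S2) : X.symm.S2 := ⟨h.toS1.symm, symm_S (X := X) ▸ h.d1⟩

theorem S3.symm {γ γ' : F4} (h : X.S3 γ γ') : X.symm.S3 γ' γ :=
  ⟨h.toS1.symm, h.d_add, symm_S (X := X) ▸ h.dS, h.hd, h.dr, h.dO, h.f2, h.f1⟩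

theorem Cy.symm (h : X.Cy) : X.symm.Cy := ⟨h.toS3.symm, h.cyc⟩
theorem NC.symm (h : X.NC) : X.symm.NC := ⟨h.toS3.symm, h.top⟩

end Dat

end H24.Sz
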