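import Mathlib
import Cfsg.Agent.H24.Su0

/-! Automorphisms of `L₃(4)` seen on the Sylow subgroup. -/

set_option autoImplicit false
set_option linter.unusedSectionVars false

namespace H24.Sz

open H26 H26.Gold Subgroup
open H9 (F4)
open H7.SJ (p2)
open H25.Tw (Ch)

section Aux

variable {G : Type*} [Group G] [Finite G] {H K : Subgroup G} {κ : G → Prop}

theorem b_two_mul_le (h : H < K) : 2 * ♯H ≤ ♯K := by
  obtain ⟨n, hn⟩ := card_dvd h.le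
  have h1 := card_lt h
  have h2 := card_pos H
  rw [hn] at h1 ⊢
  have : 2 ≤ n := by
    by_contra h3
    have : n ≤ 1 := by omega
    nlinarith
  nlinarith

theorem b_ch_card (h : Ch H κ) : ♯H ≤ 2 * ♯h.sub := by
  by_cases e : ∀ x ∈ H, κ x
  · have := card_le (A := H) (B := h.sub) fun x hx => ⟨hx, e x hx⟩
    omega
  · push Not at e
    obtain ⟨x, hx, e⟩ := e
    rw [← card_mul_relIndex h.nml.le, He.ch_idx h hx e, mul_comm]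

theorem b_ch_mono (h : Ch H κ) (hK : K ≤ H) : Ch K κ := fun a ha b hb => h a (hK ha) b (hK hb)

theorem b_conj_mul (g x y : G) : g * (x * y) * g⁻¹ = g * x * g⁻¹ * (g * y * g⁻¹) := by group

end Aux

namespace Dat.Fr

variable {G : Type*} [Group G] [Finite G] {X : Dat G} {g : G} {c : F4} {P E D : Subgroup G} (h : X.Fr)
include h

theorem b_KS : X.K ≤ C[X.S] := C_anti h.S_L

theorem mem_LK : g ∈ X.L ⊔ X.K ↔ ∃ l ∈ X.L, ∃ k ∈ X.K, g = l * k :=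
  mem_sup_of_norm (C_le_N _)

theorem mem_SK : g ∈ X.S ⊔ X.K ↔ ∃ l ∈ X.S, ∃ k ∈ X.K, g = l * k :=
  mem_sup_of_norm (norm_of_cent h.b_KS)

theorem ea_le (hE : EA E) (h1 : E ≤ X.S) : E ≤ X.A ∨ E ≤ X.B := by
  refine or_iff_not_imp_left.2 fun h2 v hv => ?_
  obtain ⟨u, hu, h3⟩ := SetLike.not_le_iff_exists.1 h2
  have k := fun w (hw : w ∈ E) => h.inv_S (h1 hw) (hE.sq hw)
  have uB := (k u hu).resolve_left h3
  refine (k v hv).elim (fun vA => ?_) id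
  rcases k _ (mul_mem hu hv) with e | e
  · exact absurd ((mul_mem_cancel_right vA).1 e) h3
  · exact (mul_mem_cancel_left uB).1 e

theorem b_swap (hg : g ∈ N[X.S]) : (H24.cj g X.A = X.A ∧ H24.cj g X.B = X.B) ∨
    (H24.cj g X.A = X.B ∧ H24.cj g X.B = X.A) := by
  have k : ∀ Y, EA Y → Y ≤ X.S → ♯Y = 16 → H24.cj g Y = X.A ∨ H24.cj g Y = X.B := fun Y h1 h2 h3 =>
    (h.ea_le (H7.SJ.ea_cj h1 g) (cj_le_of_mem_N h2 hg)).imp
      (fun e => eq_of_card_eq e (by rw [card_cj, h3, h.card_A]))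
      fun e => eq_of_card_eq e (by rw [card_cj, h3, h.card_B])
  rcases k _ h.eaA A_S h.card_A with e1 | e1 <;> rcases k _ h.eaB B_S h.card_B with e2 | e2
  · exact absurd (cj_inj.1 (e1.trans e2.symm)) h.A_ne_B
  · exact Or.inl ⟨e1, e2⟩
  · exact Or.inr ⟨e1, e2⟩
  · exact absurd (cj_inj.1 (e1.trans e2.symm)) h.A_ne_B

theorem N_Z (hg : g ∈ N[X.S]) : g ∈ N[X.Z] := by
  rw [mem_N_iff_cj, ← h.A_inf_B, cj_inf]
  rcases h.b_swap hg with e | e <;> rw [e.1, e.2]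
  exact inf_comm _ _

theorem b_hS : X.h ∈ N[X.S] := mem_N_of_finite fun u hu => by
  obtain ⟨x, y, c, rfl⟩ := h.mem_S.1 hu
  rw [b_conj_mul, b_conj_mul, h.ha, h.hb, h.hz]
  exact mul_mem (mul_mem (a_S _) (b_S _)) (z_S _)

theorem b_cz (hc : c ≠ 0) {l : G} (hl : l ∈ X.L) (e : l * X.z c = X.z c * l) : l ∈ X.S := by
  have st : ∀ c, (∀ l ∈ X.L, l * X.z (om * c) = X.z (om * c) * l → l ∈ X.S) →
      ∀ l ∈ X.L, l * X.z c = X.z c * l → l ∈ X.S := fun c k l hl e =>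
    (conj_mem_iff h.b_hS).1 (k _ (conj_mem (norm_self _ h.hL) hl) (by
      rw [← h.hz, ← b_conj_mul, e, b_conj_mul]))
  have s2 := st (om * om) (by rw [show om * (om * om) = 1 by decide]; exact h.cz)
  have s1 := st om s2
  obtain rfl | rfl | rfl := (by decide : ∀ c : F4, c ≠ 0 → c = 1 ∨ c = om ∨ c = om * om) c hc
  exacts [h.cz l hl e, s1 l hl e, s2 l hl e]

theorem N_S (hg : g ∈ N[X.L]) (hc : c ≠ 0) (h1 : g * X.z c * g⁻¹ ∈ X.Z) : g ∈ N[X.S] := by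
  obtain ⟨c', e⟩ := h.mem_Z.1 h1
  refine mem_N_of_finite fun u hu => h.b_cz (c := c') ?_ (conj_mem hg (h.S_L hu)) ?_
  · rintro rfl
    exact hc (h.z_inj c (conj_eq_one_iff'.1 (e.trans h.z0)))
  · rw [← e, ← b_conj_mul, h.S_z hu, b_conj_mul]

theorem swap (hg : g ∈ N[X.S]) : (H24.cj g X.A = X.A ∧ H24.cj g X.B = X.B) ∨
    (H24.cj g X.A = X.B ∧ H24.cj g X.B = X.A) := h.b_swap hg

theorem b_CA {l : G} (hl : l ∈ X.L) (h1 : l ∈ C[X.A]) : l ∈ X.A := by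
  obtain ⟨x, y, c, rfl⟩ := h.mem_S.1 (h.cz l hl (mem_C'.1 h1 _ (z_A 1)))
  have k := mem_C'.1 h1 (X.a 1 * X.b 0 * X.z 0) (by simpa [h.b0, h.z0] using a_A 1)
  rw [h.mul_S, h.mul_S] at k
  obtain rfl : y = 0 := by
    have := (h.inj_S k).2.2
    clear k hl h1
    revert x y c
    decide
  simpa [h.b0] using mul_mem (a_A x) (z_A c)

theorem b_hfix {u : G} (hu : u ∈ X.S) (e : u * X.h = X.h * u) : u = 1 := by
  obtain ⟨x, y, c, rfl⟩ := h.mem_S.1 hu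
  have k : X.h * (X.a x * X.b y * X.z c) * X.h⁻¹ = X.a x * X.b y * X.z c := by
    rw [← e, mul_inv_cancel_right]
  rw [b_conj_mul, b_conj_mul, h.ha, h.hb, h.hz] at k
  obtain ⟨rfl, rfl, rfl⟩ : x = 0 ∧ y = 0 ∧ c = 0 := by
    have := h.inj_S k
    clear k e hu
    revert x y c
    decide
  simp [h.a0, h.b0, h.z0]

theorem b_wA : X.w ∈ N[X.A] := mem_N_of_finite fun u hu => by
  obtain ⟨x, c, rfl⟩ := h.mem_A.1 hu
  rw [b_conj_mul, h.wa, h.wz]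
  exact mul_mem (z_A _) (a_A _)

theorem b_cw (hg : g ∈ N[X.L]) (h1 : g ∈ C[X.A]) (h2 : g * X.h = X.h * g) : X.w ∈ C{g} := by
  have k1 : X.w * g⁻¹ * X.w⁻¹ ∈ C[X.A] := conj_mem (N_le_NC _ h.b_wA) (inv_mem h1)
  have k2 : g * (X.w * g⁻¹ * X.w⁻¹) ∈ X.L := by
    rw [show g * (X.w * g⁻¹ * X.w⁻¹) = g * X.w * g⁻¹ * X.w⁻¹ by group]
    exact mul_mem (conj_mem hg h.wL) (inv_mem h.wL)
  have k3 : g ∈ C{X.h} := mem_C1.2 h2
  have k4 : X.w * g⁻¹ * X.w⁻¹ ∈ C{X.h} := by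
    rw [mem_C1_comm, ← cj_C1, mem_cj, ← inv_inv X.w, inv_inv X.w⁻¹, h.wi, h.wh]
    exact inv_mem (mem_C1_comm.1 (inv_mem k3))
  have := h.b_hfix (A_S (h.b_CA k2 (mul_mem h1 k1))) (mem_C1.1 (mul_mem k3 k4))
  rw [mem_C1]
  calc X.w * g = g * (X.w * g⁻¹ * X.w⁻¹) * (X.w * g) := by rw [this, one_mul]
    _ = g * X.w := by group

theorem cent_S (hg : g ∈ N[X.L]) (h1 : g ∈ C[X.S]) : g ∈ X.Z ⊔ X.K := by
  have k1 : g * (X.h * g⁻¹ * X.h⁻¹) ∈ C[X.S] := mul_mem h1 (conj_mem (N_le_NC _ h.b_hS) (inv_mem h1))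
  have k2 : g * (X.h * g⁻¹ * X.h⁻¹) ∈ X.L := by
    rw [show g * (X.h * g⁻¹ * X.h⁻¹) = g * X.h * g⁻¹ * X.h⁻¹ by group]
    exact mul_mem (conj_mem hg h.hL) (inv_mem h.hL)
  obtain ⟨c, e⟩ := h.mem_Z.1 (h.A_inf_B.le ⟨h.b_CA k2 (C_anti A_S k1), h.symm.b_CA k2 (C_anti B_S k1)⟩)
  have e1 : X.z (om * c) * g * X.h = X.h * (X.z (om * c) * g) := by
    calc X.z (om * c) * g * X.h = X.z (om * c) * (g * (X.h * g⁻¹ * X.h⁻¹)) * (X.h * g) := by group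
      _ = X.h * X.z (om * c) * X.h⁻¹ * (X.h * g) := by
        rw [e, h.hz, ← h.z_add, (by decide : ∀ c : F4, om * c + c = om * (om * c))]
      _ = _ := by group
  have n1 : X.z (om * c) * g ∈ N[X.L] := mul_mem (norm_self _ (h.zL _)) hg
  have n2 : X.z (om * c) * g ∈ C[X.S] := mul_mem (cents_symm h.S_CZ (z_Z _)) h1
  have n3 : X.z (om * c) * g ∈ X.K := mem_C_iff_le_C1.2 (h.gen _
    (fun x => mem_C_iff_le_C1.1 n2 (a_S x)) (fun x => mem_C_iff_le_C1.1 n2 (b_S x))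
    (h.b_cw n1 (C_anti A_S n2) e1) (h.symm.b_cw n1 (C_anti B_S n2) e1))
  rw [← mul_mem_cancel_left (mem_sup_left (z_Z (om * c)))]
  exact mem_sup_right n3

theorem b_key {x y x' y' c' : F4} (h1 : g * X.a x * g⁻¹ = X.a x' * X.z c)
    (h2 : g * X.b y * g⁻¹ = X.b y' * X.z c') : g * X.z (x * y) * g⁻¹ = X.z (x' * y') := by
  rw [← h.sq_S x y 0, h.z0, mul_one, b_conj_mul, b_conj_mul, h1, h2, mul_assoc (X.a x'),
    ← mul_assoc (X.z c), h.bz, mul_assoc (X.b y'), ← h.z_add, ← mul_assoc (X.a x'), h.sq_S]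

theorem b_form (h1 : ∀ x, g * X.a x * g⁻¹ * X.a x ∈ X.Z) :
    ∃ θ : F4 → F4, ∀ x, g * X.a x * g⁻¹ = X.a x * X.z (θ x) := by
  choose θ hθ using fun x => h.mem_Z.1 (h1 x)
  exact ⟨θ, fun x => by rw [← h.az, ← hθ, mul_assoc (g * X.a x * g⁻¹), h.aa, mul_one]⟩

theorem b_lin (hg : g ∈ N[X.L]) (hZ : g ∈ C[X.Z]) {θ : F4 → F4}
    (h1 : ∀ x, g * X.a x * g⁻¹ = X.a x * X.z (θ x)) (x : F4) :
    X.b (θ 1) * g * X.a x = X.a x * (X.b (θ 1) * g) := by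
  have hz := fun c => conj_eq_of_mem_C (inv_mem hZ) (z_Z (X := X) c)
  have e1 : ∀ c, g * X.w * g⁻¹ * X.z c * (g * X.w * g⁻¹)⁻¹ = X.a c * X.z (θ c) := fun c => by
    rw [← h1, ← h.wz]
    nth_rw 2 [← hz c]
    group
  have e2 : ∀ c, X.b (θ 1) * X.w * X.z c * (X.b (θ 1) * X.w)⁻¹ = X.a c * X.z (c * θ 1) := fun c => by
    rw [← h.bab, ← h.wz]; group
  have k : (X.b (θ 1) * X.w)⁻¹ * (g * X.w * g⁻¹) ∈ X.S := h.cz _
    (mul_mem (inv_mem (mul_mem (h.bL _) h.wL)) (conj_mem hg h.wL)) (by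
      have := (e1 1).trans (by rw [e2, one_mul] : _ = X.b (θ 1) * X.w * X.z 1 * (X.b (θ 1) * X.w)⁻¹)
      calc _ = (X.b (θ 1) * X.w)⁻¹ * (g * X.w * g⁻¹ * X.z 1 * (g * X.w * g⁻¹)⁻¹) *
            (g * X.w * g⁻¹) := by group
        _ = _ := by rw [this]; group)
  have e3 : θ x = x * θ 1 := h.z_eq (mul_left_cancel (a := X.a x) (by
    rw [← e1, ← e2]
    calc _ = X.b (θ 1) * X.w * ((X.b (θ 1) * X.w)⁻¹ * (g * X.w * g⁻¹) * X.z x) *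
          (g * X.w * g⁻¹)⁻¹ := by group
      _ = _ := by rw [h.S_z k]; group))
  calc X.b (θ 1) * g * X.a x = X.b (θ 1) * (g * X.a x * g⁻¹) * (X.b (θ 1))⁻¹ * (X.b (θ 1) * g) := by
        group
    _ = _ := by
      rw [h1, b_conj_mul, h.bab, ← h.bz, mul_inv_cancel_right, e3, mul_assoc (X.a x), h.zz, mul_one]

theorem aut_a (hg : g ∈ N[X.L]) (h1 : ∀ x, g * X.a x * g⁻¹ * X.a x ∈ X.Z)
    (h2 : ∀ x, g * X.b x * g⁻¹ * X.b x ∈ X.Z) : g ∈ X.S ⊔ X.K := by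
  obtain ⟨θ, hθ⟩ := h.b_form h1
  obtain ⟨θ', hθ'⟩ := h.symm.b_form h2
  have hZ : g ∈ C[X.Z] := mem_C_iff_le_C1.2 (Z_le fun c => mem_C1_comm.1 (mem_C1_iff_conj.2 (by
    simpa using h.b_key (hθ 1) (hθ' c))))
  have e1 := h.b_lin hg hZ hθ
  have n1 : X.b (θ 1) * g ∈ N[X.L] := mul_mem (norm_self _ (h.bL _)) hg
  have n2 : X.b (θ 1) * g ∈ C[X.Z] := mul_mem (h.S_CZ (b_S _)) hZ
  have e2 := h.symm.b_lin n1 n2 (θ := θ') fun y => by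
    have := hθ' y
    simp only [Dat.symm] at this ⊢
    rw [show X.b (θ 1) * g * X.b y * (X.b (θ 1) * g)⁻¹ = X.b (θ 1) * (g * X.b y * g⁻¹) * (X.b (θ 1))⁻¹
      by group, this, h.eaB.comm (b_B _) (mul_mem (b_B _) (z_B _)), mul_inv_cancel_right]
  simp only [Dat.symm] at e2
  have n3 : X.a (θ' 1) * (X.b (θ 1) * g) ∈ C[X.S] := mem_C_iff_le_C1.2 (S_le
    (fun x => mem_C1.2 (by
      rw [mul_assoc (X.a (θ' 1)), e1, ← mul_assoc, ← mul_assoc (X.a (θ' 1)),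
        h.eaA.comm (a_A x) (a_A _)]))
    (fun y => mem_C1.2 (e2 y).symm)
    fun c => mem_C1.2 (mem_C.1 (mul_mem (h.S_CZ (a_S _)) n2) _ (z_Z c)))
  have := sup_le_sup_right Z_S _ (h.cent_S (mul_mem (norm_self _ (h.aL _)) n1) n3)
  rwa [mul_mem_cancel_left (mem_sup_left (a_S _)), mul_mem_cancel_left (mem_sup_left (b_S _))] at this

theorem b_act (h1 : g ∈ N[X.A]) :
    ∃ f θ : F4 → F4, ∀ x, g * X.a x * g⁻¹ = X.a (f x) * X.z (θ x) := by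
  choose f θ e using fun x => h.mem_A.1 (conj_mem h1 (a_A x))
  exact ⟨f, θ, e⟩

theorem b_inZ {x : F4} (e : g * X.a x * g⁻¹ = X.a x * X.z c) : g * X.a x * g⁻¹ * X.a x ∈ X.Z := by
  rw [e, ← h.az, mul_assoc, h.aa, mul_one]; exact z_Z c

theorem cent_A (hg : g ∈ N[X.L]) (h1 : g ∈ C[X.A]) : g ∈ X.A ⊔ X.K := by
  have hS := h.N_S hg one_ne_zero (by rw [conj_eq_of_mem_C h1 (z_A 1)]; exact z_Z 1)
  have hB : g ∈ N[X.B] := mem_N_iff_cj.2 ((h.swap hS).resolve_right fun e =>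
    h.A_ne_B ((cj_of_mem_C h1).symm.trans e.1)).2
  obtain ⟨f, θ, e⟩ := h.symm.b_act hB
  have ea : ∀ x, g * X.a x * g⁻¹ = X.a x * X.z 0 := fun x => by
    rw [conj_eq_of_mem_C h1 (a_A x), h.z0, mul_one]
  obtain ⟨s, hs, k, hk, rfl⟩ := h.mem_SK.1 (h.aut_a hg (fun x => h.b_inZ (ea x)) fun y =>
    h.symm.b_inZ (c := θ y) (by
      have := h.b_key (ea 1) (e y)
      rw [conj_eq_of_mem_C h1 (z_A _), one_mul, one_mul] at this
      rw [e y, ← h.z_eq this]))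
  exact mul_mem (mem_sup_left (h.b_CA (h.S_L hs)
    ((mul_mem_cancel_right (C_anti A_S (h.b_KS hk))).1 h1))) (mem_sup_right hk)

theorem b_cube (hZ : g ∈ N[X.Z]) {m : F4} (hm : m ≠ 0)
    (e : ∀ x, ∃ c, g * X.a x * g⁻¹ = X.a (m * x) * X.z c) (x : F4) :
    g ^ 3 * X.a x * (g ^ 3)⁻¹ * X.a x ∈ X.Z := by
  have st : ∀ k : G, ∀ y, (∃ c, k * X.a x * k⁻¹ = X.a y * X.z c) →
      ∃ c, g * k * X.a x * (g * k)⁻¹ = X.a (m * y) * X.z c := by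
    rintro k y ⟨c, hc⟩
    obtain ⟨c1, e1⟩ := e y
    obtain ⟨c2, e2⟩ := h.mem_Z.1 (conj_mem hZ (z_Z c))
    exact ⟨c1 + c2, by
      rw [show g * k * X.a x * (g * k)⁻¹ = g * (k * X.a x * k⁻¹) * g⁻¹ by group, hc, b_conj_mul, e1, e2,
        h.z_add, mul_assoc]⟩
  obtain ⟨c, hc⟩ := st _ _ (st _ _ (e x))
  rw [(by decide : ∀ m x : F4, m ≠ 0 → m * (m * (m * x)) = x) m x hm,
    show g * (g * g) = g ^ 3 by rw [pow_succ', pow_two]] at hc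
  exact h.b_inZ hc

theorem two_lin (hg : g ∈ N[X.L]) (h1 : g ∈ N[X.A]) (h2 : g ∈ N[X.B]) (h3 : TwoE g)
    (h4 : g ∈ C[X.Z] ∨ (∀ x, g * X.a x * g⁻¹ * X.a x ∈ X.Z) ∨
      ∀ x, g * X.b x * g⁻¹ * X.b x ∈ X.Z) : g ∈ X.S ⊔ X.K := by
  obtain ⟨f, θ, e⟩ := h.b_act h1
  obtain ⟨f', θ', e'⟩ := h.symm.b_act h2
  have hZ : g ∈ N[X.Z] := h.A_inf_B ▸ norm_inf (zpowers_le.2 h1) (zpowers_le.2 h2) (mem_zpowers g)
  have k : ∀ x y, g * X.z (x * y) * g⁻¹ = X.z (f x * f' y) := fun x y => h.b_key (e x) (e' y)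
  have k1 : f 1 * f' 1 ≠ 0 := fun e0 => h.z1 (conj_eq_one_iff'.1 (by
    rw [← h.z0, ← e0, ← k, mul_one]))
  have k2 : ∀ x y x' y', x * y = x' * y' → f x * f' y = f x' * f' y' := fun x y x' y' e0 =>
    h.z_eq (by rw [← k, ← k, e0])
  have lin : (∀ x, f x = f 1 * x) ∧ ∀ x, f' x = f' 1 * x := by
    have n1 := left_ne_zero_of_mul k1
    have n2 := right_ne_zero_of_mul k1
    rcases h4 with h4 | h4 | h4
    · have k3 : ∀ x y, x * y = f x * f' y := fun x y =>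
        h.z_eq (by rw [← k, conj_eq_of_mem_C h4 (z_Z _)])
      exact ⟨fun x => mul_right_cancel₀ n2 (by rw [← k3, mul_right_comm, ← k3]; ring),
        fun x => mul_left_cancel₀ n1 (by rw [← k3, ← mul_assoc, ← k3]; ring)⟩
    · obtain ⟨θ1, e1⟩ := h.b_form h4
      have k3 : ∀ x, f x = x := fun x => (h.inj_A ((e x).symm.trans (e1 x))).1
      exact ⟨fun x => by rw [k3, k3, one_mul], fun x => by
        simpa [k3, mul_comm] using k2 1 x x 1 (mul_comm _ _)⟩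
    · obtain ⟨θ1, e1⟩ := h.symm.b_form h4
      have k3 : ∀ x, f' x = x := fun x => (h.symm.inj_A ((e' x).symm.trans (e1 x))).1
      exact ⟨fun x => by simpa [k3] using k2 x 1 1 x (mul_comm _ _), fun x => by
        rw [k3, k3, one_mul]⟩
  have := h.aut_a (pow_mem hg 3)
    (h.b_cube hZ (left_ne_zero_of_mul k1) fun x => ⟨_, lin.1 x ▸ e x⟩)
    (h.symm.b_cube hZ (right_ne_zero_of_mul k1) fun x => ⟨_, lin.2 x ▸ e' x⟩)
  refine zpowers_le.2 this (mem_zpowers_pow_iff.2 ((Nat.prime_three.coprime_iff_not_dvd).2 fun e0 => ?_))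
  exact absurd (h3 3 Nat.prime_three e0) (by decide)

theorem ex_conj (hP : TwoG P) (h1 : P ≤ N[X.L]) : ∃ l ∈ X.L, H24.cj l P ≤ N[X.S] := by
  obtain ⟨T, hT, h2⟩ := Sylow_superset p2 hP (le_sup_right : P ≤ X.L ⊔ P)
  obtain ⟨l, hl, e⟩ := Sylow_trans p2 h.syl (hT.inf_nml (nml_sup_left h1))
  refine ⟨l⁻¹, inv_mem hl, le_cj_iff.1 ?_⟩
  rw [cj_N, ← e]
  exact norm_inf (norm_of_le h2) h1

theorem b_ch1 (h2 : P ≤ N[X.S]) : Ch P fun g => H24.cj g X.A = X.A :=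
  He.ch_swap h.A_ne_B fun _ hg => h.swap (h2 hg)

theorem b_ch2 (hP : TwoG P) (h2 : P ≤ N[X.S]) : Ch P fun g => g ∈ C[X.Z] := by
  have nZ : P ≤ N[X.Z] := fun _ hg => h.N_Z (h2 hg)
  obtain ⟨t, ht, t1⟩ := exists_ne_one (IsPi.inf_C_ne_bot p2 hP h.eaZ.two nZ
    (ne_bot_of_mem (z_Z 1) h.z1))
  have ct : P ≤ C{t} := mem_C_iff_le_C1.1 ht.2
  intro a ha b hb
  by_cases e1 : a ∈ C[X.Z]
  · simp only [e1, true_iff]
    exact mul_mem_cancel_left e1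
  by_cases e2 : b ∈ C[X.Z]
  · simp only [e2, iff_true]
    exact mul_mem_cancel_right e2
  simp only [e1, e2, iff_true]
  exact ((He.fix3 h.eaZ h.card_Z ht.1 t1 (nZ ha) (ct ha) (nZ hb) (ct hb)).resolve_left e1).resolve_left e2

theorem b_NB (hg : g ∈ N[X.S]) (e : H24.cj g X.A = X.A) : g ∈ N[X.B] :=
  mem_N_iff_cj.2 ((h.swap hg).resolve_right fun k => h.A_ne_B (e.symm.trans k.1)).2

theorem b_ker (hP : TwoG P) (h1 : P ≤ N[X.L]) (h2 : P ≤ N[X.S]) (hg : g ∈ P)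
    (e1 : H24.cj g X.A = X.A) (e2 : g ∈ C[X.Z]) : g ∈ X.S ⊔ X.K :=
  h.two_lin (h1 hg) (mem_N_iff_cj.2 e1) (h.b_NB (h2 hg) e1) (hP.piElt hg) (Or.inl e2)

theorem b_LN : X.L ≤ N[X.L ⊔ X.K] := norm_of_le le_sup_left

theorem sq_mem (hg : g ∈ N[X.L]) (h2 : TwoE g) : g * g ∈ X.L ⊔ X.K := by
  obtain ⟨l, hl, h3⟩ := h.ex_conj h2.isPi (zpowers_le.2 hg)
  have m := conj_mem_cj l (mem_zpowers g)
  have tw := h2.isPi.cj l
  have := h.b_ker tw (cj_le_of_mem (zpowers_le.2 hg) (norm_self _ hl)) h3 (mul_mem m m)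
    ((h.b_ch1 h3 _ m _ m).2 Iff.rfl) ((h.b_ch2 tw h3 _ m _ m).2 Iff.rfl)
  rw [← b_conj_mul] at this
  exact (conj_mem_iff (h.b_LN hl)).1 (sup_le_sup_right h.S_L _ this)

theorem idx (hP : TwoG P) (h1 : P ≤ N[X.L]) (h2 : P ≤ N[X.S]) :
    ♯P ≤ 4 * ♯(P ⊓ (X.S ⊔ X.K)) := by
  have c1 := h.b_ch1 h2
  have c2 := b_ch_mono (h.b_ch2 hP h2) c1.nml.le
  have k1 := b_ch_card c1
  have k2 := b_ch_card c2
  have k3 := card_le (A := c2.sub) (B := P ⊓ (X.S ⊔ X.K)) fun g hg =>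
    ⟨hg.1.1, h.b_ker hP h1 h2 hg.1.1 hg.1.2 hg.2⟩
  omega

/-- a four-group meeting `S K` trivially contains a field automorphism. -/
theorem four (hP : TwoG P) (h1 : P ≤ N[X.L]) (h2 : P ≤ N[X.S]) (h3 : P ⊓ (X.S ⊔ X.K) = ⊥)
    (h4 : 4 ≤ ♯P) : ∃ u ∈ P, u ∈ N[X.A] ∧ u ∈ N[X.B] ∧ u ∉ C[X.Z] := by
  by_contra hn
  push Not at hn
  have c1 := h.b_ch1 h2
  have k1 := b_ch_card c1
  have k3 := card_le (A := c1.sub) (B := P ⊓ (X.S ⊔ X.K)) fun g hg =>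
    ⟨hg.1, h.b_ker hP h1 h2 hg.1 hg.2
      (hn g hg.1 (mem_N_iff_cj.2 hg.2) (h.b_NB (h2 hg.1) hg.2))⟩
  rw [h3, card_bot] at k3
  omega

theorem b_fixA {Y : Subgroup G} (hZ : g ∈ N[X.Z]) (h1 : g ∉ C[X.Z])
    (h2 : ¬ ∀ x, g * X.a x * g⁻¹ * X.a x ∈ X.Z) (hY : Y ≤ X.A) (hc : g ∈ C[Y]) : ♯Y ≤ 4 := by
  have k1 := b_two_mul_le (lt_of_le_of_ne (inf_le_right : Y ⊓ X.Z ≤ X.Z) fun e =>
    h1 (C_anti (inf_eq_right.1 e) hc))
  have n := h.eaA.abl.norm Z_A hY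
  have k2 := b_two_mul_le (lt_of_le_of_ne (sup_le hY Z_A) fun e => h2 fun x => by
    obtain ⟨y, hy, z, hz, e1⟩ := (mem_sup_of_norm n).1 (e.ge (a_A x))
    rw [e1, b_conj_mul, conj_eq_of_mem_C hc hy, h.eaA.comm (hY hy) (Z_A (conj_mem hZ hz)), mul_assoc,
      ← mul_assoc y, h.eaA.sq (hY hy), one_mul]
    exact mul_mem (conj_mem hZ hz) hz)
  have k3 := card_sup n
  rw [h.card_Z] at k1 k3
  rw [h.card_A] at k2
  nlinarith

theorem b_elem (hE : EA E) (h1 : E ≤ N[X.L]) (h2 : E ≤ N[X.S]) :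
    ♯E ≤ 16 * ♯(E ⊓ X.K) ∧ (♯E = 16 * ♯(E ⊓ X.K) → E ≤ X.S ⊔ X.K) := by
  set E0 := E ⊓ (X.S ⊔ X.K) with hE0
  set Y := X.S ⊓ (E0 ⊔ X.K) with hY
  have nK : E ≤ N[X.K] := norm_C h1
  have LK := h.LK
  have dec : ∀ y ∈ Y, ∃ k ∈ X.K, y * k ∈ E := fun y hy => by
    obtain ⟨e, he, k, hk, rfl⟩ := (mem_sup_of_norm' (inf_le_left.trans nK)).1 hy.2
    exact ⟨k⁻¹, inv_mem hk, by simpa using he.1⟩
  have eaY : EA Y := ea_of_sq fun y hy => by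
    obtain ⟨k, hk, e⟩ := dec y hy
    have e1 := hE.sq e
    rw [mul_assoc, ← mul_assoc k, ← mem_C.1 hk y (h.S_L hy.1), mul_assoc, ← mul_assoc y y,
      ← one_mul 1] at e1
    exact (mul_eq_mul_of_inf LK (h.S_L (mul_mem hy.1 hy.1)) (one_mem _) (mul_mem hk hk)
      (one_mem _) e1).1
  have cY : E ≤ C[Y] := fun e he => mem_C'.2 fun y hy => by
    obtain ⟨k, hk, e1⟩ := dec y hy
    have e2 := conj_eq_of_mem_C (hE.le_C he) e1
    rw [b_conj_mul] at e2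
    exact mul_inv_eq_iff_eq_mul.1 (mul_eq_mul_of_inf LK (conj_mem (h1 he) (h.S_L hy.1)) (h.S_L hy.1)
      (conj_mem (nK he) hk) hk e2).1
  have card : ♯E0 = ♯Y * ♯(E ⊓ X.K) := by
    have k1 := card_sup (A := X.K) (B := E0) (inf_le_left.trans nK)
    have k2 : Y ⊔ X.K = X.K ⊔ E0 := by
      rw [hY, group_modr (norm_of_cent h.b_KS) le_sup_right, sup_comm E0,
        inf_eq_right.2 (sup_le le_sup_right inf_le_right)]
    have k3 := card_sup_of_inf (A := Y) (B := X.K) (norm_of_cent (h.b_KS.trans (C_anti inf_le_left)))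
      (eq_bot_of_le LK (inf_le_inf_right _ (inf_le_left.trans h.S_L)))
    have k4 : X.K ⊓ E0 = E ⊓ X.K := by
      rw [hE0, inf_left_comm, inf_eq_left.2 (le_sup_right : X.K ≤ X.S ⊔ X.K)]
    rw [← k2, k3, k4, mul_comm ♯Y, mul_assoc] at k1
    exact (Nat.eq_of_mul_eq_mul_left (card_pos _) k1).symm
  have AB := h.ea_le eaY inf_le_left
  have pos := card_pos (E ⊓ X.K)
  have sw : ∀ e ∈ E, H24.cj e X.A ≠ X.A → Y ≤ X.Z := fun e he e1 => by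
    obtain ⟨e2, e3⟩ := (h.swap (h2 he)).resolve_left fun k => e1 k.1
    have e4 := cj_of_mem_C (cY he)
    rw [← h.A_inf_B]
    rcases AB with k | k
    · exact le_inf k (by rw [← e4, ← e2]; exact cj_mono e k)
    · exact le_inf (by rw [← e4, ← e3]; exact cj_mono e k) k
  by_cases hin : E ≤ X.S ⊔ X.K
  · refine ⟨?_, fun _ => hin⟩
    have : ♯Y ≤ 16 := AB.elim (fun k => h.card_A ▸ card_le k) fun k => h.card_B ▸ card_le k
    rw [hE0, inf_eq_left.2 hin] at card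
    rw [card]
    exact Nat.mul_le_mul_right _ this
  suffices ♯E ≤ 8 * ♯(E ⊓ X.K) by
    exact ⟨by omega, fun e => by omega⟩
  by_cases hb : ∃ e ∈ E, H24.cj e X.A ≠ X.A ∧ e ∉ C[X.Z]
  · obtain ⟨e, he, e1, e2⟩ := hb
    have k1 := b_two_mul_le (lt_of_le_of_ne (sw e he e1) fun k => e2 (k ▸ cY he))
    have k2 := h.idx hE.two h1 h2
    rw [h.card_Z] at k1
    rw [← hE0, card] at k2
    nlinarith
  push Not at hb
  have c := (h.b_ch1 h2).iff (h.b_ch2 hE.two h2)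
  have k1 := b_ch_card c
  have k2 := card_le (A := c.sub) (B := E0) fun e he => by
    have e1 : H24.cj e X.A = X.A := by
      by_contra e1
      exact e1 (he.2.2 (hb e he.1 e1))
    exact ⟨he.1, h.b_ker hE.two h1 h2 he.1 e1 (he.2.1 e1)⟩
  have k3 : ♯Y ≤ 4 := by
    obtain ⟨e, he, e0⟩ := SetLike.not_le_iff_exists.1 hin
    by_cases e1 : H24.cj e X.A = X.A
    · have t := mt (h.two_lin (h1 he) (mem_N_iff_cj.2 e1) (h.b_NB (h2 he) e1) (hE.two.piElt he)) e0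
      rw [not_or, not_or] at t
      exact AB.elim (fun k => h.b_fixA (h.N_Z (h2 he)) t.1 t.2.1 k (cY he))
        fun k => h.symm.b_fixA (h.N_Z (h2 he)) t.1 t.2.2 k (cY he)
    · exact h.card_Z ▸ card_le (sw e he e1)
  rw [card] at k2
  nlinarith

theorem elem (hE : EA E) (h1 : E ≤ N[X.L]) :
    ♯E ≤ 16 * ♯(E ⊓ X.K) ∧ (♯E = 16 * ♯(E ⊓ X.K) → E ≤ X.L ⊔ X.K) := by
  obtain ⟨l, hl, h2⟩ := h.ex_conj hE.two h1
  have := h.b_elem (H7.SJ.ea_cj hE l) (cj_le_of_mem h1 (norm_self _ hl)) h2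
  have e : H24.cj l X.K = X.K := cj_of_mem_N (N_le_NC _ (norm_self _ hl))
  rw [card_cj, ← e, ← cj_inf, card_cj, e] at this
  refine ⟨this.1, fun k => ?_⟩
  rw [← cj_le_cj (g := l), cj_of_mem_N (h.b_LN hl)]
  exact (this.2 k).trans (sup_le_sup_right h.S_L _)

theorem g3 (hg : g ∈ N[X.L]) (h1 : H24.cj g X.A = X.B) (h2 : H24.cj g X.B = X.A) (h3 : g ∈ C[X.Z])
    (h4 : g * g ∈ X.Z) : g * g = 1 := by
  have hS := h.N_S hg one_ne_zero (by rw [conj_eq_of_mem_C h3 (z_Z 1)]; exact z_Z 1)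
  have k1 : g * X.h * g⁻¹ * X.h⁻¹ ∈ X.S := h.cz _ (mul_mem (conj_mem hg h.hL) (inv_mem h.hL)) (by
    refine mem_C'.1 ?_ _ (z_Z 1)
    rw [show g * X.h * g⁻¹ * X.h⁻¹ = g * (X.h * g⁻¹ * X.h⁻¹) by group]
    exact mul_mem h3 (conj_mem (N_le_NC _ (h.N_Z h.b_hS)) (inv_mem h3)))
  obtain ⟨k, hk, e⟩ := exists_conj_of_fpf h.b_hS
    (eq_bot_iff.2 fun u hu => h.b_hfix hu.1 (mem_C1.1 hu.2)) k1
  obtain ⟨u, rfl⟩ : ∃ u, g = k * u := ⟨k⁻¹ * g, by group⟩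
  have uh : u ∈ C{X.h} := mem_C1_iff_conj.2 (by
    calc u * X.h * u⁻¹ = k⁻¹ * (k * u * X.h * (k * u)⁻¹ * X.h⁻¹ * X.h) * k := by group
      _ = X.h := by rw [← e]; group)
  have uS : u ∈ N[X.S] := (mul_mem_cancel_left (norm_self _ hk)).1 hS
  have e1 : k * u * (k * u) = k * (u * k * u⁻¹) * (u * u) := by group
  have uu : u * u = 1 := h.b_hfix ((mul_mem_cancel_left (mul_mem hk (conj_mem uS hk))).1
    (e1 ▸ Z_S h4)) (mem_C1.1 (mul_mem uh uh))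
  have uZ : u ∈ C[X.Z] := (mul_mem_cancel_left (h.S_CZ hk)).1 h3
  have uA : H24.cj u X.A = X.B := by
    rw [← cj_inj (g := k), ← cj_mul, h1, cj_of_mem_N (h.S_NB hk)]
  have uB : H24.cj u X.B = X.A := by
    rw [← cj_inj (g := k), ← cj_mul, h2, cj_of_mem_N (h.S_NA hk)]
  rw [e1, uu, mul_one] at h4 ⊢
  obtain ⟨x, y, c, rfl⟩ := h.mem_S.1 hk
  obtain ⟨x', c1, f1⟩ := h.mem_B.1 (uA ▸ conj_mem_cj u (a_A x))
  obtain ⟨y', c2, f2⟩ := h.mem_A.1 (uB ▸ conj_mem_cj u (b_B y))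
  have f3 : u * (X.a x * X.b y * X.z c) * u⁻¹ = X.a y' * X.b x' * X.z (c1 + (c2 + c) + y' * x') := by
    have := h.mul_S 0 x' c1 y' 0 (c2 + c)
    rw [h.a0, h.b0, one_mul, mul_one, zero_add, add_zero] at this
    rw [b_conj_mul, b_conj_mul, f1, f2, conj_eq_of_mem_C uZ (z_Z c), ← this, h.z_add]
    group
  rw [f3, h.mul_S] at h4 ⊢
  have t : ∀ x y : F4, x + y = 0 → y = x := by decide
  obtain rfl := t _ _ (h.S_mem_B (Z_B h4))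
  obtain rfl := t _ _ (h.S_mem_A (Z_A h4))
  have f4 : X.a y' * X.z 0 = X.a y' * X.z (c2 + c1) := by
    calc _ = u * (u * X.a y' * u⁻¹) * u⁻¹ := by
          rw [h.z0, mul_one, show u * (u * X.a y' * u⁻¹) * u⁻¹ = u * u * X.a y' * (u * u)⁻¹ by group,
            uu]; simp
      _ = _ := by rw [f1, b_conj_mul, f2, conj_eq_of_mem_C uZ (z_Z _), h.z_add, mul_assoc]
  rw [(by decide : ∀ c c1 c2 m : F4, 0 = c2 + c1 → c + (c1 + (c2 + c) + m) + m = 0) _ _ _ _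
    (h.inj_A f4).2]
  simp [h.a0, h.b0, h.z0]

theorem odd_K (hD : OddG D) (h1 : D ≤ N[X.L]) (h2 : X.S ≤ N[D]) : D ≤ X.K := by
  have k1 : D ⊓ X.L ≤ X.S := H7.SJ.gen1 h.eaZ h.card_Z.ge (hD.inf_left _)
    (norm_inf (Z_S.trans h2) (norm_of_le (Z_S.trans h.S_L))) fun a ha a1 u hu => by
      obtain ⟨c, rfl⟩ := h.mem_Z.1 ha
      exact h.b_cz (fun e => a1 (by rw [e, h.z0])) hu.1.2 (mem_C1.1 hu.2)
  have k2 : D ⊓ X.L = ⊥ := (h.twoS.of_le k1).eq_bot (hD.inf_left _)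
  have k3 : D ≤ C[X.S] := comm_eq_bot.1 (eq_bot_of_le k2 (le_inf (comm_le_left h2)
    ((comm_mono_right h.S_L).trans (comm_le_right h1))))
  intro d hd
  obtain ⟨z, hz, k, hk, rfl⟩ := (mem_sup_of_norm (norm_of_cent (h.b_KS.trans (C_anti Z_S)))).1
    (h.cent_S (h1 hd) (k3 hd))
  refine H7.SJ.mem_of_odd (hD.piElt hd) ?_
  rw [mul_assoc, ← mul_assoc k, ← mem_C.1 hk z (h.S_L (Z_S hz)), mul_assoc, ← mul_assoc z z,
    h.eaZ.sq hz, one_mul]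
  exact mul_mem hk hk

end Dat.Fr

end H24.Sz
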