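import Mathlib
import Cfsg.Agent.H24.SuB
import Cfsg.Agent.H24.HeS

/-! First consequences. -/

set_option autoImplicit false
set_option linter.unusedSectionVars false

namespace H24.Sz

open H26 H26.Gold Subgroup
open H9 (F4)
open H7.SJ (p2)

namespace Dat

variable {G : Type*} [Group G] [Finite G] {X : Dat G} {g u : G} {x y γ γ' : F4}

theorem St.N_K (h : X.St) : N[X.K] = N[X.L] := by
  refine le_antisymm (fun g hg => ?_) (N_le_NC _)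
  obtain ⟨u, hu, u1, u2⟩ := h.ev
  exact h.tight g u hu u1 u2 (conj_mem hg hu)

theorem St.C_N (h : X.St) (hu : u ∈ X.K) (u1 : u ≠ 1) (u2 : u * u = 1) : C{u} ≤ N[X.L] := by
  exact fun g hg => h.tight g u hu u1 u2 (by rwa [mem_C1_iff_conj.1 hg])

theorem St.ti (h : X.St) (hu : u ∈ X.K) (u1 : u ≠ 1) (u2 : u * u = 1) (h1 : u ∈ H24.cj g X.K) :
    g ∈ N[X.L] := by
  exact inv_mem_iff.1 (h.tight g⁻¹ u hu u1 u2 (by simpa using mem_cj.1 h1))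

theorem St.cj (h : X.St) (g : G) : (X.cj g).St := by
  refine ⟨h.toFr.cj g, fun k u hu u1 u2 h1 => ?_, fun k e => h.nc (g⁻¹ * k * g) ?_, ?_⟩
  · rw [cj_K, mem_cj] at hu h1
    rw [cj_L, ← cj_N, mem_cj]
    exact h.tight _ _ hu (fun e => u1 (conj_eq_one_iff'.1 (by rwa [inv_inv])))
      (by simpa using H26.Gold.conj_sq u2 g⁻¹) (by simpa [mul_assoc] using h1)
  · rw [cj_K, cj_L, le_cj_iff] at e
    rwa [cj_mul, cj_mul]
  · obtain ⟨u, hu, u1, u2⟩ := h.ev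
    exact ⟨_, cj_K (X := X) (g := g) ▸ conj_mem_cj g hu, fun e => u1 (conj_eq_one_iff'.1 e),
      H26.Gold.conj_sq u2 g⟩

theorem S1.cj (h : X.S1) (g : G) : (X.cj g).S1 := by
  refine ⟨h.toSt.cj g, h.one, fun x hx y hy => ?_,
    fun x hx => cj_K (X := X) (g := g) ▸ conj_mem_cj g (h.rK x hx),
    fun x hx e => h.r_inj x hx (conj_eq_one_iff'.1 e), by rw [cj_K, cj_R]; exact h.sylR.cj g,
    fun l hl e => h.IL _ (mem_cj.1 hl) (by simpa using (cj_I.1 e).conj g⁻¹)⟩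
  simp only [Dat.cj, h.r_add x hx y hy, conj_mul]

theorem S3.cj (h : X.S3 γ γ') (g : G) : (X.cj g).S3 γ γ' := by
  have e : ∀ x y : G, g * x * g⁻¹ * (g * y * g⁻¹) = g * (x * y) * g⁻¹ := fun x y => by group
  have e' : ∀ x : G, (g * x * g⁻¹)⁻¹ = g * x⁻¹ * g⁻¹ := fun x => by group
  have k : ∀ {X : Dat G} {γ : F4}, X.Hf γ → (X.cj g).Hf γ := fun h => ⟨h.lam, fun x y => by
    rw [cj_q]; simp only [Dat.cj, e, e', h.qd], fun x y => by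
    rw [cj_q]; simp only [Dat.cj, e, e', h.bq]⟩
  refine ⟨h.toS1.cj g, fun x y => ?_, fun x => ?_, fun x => ?_, fun x y hy => ?_, fun x => ?_,
    k h.f1, k h.f2⟩
  · simp only [Dat.cj, e, h.d_add]
  · rw [cj_S, ← cj_C]; exact conj_mem_cj g (h.dS x)
  · simp only [Dat.cj, e, e', h.hd]
  · simp only [Dat.cj, e, e', h.dr x y hy]
  · rw [cj_O, ← cj_C]; exact conj_mem_cj g (h.dO x)

namespace S1

variable (h : X.S1)
include h

theorem r0 : X.r 0 = 1 := by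
  simpa using (h.r_add 0 (zero_mem _) 0 (zero_mem _)).symm

theorem rr (hx : x ∈ X.Λ) : X.r x * X.r x = 1 := by
  rw [← h.r_add x hx x hx, f4_add_self, h.r0]

theorem mem_R : u ∈ X.R ↔ ∃ x ∈ X.Λ, u = X.r x := by
  refine ⟨fun hu => ?_, fun ⟨c, hc, e⟩ => e ▸ r_R hc⟩
  induction hu using closure_induction with
  | mem x hx => obtain ⟨c, hc, rfl⟩ := hx; exact ⟨c, hc, rfl⟩
  | one => exact ⟨0, zero_mem _, h.r0.symm⟩
  | mul x y _ _ h1 h2 =>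
    obtain ⟨c, hc, rfl⟩ := h1; obtain ⟨e, he, rfl⟩ := h2
    exact ⟨_, add_mem hc he, (h.r_add c hc e he).symm⟩
  | inv x _ h1 =>
    obtain ⟨c, hc, rfl⟩ := h1; exact ⟨c, hc, inv_eq_of_mul_eq_one_right (h.rr hc)⟩

theorem eaR : EA X.R := by
  exact ea_of_sq fun u hu => by obtain ⟨c, hc, rfl⟩ := h.mem_R.1 hu; exact h.rr hc

theorem C_r (hx : x ∈ X.Λ) (h0 : x ≠ 0) : C{X.r x} ≤ N[X.L] := by
  exact h.toSt.C_N (h.rK x hx) (fun e => h0 (h.r_inj x hx e)) (h.rr hx)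

theorem I_r (hx : x ∈ X.Λ) (h0 : x ≠ 0) : X.I (X.r x) := by
  exact ⟨fun e => h0 (h.r_inj x hx e), h.rr hx, 1, by simpa using h.rK x hx⟩

theorem CKR : X.K ⊓ C[X.R] = X.R ⊔ X.O := by
  have hS := h.sylR.of_le (le_inf h.sylR.le h.eaR.le_C) inf_le_left
  rw [sup_comm]
  exact (Burnside_normal_complement p2 hS (inf_le_left.trans inf_le_right)).sup.symm

theorem eaE : EA (X.R ⊔ X.A) := by
  have hc : X.A ≤ C[X.R] := cents_symm (h.sylR.le.trans (C_anti (A_S.trans h.S_L)))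
  refine ea_of_sq fun u hu => ?_
  obtain ⟨a, ha, b, hb, rfl⟩ := (mem_sup_of_norm (norm_of_cent hc)).1 hu
  rw [mul_assoc, ← mul_assoc b, comm_of_cent hc hb ha, mul_assoc, h.eaA.sq hb, mul_one, h.eaR.sq ha]

theorem mem_E : u ∈ X.R ⊔ X.A ↔ ∃ x ∈ X.Λ, ∃ y c, u = X.r x * X.a y * X.z c := by
  have hc : X.A ≤ C[X.R] := cents_symm (h.sylR.le.trans (C_anti (A_S.trans h.S_L)))
  refine ⟨fun hu => ?_, fun ⟨x, hx, y, c, e⟩ => e ▸ mul_mem (mul_mem (mem_sup_left (r_R hx))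
    (mem_sup_right (a_A y))) (mem_sup_right (z_A c))⟩
  obtain ⟨a, ha, b, hb, rfl⟩ := (mem_sup_of_norm (norm_of_cent hc)).1 hu
  obtain ⟨x, hx, rfl⟩ := h.mem_R.1 ha
  obtain ⟨y, c, rfl⟩ := h.mem_A.1 hb
  exact ⟨x, hx, y, c, (mul_assoc _ _ _).symm⟩

theorem CX {M : Subgroup G} (hM : M ≤ X.S) (h1 : g ∈ M ⊔ X.K) (h2 : g ∈ C[X.R]) :
    ∃ e ∈ X.R ⊔ M, ∃ o ∈ X.O, g = e * o := by
  have hc : X.K ≤ C[M] := C_anti (hM.trans h.S_L)
  obtain ⟨a, ha, k, hk, rfl⟩ := (mem_sup_of_norm (norm_of_cent hc)).1 h1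
  have : k ∈ X.R ⊔ X.O := h.CKR ▸ ⟨hk, (mul_mem_cancel_left
    (cents_symm (h.sylR.le.trans hc) ha)).1 h2⟩
  obtain ⟨r, hr, o, ho, rfl⟩ := (mem_sup_of_norm (norm_of_cent O_R)).1 this
  exact ⟨a * r, mul_mem (mem_sup_right ha) (mem_sup_left hr), o, ho, (mul_assoc _ _ _).symm⟩

/-- `C(E) = E × O`. -/
theorem CE (h1 : g ∈ C[X.A]) (h2 : g ∈ C[X.R]) : ∃ e ∈ X.R ⊔ X.A, ∃ o ∈ X.O, g = e * o := by
  exact h.CX A_S (h.cent_A (h.C_r h.one one_ne_zero (C_le_C1 (r_R h.one) h2)) h1) h2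

/-- `C(R S) = R × Z × O`. -/
theorem CS (h1 : g ∈ C[X.S]) (h2 : g ∈ C[X.R]) : ∃ e ∈ X.R ⊔ X.Z, ∃ o ∈ X.O, g = e * o := by
  exact h.CX Z_S (h.cent_S (h.C_r h.one one_ne_zero (C_le_C1 (r_R h.one) h2)) h1) h2

/-- tight embedding: translations are linear. -/
theorem tr (hx : x ∈ X.Λ) (h0 : x ≠ 0) (h1 : g * X.r x * g⁻¹ = X.r x)
    (h2 : ∀ y ∈ X.Λ, g * X.r y * g⁻¹ * X.r y ∈ X.L) : g ∈ C[X.R] := by
  have hg := h.toSt.N_K ▸ h.C_r hx h0 (mem_C1_iff_conj.2 h1)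
  refine mem_C'.2 fun u hu => ?_
  obtain ⟨y, hy, rfl⟩ := h.mem_R.1 hu
  have := mem_bot.1 (h.LK.le ⟨h2 y hy, mul_mem (conj_mem hg (h.rK y hy)) (h.rK y hy)⟩)
  rw [← h.rr hy, mul_left_inj, mul_inv_eq_iff_eq_mul] at this
  exact this

end S1

theorem tr_aux {m ρ v : G} (k2 : m * ρ * m⁻¹ = ρ * v) (k3 : g * ρ * g⁻¹ * ρ = u) (k4 : ρ * ρ = 1)
    (k5 : ρ * v = v * ρ) (mv : m * v = v * m) (mu : m * u = u * m) (vv : v * v = 1) :
    m⁻¹ * g * ρ * (m⁻¹ * g)⁻¹ * ρ = u * v := by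
  have e1 : g * ρ * g⁻¹ = u * ρ := by rw [← k3, mul_assoc _ ρ ρ, k4, mul_one]
  have e2 : m⁻¹ * ρ * m = ρ * v := by
    rw [mul_inv_eq_iff_eq_mul] at k2
    rw [mul_assoc, inv_mul_eq_iff_eq_mul, ← mul_assoc, k2, mul_assoc _ m, mv, mul_assoc ρ,
      ← mul_assoc v, vv, one_mul]
  calc _ = m⁻¹ * (g * ρ * g⁻¹) * m * ρ := by group
    _ = m⁻¹ * (u * m) * (m⁻¹ * ρ * m) * ρ := by rw [e1]; group
    _ = _ := by rw [e2, ← mu, k5, inv_mul_cancel_left, mul_assoc, mul_assoc, k4, mul_one]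

namespace S3

variable (h : X.S3 γ γ')
include h

theorem q_add (x y : F4) : X.q (x + y) = X.q x * X.q y := by
  simp only [q, h.d_add, conj_mul]

theorem qA (x : F4) : X.q x ∈ C[X.A] := by
  have k : X.w ∈ N[X.A] := mem_N_of_finite fun u hu => by
    obtain ⟨x, c, rfl⟩ := h.mem_A.1 hu
    rw [← conj_mul, h.wa, h.wz]
    exact mul_mem (z_A _) (a_A _)
  exact conj_mem (N_le_NC _ k) (C_anti A_S (h.dS x))

theorem qO (x : F4) : X.q x ∈ C[X.O] := by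
  exact conj_mem (norm_self _ (cents_symm (O_K.trans (C_anti le_rfl)) h.wL)) (h.dO x)

theorem hq (x : F4) : X.h * X.q x * X.h⁻¹ = X.q (om * om * x) := by
  have e : X.h * X.w = X.w * (X.h * X.h) := by
    rw [eq_inv_of_mul_eq_one_left h.h3, ← h.wh, h.wi]
    simp only [← mul_assoc, h.ww, one_mul]
  calc _ = X.h * X.w * X.d x * (X.h * X.w)⁻¹ := by rw [q]; group
    _ = X.w * (X.h * (X.h * X.d x * X.h⁻¹) * X.h⁻¹) * X.w⁻¹ := by rw [e]; group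
    _ = _ := by rw [h.hd, h.hd, ← mul_assoc om]; rfl

theorem qr (x : F4) (hy : y ∈ X.Λ) : X.q x * X.r y * (X.q x)⁻¹ = X.r y * X.a (y * x) := by
  have e := conj_eq_of_mem_C (cents_symm (le_refl X.K) h.wL) (h.rK y hy)
  calc _ = X.w * X.d x * X.w⁻¹ * (X.w * X.r y * X.w⁻¹) * (X.w * X.d x * X.w⁻¹)⁻¹ := by rw [e, q]
    _ = X.w * (X.d x * X.r y * (X.d x)⁻¹) * X.w⁻¹ := by group
    _ = _ := by rw [h.dr x y hy, ← conj_mul, e, h.wz]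

/-- the group of translations is `Q₁ × O`. -/
theorem trans (h1 : g ∈ C[X.A]) (h2 : ∀ y ∈ X.Λ, g * X.r y * g⁻¹ * X.r y ∈ X.A) :
    ∃ x y, ∃ e ∈ X.R ⊔ X.A, ∃ o ∈ X.O, g = X.q x * X.d y * e * o := by
  obtain ⟨x, c, e⟩ := h.mem_A.1 (h2 1 h.one)
  have k : ∀ y ∈ X.Λ, X.q x * X.d c * X.r y * (X.q x * X.d c)⁻¹ = X.r y * (X.a (y * x) * X.z (y * c)) :=
    fun y hy => by
      rw [show X.q x * X.d c * X.r y * (X.q x * X.d c)⁻¹ =
        X.q x * (X.d c * X.r y * (X.d c)⁻¹) * (X.q x)⁻¹ by group, h.dr c y hy, ← conj_mul, h.qr x hy,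
        conj_eq_of_mem_C (h.qA x) (z_A _), mul_assoc]
  have kA : X.q x * X.d c ∈ C[X.A] := mul_mem (h.qA x) (C_anti A_S (h.dS c))
  have k1 : ∀ y ∈ X.Λ, (X.q x * X.d c)⁻¹ * g * X.r y * ((X.q x * X.d c)⁻¹ * g)⁻¹ * X.r y =
      g * X.r y * g⁻¹ * X.r y * (X.a (y * x) * X.z (y * c)) := fun y hy => by
    have hv := mul_mem (a_A (X := X) (y * x)) (z_A (y * c))
    exact tr_aux (k y hy) rfl (h.rr hy) (mem_C.1 (h.rK y hy) _ (h.S_L (A_S hv))).symm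
      (mem_C'.1 kA _ hv) (mem_C'.1 kA _ (h2 y hy)) (h.eaA.sq hv)
  have k2 := k1 1 h.one
  rw [e, one_mul, one_mul, h.eaA.sq (mul_mem (a_A x) (z_A c)), ← h.rr h.one, mul_left_inj] at k2
  obtain ⟨e, he, o, ho, k3⟩ := h.CE (mul_mem (inv_mem kA) h1) (h.tr h.one one_ne_zero k2
    fun y hy => k1 y hy ▸ h.S_L (A_S (mul_mem (h2 y hy) (mul_mem (a_A _) (z_A _)))))
  exact ⟨x, c, e, he, o, ho, by rw [mul_assoc, ← k3, mul_inv_cancel_left]⟩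

end S3

end Dat

end H24.Sz
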