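import Mathlib
import Cfsg.Agent.H24.Su0

/-! A standard subgroup of type `G₂(4)`: vocabulary. -/

set_option autoImplicit false
set_option linter.unusedSectionVars false
set_option synthInstance.maxSize 4000

namespace H24.G4

open H26 H26.Gold Subgroup
open H9 (F4)
open H7.SJ (p2)
open H24.Sz (om f4_add_self)
open H24.Sz.Dat (add_zero' add_sq add_inv)

/-- coordinates on `Q / Z` (roots `b`, `a + b`, `2 a + b`, `3 a + b`). -/
abbrev V : Type := F4 × F4 × F4 × F4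

/-- the cocycle of `Q`. -/
def be (v w : V) : F4 := v.2.2.2 * w.1 + v.2.2.1 * w.2.1
/-- the commutator form of `Q`. -/
def fm (v w : V) : F4 := be v w + be w v
/-- the action of `x_a(r)` on `Q / Z`. -/
def Aa (r : F4) (v : V) : V :=
  (v.1, v.2.1 + r * v.1, v.2.2.1 + r * r * v.1, v.2.2.2 + r * r * v.2.1 + r * v.2.2.1 + r * r * r * v.1)
/-- the central correction of the action of `x_a(r)`. -/
def al (r : F4) (v : V) : F4 := r * r * r * (v.1 * v.1) + r * (v.2.1 * v.2.1) + r * r * v.1 * v.2.1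
/-- the action of `w_a` on `Q / Z`. -/
def Wa (v : V) : V := (v.2.2.2, v.2.2.1, v.2.1, v.1)

/-- The data: root elements for `a, b, a + b, 2 a + b, 3 a + b, 3 a + 2 b` (`a` short),
`h = h_{3a+2b}(ω²)`, `k = h_a(ω)`, `wa = n_a(1)`, `wb = n_b(1)`. -/
structure Dat (G : Type*) [Group G] where
  L : Subgroup G
  xa : F4 → G
  xb : F4 → G
  x1 : F4 → G
  x2 : F4 → G
  xc : F4 → G
  z : F4 → G
  h : G
  k : G
  wa : G
  wb : G

namespace Dat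

variable {G : Type*} [Group G] (X : Dat G)

/-- conjugate everything. -/
def cj (g : G) : Dat G :=
  ⟨H24.cj g X.L, fun x => g * X.xa x * g⁻¹, fun x => g * X.xb x * g⁻¹, fun x => g * X.x1 x * g⁻¹,
    fun x => g * X.x2 x * g⁻¹, fun x => g * X.xc x * g⁻¹, fun x => g * X.z x * g⁻¹,
    g * X.h * g⁻¹, g * X.k * g⁻¹, g * X.wa * g⁻¹, g * X.wb * g⁻¹⟩

/-- the elements of `Q` modulo `Z`. -/
def q (v : V) : G := X.xb v.1 * X.x1 v.2.1 * X.x2 v.2.2.1 * X.xc v.2.2.2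
/-- the normal form in `S`. -/
def s (r : F4) (v : V) (c : F4) : G := X.xa r * X.q v * X.z c
/-- the centraliser of `L`. -/
def K : Subgroup G := C[X.L]
/-- the centre of `S`, order `4`. -/
def Z : Subgroup G := closure (Set.range X.z)
/-- the second centre of `S`, order `2⁴`. -/
def Z2 : Subgroup G := closure (Set.range X.xc) ⊔ X.Z
/-- the third centre of `S`, order `2⁸`. -/
def Z3 : Subgroup G := closure (Set.range X.x1) ⊔ closure (Set.range X.x2) ⊔ X.Z2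
/-- the group `2^(2+8)`. -/
def Q : Subgroup G := closure (Set.range X.xb) ⊔ X.Z3
/-- the group `2^(4+6)`. -/
def R : Subgroup G := closure (Set.range X.xa) ⊔ X.Z3
/-- the Sylow subgroup of `L`. -/
def S : Subgroup G := X.R ⊔ X.Q
/-- the Borel subgroup of `P`. -/
def B : Subgroup G := X.S ⊔ zpowers X.k
/-- the centraliser `2^(2+8) : A₅` of `Z` in `L`. -/
def P : Subgroup G := X.B ⊔ zpowers X.wa
/-- involutions in conjugates of `K`. -/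
def I (u : G) : Prop := u ≠ 1 ∧ u * u = 1 ∧ ∃ g : G, g * u * g⁻¹ ∈ X.K

/-- the frame in `L ≅ G₂(4)`. -/
structure Fr : Prop where
  aL : ∀ x, X.xa x ∈ X.L
  bL : ∀ x, X.xb x ∈ X.L
  hL : X.h ∈ X.L
  kL : X.k ∈ X.L
  waL : X.wa ∈ X.L
  wbL : X.wb ∈ X.L
  a_add : ∀ x y, X.xa (x + y) = X.xa x * X.xa y
  b_add : ∀ x y, X.xb (x + y) = X.xb x * X.xb y
  wa_b : ∀ x, X.wa * X.xb x * X.wa⁻¹ = X.xc x
  wa_1 : ∀ x, X.wa * X.x1 x * X.wa⁻¹ = X.x2 x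
  wa_z : ∀ x, X.wa * X.z x * X.wa⁻¹ = X.z x
  wb_a : ∀ x, X.wb * X.xa x * X.wb⁻¹ = X.x1 x
  wb_2 : ∀ x, X.wb * X.x2 x * X.wb⁻¹ = X.x2 x
  wb_c : ∀ x, X.wb * X.xc x * X.wb⁻¹ = X.z x
  waa : X.wa * X.wa = 1
  wbb : X.wb * X.wb = 1
  bra : X.wa * X.xa 1 * X.wa = X.xa 1 * X.wa * X.xa 1
  brb : X.wb * X.xb 1 * X.wb = X.xb 1 * X.wb * X.xb 1
  ba : ∀ u r, X.xb u * X.xa r * (X.xb u)⁻¹ =
    X.xa r * X.x1 (r * u) * X.x2 (r * r * u) * X.xc (r * r * r * u)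
  a1 : ∀ r y, X.xa r * X.x1 y * (X.xa r)⁻¹ = X.x1 y * X.xc (r * r * y) * X.z (r * (y * y))
  a2 : ∀ r y, X.xa r * X.x2 y * (X.xa r)⁻¹ = X.x2 y * X.xc (r * y)
  cb : ∀ u y, X.xc y * X.xb u = X.xb u * X.xc y * X.z (y * u)
  ca : ∀ r y, X.xc y * X.xa r = X.xa r * X.xc y
  za : ∀ r y, X.z y * X.xa r = X.xa r * X.z y
  zb : ∀ r y, X.z y * X.xb r = X.xb r * X.z y
  c2 : ∀ r y, X.xc y * X.x2 r = X.x2 r * X.xc y
  ha : ∀ x, X.h * X.xa x * X.h⁻¹ = X.xa x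
  hb : ∀ x, X.h * X.xb x * X.h⁻¹ = X.xb (om * om * x)
  h1 : ∀ x, X.h * X.x1 x * X.h⁻¹ = X.x1 (om * om * x)
  hz : ∀ x, X.h * X.z x * X.h⁻¹ = X.z (om * x)
  ka : ∀ x, X.k * X.xa x * X.k⁻¹ = X.xa (om * om * x)
  kb : ∀ x, X.k * X.xb x * X.k⁻¹ = X.xb x
  hhh : X.h * X.h * X.h = 1
  kkk : X.k * X.k * X.k = 1
  hk : X.h * X.k = X.k * X.h
  wah : X.wa * X.h * X.wa⁻¹ = X.h
  wak : X.wa * X.k * X.wa⁻¹ = X.k⁻¹
  wbh : X.wb * X.h * X.wb⁻¹ = X.h⁻¹ * X.k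
  wbk : X.wb * X.k * X.wb⁻¹ = X.k
  z_inj : ∀ c, X.z c = 1 → c = 0
  gen : ∀ M : Subgroup G, (∀ x, X.xa x ∈ M) → (∀ x, X.xb x ∈ M) → X.wa ∈ M → X.wb ∈ M → X.L ≤ M
  card : ♯X.L = 251596800
  cz : ∀ l ∈ X.L, l * X.z 1 = X.z 1 * l → l ∈ X.P
  simple : ∀ M, M ⊴ X.L → M = ⊥ ∨ M = X.L

/-- `L` is standard. -/
structure St : Prop extends X.Fr where
  tight : ∀ g : G, ∀ u ∈ X.K, u ≠ 1 → u * u = 1 → g * u * g⁻¹ ∈ X.K → g ∈ N[X.L]
  nc : ∀ g : G, ¬ H24.cj g X.L ≤ X.K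
  ev : ∃ u ∈ X.K, u ≠ 1 ∧ u * u = 1

variable {X} [Finite G] {g u : G} {x y c : F4}

theorem cj_cl (f : F4 → G) :
    closure (Set.range fun x => g * f x * g⁻¹) = H24.cj g (closure (Set.range f)) := by
  rw [cj_def, MonoidHom.map_closure, ← Set.range_comp]; rfl

@[simp] theorem cj_L : (X.cj g).L = H24.cj g X.L := rfl
theorem cj_K : (X.cj g).K = H24.cj g X.K := (cj_C g X.L).symm
theorem cj_Z : (X.cj g).Z = H24.cj g X.Z := cj_cl X.z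
theorem cj_Z2 : (X.cj g).Z2 = H24.cj g X.Z2 := by
  rw [Z2, Z2, cj_sup, cj_Z, ← cj_cl]; rfl
theorem cj_Z3 : (X.cj g).Z3 = H24.cj g X.Z3 := by
  rw [Z3, Z3, cj_sup, cj_sup, cj_Z2, ← cj_cl, ← cj_cl]; rfl
theorem cj_Q : (X.cj g).Q = H24.cj g X.Q := by rw [Q, Q, cj_sup, cj_Z3, ← cj_cl]; rfl
theorem cj_R : (X.cj g).R = H24.cj g X.R := by rw [R, R, cj_sup, cj_Z3, ← cj_cl]; rfl
theorem cj_S : (X.cj g).S = H24.cj g X.S := by rw [S, S, cj_sup, cj_Q, cj_R]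
theorem cj_B : (X.cj g).B = H24.cj g X.B := by rw [B, B, cj_sup, cj_S, cj_zpowers]; rfl
theorem cj_P : (X.cj g).P = H24.cj g X.P := by rw [P, P, cj_sup, cj_B, cj_zpowers]; rfl
theorem cj_q (v : V) : (X.cj g).q v = g * X.q v * g⁻¹ := by simp only [q, Dat.cj]; group
theorem cj_s (r : F4) (v : V) (c : F4) : (X.cj g).s r v c = g * X.s r v c * g⁻¹ := by
  simp only [s, cj_q]; simp only [Dat.cj]; group

theorem cj_I : (X.cj g).I u ↔ X.I u := by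
  refine and_congr_right fun _ => and_congr_right fun _ => ⟨fun ⟨k, hk⟩ => ⟨g⁻¹ * k, ?_⟩,
    fun ⟨k, hk⟩ => ⟨g * k, ?_⟩⟩
  · rw [cj_K, mem_cj] at hk; simpa [mul_assoc] using hk
  · rw [cj_K, mem_cj]; simpa [mul_assoc] using hk

theorem Z_Z2 : X.Z ≤ X.Z2 := le_sup_right
theorem Z2_Z3 : X.Z2 ≤ X.Z3 := le_sup_right
theorem Z3_Q : X.Z3 ≤ X.Q := le_sup_right
theorem Z3_R : X.Z3 ≤ X.R := le_sup_right
theorem Q_S : X.Q ≤ X.S := le_sup_right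
theorem R_S : X.R ≤ X.S := le_sup_left
theorem S_B : X.S ≤ X.B := le_sup_left
theorem B_P : X.B ≤ X.P := le_sup_left
theorem S_P : X.S ≤ X.P := S_B.trans B_P
theorem Q_P : X.Q ≤ X.P := Q_S.trans S_P
theorem Z2_Q : X.Z2 ≤ X.Q := Z2_Z3.trans Z3_Q
theorem Z2_R : X.Z2 ≤ X.R := Z2_Z3.trans Z3_R
theorem Z_Q : X.Z ≤ X.Q := Z_Z2.trans Z2_Q
theorem Z_R : X.Z ≤ X.R := Z_Z2.trans Z2_R
theorem Z_S : X.Z ≤ X.S := Z_Q.trans Q_S
theorem Z2_S : X.Z2 ≤ X.S := Z2_Q.trans Q_S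
theorem Z3_S : X.Z3 ≤ X.S := Z3_Q.trans Q_S
theorem Z_P : X.Z ≤ X.P := Z_S.trans S_P
theorem z_Z (c : F4) : X.z c ∈ X.Z := subset_closure ⟨c, rfl⟩
theorem z_Z2 (c : F4) : X.z c ∈ X.Z2 := Z_Z2 (z_Z c)
theorem c_Z2 (c : F4) : X.xc c ∈ X.Z2 := mem_sup_left (Subgroup.subset_closure ⟨c, rfl⟩)
theorem x1_Z3 (c : F4) : X.x1 c ∈ X.Z3 :=
  mem_sup_left (mem_sup_left (Subgroup.subset_closure ⟨c, rfl⟩))
theorem x2_Z3 (c : F4) : X.x2 c ∈ X.Z3 :=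
  mem_sup_left (mem_sup_right (Subgroup.subset_closure ⟨c, rfl⟩))
theorem c_Z3 (c : F4) : X.xc c ∈ X.Z3 := Z2_Z3 (c_Z2 c)
theorem z_Z3 (c : F4) : X.z c ∈ X.Z3 := Z2_Z3 (z_Z2 c)
theorem b_Q (c : F4) : X.xb c ∈ X.Q := mem_sup_left (Subgroup.subset_closure ⟨c, rfl⟩)
theorem a_R (c : F4) : X.xa c ∈ X.R := mem_sup_left (Subgroup.subset_closure ⟨c, rfl⟩)
theorem z_Q (c : F4) : X.z c ∈ X.Q := Z_Q (z_Z c)
theorem c_Q (c : F4) : X.xc c ∈ X.Q := Z2_Q (c_Z2 c)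
theorem q_Q (v : V) : X.q v ∈ X.Q :=
  mul_mem (mul_mem (mul_mem (b_Q _) (Z3_Q (x1_Z3 _))) (Z3_Q (x2_Z3 _))) (c_Q _)
theorem a_S (c : F4) : X.xa c ∈ X.S := R_S (a_R c)
theorem b_S (c : F4) : X.xb c ∈ X.S := Q_S (b_Q c)
theorem x1_S (c : F4) : X.x1 c ∈ X.S := Z3_S (x1_Z3 c)
theorem x2_S (c : F4) : X.x2 c ∈ X.S := Z3_S (x2_Z3 c)
theorem c_S (c : F4) : X.xc c ∈ X.S := Z2_S (c_Z2 c)
theorem z_S (c : F4) : X.z c ∈ X.S := Z_S (z_Z c)
theorem q_S (v : V) : X.q v ∈ X.S := Q_S (q_Q v)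
theorem s_S (r : F4) (v : V) (c : F4) : X.s r v c ∈ X.S := mul_mem (mul_mem (a_S _) (q_S _)) (z_S _)
theorem k_B : X.k ∈ X.B := mem_sup_right (mem_zpowers _)
theorem k_P : X.k ∈ X.P := B_P k_B
theorem wa_P : X.wa ∈ X.P := mem_sup_right (mem_zpowers _)
theorem cl_le {f : F4 → G} {M : Subgroup G} (h : ∀ c, f c ∈ M) : closure (Set.range f) ≤ M :=
  (closure_le _).2 (by rintro _ ⟨c, rfl⟩; exact h c)
theorem Z_le {M : Subgroup G} (h : ∀ c, X.z c ∈ M) : X.Z ≤ M := cl_le h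
theorem Z2_le {M : Subgroup G} (h : ∀ c, X.xc c ∈ M) (h' : ∀ c, X.z c ∈ M) : X.Z2 ≤ M :=
  sup_le (cl_le h) (Z_le h')
theorem Z3_le {M : Subgroup G} (h1 : ∀ c, X.x1 c ∈ M) (h2 : ∀ c, X.x2 c ∈ M) (h : ∀ c, X.xc c ∈ M)
    (h' : ∀ c, X.z c ∈ M) : X.Z3 ≤ M := sup_le (sup_le (cl_le h1) (cl_le h2)) (Z2_le h h')
theorem Q_le {M : Subgroup G} (h : ∀ c, X.xb c ∈ M) (h' : X.Z3 ≤ M) : X.Q ≤ M := sup_le (cl_le h) h'
theorem R_le {M : Subgroup G} (h : ∀ c, X.xa c ∈ M) (h' : X.Z3 ≤ M) : X.R ≤ M := sup_le (cl_le h) h'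
theorem S_le {M : Subgroup G} (h : ∀ c, X.xa c ∈ M) (h' : X.Q ≤ M) : X.S ≤ M :=
  sup_le (R_le h (Z3_Q.trans h')) h'
theorem P_le {M : Subgroup G} (h : X.S ≤ M) (h1 : X.k ∈ M) (h2 : X.wa ∈ M) : X.P ≤ M :=
  sup_le (sup_le h (zpowers_le.2 h1)) (zpowers_le.2 h2)

theorem cj_mul' (g x y : G) : g * x * g⁻¹ * (g * y * g⁻¹) = g * (x * y) * g⁻¹ := by group
theorem cj_inv' (g x : G) : (g * x * g⁻¹)⁻¹ = g * x⁻¹ * g⁻¹ := by group

theorem cj_back {w a b : G} (hw : w * w = 1) (e : w * a * w⁻¹ = b) : w * b * w⁻¹ = a := by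
  rw [← e, inv_eq_of_mul_eq_one_right hw]
  calc _ = w * w * a * (w * w) := by group
    _ = a := by rw [hw, one_mul, mul_one]

namespace Fr

variable (h : X.Fr)
include h

theorem wai : X.wa⁻¹ = X.wa := inv_eq_of_mul_eq_one_right h.waa
theorem wbi : X.wb⁻¹ = X.wb := inv_eq_of_mul_eq_one_right h.wbb
theorem wa_c (x : F4) : X.wa * X.xc x * X.wa⁻¹ = X.xb x := cj_back h.waa (h.wa_b x)
theorem wa_2 (x : F4) : X.wa * X.x2 x * X.wa⁻¹ = X.x1 x := cj_back h.waa (h.wa_1 x)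
theorem wb_1 (x : F4) : X.wb * X.x1 x * X.wb⁻¹ = X.xa x := cj_back h.wbb (h.wb_a x)
theorem wb_z (x : F4) : X.wb * X.z x * X.wb⁻¹ = X.xc x := cj_back h.wbb (h.wb_c x)
theorem x1_add (x y : F4) : X.x1 (x + y) = X.x1 x * X.x1 y := by
  simp only [← h.wb_a, cj_mul', h.a_add]
theorem x2_add (x y : F4) : X.x2 (x + y) = X.x2 x * X.x2 y := by
  simp only [← h.wa_1, cj_mul', h.x1_add]
theorem c_add (x y : F4) : X.xc (x + y) = X.xc x * X.xc y := by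
  simp only [← h.wa_b, cj_mul', h.b_add]
theorem z_add (x y : F4) : X.z (x + y) = X.z x * X.z y := by
  simp only [← h.wb_c, cj_mul', h.c_add]
theorem a0 : X.xa 0 = 1 := add_zero' h.a_add
theorem b0 : X.xb 0 = 1 := add_zero' h.b_add
theorem x10 : X.x1 0 = 1 := add_zero' h.x1_add
theorem x20 : X.x2 0 = 1 := add_zero' h.x2_add
theorem c0 : X.xc 0 = 1 := add_zero' h.c_add
theorem z0 : X.z 0 = 1 := add_zero' h.z_add
theorem aa (x : F4) : X.xa x * X.xa x = 1 := add_sq h.a_add x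
theorem bb (x : F4) : X.xb x * X.xb x = 1 := add_sq h.b_add x
theorem x11 (x : F4) : X.x1 x * X.x1 x = 1 := add_sq h.x1_add x
theorem x22 (x : F4) : X.x2 x * X.x2 x = 1 := add_sq h.x2_add x
theorem cc (x : F4) : X.xc x * X.xc x = 1 := add_sq h.c_add x
theorem zz (x : F4) : X.z x * X.z x = 1 := add_sq h.z_add x
theorem ai (x : F4) : (X.xa x)⁻¹ = X.xa x := add_inv h.a_add x
theorem bi (x : F4) : (X.xb x)⁻¹ = X.xb x := add_inv h.b_add x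
theorem x1i (x : F4) : (X.x1 x)⁻¹ = X.x1 x := add_inv h.x1_add x
theorem x2i (x : F4) : (X.x2 x)⁻¹ = X.x2 x := add_inv h.x2_add x
theorem ci (x : F4) : (X.xc x)⁻¹ = X.xc x := add_inv h.c_add x
theorem zi (x : F4) : (X.z x)⁻¹ = X.z x := add_inv h.z_add x
theorem x1L (x : F4) : X.x1 x ∈ X.L := h.wb_a x ▸ mul_mem (mul_mem h.wbL (h.aL x)) (inv_mem h.wbL)
theorem x2L (x : F4) : X.x2 x ∈ X.L := h.wa_1 x ▸ mul_mem (mul_mem h.waL (h.x1L x)) (inv_mem h.waL)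
theorem cL (x : F4) : X.xc x ∈ X.L := h.wa_b x ▸ mul_mem (mul_mem h.waL (h.bL x)) (inv_mem h.waL)
theorem zL (x : F4) : X.z x ∈ X.L := h.wb_c x ▸ mul_mem (mul_mem h.wbL (h.cL x)) (inv_mem h.wbL)
theorem z_eq (e : X.z x = X.z y) : x = y := by
  have := h.z_inj (x + y) (by rw [h.z_add, e, h.zz])
  clear e; revert x y; decide
theorem z1 : X.z 1 ≠ 1 := fun e => one_ne_zero (h.z_inj 1 e)

theorem z1c (r y : F4) : X.z y * X.x1 r = X.x1 r * X.z y := by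
  rw [← h.wb_a, ← h.wb_c, cj_mul', cj_mul', h.ca]
theorem c1 (r y : F4) : X.xc y * X.x1 r = X.x1 r * X.xc y := by
  rw [← h.wb_a, ← h.wb_z, cj_mul', cj_mul', h.za]
theorem x2b (r y : F4) : X.x2 y * X.xb r = X.xb r * X.x2 y := by
  rw [← h.wa_1, ← h.wa_c, cj_mul', cj_mul', h.c1]
theorem x1b (r y : F4) : X.x1 y * X.xb r = X.xb r * X.x1 y := by
  rw [← h.wa_2, ← h.wa_c, cj_mul', cj_mul', h.c2]
theorem z2c (r y : F4) : X.z y * X.x2 r = X.x2 r * X.z y := by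
  rw [← h.wb_2, ← h.wb_c, cj_mul', cj_mul', h.c2]
theorem zc (r y : F4) : X.z y * X.xc r = X.xc r * X.z y := by
  rw [← h.wa_b, ← h.wa_z, cj_mul', cj_mul', h.zb]
theorem x21 (r y : F4) : X.x2 y * X.x1 r = X.x1 r * X.x2 y * X.z (y * r) := by
  have := congrArg (fun u => X.wb * u * X.wb⁻¹) (h.a2 r y)
  simp only [← cj_mul', ← cj_inv', h.wb_a, h.wb_2, h.wb_c] at this
  rw [mul_inv_eq_iff_eq_mul, mul_assoc, h.z1c, ← mul_assoc] at this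
  rw [this, mul_assoc, mul_comm r, h.zz, mul_one]

theorem hc (x : F4) : X.h * X.xc x * X.h⁻¹ = X.xc (om * om * x) := by
  have := congrArg (fun u => X.wa * u * X.wa⁻¹) (h.hb x)
  simpa only [← cj_mul', ← cj_inv', h.wah, h.wa_b] using this
theorem h2 (x : F4) : X.h * X.x2 x * X.h⁻¹ = X.x2 (om * om * x) := by
  have := congrArg (fun u => X.wa * u * X.wa⁻¹) (h.h1 x)
  simpa only [← cj_mul', ← cj_inv', h.wah, h.wa_1] using this
theorem k1 (x : F4) : X.k * X.x1 x * X.k⁻¹ = X.x1 (om * om * x) := by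
  have := congrArg (fun u => X.wb * u * X.wb⁻¹) (h.ka x)
  simpa only [← cj_mul', ← cj_inv', h.wbk, h.wb_a] using this
theorem kc (x : F4) : X.k * X.xc x * X.k⁻¹ = X.xc x := by
  have := congrArg (fun u => X.wa * u * X.wa⁻¹) (h.kb x)
  simp only [← cj_mul', ← cj_inv', h.wak, h.wa_b] at this
  conv_lhs => rw [← this]
  group
theorem kz (x : F4) : X.k * X.z x * X.k⁻¹ = X.z x := by
  conv_rhs => rw [← h.wb_c, ← h.kc, ← cj_mul', ← cj_mul', ← cj_inv', h.wbk, h.wb_c]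
theorem k2 (x : F4) : X.k * X.x2 x * X.k⁻¹ = X.x2 (om * x) := by
  have := congrArg (fun u => X.wa * u * X.wa⁻¹) (h.k1 (om * x))
  simp only [← cj_mul', ← cj_inv', h.wak, h.wa_1] at this
  rw [(by decide : ∀ x : F4, om * om * (om * x) = x)] at this
  rw [← this]
  group

theorem q0 : X.q 0 = 1 := by simp [q, h.b0, h.x10, h.x20, h.c0]
theorem qb (x : F4) : X.q (x, 0, 0, 0) = X.xb x := by simp [q, h.x10, h.x20, h.c0]
theorem q1 (x : F4) : X.q (0, x, 0, 0) = X.x1 x := by simp [q, h.b0, h.x20, h.c0]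
theorem q2 (x : F4) : X.q (0, 0, x, 0) = X.x2 x := by simp [q, h.b0, h.x10, h.c0]
theorem qc (x : F4) : X.q (0, 0, 0, x) = X.xc x := by simp [q, h.b0, h.x10, h.x20]
theorem zq (v : V) (c : F4) : X.z c * X.q v = X.q v * X.z c :=
  (((Commute.mul_right (h.zb _ c) (h.z1c _ c)).mul_right (h.z2c _ c)).mul_right (h.zc _ c)).eq

theorem q_mul (v w : V) : X.q v * X.q w = X.q (v + w) * X.z (be v w) := by
  obtain ⟨u, s, k, y⟩ := v
  obtain ⟨u', s', k', y'⟩ := w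
  have t : ∀ {a b : G}, a * b = b * a → ∀ w, a * (b * w) = b * (a * w) := fun e w => by
    rw [← mul_assoc, e, mul_assoc]
  have e1 : ∀ w, X.xc y * (X.xb u' * w) = X.xb u' * (X.xc y * (X.z (y * u') * w)) := fun w => by
    rw [← mul_assoc, h.cb]; simp only [mul_assoc]
  have e2 : ∀ w, X.x2 k * (X.x1 s' * w) = X.x1 s' * (X.x2 k * (X.z (k * s') * w)) := fun w => by
    rw [← mul_assoc, h.x21]; simp only [mul_assoc]
  simp only [q, be, Prod.fst_add, Prod.snd_add, h.b_add, h.x1_add, h.x2_add, h.c_add, h.z_add,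
    mul_assoc, e1, t (h.x2b _ _), t (h.x1b _ _), t (h.z1c _ _), t (h.c1 _ _), e2, t (h.z2c _ _),
    t (h.c2 _ _), t (h.zc _ _), h.zc]
  rw [← h.z_add, ← h.z_add, add_comm]

theorem qz_mul (v w : V) (c d : F4) :
    X.q v * X.z c * (X.q w * X.z d) = X.q (v + w) * X.z (c + d + be v w) := by
  rw [mul_assoc, ← mul_assoc (X.z c), h.zq, mul_assoc, ← mul_assoc, h.q_mul, mul_assoc, ← h.z_add,
    ← h.z_add, add_comm (be v w)]

theorem q_comm (v w : V) : X.q v * X.q w = X.q w * X.q v * X.z (fm v w) := by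
  rw [h.q_mul, h.q_mul, add_comm w, mul_assoc, ← h.z_add, fm,
    (by decide : ∀ a b : F4, a + (b + a) = b)]

theorem a_q (r : F4) (v : V) : X.xa r * X.q v * (X.xa r)⁻¹ = X.q (Aa r v) * X.z (al r v) := by
  obtain ⟨u, s, k, y⟩ := v
  have e1 : X.xa r * X.xb u * (X.xa r)⁻¹ =
      X.q (u, r * u, r * r * u, r * r * r * u) * X.z (r * r * r * (u * u)) := by
    have a := h.ba u r
    rw [h.bi] at a
    have b : X.xa r * X.xb u * (X.xa r)⁻¹ =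
        X.q (0, r * u, r * r * u, r * r * r * u) * X.q (u, 0, 0, 0) := by
      rw [h.qb, h.ai, mul_assoc, eq_mul_inv_of_mul_eq a, h.bi]
      simp only [q, h.b0, ← mul_assoc, h.aa, one_mul]
    rw [b, h.q_mul]
    simp [be, mul_assoc]
  have e2 : X.xa r * X.x1 s * (X.xa r)⁻¹ = X.q (0, s, 0, r * r * s) * X.z (r * (s * s)) := by
    rw [h.a1]; simp [q, h.b0, h.x20]
  have e3 : X.xa r * X.x2 k * (X.xa r)⁻¹ = X.q (0, 0, k, r * k) * X.z 0 := by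
    rw [h.a2]; simp [q, h.b0, h.x10, h.z0]
  have e4 : X.xa r * X.xc y * (X.xa r)⁻¹ = X.q (0, 0, 0, y) * X.z 0 := by
    rw [← h.ca, h.qc, h.z0, mul_one, mul_inv_cancel_right]
  rw [q, ← cj_mul', ← cj_mul', ← cj_mul', e1, e2, e3, e4, h.qz_mul, h.qz_mul, h.qz_mul]
  congr 2
  · simp only [Aa, Prod.mk_add_mk, Prod.mk.injEq]
    refine ⟨?_, ?_, ?_, ?_⟩ <;> ring
  · simp only [al, be, Prod.mk_add_mk]; ring

theorem wa_q (v : V) : X.wa * X.q v * X.wa⁻¹ = X.q (Wa v) * X.z (be v v) := by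
  obtain ⟨u, s, k, y⟩ := v
  rw [q, ← cj_mul', ← cj_mul', ← cj_mul', h.wa_b, h.wa_1, h.wa_2, h.wa_c, ← h.qb, ← h.q1, ← h.q2,
    ← h.qc, h.q_mul, ← mul_one (X.q (0, k, 0, 0)), ← h.z0, h.qz_mul, ← mul_one (X.q (y, 0, 0, 0)),
    ← h.z0, h.qz_mul]
  congr 2
  · simp [Wa]
  · simp only [be, Prod.mk_add_mk]; ring

theorem h_q (v : V) : X.h * X.q v * X.h⁻¹ = X.q ((om * om) • v) := by
  rw [q, ← cj_mul', ← cj_mul', ← cj_mul', h.hb, h.h1, h.h2, h.hc]; rfl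

theorem k_q (v : V) : X.k * X.q v * X.k⁻¹ = X.q (v.1, om * om * v.2.1, om * v.2.2.1, v.2.2.2) := by
  rw [q, ← cj_mul', ← cj_mul', ← cj_mul', h.kb, h.k1, h.k2, h.kc]; rfl

theorem mul_S (r r' : F4) (v v' : V) (c c' : F4) : X.s r v c * X.s r' v' c' =
    X.s (r + r') (Aa r' v + v') (c + al r' v + c' + be (Aa r' v) v') := by
  calc _ = X.xa r * X.xa r' * ((X.xa r' * X.q v * (X.xa r')⁻¹) * X.z c * (X.q v' * X.z c')) := by
        simp only [s, mul_assoc, h.ai]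
        rw [← mul_assoc (X.xa r') (X.xa r'), h.aa, one_mul, ← mul_assoc (X.z c), h.za, mul_assoc]
    _ = _ := by
      rw [h.a_q, mul_assoc (X.q _), ← h.z_add, h.qz_mul, ← h.a_add, s, mul_assoc, add_comm c]

theorem sa (r : F4) : X.s r 0 0 = X.xa r := by simp [s, h.q0, h.z0]
theorem sq (v : V) (c : F4) : X.s 0 v c = X.q v * X.z c := by simp [s, h.a0]
theorem sz (c : F4) : X.s 0 0 c = X.z c := by simp [s, h.a0, h.q0]
theorem s0 : X.s 0 0 0 = 1 := by rw [h.sz, h.z0]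

theorem cj (g : G) : (X.cj g).Fr := by
  refine ⟨fun x => conj_mem_cj g (h.aL x), fun x => conj_mem_cj g (h.bL x), conj_mem_cj g h.hL,
    conj_mem_cj g h.kL, conj_mem_cj g h.waL, conj_mem_cj g h.wbL, ?_, ?_, ?_, ?_, ?_, ?_, ?_, ?_, ?_,
    ?_, ?_, ?_, ?_, ?_, ?_, ?_, ?_, ?_, ?_, ?_, ?_, ?_, ?_, ?_, ?_, ?_, ?_, ?_, ?_, ?_, ?_, ?_, ?_,
    fun c e => h.z_inj c (conj_eq_one_iff'.1 e),
    fun M h1 h2 h3 h4 => cj_le_iff.2 (h.gen _ (fun x => ?_) (fun x => ?_) ?_ ?_),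
    (card_cj _ _).trans h.card, fun l hl e => ?_, fun M hM => ?_⟩
  any_goals simp only [Dat.cj, cj_mul', cj_inv', h.a_add, h.b_add, h.wa_b, h.wa_1, h.wa_z, h.wb_a,
    h.wb_2, h.wb_c, h.waa, h.wbb, h.bra, h.brb, h.ba, h.a1, h.a2, h.cb, h.ca, h.za, h.zb, h.c2, h.ha,
    h.hb, h.h1, h.hz, h.ka, h.kb, h.hhh, h.kkk, h.hk, h.wah, h.wak, h.wbh, h.wbk, mul_one,
    mul_inv_cancel, implies_true]
  · exact mem_cj.2 (by simpa [Dat.cj] using h1 x)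
  · exact mem_cj.2 (by simpa [Dat.cj] using h2 x)
  · exact mem_cj.2 (by simpa [Dat.cj] using h3)
  · exact mem_cj.2 (by simpa [Dat.cj] using h4)
  · obtain ⟨k, hk, rfl⟩ := mem_cj'.1 hl
    refine cj_P (X := X) (g := g) ▸ conj_mem_cj g (h.cz k hk ?_)
    simp only [Dat.cj, ← mul_assoc, inv_mul_cancel_right, mul_left_inj] at e
    simpa [mul_assoc] using e
  · rcases h.simple (H24.cj g⁻¹ M) (by simpa using hM.cj g⁻¹) with k | k
    · exact Or.inl (by simpa using congrArg (H24.cj g) k)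
    · exact Or.inr (by simpa using congrArg (H24.cj g) k)

end Fr

theorem St.cj (h : X.St) (g : G) : (X.cj g).St := by
  refine ⟨h.toFr.cj g, fun a u hu u1 u2 k => ?_, fun a k => h.nc (g⁻¹ * a * g) ?_, ?_⟩
  · rw [cj_K, mem_cj] at hu k
    have := h.tight (g⁻¹ * a * g) _ hu (fun e => u1 (conj_eq_one_iff'.1 (by rwa [inv_inv])))
      (by rw [show g⁻¹ * u * g * (g⁻¹ * u * g) = g⁻¹ * (u * u) * g by group, u2]; group)
      (by rwa [show g⁻¹ * a * g * (g⁻¹ * u * g) * (g⁻¹ * a * g)⁻¹ = g⁻¹ * (a * u * a⁻¹) * g by group])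
    rw [cj_L, ← cj_N, mem_cj]; exact this
  · rw [cj_K, cj_L, le_cj_iff, ← cj_mul, ← cj_mul] at k; exact k
  · obtain ⟨u, hu, u1, u2⟩ := h.ev
    exact ⟨_, cj_K (X := X) ▸ conj_mem_cj g hu, fun e => u1 (conj_eq_one_iff'.1 e),
      by rw [cj_mul', u2]; group⟩

end Dat

end H24.G4
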