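import Mathlib
import Cfsg.Agent.H24.Gw0

/-! The Sylow subgroup of `K` and the translations: vocabulary. -/

set_option autoImplicit false
set_option linter.unusedSectionVars false
set_option synthInstance.maxSize 4000

namespace H24.G4

open H26 H26.Gold Subgroup
open H9 (F4)
open H7.SJ (p2)
open H24.Sz (om f4_add_self)

/-- `r` lists a Sylow subgroup of `K = C(L)`; `d` centralises `P`. -/
structure Dx (G : Type*) [Group G] extends Dat G where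
  Λ : AddSubgroup F4
  r : F4 → G
  d : F4 → G

namespace Dx

variable {G : Type*} [Group G] (X : Dx G)

/-- conjugate everything. -/
def cj (g : G) : Dx G :=
  ⟨X.toDat.cj g, X.Λ, fun x => g * X.r x * g⁻¹, fun x => g * X.d x * g⁻¹⟩
/-- the Sylow subgroup of `K`. -/
def T : Subgroup G := closure (X.r '' X.Λ)
/-- the odd part of `C_K(T)`. -/
def O : Subgroup G := Od[X.K ⊓ C[X.T]]
/-- translations by `xc`. -/
def e (x : F4) : G := X.wb * X.d x * X.wb⁻¹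

/-- the Sylow subgroup of `K`. -/
structure S1 : Prop extends X.St where
  one : 1 ∈ X.Λ
  r_add : ∀ x ∈ X.Λ, ∀ y ∈ X.Λ, X.r (x + y) = X.r x * X.r y
  rK : ∀ x ∈ X.Λ, X.r x ∈ X.K
  r_inj : ∀ x ∈ X.Λ, X.r x = 1 → x = 0
  sylT : Syl 2 X.K X.T
  IL : ¬ X.I (X.z 1)

/-- the output of the tight embedding. -/
structure S2 : Prop extends X.S1 where
  d1 : ∃ g ∈ C[X.P], ∀ x ∈ X.Λ, g * X.r x * g⁻¹ = X.r x * X.z x

/-- the translations. -/
structure S3 (γ : F4) : Prop extends X.S1 where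
  d_add : ∀ x y, X.d (x + y) = X.d x * X.d y
  dP : ∀ x, X.d x ∈ C[X.P]
  hd : ∀ x, X.h * X.d x * X.h⁻¹ = X.d (om * x)
  dr : ∀ x, ∀ y ∈ X.Λ, X.d x * X.r y * (X.d x)⁻¹ = X.r y * X.z (y * x)
  dO : ∀ x, X.d x ∈ C[X.O]
  lam : ∀ y x, γ * y * (x * x) ∈ X.Λ
  ed : ∀ x y, X.e x * X.d y * (X.e x)⁻¹ = X.d y * X.xc (γ * (x * x) * y) * X.z (γ * x * (y * y))
  be : ∀ y x, X.xb y * X.e x * (X.xb y)⁻¹ =
    X.e x * X.d (y * x) * X.r (γ * y * (x * x)) * X.xc (γ * y * (x * x * x))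

variable {X} [Finite G] {g u : G} {x y γ : F4}

@[simp] theorem cj_toDat : (X.cj g).toDat = X.toDat.cj g := rfl
theorem cj_T : (X.cj g).T = H24.cj g X.T := by
  rw [T, T, cj_def, MonoidHom.map_closure, ← Set.image_comp]; rfl
theorem cj_O : (X.cj g).O = H24.cj g X.O := by
  rw [O, O, cj_T, cj_toDat, Dat.cj_K, ← cj_C, ← cj_inf, pcore_cj]
theorem cj_e (x : F4) : (X.cj g).e x = g * X.e x * g⁻¹ := by simp only [e, cj, Dat.cj]; group
theorem r_T (hx : x ∈ X.Λ) : X.r x ∈ X.T := subset_closure ⟨x, hx, rfl⟩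
theorem T_le {M : Subgroup G} (h : ∀ c ∈ X.Λ, X.r c ∈ M) : X.T ≤ M :=
  (closure_le _).2 (by rintro _ ⟨c, hc, rfl⟩; exact h c hc)
theorem O_odd : OddG X.O := Od_odd _
theorem O_K : X.O ≤ X.K := (pcore_le _ _).trans inf_le_left
theorem O_T : X.O ≤ C[X.T] := (pcore_le _ _).trans inf_le_right

end Dx

namespace Dat

variable {G : Type*} [Group G] [Finite G] {X : Dat G} {g u : G}

theorem I.conj (h : X.I u) (g : G) : X.I (g * u * g⁻¹) := by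
  obtain ⟨h1, h2, k, h3⟩ := h
  exact ⟨fun e => h1 (conj_eq_one_iff'.1 e), conj_sq h2 g, k * g⁻¹, by simpa [mul_assoc] using h3⟩

theorem I_conj : X.I (g * u * g⁻¹) ↔ X.I u :=
  ⟨fun h => by simpa [mul_assoc] using h.conj g⁻¹, fun h => h.conj g⟩

theorem St.N_K (h : X.St) : N[X.K] = N[X.L] := by
  refine le_antisymm (fun g hg => ?_) (N_le_NC _)
  obtain ⟨u, hu, u1, u2⟩ := h.ev
  exact h.tight g u hu u1 u2 (conj_mem hg hu)

theorem St.C_N (h : X.St) (hu : u ∈ X.K) (u1 : u ≠ 1) (u2 : u * u = 1) : C{u} ≤ N[X.L] :=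
  fun g hg => h.tight g u hu u1 u2 (by rwa [mem_C1_iff_conj.1 hg])

theorem St.ti (h : X.St) (hu : u ∈ X.K) (u1 : u ≠ 1) (u2 : u * u = 1) (h1 : u ∈ H24.cj g X.K) :
    g ∈ N[X.L] :=
  inv_mem_iff.1 (h.tight g⁻¹ u hu u1 u2 (by simpa using mem_cj.1 h1))

end Dat

namespace Dx

variable {G : Type*} [Group G] [Finite G] {X : Dx G} {g u : G} {x y γ : F4}

theorem S1.cj (h : X.S1) (g : G) : (X.cj g).S1 := by
  refine ⟨h.toSt.cj g, h.one, fun x hx y hy => ?_,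
    fun x hx => Dat.cj_K (X := X.toDat) (g := g) ▸ conj_mem_cj g (h.rK x hx),
    fun x hx e => h.r_inj x hx (conj_eq_one_iff'.1 e),
    by rw [cj_toDat, Dat.cj_K, cj_T]; exact h.sylT.cj g,
    fun e => h.IL (Dat.I_conj.1 (Dat.cj_I.1 e))⟩
  simp only [Dx.cj, h.r_add x hx y hy, conj_mul]

theorem S3.cj (h : X.S3 γ) (g : G) : (X.cj g).S3 γ := by
  refine ⟨h.toS1.cj g, fun x y => ?_, fun x => ?_, fun x => ?_, fun x y hy => ?_, fun x => ?_,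
    h.lam, fun x y => ?_, fun x y => ?_⟩
  · simp only [Dx.cj, Dat.cj_mul', h.d_add]
  · rw [cj_toDat, Dat.cj_P, ← cj_C]; exact conj_mem_cj g (h.dP x)
  · simp only [Dx.cj, Dat.cj, Dat.cj_mul', Dat.cj_inv', h.hd]
  · simp only [Dx.cj, Dat.cj, Dat.cj_mul', Dat.cj_inv', h.dr x y hy]
  · rw [cj_O, ← cj_C]; exact conj_mem_cj g (h.dO x)
  · rw [cj_e]; simp only [Dx.cj, Dat.cj, Dat.cj_mul', Dat.cj_inv', h.ed]
  · rw [cj_e]; simp only [Dx.cj, Dat.cj, Dat.cj_mul', Dat.cj_inv', h.be]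

namespace S1

variable (h : X.S1)
include h

theorem r0 : X.r 0 = 1 := by
  simpa using (h.r_add 0 (zero_mem _) 0 (zero_mem _)).symm

theorem rr (hx : x ∈ X.Λ) : X.r x * X.r x = 1 := by
  rw [← h.r_add x hx x hx, f4_add_self, h.r0]

theorem mem_T : u ∈ X.T ↔ ∃ x ∈ X.Λ, u = X.r x := by
  refine ⟨fun hu => ?_, fun ⟨c, hc, e⟩ => e ▸ r_T hc⟩
  induction hu using closure_induction with
  | mem x hx => obtain ⟨c, hc, rfl⟩ := hx; exact ⟨c, hc, rfl⟩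
  | one => exact ⟨0, zero_mem _, h.r0.symm⟩
  | mul x y _ _ h1 h2 =>
    obtain ⟨c, hc, rfl⟩ := h1; obtain ⟨e, he, rfl⟩ := h2
    exact ⟨_, add_mem hc he, (h.r_add c hc e he).symm⟩
  | inv x _ h1 =>
    obtain ⟨c, hc, rfl⟩ := h1; exact ⟨c, hc, inv_eq_of_mul_eq_one_right (h.rr hc)⟩

theorem eaT : EA X.T :=
  ea_of_sq fun u hu => by obtain ⟨c, hc, rfl⟩ := h.mem_T.1 hu; exact h.rr hc

theorem C_r (hx : x ∈ X.Λ) (h0 : x ≠ 0) : C{X.r x} ≤ N[X.L] :=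
  h.toSt.C_N (h.rK x hx) (fun e => h0 (h.r_inj x hx e)) (h.rr hx)

theorem I_r (hx : x ∈ X.Λ) (h0 : x ≠ 0) : X.I (X.r x) :=
  ⟨fun e => h0 (h.r_inj x hx e), h.rr hx, 1, by simpa using h.rK x hx⟩

theorem CKT : X.K ⊓ C[X.T] = X.T ⊔ X.O := by
  have hS := h.sylT.of_le (le_inf h.sylT.le h.eaT.le_C) inf_le_left
  rw [sup_comm]
  exact (Burnside_normal_complement p2 hS (inf_le_left.trans inf_le_right)).sup.symm

/-- an element of `M K` that centralises `T` lies in `T M O`. -/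
theorem CX {M : Subgroup G} (hM : M ≤ X.L) (h1 : g ∈ M ⊔ X.K) (h2 : g ∈ C[X.T]) :
    ∃ x ∈ X.Λ, ∃ m ∈ M, ∃ o ∈ X.O, g = X.r x * m * o := by
  have hc : X.K ≤ C[M] := C_anti hM
  obtain ⟨a, ha, k, hk, rfl⟩ := (mem_sup_of_norm (norm_of_cent hc)).1 h1
  have : k ∈ X.T ⊔ X.O := h.CKT ▸ ⟨hk, (mul_mem_cancel_left
    (cents_symm (h.sylT.le.trans hc) ha)).1 h2⟩
  obtain ⟨r, hr, o, ho, rfl⟩ := (mem_sup_of_norm (norm_of_cent O_T)).1 this
  obtain ⟨x, hx, rfl⟩ := h.mem_T.1 hr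
  exact ⟨x, hx, a, ha, o, ho, by rw [← mul_assoc, mem_C.1 (hc (h.rK x hx)) a ha]⟩

end S1

end Dx

end H24.G4
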