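import Mathlib
import Cfsg.Agent.H24.Gw0

/-! Normal forms and involutions in `G₂(4)`. -/

set_option autoImplicit false
set_option linter.unusedSectionVars false
set_option synthInstance.maxSize 4000

namespace H24.G4

open H26 H26.Gold Subgroup
open H9 (F4)
open H7.SJ (p2)
open H24.Sz (om f4_add_self)

theorem V_add_self (v : V) : v + v = 0 := by revert v; decide +kernel
theorem V_eq {v w : V} (e : v + w = 0) : v = w := by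
  rw [← add_zero v, ← V_add_self w, ← add_assoc, e, zero_add]
theorem f4_eq {x y : F4} (e : x + y = 0) : x = y := by revert x y; decide
@[simp] theorem Aa_zero (v : V) : Aa 0 v = v := by simp [Aa]
@[simp] theorem al_zero (v : V) : al 0 v = 0 := by simp [al]
@[simp] theorem Aa_zero' (r : F4) : Aa r 0 = 0 := by simp [Aa]
@[simp] theorem al_zero' (r : F4) : al r 0 = 0 := by simp [al]
@[simp] theorem be_zero (v : V) : be 0 v = 0 := by simp [be]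
@[simp] theorem be_zero' (v : V) : be v 0 = 0 := by simp [be]
theorem Aa_add (r : F4) (v w : V) : Aa r (v + w) = Aa r v + Aa r w := by
  simp only [Aa, Prod.fst_add, Prod.snd_add, Prod.mk_add_mk, Prod.mk.injEq]
  refine ⟨trivial, ?_, ?_, ?_⟩ <;> ring
theorem Aa_Aa (r : F4) (v : V) : Aa r (Aa r v) = v := by revert r v; decide +kernel
theorem fm_nd {v : V} (e : ∀ w, fm v w = 0) : v = 0 := by
  have h1 := e (1, 0, 0, 0)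
  have h2 := e (0, 1, 0, 0)
  have h3 := e (0, 0, 1, 0)
  have h4 := e (0, 0, 0, 1)
  clear e; revert v; decide +kernel

theorem mem_cl {G : Type*} [Group G] [Finite G] {f : F4 → G} (h : ∀ x y, f (x + y) = f x * f y) {u : G} :
    u ∈ closure (Set.range f) ↔ ∃ c, u = f c := by
  refine ⟨fun hu => ?_, fun ⟨c, e⟩ => subset_closure ⟨c, e.symm⟩⟩
  induction hu using closure_induction with
  | mem x hx => obtain ⟨c, rfl⟩ := hx; exact ⟨c, rfl⟩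
  | one => exact ⟨0, (Sz.Dat.add_zero' h).symm⟩
  | mul x y _ _ h1 h2 => obtain ⟨c, rfl⟩ := h1; obtain ⟨e, rfl⟩ := h2; exact ⟨_, (h c e).symm⟩
  | inv x _ h1 => obtain ⟨c, rfl⟩ := h1; exact ⟨c, Sz.Dat.add_inv h c⟩

theorem mem_zp3 {G : Type*} [Group G] {k u : G} (h : k * k * k = 1) (hu : u ∈ zpowers k) :
    u = 1 ∨ u = k ∨ u = k * k := by
  have e : k⁻¹ = k * k := inv_eq_of_mul_eq_one_left h
  let M : Subgroup G := ⟨⟨⟨{u | u = 1 ∨ u = k ∨ u = k * k}, by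
    rintro _ _ (rfl | rfl | rfl) (rfl | rfl | rfl) <;> simp [h, ← mul_assoc]⟩, Or.inl rfl⟩, by
    rintro _ (rfl | rfl | rfl)
    · simp
    · exact Or.inr (Or.inr e)
    · exact Or.inr (Or.inl (inv_eq_of_mul_eq_one_right h))⟩
  exact zpowers_le.2 (show k ∈ M from Or.inr (Or.inl rfl)) hu

namespace Dat.Fr

variable {G : Type*} [Group G] [Finite G] {X : Dat G} {g u l : G} {x y c r : F4} {v w : V}
  {E M : Subgroup G} (h : X.Fr)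
include h

theorem inv_S (r : F4) (v : V) (c : F4) :
    (X.s r v c)⁻¹ = X.s r (Aa r v) (c + al r v + be (Aa r v) (Aa r v)) :=
  inv_eq_of_mul_eq_one_right (by
    rw [h.mul_S, V_add_self, f4_add_self, (by decide : ∀ a b : F4, a + (a + b) + b = 0), h.s0])

theorem sub_le (p : F4 → V → Prop) (h0 : p 0 0)
    (hm : ∀ r v r' v', p r v → p r' v' → p (r + r') (Aa r' v + v')) (hi : ∀ r v, p r v → p r (Aa r v)) :
    ∃ M : Subgroup G, ∀ u, u ∈ M ↔ ∃ r v c, p r v ∧ u = X.s r v c :=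
  ⟨⟨⟨⟨{u | ∃ r v c, p r v ∧ u = X.s r v c}, by
    rintro _ _ ⟨r, v, c, h1, rfl⟩ ⟨r', v', c', h2, rfl⟩
    exact ⟨_, _, _, hm _ _ _ _ h1 h2, h.mul_S ..⟩⟩, 0, 0, 0, h0, h.s0.symm⟩, by
    rintro _ ⟨r, v, c, h1, rfl⟩
    exact ⟨_, _, _, hi _ _ h1, h.inv_S ..⟩⟩, fun _ => Iff.rfl⟩

theorem sq' (v : V) : X.q v = X.s 0 v 0 := by rw [h.sq, h.z0, mul_one]

theorem mem_Z : u ∈ X.Z ↔ ∃ c, u = X.z c := mem_cl h.z_add

theorem mem_S : u ∈ X.S ↔ ∃ r v c, u = X.s r v c := by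
  refine ⟨fun hu => ?_, fun ⟨r, v, c, e⟩ => e ▸ s_S r v c⟩
  obtain ⟨M, hM⟩ := h.sub_le (fun _ _ => True) trivial (fun _ _ _ _ _ _ => trivial) fun _ _ _ => trivial
  have q : ∀ v, X.q v ∈ M := fun v => (hM _).2 ⟨_, _, _, trivial, h.sq' v⟩
  obtain ⟨r, v, c, -, e⟩ := (hM u).1 (S_le (fun x => (hM _).2 ⟨_, _, _, trivial, (h.sa x).symm⟩)
    (Q_le (fun x => h.qb x ▸ q _) (Z3_le (fun x => h.q1 x ▸ q _) (fun x => h.q2 x ▸ q _)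
      (fun x => h.qc x ▸ q _) fun x => (hM _).2 ⟨_, _, _, trivial, (h.sz x).symm⟩)) hu)
  exact ⟨r, v, c, e⟩

theorem mem_Q : u ∈ X.Q ↔ ∃ v c, u = X.q v * X.z c := by
  refine ⟨fun hu => ?_, fun ⟨v, c, e⟩ => e ▸ mul_mem (q_Q v) (z_Q c)⟩
  obtain ⟨M, hM⟩ := h.sub_le (fun r _ => r = 0) rfl (fun _ _ _ _ a b => by rw [a, b, add_zero])
    fun _ _ a => a
  have q : ∀ v, X.q v ∈ M := fun v => (hM _).2 ⟨_, _, _, rfl, h.sq' v⟩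
  obtain ⟨r, v, c, rfl, e⟩ := (hM u).1 (Q_le (fun x => h.qb x ▸ q _) (Z3_le (fun x => h.q1 x ▸ q _)
    (fun x => h.q2 x ▸ q _) (fun x => h.qc x ▸ q _) fun x => (hM _).2 ⟨_, _, _, rfl, (h.sz x).symm⟩) hu)
  exact ⟨v, c, e.trans (h.sq v c)⟩

theorem q_Z3 (a k y : F4) : X.q (0, a, k, y) ∈ X.Z3 := by
  rw [q, h.b0, one_mul]; exact mul_mem (mul_mem (x1_Z3 _) (x2_Z3 _)) (c_Z3 _)

theorem mem_R : u ∈ X.R ↔ ∃ r a k y c, u = X.s r (0, a, k, y) c := by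
  refine ⟨fun hu => ?_, fun ⟨r, a, k, y, c, e⟩ =>
    e ▸ mul_mem (mul_mem (a_R r) (Z3_R (h.q_Z3 a k y))) (Z_R (z_Z c))⟩
  obtain ⟨M, hM⟩ := h.sub_le (fun _ v => v.1 = 0) rfl (fun _ _ _ _ a b => by simp [Aa, a, b])
    fun _ _ a => a
  have q : ∀ v : V, v.1 = 0 → X.q v ∈ M := fun v e => (hM _).2 ⟨_, _, _, e, h.sq' v⟩
  obtain ⟨r, ⟨_, a, k, y⟩, c, rfl, e⟩ := (hM u).1 (R_le (fun x => (hM _).2 ⟨_, _, _, rfl, (h.sa x).symm⟩)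
    (Z3_le (fun x => h.q1 x ▸ q _ rfl) (fun x => h.q2 x ▸ q _ rfl) (fun x => h.qc x ▸ q _ rfl)
      fun x => (hM _).2 ⟨_, _, _, rfl, (h.sz x).symm⟩) hu)
  exact ⟨r, a, k, y, c, e⟩

theorem mem_Z3 : u ∈ X.Z3 ↔ ∃ a k y c, u = X.q (0, a, k, y) * X.z c := by
  refine ⟨fun hu => ?_, fun ⟨a, k, y, c, e⟩ => e ▸ mul_mem (h.q_Z3 a k y) (z_Z3 c)⟩
  obtain ⟨M, hM⟩ := h.sub_le (fun r v => r = 0 ∧ v.1 = 0) ⟨rfl, rfl⟩
    (fun _ _ _ _ a b => by simp [Aa, a.1, a.2, b.1, b.2]) fun _ _ a => a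
  have q : ∀ v : V, v.1 = 0 → X.q v ∈ M := fun v e => (hM _).2 ⟨_, _, _, ⟨rfl, e⟩, h.sq' v⟩
  obtain ⟨r, ⟨_, a, k, y⟩, c, ⟨rfl, rfl⟩, e⟩ := (hM u).1 (Z3_le (fun x => h.q1 x ▸ q _ rfl)
    (fun x => h.q2 x ▸ q _ rfl) (fun x => h.qc x ▸ q _ rfl)
      (fun x => (hM _).2 ⟨_, _, _, ⟨rfl, rfl⟩, (h.sz x).symm⟩) hu)
  exact ⟨a, k, y, c, e.trans (h.sq _ c)⟩

theorem mem_Z2 : u ∈ X.Z2 ↔ ∃ y c, u = X.xc y * X.z c := by
  refine ⟨fun hu => ?_, fun ⟨y, c, e⟩ => e ▸ mul_mem (c_Z2 y) (z_Z2 c)⟩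
  obtain ⟨M, hM⟩ := h.sub_le (fun r v => r = 0 ∧ ∃ y, v = (0, 0, 0, y)) ⟨rfl, 0, rfl⟩
    (by rintro _ _ _ _ ⟨rfl, y, rfl⟩ ⟨rfl, y', rfl⟩; simp) (by rintro _ _ ⟨rfl, y, rfl⟩; simp)
  obtain ⟨r, _, c, ⟨rfl, y, rfl⟩, e⟩ := (hM u).1 (Z2_le
    (fun x => (hM _).2 ⟨_, _, _, ⟨rfl, x, rfl⟩, (h.qc x).symm.trans (h.sq' _)⟩)
    (fun x => (hM _).2 ⟨_, _, _, ⟨rfl, 0, rfl⟩, (h.sz x).symm⟩) hu)
  exact ⟨y, c, by rw [e, h.sq, h.qc]⟩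

theorem one_Q (e : X.q v * X.z c = 1) : v = 0 ∧ c = 0 := by
  have e1 : X.q v = X.z c := by rw [eq_inv_of_mul_eq_one_left e, h.zi]
  obtain rfl : v = 0 := fm_nd fun w => h.z_inj _ (by
    have := h.q_comm v w
    rwa [e1, h.zq, left_eq_mul] at this)
  exact ⟨rfl, h.z_inj c (by rwa [h.q0, one_mul] at e)⟩

theorem inj_Q {c' : F4} (e : X.q v * X.z c = X.q w * X.z c') : v = w ∧ c = c' := by
  have := congrArg (· * (X.q w * X.z (c' + be w w))) e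
  simp only [h.qz_mul, V_add_self, (by decide : ∀ a b : F4, a + (a + b) + b = 0), h.q0, h.z0,
    mul_one] at this
  obtain rfl := V_eq (h.one_Q this).1
  exact ⟨rfl, h.z_eq (mul_left_cancel e)⟩

theorem q_conj (v w : V) (c : F4) :
    X.q v * X.z c * X.q w * (X.q v * X.z c)⁻¹ = X.q w * X.z (fm v w) := by
  rw [mul_inv_eq_iff_eq_mul, mul_assoc, h.zq, ← mul_assoc, h.q_comm, mul_assoc (X.q w), ← h.zq]
  group

theorem a_z (r c : F4) : X.xa r * X.z c * (X.xa r)⁻¹ = X.z c := by rw [← h.za, mul_inv_cancel_right]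

theorem conj_q (r : F4) (v w : V) (c : F4) :
    X.s r v c * X.q w * (X.s r v c)⁻¹ = X.q (Aa r w) * X.z (al r w + fm v w) := by
  calc _ = X.xa r * (X.q v * X.z c * X.q w * (X.q v * X.z c)⁻¹) * (X.xa r)⁻¹ := by rw [s]; group
    _ = _ := by rw [h.q_conj, ← cj_mul', h.a_q, h.a_z, mul_assoc, ← h.z_add]

theorem inj_S {r' c' : F4} (e : X.s r v c = X.s r' w c') : r = r' ∧ v = w ∧ c = c' := by
  have k := h.conj_q r v (0, 0, 1, 0) c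
  rw [e, h.conj_q] at k
  have k1 := congrArg (·.2.2.2) (h.inj_Q k).1
  obtain rfl : r' = r := by simpa [Aa] using k1
  rw [s, s, mul_assoc, mul_assoc, mul_right_inj] at e
  exact ⟨rfl, h.inj_Q e⟩

theorem inj_Z2 {y' c' : F4} (e : X.xc y * X.z c = X.xc y' * X.z c') : y = y' ∧ c = c' := by
  rw [← h.qc, ← h.qc] at e
  exact ⟨by simpa using (h.inj_Q e).1, (h.inj_Q e).2⟩

theorem q_mem_Z (e : X.q v * X.z c ∈ X.Z) : v = 0 := by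
  obtain ⟨d, e⟩ := h.mem_Z.1 e
  exact (h.inj_Q (e.trans (by rw [h.q0, one_mul]))).1

theorem s_mem_Q (e : X.s r v c ∈ X.Q) : r = 0 := by
  obtain ⟨w, d, e⟩ := h.mem_Q.1 e
  exact (h.inj_S (e.trans (h.sq w d).symm)).1

theorem s_mem_R (e : X.s r v c ∈ X.R) : v.1 = 0 := by
  obtain ⟨_, _, _, _, _, e⟩ := h.mem_R.1 e
  rw [(h.inj_S e).2.1]

theorem q_mem_Z2 (e : X.q v * X.z c ∈ X.Z2) : ∃ y, v = (0, 0, 0, y) := by
  obtain ⟨y, d, e⟩ := h.mem_Z2.1 e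
  exact ⟨y, (h.inj_Q (e.trans (by rw [h.qc]))).1⟩

theorem s_R (e : v.1 = 0) (r c : F4) : X.s r v c ∈ X.R :=
  h.mem_R.2 ⟨r, v.2.1, v.2.2.1, v.2.2.2, c, by rw [← e]⟩

theorem qz_sq (v : V) (c : F4) : X.q v * X.z c * (X.q v * X.z c) = X.z (be v v) := by
  rw [h.qz_mul, V_add_self, f4_add_self, zero_add, h.q0, one_mul]

omit h in
theorem card_of {α : Type} [Fintype α] (f : α → G) (hf : Function.Injective f)
    (e : ∀ u, u ∈ M ↔ ∃ a, u = f a) : ♯M = Fintype.card α := by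
  have : Function.Bijective fun a => (⟨f a, (e _).2 ⟨a, rfl⟩⟩ : M) :=
    ⟨fun a b k => hf (congrArg Subtype.val k), fun ⟨u, hu⟩ => by
      obtain ⟨a, rfl⟩ := (e u).1 hu; exact ⟨a, rfl⟩⟩
  rw [← Nat.card_eq_of_bijective _ this, Nat.card_eq_fintype_card]

theorem card_S : ♯X.S = 4096 :=
  (card_of (fun a : F4 × V × F4 => X.s a.1 a.2.1 a.2.2)
    (fun _ _ e => let ⟨a, b, c⟩ := h.inj_S e; Prod.ext a (Prod.ext b c))
    fun _ => h.mem_S.trans ⟨fun ⟨r, v, c, e⟩ => ⟨(r, v, c), e⟩, fun ⟨_, e⟩ => ⟨_, _, _, e⟩⟩).trans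
    (by simp [F4.card])
theorem card_Q : ♯X.Q = 1024 :=
  (card_of (fun a : V × F4 => X.q a.1 * X.z a.2) (fun _ _ e => let ⟨a, b⟩ := h.inj_Q e; Prod.ext a b)
    fun _ => h.mem_Q.trans ⟨fun ⟨v, c, e⟩ => ⟨(v, c), e⟩, fun ⟨_, e⟩ => ⟨_, _, e⟩⟩).trans
    (by simp [F4.card])
theorem card_R : ♯X.R = 1024 :=
  (card_of (fun a : V × F4 => X.s a.1.1 (0, a.1.2) a.2)
    (fun _ _ e => let ⟨a, b, c⟩ := h.inj_S e; Prod.ext (Prod.ext a (congrArg (·.2) b)) c)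
    fun _ => h.mem_R.trans ⟨fun ⟨r, a, k, y, c, e⟩ => ⟨((r, a, k, y), c), e⟩,
      fun ⟨_, e⟩ => ⟨_, _, _, _, _, e⟩⟩).trans (by simp [F4.card])
theorem card_Z3 : ♯X.Z3 = 256 :=
  (card_of (fun a : (F4 × F4 × F4) × F4 => X.q (0, a.1) * X.z a.2)
    (fun _ _ e => let ⟨a, b⟩ := h.inj_Q e; Prod.ext (congrArg (·.2) a) b)
    fun _ => h.mem_Z3.trans ⟨fun ⟨a, k, y, c, e⟩ => ⟨((a, k, y), c), e⟩,
      fun ⟨_, e⟩ => ⟨_, _, _, _, e⟩⟩).trans (by simp [F4.card])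
theorem card_Z2 : ♯X.Z2 = 16 :=
  (card_of (fun a : F4 × F4 => X.xc a.1 * X.z a.2) (fun _ _ e => let ⟨a, b⟩ := h.inj_Z2 e; Prod.ext a b)
    fun _ => h.mem_Z2.trans ⟨fun ⟨v, c, e⟩ => ⟨(v, c), e⟩, fun ⟨_, e⟩ => ⟨_, _, e⟩⟩).trans
    (by simp [F4.card])
theorem card_Z : ♯X.Z = 4 := card_of X.z (fun _ _ e => h.z_eq e) fun _ => h.mem_Z

theorem twoS : TwoG X.S := isPi_of_card p2 (n := 12) h.card_S
theorem S_L : X.S ≤ X.L := S_le h.aL (Q_le h.bL (Z3_le h.x1L h.x2L h.cL h.zL))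
theorem P_L : X.P ≤ X.L := P_le h.S_L h.kL h.waL
theorem syl : Syl 2 X.L X.S := Syl.mk' p2 h.S_L h.twoS (by
  have := card_mul_relIndex h.S_L
  rw [h.card_S, h.card] at this
  omega)

theorem LK : X.L ⊓ X.K = ⊥ := by
  refine (h.simple _ (nml_inf_of_norm (norm_C (norm_self _)))).resolve_right fun e => ?_
  have k : X.xb 1 ∈ X.K := (e.ge (h.bL 1)).2
  have := h.cb 1 1
  rw [mem_C.1 k _ (h.cL 1), mul_one, left_eq_mul] at this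
  exact h.z1 this

theorem not_K (hu : u ∈ X.L) (h1 : u ≠ 1) : u ∉ X.K := fun e => h1 (h.LK.le ⟨hu, e⟩)

theorem eaZ2 : EA X.Z2 := ea_of_sq fun u hu => by
  obtain ⟨y, c, rfl⟩ := h.mem_Z2.1 hu
  rw [← h.qc, h.qz_sq]; simp [be, h.z0]
theorem eaZ : EA X.Z := h.eaZ2.of_le Z_Z2

theorem S_z (hu : u ∈ X.S) (c : F4) : u * X.z c = X.z c * u := by
  obtain ⟨r, v, d, rfl⟩ := h.mem_S.1 hu
  exact ((Commute.mul_right (h.za r c) (h.zq v c)).mul_right (h.eaZ.comm (z_Z _) (z_Z _))).symm.eq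

theorem P_CZ : X.P ≤ C[X.Z] := cents_symm (Z_le fun c => mem_C_iff_le_C1.2 (P_le
  (fun _ hu => mem_C1.2 (h.S_z hu c)) (mem_C1_iff_conj.2 (h.kz c)) (mem_C1_iff_conj.2 (h.wa_z c))))
theorem S_CZ : X.S ≤ C[X.Z] := S_P.trans h.P_CZ
theorem P_z (hu : u ∈ X.P) (c : F4) : u * X.z c * u⁻¹ = X.z c := conj_eq_of_mem_C (h.P_CZ hu) (z_Z c)

theorem R_CZ2 : X.R ≤ C[X.Z2] := cents_symm (Z2_le (fun c => mem_C_iff_le_C1.2 (R_le
    (fun x => mem_C1.2 (h.ca x c).symm) (Z3_le (fun x => mem_C1.2 (h.c1 x c).symm)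
      (fun x => mem_C1.2 (h.c2 x c).symm) (fun x => mem_C1.2 (h.eaZ2.comm (c_Z2 _) (c_Z2 _)))
      fun x => mem_C1.2 (h.zc c x))))
  fun c => cents_symm (R_S.trans h.S_CZ) (z_Z c))

theorem NQ_of (h1 : ∀ v, g * X.q v * g⁻¹ ∈ X.Q) (h2 : ∀ c, g * X.z c * g⁻¹ ∈ X.Q) : g ∈ N[X.Q] :=
  mem_N_of_finite fun u hu => by
    obtain ⟨v, c, rfl⟩ := h.mem_Q.1 hu
    rw [← cj_mul']; exact mul_mem (h1 v) (h2 c)

theorem P_NQ : X.P ≤ N[X.Q] := P_le (S_le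
    (fun r => h.NQ_of (fun v => h.a_q r v ▸ mul_mem (q_Q _) (z_Q _)) fun c => (h.a_z r c).symm ▸ z_Q _)
    (norm_self _)) (h.NQ_of (fun v => h.k_q v ▸ q_Q _) fun c => (h.kz c).symm ▸ z_Q _)
  (h.NQ_of (fun v => h.wa_q v ▸ mul_mem (q_Q _) (z_Q _)) fun c => (h.wa_z c).symm ▸ z_Q _)

theorem conj_S (r r' : F4) (v w : V) (c d : F4) : ∃ e, X.s r v c * X.s r' w d * (X.s r v c)⁻¹ =
    X.s r' (Aa r (Aa r' v + w + v)) e :=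
  ⟨_, by rw [h.inv_S, h.mul_S, h.mul_S, add_right_comm r, f4_add_self, zero_add, ← Aa_add]⟩

theorem S_NR : X.S ≤ N[X.R] := fun u hu => mem_N_of_finite fun t ht => by
  obtain ⟨r, v, c, rfl⟩ := h.mem_S.1 hu
  obtain ⟨r', a, k, y, d, rfl⟩ := h.mem_R.1 ht
  obtain ⟨e, k⟩ := h.conj_S r r' v (0, a, k, y) c d
  rw [k]; exact h.s_R (by simp [Aa]) _ _

theorem S_c (hu : u ∈ X.S) (y : F4) : ∃ e, u * X.xc y * u⁻¹ = X.xc y * X.z e := by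
  obtain ⟨r, v, c, rfl⟩ := h.mem_S.1 hu
  exact ⟨al r (0, 0, 0, y) + fm v (0, 0, 0, y), by rw [← h.qc, h.conj_q]; simp [Aa]⟩

theorem NZ2_of (h1 : ∀ y, g * X.xc y * g⁻¹ ∈ X.Z2) (h2 : ∀ c, g * X.z c * g⁻¹ ∈ X.Z2) : g ∈ N[X.Z2] :=
  mem_N_of_finite fun u hu => by
    obtain ⟨v, c, rfl⟩ := h.mem_Z2.1 hu
    rw [← cj_mul']; exact mul_mem (h1 v) (h2 c)

theorem S_NZ2 : X.S ≤ N[X.Z2] := fun u hu => h.NZ2_of
  (fun y => let ⟨_, e⟩ := h.S_c hu y; e ▸ mul_mem (c_Z2 _) (z_Z2 _)) fun c => (h.P_z (S_P hu) c).symm ▸ z_Z2 c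

theorem Z3_eq : X.Z3 = X.R ⊓ X.Q := le_antisymm (le_inf Z3_R Z3_Q) fun u hu => by
  obtain ⟨r, a, k, y, d, rfl⟩ := h.mem_R.1 hu.1
  obtain rfl := h.s_mem_Q hu.2
  exact h.mem_Z3.2 ⟨_, _, _, _, h.sq ..⟩

theorem S_NZ3 : X.S ≤ N[X.Z3] := h.Z3_eq ▸ norm_inf h.S_NR (S_P.trans h.P_NQ)

theorem h_s (r : F4) (v : V) (c : F4) : X.h * X.s r v c * X.h⁻¹ = X.s r ((om * om) • v) (om * c) := by
  rw [s, ← cj_mul', ← cj_mul', h.ha, h.h_q, h.hz, s]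

theorem k_s (r : F4) (v : V) (c : F4) : X.k * X.s r v c * X.k⁻¹ =
    X.s (om * om * r) (v.1, om * om * v.2.1, om * v.2.2.1, v.2.2.2) c := by
  rw [s, ← cj_mul', ← cj_mul', h.ka, h.k_q, h.kz, s]

theorem h_NS : X.h ∈ N[X.S] := mem_N_of_finite fun u hu => by
  obtain ⟨r, v, c, rfl⟩ := h.mem_S.1 hu; rw [h.h_s]; exact s_S _ _ _
theorem k_NS : X.k ∈ N[X.S] := mem_N_of_finite fun u hu => by
  obtain ⟨r, v, c, rfl⟩ := h.mem_S.1 hu; rw [h.k_s]; exact s_S _ _ _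
theorem h_NQ : X.h ∈ N[X.Q] := h.NQ_of (fun v => h.h_q v ▸ q_Q _) fun c => h.hz c ▸ z_Q _
theorem h_NP : X.h ∈ N[X.P] := mem_N_of_cj_le (cj_le_iff.2 (P_le
  (cj_le_iff.1 ((cj_of_mem_N h.h_NS).le.trans S_P))
  (mem_cj.2 (by rw [inv_inv, h.hk, mul_inv_cancel_right]; exact k_P))
  (mem_cj.2 (by rw [inv_inv, ← mul_inv_eq_iff_eq_mul.1 h.wah, mul_inv_cancel_right]; exact wa_P))))
theorem k_CZ2 : X.k ∈ C[X.Z2] := cents_symm (Z2_le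
  (fun c => mem_C_iff_le_C1.2 (zpowers_le.2 (mem_C1_iff_conj.2 (h.kc c))))
  fun c => mem_C_iff_le_C1.2 (zpowers_le.2 (mem_C1_iff_conj.2 (h.kz c)))) (mem_zpowers _)
theorem wb_NR : X.wb ∈ N[X.R] := mem_N_of_finite fun u hu => by
  obtain ⟨r, a, k, y, c, rfl⟩ := h.mem_R.1 hu
  simp only [s, q, h.b0, one_mul, ← cj_mul', h.wb_a, h.wb_1, h.wb_2, h.wb_c, h.wb_z]
  exact mul_mem (mul_mem (Z3_R (x1_Z3 _)) (mul_mem (mul_mem (a_R _) (Z3_R (x2_Z3 _))) (Z_R (z_Z _))))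
    (Z2_R (c_Z2 _))
theorem wb_NZ2 : X.wb ∈ N[X.Z2] := h.NZ2_of (fun y => h.wb_c y ▸ z_Z2 _) fun c => h.wb_z c ▸ c_Z2 _

theorem longz (hc : c ≠ 0) : ∃ m ∈ zpowers X.h, m * X.z c * m⁻¹ = X.z 1 := by
  rcases (by decide : ∀ c : F4, c ≠ 0 → c = 1 ∨ om * c = 1 ∨ om * (om * c) = 1) c hc with e | e | e
  · exact ⟨1, one_mem _, by simp [e]⟩
  · exact ⟨_, mem_zpowers _, by rw [h.hz, e]⟩
  · exact ⟨X.h * X.h, mul_mem (mem_zpowers _) (mem_zpowers _), by rw [← e, ← h.hz, ← h.hz]; group⟩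

/-- `C_L(z c) = P`. -/
theorem czc (hc : c ≠ 0) (hl : l ∈ X.L) (e : l * X.z c = X.z c * l) : l ∈ X.P := by
  obtain ⟨m, hm, k⟩ := h.longz hc
  refine (conj_mem_iff (zpowers_le.2 h.h_NP hm)).1 (h.cz _
    (conj_mem (norm_self _ (zpowers_le.2 h.hL hm)) hl) ?_)
  rw [← k, cj_mul', cj_mul', e]

theorem mem_B : u ∈ X.B ↔ ∃ t ∈ X.S, u = t ∨ u = t * X.k ∨ u = t * X.k * X.k := by
  refine ⟨fun hu => ?_, ?_⟩
  · obtain ⟨t, ht, j, hj, rfl⟩ := (mem_sup_of_norm (zpowers_le.2 h.k_NS)).1 hu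
    rcases mem_zp3 h.kkk hj with rfl | rfl | rfl
    exacts [⟨t, ht, .inl (mul_one t)⟩, ⟨t, ht, .inr (.inl rfl)⟩, ⟨t, ht, .inr (.inr (mul_assoc ..).symm)⟩]
  · rintro ⟨t, ht, rfl | rfl | rfl⟩
    exacts [S_B ht, mul_mem (S_B ht) k_B, mul_mem (mul_mem (S_B ht) k_B) k_B]

/-- the Bruhat decomposition of `P`. -/
theorem bruhat (hu : u ∈ X.P) : u ∈ X.B ∨ ∃ r, ∃ b ∈ X.B, u = X.xa r * X.wa * b := by
  let Bh : G → Prop := fun u => u ∈ X.B ∨ ∃ r, ∃ b ∈ X.B, u = X.xa r * X.wa * b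
  let M : Subgroup G := ⟨⟨⟨{g | ∀ u, Bh u → Bh (g * u)}, fun {a b} ha hb u hu =>
    mul_assoc a b u ▸ ha _ (hb u hu)⟩, fun u hu => (one_mul u).symm ▸ hu⟩, fun {a} ha => by
      obtain ⟨n, e⟩ := (isOfFinOrder_of_finite a).mem_powers_iff_mem_zpowers.2 (inv_mem (mem_zpowers a))
      rw [← e]
      clear e
      induction n with
      | zero => exact fun u hu => by simpa using hu
      | succ n ih => exact fun u hu => by simpa only [pow_succ, mul_assoc] using ih _ (ha u hu)⟩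
  have hB : X.B ≤ M := sup_le (S_le (fun r u hu => ?_) fun m hm u hu => ?_) (zpowers_le.2 fun u hu => ?_)
  rotate_left
  · rcases hu with hu | ⟨r', b, hb, rfl⟩
    exacts [.inl (mul_mem (S_B (a_S r)) hu), .inr ⟨r + r', b, hb, by rw [h.a_add]; group⟩]
  · rcases hu with hu | ⟨r', b, hb, rfl⟩
    exacts [.inl (mul_mem (S_B (Q_S hm)) hu), .inr ⟨r', _, mul_mem (S_B (Q_S (conj_mem'
      (h.P_NQ (mul_mem (S_P (a_S r')) wa_P)) hm))) hb, by group⟩]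
  · rcases hu with hu | ⟨r', b, hb, rfl⟩
    exacts [.inl (mul_mem k_B hu), .inr ⟨om * om * r', _, mul_mem k_B (mul_mem k_B hb), by
      have e : X.k * X.wa = X.wa * X.k⁻¹ := by
        have := Dat.cj_back h.waa h.wak
        exact (eq_mul_inv_iff_mul_eq.1 this.symm)
      rw [← h.ka, show X.k * (X.xa r' * X.wa * b) = X.k * X.xa r' * X.k⁻¹ * (X.k * X.wa) * b by group, e,
        inv_eq_of_mul_eq_one_left h.kkk]
      simp only [mul_assoc]⟩]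
  have hw : X.wa ∈ M := fun u hu => by
    rcases hu with hu | ⟨r, b, hb, rfl⟩
    · exact .inr ⟨0, u, hu, by rw [h.a0, one_mul]⟩
    have st : ∀ r, (∀ b ∈ X.B, Bh (X.wa * (X.xa r * X.wa * b))) →
        ∀ b ∈ X.B, Bh (X.wa * (X.xa (om * om * r) * X.wa * b)) := fun r k b hb => by
      have := hB (inv_mem k_B) _ (k _ (mul_mem k_B hb))
      rwa [show X.k⁻¹ * (X.wa * (X.xa r * X.wa * (X.k * b))) =
        X.wa * (X.wa⁻¹ * X.k⁻¹ * X.wa * X.xa r * (X.wa * X.k * X.wa⁻¹) * X.wa * b) by group, h.wak,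
        show X.wa⁻¹ * X.k⁻¹ * X.wa = X.k by rw [← h.wak]; group, h.ka] at this
    have s1 : ∀ b ∈ X.B, Bh (X.wa * (X.xa 1 * X.wa * b)) := fun b hb =>
      .inr ⟨1, _, mul_mem (S_B (a_S 1)) hb, by rw [← mul_assoc, ← mul_assoc, h.bra]; group⟩
    rcases (by decide : ∀ r : F4, r = 0 ∨ r = 1 ∨ r = om * om * 1 ∨ r = om * om * (om * om * 1)) r with
      rfl | rfl | rfl | rfl
    exacts [.inl (by rwa [h.a0, one_mul, ← mul_assoc, h.waa, one_mul]), s1 b hb, st _ s1 b hb,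
      st _ (st _ s1) b hb]
  simpa using (sup_le hB (zpowers_le.2 hw) : X.P ≤ M) hu 1 (.inl (one_mem _))

theorem B_NS : X.B ≤ N[X.S] := sup_le (norm_self _) (zpowers_le.2 h.k_NS)

theorem B_c (hu : u ∈ X.B) (y : F4) : ∃ e, u * X.xc y * u⁻¹ = X.xc y * X.z e := by
  obtain ⟨t, ht, rfl | rfl | rfl⟩ := h.mem_B.1 hu
  · exact h.S_c ht y
  · obtain ⟨e, k⟩ := h.S_c ht y
    exact ⟨e, by rw [← k]; conv_rhs => rw [← h.kc y]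
                 group⟩
  · obtain ⟨e, k⟩ := h.S_c ht y
    exact ⟨e, by rw [← k]; conv_rhs => rw [← h.kc y, ← h.kc y]
                 group⟩

/-- the action of the big cell on the line at infinity. -/
theorem cell_c {b : G} (hb : b ∈ X.B) (r y : F4) : ∃ e,
    X.xa r * X.wa * b * X.xc y * (X.xa r * X.wa * b)⁻¹ = X.q (Aa r (y, 0, 0, 0)) * X.z e := by
  obtain ⟨e, k⟩ := h.B_c hb y
  refine ⟨al r (y, 0, 0, 0) + e, ?_⟩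
  calc _ = X.xa r * (X.wa * (b * X.xc y * b⁻¹) * X.wa⁻¹) * (X.xa r)⁻¹ := by group
    _ = _ := by rw [k, ← cj_mul' X.wa, h.wa_c, h.wa_z, ← cj_mul', ← h.qb, h.a_q, h.a_z, mul_assoc, h.z_add]

theorem B_of (hu : u ∈ X.P) (hy : y ≠ 0) (e : u * X.xc y * u⁻¹ ∈ X.R) : u ∈ X.B := by
  refine (h.bruhat hu).resolve_right ?_
  rintro ⟨r, b, hb, rfl⟩
  obtain ⟨d, k⟩ := h.cell_c hb r y
  rw [k, ← h.sq] at e
  exact hy (h.s_mem_R e)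

theorem S_of (hu : u ∈ X.B) (e : u * X.x1 1 * u⁻¹ * X.x1 1 ∈ X.Z2) : u ∈ X.S := by
  have k : ∀ t ∈ X.S, ∀ a, t * X.x1 a * t⁻¹ * X.x1 1 ∈ X.Z2 → a = 1 := fun t ht a e => by
    obtain ⟨r, v, c, rfl⟩ := h.mem_S.1 ht
    rw [← h.q1, ← h.q1, h.conj_q, ← mul_one (X.q (0, 1, 0, 0)), ← h.z0, h.qz_mul] at e
    obtain ⟨y, e⟩ := h.q_mem_Z2 e
    exact f4_eq (by simpa [Aa] using congrArg (·.2.1) e)
  obtain ⟨t, ht, rfl | rfl | rfl⟩ := h.mem_B.1 hu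
  · exact ht
  · exact absurd (k t ht (om * om * 1) (by rw [← h.k1]; convert e using 2; group)) (by decide)
  · exact absurd (k t ht (om * om * (om * om * 1)) (by rw [← h.k1, ← h.k1]; convert e using 2; group))
      (by decide)

theorem CQ (hl : l ∈ X.P) (h1 : ∀ v, l * X.q v * l⁻¹ * (X.q v)⁻¹ ∈ X.Z) : l ∈ X.Q := by
  have a1 := h1 (0, 0, 0, 1)
  have a2 := h1 (0, 1, 0, 0)
  rw [h.qc] at a1
  rw [h.q1, h.x1i] at a2
  obtain ⟨r, v, c, rfl⟩ := h.mem_S.1 (h.S_of (h.B_of hl one_ne_zero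
    ((mul_mem_cancel_right (inv_mem (Z2_R (c_Z2 1)))).1 (Z_R a1))) (Z_Z2 a2))
  have a3 := h1 (0, 0, 1, 0)
  rw [h.conj_q, h.q2, h.x2i, ← h.q2, ← mul_one (X.q (0, 0, 1, 0)), ← h.z0, h.qz_mul] at a3
  obtain rfl : r = 0 := by simpa [Aa] using congrArg (·.2.2.2) (h.q_mem_Z a3)
  exact h.mem_Q.2 ⟨_, _, h.sq ..⟩

theorem CQZ (hl : l ∈ X.P) (h1 : l ∈ C[X.Q]) : l ∈ X.Z := by
  obtain ⟨v, c, rfl⟩ := h.mem_Q.1 (h.CQ hl fun v => by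
    rw [conj_eq_of_mem_C h1 (q_Q v), mul_inv_cancel]; exact one_mem _)
  obtain rfl : v = 0 := fm_nd fun w => h.z_inj _ (by
    have := h.q_conj v w c
    rwa [conj_eq_of_mem_C h1 (q_Q w), left_eq_mul] at this)
  rw [h.q0, one_mul]; exact z_Z c

theorem CS (hl : l ∈ X.L) (h1 : l ∈ C[X.S]) : l ∈ X.Z :=
  h.CQZ (h.cz l hl (mem_C'.1 h1 _ (z_S 1))) (C_anti Q_S h1)

theorem S_CZ2 (hl : l ∈ X.S) (h1 : l ∈ C[X.Z2]) : l ∈ X.R := by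
  obtain ⟨r, v, c, rfl⟩ := h.mem_S.1 hl
  have := h.conj_q r v (0, 0, 0, 1) c
  rw [conj_eq_of_mem_C h1 (h.qc 1 ▸ c_Z2 1), ← mul_one (X.q _), ← h.z0] at this
  exact h.s_R (by simpa [al, fm, be] using (h.inj_Q this).2.symm) _ _

theorem Z_eq : X.Z = Z[X.S] :=
  le_antisymm (le_inf Z_S (cents_symm h.S_CZ)) fun _ hu => h.CS (h.S_L hu.1) hu.2
theorem N_Z (hg : g ∈ N[X.S]) : g ∈ N[X.Z] := h.Z_eq ▸ norm_Z le_rfl hg

theorem mem_Z2' (hu : u ∈ X.S) (e : ∀ t ∈ X.S, u * t * u⁻¹ * t⁻¹ ∈ X.Z) : u ∈ X.Z2 := by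
  obtain ⟨v, c, rfl⟩ := h.mem_Q.1 (h.CQ (S_P hu) fun v => e _ (q_S v))
  have k : ∀ j, Aa j v + v = 0 := fun j => by
    have := inv_mem (e _ (a_S j))
    rw [show (X.q v * X.z c * X.xa j * (X.q v * X.z c)⁻¹ * (X.xa j)⁻¹)⁻¹ =
      X.xa j * (X.q v * X.z c) * (X.xa j)⁻¹ * (X.q v * X.z c)⁻¹ by group, ← cj_mul', h.a_q, h.a_z,
      mul_assoc (X.q _), ← h.z_add, ← h.sq v, h.inv_S, h.sq, h.qz_mul, Aa_zero] at this
    exact h.q_mem_Z this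
  have k1 := k 1
  have k2 := k om
  have : v = (0, 0, 0, v.2.2.2) := by clear k e hu; revert v; decide +kernel
  rw [this, h.qc]; exact mul_mem (c_Z2 _) (z_Z2 _)

theorem Z2_comm (hu : u ∈ X.Z2) {t : G} (ht : t ∈ X.S) : u * t * u⁻¹ * t⁻¹ ∈ X.Z := by
  obtain ⟨y, c, rfl⟩ := h.mem_Z2.1 hu
  obtain ⟨e, k⟩ := h.S_c ht y
  rw [show X.xc y * X.z c * t * (X.xc y * X.z c)⁻¹ * t⁻¹ =
    X.xc y * X.z c * (t * X.xc y * t⁻¹ * (t * X.z c * t⁻¹))⁻¹ by group, k, h.P_z (S_P ht), mul_assoc _ (X.z e),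
    ← h.z_add, h.eaZ2.inv (mul_mem (c_Z2 _) (z_Z2 _)), ← h.qc, h.qz_mul, V_add_self, h.q0, one_mul]
  exact z_Z _

theorem N_Z2 (hg : g ∈ N[X.S]) : g ∈ N[X.Z2] := mem_N_of_finite fun u hu =>
  h.mem_Z2' (conj_mem hg (Z2_S hu)) fun t ht => by
    have := conj_mem (h.N_Z hg) (h.Z2_comm hu (conj_mem' hg ht))
    rwa [show g * (u * (g⁻¹ * t * g) * u⁻¹ * (g⁻¹ * t * g)⁻¹) * g⁻¹ =
      g * u * g⁻¹ * t * (g * u * g⁻¹)⁻¹ * t⁻¹ by group] at this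

theorem R_eq : X.R = X.S ⊓ C[X.Z2] := le_antisymm (le_inf R_S h.R_CZ2) fun _ hu => h.S_CZ2 hu.1 hu.2
theorem N_R (hg : g ∈ N[X.S]) : g ∈ N[X.R] :=
  h.R_eq ▸ norm_inf (zpowers_le.2 hg) (norm_C (zpowers_le.2 (h.N_Z2 hg))) (mem_zpowers g)
theorem h_NR : X.h ∈ N[X.R] := h.N_R h.h_NS
theorem h_NZ : X.h ∈ N[X.Z] := h.N_Z h.h_NS
theorem h_NZ2 : X.h ∈ N[X.Z2] := h.N_Z2 h.h_NS
theorem k_NR : X.k ∈ N[X.R] := h.N_R h.k_NS

/-- `Q` is the largest normal `2`-subgroup of `P`. -/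
theorem le_Q (hM : TwoG M) (h1 : M ⊴ X.P) : M ≤ X.Q := fun u hu => by
  have le : M ≤ X.S := (h.syl.of_le S_P h.P_L).nml_le hM h1
  obtain ⟨e, k⟩ := h.S_c (le (h1.conj_mem wa_P hu)) 1
  obtain ⟨r, v, c, rfl⟩ := h.mem_S.1 (le hu)
  rw [← h.wa_b, cj_inv', cj_mul', cj_mul', ← h.wa_z, cj_mul', mul_left_inj, mul_right_inj, ← h.qb,
    h.conj_q] at k
  obtain rfl : r = 0 := by simpa [Aa] using congrArg (·.2.1) (h.inj_Q k).1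
  exact h.mem_Q.2 ⟨_, _, h.sq ..⟩

theorem N_Q (hg : g ∈ N[X.P]) : g ∈ N[X.Q] := mem_N_of_cj_le (h.le_Q ((h.twoS.of_le Q_S).cj g) (by
  have := (show X.Q ⊴ X.P from ⟨Q_P, h.P_NQ⟩).cj g
  rwa [cj_of_mem_N hg] at this))

theorem P_eq : X.P = X.L ⊓ C[X.Z] :=
  le_antisymm (le_inf h.P_L h.P_CZ) fun l hl => h.cz l hl.1 (mem_C'.1 hl.2 _ (z_Z 1))
theorem N_P (hg : g ∈ N[X.L]) (h1 : g ∈ N[X.Z]) : g ∈ N[X.P] :=
  h.P_eq ▸ norm_inf (zpowers_le.2 hg) (norm_C (zpowers_le.2 h1)) (mem_zpowers g)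

/-- `P` is perfect. -/
theorem P_perf : X.P ≤ ⁅X.P, X.P⁆ := by
  have n := der1_nml X.P
  have c : ∀ {a b : G}, a ∈ X.P → b ∈ X.P → a * b * a⁻¹ * b⁻¹ ∈ ⁅X.P, X.P⁆ := fun ha hb =>
    commutator_mem_commutator ha hb
  have a : ∀ x, X.xa x ∈ ⁅X.P, X.P⁆ := fun x => by
    have := c k_P (S_P (a_S (X := X) (om * om * x)))
    rwa [h.ka, h.ai, ← h.a_add, (by decide : ∀ x : F4, om * om * (om * om * x) + om * om * x = x)] at this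
  have a1 : ∀ x, X.x1 x ∈ ⁅X.P, X.P⁆ := fun x => by
    have := c k_P (S_P (x1_S (X := X) (om * om * x)))
    rwa [h.k1, h.x1i, ← h.x1_add, (by decide : ∀ x : F4, om * om * (om * om * x) + om * om * x = x)] at this
  have a2 : ∀ x, X.x2 x ∈ ⁅X.P, X.P⁆ := fun x => h.wa_1 x ▸ n.conj_mem wa_P (a1 x)
  have a3 : ∀ x, X.xc x ∈ ⁅X.P, X.P⁆ := fun x => by
    have := n.conj_mem (S_P (a_S 1)) (a2 x)
    rwa [h.a2, one_mul, mul_mem_cancel_left (a2 x)] at this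
  refine P_le (S_le a (Q_le (fun x => h.wa_c x ▸ n.conj_mem wa_P (a3 x)) (Z3_le a1 a2 a3 fun x => ?_)))
    ?_ ?_
  · have := mul_mem (a2 x) (a1 1)
    rwa [h.x21, mul_one, mul_mem_cancel_left (mul_mem (a1 1) (a2 x))] at this
  · have := c wa_P (k_P (X := X))
    rwa [h.wak, ← mul_inv_rev, inv_eq_of_mul_eq_one_right h.kkk] at this
  · have := n.conj_mem wa_P (a 1)
    rwa [h.wai, h.bra, mul_mem_cancel_right (a 1), mul_mem_cancel_left (a 1)] at this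

theorem L_perf : ⁅X.L, X.L⁆ = X.L :=
  (h.simple _ (der1_nml _)).resolve_left fun e =>
    h.z1 (e.le (der1_mono h.P_L (h.P_perf (Z_P (z_Z 1)))))

theorem act_Q (hg : g ∈ N[X.Q]) :
    ∃ (φ : V → V) (θ : V → F4), ∀ v, g * X.q v * g⁻¹ = X.q (φ v) * X.z (θ v) := by
  choose φ θ e using fun v => h.mem_Q.1 (conj_mem hg (q_Q v))
  exact ⟨φ, θ, e⟩

omit h in
theorem cj_trans {a b d : G} (h1 : ∃ m ∈ X.L, m * a * m⁻¹ = b) (h2 : ∃ m ∈ X.L, m * b * m⁻¹ = d) :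
    ∃ m ∈ X.L, m * a * m⁻¹ = d :=
  let ⟨m, hm, e⟩ := h1
  let ⟨n, hn, e'⟩ := h2
  ⟨n * m, mul_mem hn hm, by rw [← e', ← e]; group⟩

theorem b_c (u y c : F4) : X.xb u * (X.xc y * X.z c) * (X.xb u)⁻¹ = X.xc y * X.z (y * u + c) := by
  rw [← h.qb, ← h.qc, ← cj_mul', h.P_z (Q_P (q_Q _)), ← mul_one (X.q (u, 0, 0, 0)), ← h.z0, h.q_conj,
    mul_assoc, ← h.z_add]
  simp [fm, be]

/-- the involutions of `Z2` are long root elements. -/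
theorem long (e : y ≠ 0 ∨ c ≠ 0) : ∃ m ∈ X.L, m * (X.xc y * X.z c) * m⁻¹ = X.z 1 := by
  have lz : ∀ c, c ≠ 0 → ∃ m ∈ X.L, m * X.z c * m⁻¹ = X.z 1 := fun c hc =>
    let ⟨m, hm, e⟩ := h.longz hc; ⟨m, zpowers_le.2 h.hL hm, e⟩
  by_cases hy : y = 0
  · rw [hy, h.c0, one_mul]; exact lz c (e.resolve_left fun k => k hy)
  · refine cj_trans ⟨_, h.bL (y⁻¹ * c), h.b_c ..⟩ (cj_trans ⟨_, h.wbL, ?_⟩ (lz y hy))
    rw [mul_inv_cancel_left₀ hy, f4_add_self, h.z0, mul_one, h.wb_c]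

theorem long' (hu : u ∈ X.Z2) (u1 : u ≠ 1) : ∃ m ∈ X.L, m * u * m⁻¹ = X.z 1 := by
  obtain ⟨y, c, rfl⟩ := h.mem_Z2.1 hu
  refine h.long (not_and_or.1 fun k => u1 ?_)
  rw [k.1, k.2, h.c0, h.z0, mul_one]

theorem to_S (hl : l ∈ X.L) (l2 : TwoE l) : ∃ m ∈ X.L, m * l * m⁻¹ ∈ X.S :=
  let ⟨m, hm, e⟩ := Sylow_Jsub p2 h.syl l2.isPi (zpowers_le.2 hl)
  ⟨m, hm, e (conj_mem_cj m (mem_zpowers l))⟩

theorem sq_S (r : F4) (v : V) (c : F4) :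
    X.s r v c * X.s r v c = X.q (Aa r v + v) * X.z (al r v + be (Aa r v) v) := by
  rw [h.mul_S, f4_add_self, h.sq, (by decide : ∀ a b : F4, a + b + a = b)]

theorem invQ (l1 : X.q v * X.z c ≠ 1) (l2 : be v v = 0) :
    (∃ m ∈ X.L, m * (X.q v * X.z c) * m⁻¹ = X.z 1) ∨ ∃ m ∈ X.L, m * (X.q v * X.z c) * m⁻¹ = X.x2 1 := by
  let Rv : V → Prop := fun w => ∃ d, ∃ m ∈ X.L, m * (X.q v * X.z c) * m⁻¹ = X.q w * X.z d
  have ra : ∀ r w, Rv w → Rv (Aa r w) := fun r w ⟨d, k⟩ => ⟨_, cj_trans k ⟨_, h.aL r, by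
    rw [← cj_mul', h.a_q, h.a_z, mul_assoc, ← h.z_add]⟩⟩
  have rw' : ∀ w, Rv w → Rv (Wa w) := fun w ⟨d, k⟩ => ⟨_, cj_trans k ⟨_, h.waL, by
    rw [← cj_mul', h.wa_q, h.wa_z, mul_assoc, ← h.z_add]⟩⟩
  have r0 : Rv v := ⟨c, 1, one_mem _, by simp⟩
  obtain ⟨k, y, e, d, hd⟩ : ∃ k y, k * y = 0 ∧ Rv (0, 0, k, y) := by
    have : ∀ v : V, be v v = 0 → ∃ r r' k y, k * y = 0 ∧ (Aa r v = (0, 0, k, y) ∨ Wa (Aa r v) = (0, 0, k, y) ∨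
      Wa (Aa r' (Wa (Aa r v))) = (0, 0, k, y)) := by decide +kernel
    obtain ⟨r, r', k, y, e, a | a | a⟩ := this v l2
    exacts [⟨k, y, e, a ▸ ra r _ r0⟩, ⟨k, y, e, a ▸ rw' _ (ra r _ r0)⟩,
      ⟨k, y, e, a ▸ rw' _ (ra r' _ (rw' _ (ra r _ r0)))⟩]
  by_cases hk : k = 0
  · subst hk
    refine .inl (cj_trans hd (h.long' (h.qc y ▸ mul_mem (c_Z2 _) (z_Z2 _)) fun e => ?_))
    obtain ⟨m, -, a⟩ := hd
    exact l1 (conj_eq_one_iff'.1 (a.trans e))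
  obtain rfl := (mul_eq_zero.1 e).resolve_left hk
  have e1 : X.x1 (k⁻¹ * d) * (X.q (0, 0, k, 0) * X.z d) * (X.x1 (k⁻¹ * d))⁻¹ = X.x2 k := by
    rw [← h.q1, ← cj_mul', h.P_z (Q_P (q_Q _)), ← mul_one (X.q (0, _, 0, 0)), ← h.z0, h.q_conj, mul_assoc,
      ← h.z_add, h.q2]
    simp [fm, be, hk, h.z0]
  refine .inr (cj_trans hd (cj_trans ⟨_, h.x1L _, e1⟩ ?_))
  rcases (by decide : ∀ c : F4, c ≠ 0 → c = 1 ∨ om * c = 1 ∨ om * (om * c) = 1) k hk with e | e | e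
  · exact ⟨1, one_mem _, by simp [e]⟩
  · exact ⟨_, h.kL, by rw [h.k2, e]⟩
  · exact cj_trans ⟨_, h.kL, h.k2 k⟩ ⟨_, h.kL, by rw [h.k2, e]⟩

/-- two classes of involutions. -/
theorem inv (hl : l ∈ X.L) (l1 : l ≠ 1) (l2 : l * l = 1) :
    (∃ m ∈ X.L, m * l * m⁻¹ = X.z 1) ∨ ∃ m ∈ X.L, m * l * m⁻¹ = X.x2 1 := by
  suffices ∃ m ∈ X.L, m * l * m⁻¹ ∈ X.Q by
    obtain ⟨m, hm, e⟩ := this
    obtain ⟨v, c, e⟩ := h.mem_Q.1 e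
    exact (h.invQ (e ▸ fun k => l1 (conj_eq_one_iff'.1 k)) (h.z_inj _ (by
      rw [← h.qz_sq v c, ← e]; exact conj_sq l2 m))).imp (cj_trans ⟨m, hm, e⟩) (cj_trans ⟨m, hm, e⟩)
  obtain ⟨m, hm, e⟩ := h.to_S hl (twoE_of_sq l2)
  obtain ⟨r, v, c, e⟩ := h.mem_S.1 e
  by_cases hr : r = 0
  · exact ⟨m, hm, by rw [e, hr, h.sq]; exact mul_mem (q_Q _) (z_Q _)⟩
  have k := (h.one_Q ((h.sq_S r v c).symm.trans (e ▸ conj_sq l2 m))).1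
  obtain ⟨d, k1⟩ := h.conj_S 0 r (r⁻¹ * v.2.1, 0, 0, 0) v 0 c
  have k2 : ∀ (r : F4) (v : V), r ≠ 0 → Aa r v + v = 0 → ∃ k y,
    Aa 0 (Aa r (r⁻¹ * v.2.1, 0, 0, 0) + v + (r⁻¹ * v.2.1, 0, 0, 0)) = (0, 0, k, y) := by decide +kernel
  obtain ⟨j, y, k3⟩ := k2 r v hr k
  obtain ⟨n, hn, k4⟩ := cj_trans (cj_trans ⟨m, hm, e⟩ ⟨_, h.S_L (s_S _ _ _), k1⟩) ⟨_, h.wbL, rfl⟩
  refine ⟨n, hn, k4 ▸ ?_⟩
  simp only [k3, s, q, h.b0, h.x10, one_mul, ← cj_mul', h.wb_a, h.wb_2, h.wb_c, h.wb_z]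
  exact mul_mem (mul_mem (Z3_Q (x1_Z3 _)) (mul_mem (Z3_Q (x2_Z3 _)) (z_Q _))) (c_Q _)

/-- squares of elements of order `4` are long root elements. -/
theorem sq4 (hl : l ∈ X.L) (l1 : l * l ≠ 1) (l2 : l * l * (l * l) = 1) :
    ∃ m ∈ X.L, m * (l * l) * m⁻¹ = X.z 1 := by
  obtain ⟨m, hm, e⟩ := h.to_S hl (piElt_of_pow_eq_one (piNat_self_pow p2 2)
    (by rw [show 2 ^ 2 = 2 + 2 by rfl, pow_add, pow_two, l2]))
  obtain ⟨r, v, c, e⟩ := h.mem_S.1 e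
  have e1 : m * (l * l) * m⁻¹ = _ := (cj_mul' m l l).symm.trans (e ▸ h.sq_S r v c)
  have k := h.z_inj _ ((h.qz_sq _ _).symm.trans (e1 ▸ conj_sq l2 m))
  obtain ⟨y, k1⟩ := (by decide +kernel : ∀ (r : F4) (v : V), be (Aa r v + v) (Aa r v + v) = 0 →
    ∃ y, Aa r v + v = (0, 0, 0, y)) r v k
  rw [k1, h.qc] at e1
  exact cj_trans ⟨m, hm, e1⟩ (h.long' (mul_mem (c_Z2 _) (z_Z2 _))
    fun k => l1 (conj_eq_one_iff'.1 (e1.trans k)))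

theorem rank6 (hE : EA E) (h1 : E ≤ X.L) : ♯E ≤ 64 := by
  obtain ⟨m, -, le⟩ := Sylow_Jsub p2 h.syl hE.two h1
  rw [← card_cj m]
  replace hE := H7.SJ.ea_cj hE m
  generalize H24.cj m E = E at hE le
  have key : ∀ f : F4 → V → F4 × F4, (∀ r v c r' v' c', X.s r v c ∈ E → X.s r' v' c' ∈ E →
      f r v = f r' v' → r = r' ∧ v = v') → ♯E ≤ 64 := fun f hf => by
    choose r v c e using fun u : E => h.mem_S.1 (le u.2)
    refine (Nat.card_le_card_of_injective (fun u => (f (r u) (v u), c u)) fun u u' k => ?_).trans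
      (by simp [F4.card])
    obtain ⟨k1, k2⟩ := Prod.ext_iff.1 k
    obtain ⟨a, b⟩ := hf _ _ _ _ _ _ (e u ▸ u.2) (e u' ▸ u'.2) k1
    exact Subtype.ext (by rw [e u, e u', a, b, show c u = c u' from k2])
  have sq : ∀ {r v c}, X.s r v c ∈ E → Aa r v = v ∧ al r v + be (Aa r v) v = 0 := fun {r v c} hu =>
    let k := h.one_Q ((h.sq_S r v c).symm.trans (hE.sq hu)); ⟨V_eq k.1, k.2⟩
  have cm : ∀ {r v c r' v' c'}, X.s r v c ∈ E → X.s r' v' c' ∈ E → Aa r' v + v' = Aa r v' + v ∧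
      c + al r' v + c' + be (Aa r' v) v' = c' + al r v' + c + be (Aa r v') v := fun a b => by
    have := hE.comm a b
    rw [h.mul_S, h.mul_S] at this
    exact (h.inj_S this).2
  have fz : ∀ {v c v' c'}, X.s 0 v c ∈ E → X.s 0 v' c' ∈ E → fm v v' = 0 := fun {v c v' c'} a b => by
    have := (cm a b).2
    simp only [Aa_zero, al_zero, add_zero] at this
    have t : be v v' = be v' v := add_left_cancel (this.trans (by rw [add_comm c' c]))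
    rw [fm, t, f4_add_self]
  have ml : ∀ {r v c v' c'}, X.s r v c ∈ E → X.s r v' c' ∈ E → ∃ d, X.s 0 (v + v') d ∈ E := fun a b =>
    ⟨_, by have := mul_mem a b; rwa [h.mul_S, f4_add_self, (sq a).1] at this⟩
  by_cases hr : ∃ r v c, r ≠ 0 ∧ X.s r v c ∈ E
  · obtain ⟨r0, v0, c0, hr, h0⟩ := hr
    refine key (fun r v => (r, v.2.2.2)) fun r v c r' v' c' a b e => ?_
    obtain ⟨rfl, e⟩ := Prod.ext_iff.1 e
    obtain ⟨d, k⟩ := ml a b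
    have k1 := (cm k h0).1
    have k2 := (sq k).2
    rw [Aa_zero, add_comm v0, add_left_inj] at k1
    rw [al_zero, Aa_zero, zero_add] at k2
    exact ⟨rfl, V_eq ((by decide +kernel : ∀ (r : F4) (w : V), r ≠ 0 → Aa r w = w → be w w = 0 →
      w.2.2.2 = 0 → w = 0) r0 _ hr k1 k2 (by simp [show v.2.2.2 = v'.2.2.2 from e]))⟩
  push Not at hr
  replace hr : ∀ {r v c}, X.s r v c ∈ E → r = 0 := fun a => by_contra fun k => hr _ _ _ k a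
  have key' : ∀ f : V → F4 × F4, (∀ v w, f (v + w) = f v + f w) →
      (∀ v c, X.s 0 v c ∈ E → f v = 0 → v = 0) → ♯E ≤ 64 := fun f h1 h2 =>
    key (fun _ v => f v) fun r v c r' v' c' a b e => by
      obtain rfl := hr a
      obtain rfl := hr b
      obtain ⟨d, k⟩ := ml a b
      exact ⟨rfl, V_eq (h2 _ d k (by rw [h1, show f v = f v' from e]; exact Prod.ext (f4_add_self _) (f4_add_self _)))⟩
  by_cases a1 : ∃ v c, v.1 ≠ 0 ∧ X.s 0 v c ∈ E <;>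
    by_cases a2 : ∃ v c, v.1 = 0 ∧ v.2.1 ≠ 0 ∧ X.s 0 v c ∈ E
  · obtain ⟨v0, c0, b1, b2⟩ := a1
    obtain ⟨⟨_, s1, k1, y1⟩, c1, rfl, b3, b4⟩ := a2
    refine key' (fun v => (v.1, v.2.1)) (fun _ _ => rfl) fun ⟨_, _, k, y⟩ c a e => ?_
    obtain ⟨rfl, rfl⟩ := Prod.ext_iff.1 e
    obtain rfl : k = 0 := by simpa [fm, be, b3] using fz a b4
    obtain rfl : y = 0 := by simpa [fm, be, b1] using fz a b2
    rfl
  · obtain ⟨v0, c0, b1, b2⟩ := a1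
    refine key' (fun v => (v.1, v.2.2.1)) (fun _ _ => rfl) fun ⟨_, j, _, y⟩ c a e => ?_
    obtain ⟨rfl, rfl⟩ := Prod.ext_iff.1 e
    obtain rfl : j = 0 := by_contra fun k => a2 ⟨_, c, rfl, k, a⟩
    obtain rfl : y = 0 := by simpa [fm, be, b1] using fz a b2
    rfl
  · obtain ⟨⟨_, s1, k1, y1⟩, c1, rfl, b3, b4⟩ := a2
    refine key' (fun v => (v.2.1, v.2.2.2)) (fun _ _ => rfl) fun ⟨u, _, k, _⟩ c a e => ?_
    obtain ⟨rfl, rfl⟩ := Prod.ext_iff.1 e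
    obtain rfl : u = 0 := by_contra fun k => a1 ⟨_, c, k, a⟩
    obtain rfl : k = 0 := by simpa [fm, be, b3] using fz a b4
    rfl
  · refine key' (fun v => (v.2.2.1, v.2.2.2)) (fun _ _ => rfl) fun ⟨u, j, _, _⟩ c a e => ?_
    obtain ⟨rfl, rfl⟩ := Prod.ext_iff.1 e
    obtain rfl : u = 0 := by_contra fun k => a1 ⟨_, c, k, a⟩
    obtain rfl : j = 0 := by_contra fun k => a2 ⟨_, c, rfl, k, a⟩
    rfl

theorem nml_a (h2 : X.S ≤ N[M]) (e : ∃ c, X.q v * X.z c ∈ M) (j : F4) :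
    ∃ c, X.q (Aa j v + v) * X.z c ∈ M := by
  obtain ⟨c, e⟩ := e
  have := mul_mem (conj_mem (h2 (a_S j)) e) e
  rw [← cj_mul', h.a_q, h.a_z, mul_assoc (X.q _), ← h.z_add, h.qz_mul] at this
  exact ⟨_, this⟩

theorem nml_s (h2 : X.S ≤ N[M]) (e : X.s r v c ∈ M) (j : F4) : ∃ c, X.xc (r * j) * X.z c ∈ M := by
  have := mul_mem e (conj_mem (h2 (q_S (0, 0, j, 0))) (inv_mem e))
  rw [← mul_assoc, ← mul_assoc, h.conj_q, h.q2, h.x2i, ← h.q2, ← mul_one (X.q (0, 0, j, 0)), ← h.z0,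
    h.qz_mul, show Aa r (0, 0, j, 0) + (0, 0, j, 0) = (0, 0, 0, r * j) by simp [Aa], h.qc] at this
  exact ⟨_, this⟩

theorem nml_c (h2 : X.S ≤ N[M]) (hy : y ≠ 0) (e : X.xc y * X.z c ∈ M) : X.Z ≤ M := Z_le fun d => by
  have := conj_mem (h2 (b_S (y⁻¹ * d))) e
  rwa [h.b_c, mul_inv_cancel_left₀ hy, add_comm, h.z_add, ← mul_assoc, mul_mem_cancel_left e] at this

/-- normal subgroups of `S`. -/
theorem nml_Z (h1 : M ≤ X.S) (h2 : X.S ≤ N[M]) (h3 : ¬ M ≤ X.Z) :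
    X.Z ≤ M ∧ ∃ y c, y ≠ 0 ∧ X.xc y * X.z c ∈ M := by
  suffices ∃ y c, y ≠ 0 ∧ X.xc y * X.z c ∈ M from
    let ⟨_, _, a, b⟩ := this; ⟨h.nml_c h2 a b, this⟩
  obtain ⟨u, hu, k⟩ := SetLike.not_le_iff_exists.1 h3
  obtain ⟨r, v, c, rfl⟩ := h.mem_S.1 (h1 hu)
  by_cases hr : r = 0
  · subst hr
    rw [h.sq] at hu k
    have : ∀ v : V, v ≠ 0 → ∃ j j' y, y ≠ 0 ∧ (v = (0, 0, 0, y) ∨ Aa j v + v = (0, 0, 0, y) ∨
      Aa j' (Aa j v + v) + (Aa j v + v) = (0, 0, 0, y)) := by decide +kernel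
    obtain ⟨j, j', y, hy, a⟩ := this v fun e => k (by rw [e, h.q0, one_mul]; exact z_Z c)
    have : ∃ c, X.q (0, 0, 0, y) * X.z c ∈ M := by
      rcases a with a | a | a
      exacts [a ▸ ⟨c, hu⟩, a ▸ h.nml_a h2 ⟨c, hu⟩ j, a ▸ h.nml_a h2 (h.nml_a h2 ⟨c, hu⟩ j) j']
    obtain ⟨d, e⟩ := this
    exact ⟨y, d, hy, h.qc y ▸ e⟩
  · obtain ⟨d, e⟩ := h.nml_s h2 hu 1
    exact ⟨_, d, mul_ne_zero hr one_ne_zero, e⟩

theorem nml_Z2 (hM : EA M) (h1 : M ≤ X.S) (h2 : X.S ≤ N[M]) (h3 : ¬ M ≤ X.Z2) : X.Z2 ≤ M := by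
  have hZ := (h.nml_Z h1 h2 fun e => h3 (e.trans Z_Z2)).1
  suffices ∀ y, ∃ c, X.xc y * X.z c ∈ M from Z2_le
    (fun y => let ⟨c, e⟩ := this y; (mul_mem_cancel_right (hZ (z_Z c))).1 e) fun c => hZ (z_Z c)
  intro y
  obtain ⟨u, hu, k⟩ := SetLike.not_le_iff_exists.1 h3
  obtain ⟨r, v, c, rfl⟩ := h.mem_S.1 (h1 hu)
  by_cases hr : r = 0
  · subst hr
    rw [h.sq] at hu k
    have sq : ∀ {v}, (∃ c, X.q v * X.z c ∈ M) → be v v = 0 := fun ⟨c, e⟩ =>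
      h.z_inj _ ((h.qz_sq _ c).symm.trans (hM.sq e))
    obtain ⟨j, a⟩ := (by decide +kernel : ∀ (v : V) (y : F4), v ≠ (0, 0, 0, v.2.2.2) → be v v = 0 →
      be (Aa 1 v + v) (Aa 1 v + v) = 0 → ∃ j, Aa j v + v = (0, 0, 0, y)) v y
      (fun e => k (by rw [e, h.qc]; exact mul_mem (c_Z2 _) (z_Z2 _))) (sq ⟨c, hu⟩) (sq (h.nml_a h2 ⟨c, hu⟩ 1))
    exact h.qc y ▸ a ▸ h.nml_a h2 ⟨c, hu⟩ j
  · have := h.nml_s h2 hu (r⁻¹ * y)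
    rwa [mul_inv_cancel_left₀ hr] at this

end Dat.Fr

end H24.G4
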