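import Mathlib
import Cfsg.Agent.H24.Gw1

/-! Automorphisms of `2^(2+8) : A₅`. -/

set_option autoImplicit false
set_option linter.unusedSectionVars false
set_option synthInstance.maxSize 4000

namespace H24.G4.B1

open H26 H26.Gold Subgroup Dat
open H9 (F4)
open H7.SJ (p2)
open H24.Sz (om f4_add_self)
open scoped commutatorElement

variable {G : Type*} [Group G] [Finite G] {X : Dat G} {g p a b l : G} {f : V → V} {θ : V → F4}

theorem fa (v w u : V) : fm (v + w) u = fm v u + fm w u := by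
  simp only [fm, be, Prod.fst_add, Prod.snd_add]; ring
theorem fs (c : F4) (v u : V) : fm (c • v) u = c * fm v u := by
  simp only [fm, be, Prod.smul_fst, Prod.smul_snd, smul_eq_mul]; ring
theorem fs' (c : F4) (v u : V) : fm u (c • v) = c * fm u v := by
  simp only [fm, be, Prod.smul_fst, Prod.smul_snd, smul_eq_mul]; ring

theorem solve {c A B x y z : V} (h1 : c + A + B = x) (h2 : c + (om * om) • A + om • B = y)
    (h3 : c + om • A + (om * om) • B = z) :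
    A = x + om • y + (om * om) • z ∧ B = x + (om * om) • y + om • z ∧ c = x + y + z := by
  have k : ∀ c A B : F4, A = c + A + B + om * (c + om * om * A + om * B) + om * om * (c + om * A + om * om * B) ∧
      B = c + A + B + om * om * (c + om * om * A + om * B) + om * (c + om * A + om * om * B) ∧
      c = c + A + B + (c + om * om * A + om * B) + (c + om * A + om * om * B) := by decide
  subst h1 h2 h3
  exact ⟨Prod.ext (k _ _ _).1 (Prod.ext (k _ _ _).1 (Prod.ext (k _ _ _).1 (k _ _ _).1)),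
    Prod.ext (k _ _ _).2.1 (Prod.ext (k _ _ _).2.1 (Prod.ext (k _ _ _).2.1 (k _ _ _).2.1)),
    Prod.ext (k _ _ _).2.2 (Prod.ext (k _ _ _).2.2 (Prod.ext (k _ _ _).2.2 (k _ _ _).2.2))⟩

variable (h : X.Fr)
include h

theorem key {v w v' w' : V} {c d : F4} (h1 : g * X.q v * g⁻¹ = X.q v' * X.z c)
    (h2 : g * X.q w * g⁻¹ = X.q w' * X.z d) : g * X.z (fm v w) * g⁻¹ = X.z (fm v' w') := by
  have k : g * (X.q v * X.q w) * g⁻¹ = g * (X.q w * X.q v * X.z (fm v w)) * g⁻¹ := by rw [h.q_comm]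
  rw [← cj_mul', ← cj_mul', ← cj_mul', h1, h2, h.qz_mul, h.qz_mul, add_comm w', mul_assoc (X.q _),
    mul_right_inj, ← inv_mul_eq_iff_eq_mul, h.zi, ← h.z_add] at k
  rw [← k, fm]
  congr 1
  exact (by decide : ∀ a b c d : F4, d + c + b + (c + d + a) = a + b) _ _ _ _

section
variable (hZ : g ∈ C[X.Z]) (e : ∀ v, g * X.q v * g⁻¹ = X.q (f v) * X.z (θ v))
include hZ e

theorem az (v : V) (c : F4) : g * (X.q v * X.z c) * g⁻¹ = X.q (f v) * X.z (θ v + c) := by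
  rw [← cj_mul', e, conj_eq_of_mem_C hZ (z_Z c), mul_assoc, h.z_add]

theorem mu (v w : V) : f (v + w) = f v + f w ∧ θ (v + w) + be v w = θ v + θ w + be (f v) (f w) := by
  have := az h hZ e (v + w) (be v w)
  rw [← h.q_mul, ← cj_mul', e, e, h.qz_mul] at this
  exact ⟨(h.inj_Q this).1.symm, (h.inj_Q this).2.symm⟩

theorem ff (v w : V) : fm (f v) (f w) = fm v w :=
  h.z_eq ((key h (e v) (e w)).symm.trans (conj_eq_of_mem_C hZ (z_Z _)))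

theorem sm (c : F4) (v : V) : f (c • v) = c • f v := V_eq (fm_nd fun u => by
  obtain ⟨u, rfl⟩ := Finite.surjective_of_injective (f := f) (fun v w k => V_eq (fm_nd fun u => by
    rw [← ff h hZ e, (mu h hZ e _ _).1, k, V_add_self]; simp [fm, be])) u
  rw [fa, fs, ff h hZ e, ff h hZ e, fs, f4_add_self])

theorem ex {μ l : F4} (f0 : f (1, 0, 0, 0) = (μ, 0, 0, 0)) (f3 : f (0, 0, 0, 1) = (0, 0, 0, l)) (v : V) :
    f v = (v.1 * μ, 0, 0, v.2.2.2 * l) + v.2.1 • f (0, 1, 0, 0) + v.2.2.1 • f (0, 0, 1, 0) := by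
  conv_lhs => rw [show v = v.1 • (1, 0, 0, 0) + v.2.2.2 • (0, 0, 0, 1) + v.2.1 • (0, 1, 0, 0) +
    v.2.2.1 • (0, 0, 1, 0) by simp]
  simp only [(mu h hZ e _ _).1, sm h hZ e, f0, f3]
  simp

theorem eqv {r s c : F4} {w : V} (hs : g * X.xa r * g⁻¹ = X.s s w c) (v : V) :
    f (Aa r v) = Aa s (f v) ∧ θ (Aa r v) + al r v = al s (f v) + fm w (f v) + θ v := by
  have := az h hZ e (Aa r v) (al r v)
  rw [← h.a_q, ← cj_mul', ← cj_mul', ← cj_inv', hs, e, ← cj_mul', h.conj_q, h.P_z (S_P (s_S _ _ _)),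
    mul_assoc, ← h.z_add] at this
  exact ⟨(h.inj_Q this).1.symm, (h.inj_Q this).2.symm⟩

end

theorem autP (h1 : g ∈ N[X.P]) (h2 : g ∈ C[X.Z]) (h3 : ∀ p ∈ X.P, g * p * g⁻¹ * p⁻¹ ∈ X.Q) :
    ∃ m ∈ X.Q, g * m ∈ C[X.P] := by
  obtain ⟨f, θ, e⟩ := h.act_Q (h.N_Q h1)
  have ea : ∀ r, ∃ w, ∀ v, f (Aa r v) = Aa r (f v) ∧
      θ (Aa r v) + al r v = al r (f v) + fm w (f v) + θ v := fun r => by
    obtain ⟨w, c, k⟩ := h.mem_Q.1 (h3 _ (S_P (a_S r)))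
    refine ⟨_, eqv h h2 e (c := _) (by
      rw [eq_mul_of_mul_inv_eq k, ← h.sq, ← h.sa, h.mul_S, zero_add])⟩
  obtain ⟨w, ew⟩ : ∃ w, ∀ v, f (Wa v) = Wa (f v) ∧
      θ (Wa v) + be v v = be (f v) (f v) + θ v + fm w (Wa (f v)) := by
    obtain ⟨w, c, k⟩ := h.mem_Q.1 (h3 _ wa_P)
    refine ⟨w, fun v => ?_⟩
    have := az h h2 e (Wa v) (be v v)
    rw [← h.wa_q, ← cj_mul', ← cj_mul', ← cj_inv', eq_mul_of_mul_inv_eq k, e,
      show X.q w * X.z c * X.wa * (X.q (f v) * X.z (θ v)) * (X.q w * X.z c * X.wa)⁻¹ =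
        X.q w * X.z c * (X.wa * (X.q (f v) * X.z (θ v)) * X.wa⁻¹) * (X.q w * X.z c)⁻¹ by group,
      ← cj_mul' X.wa, h.wa_q, h.wa_z, mul_assoc (X.q (Wa _)), ← h.z_add, ← cj_mul', h.q_conj,
      h.P_z (Q_P (mul_mem (q_Q _) (z_Q _))), mul_assoc, ← h.z_add, add_comm] at this
    exact ⟨(h.inj_Q this).1.symm, (h.inj_Q this).2.symm⟩
  choose u ea using ea
  obtain ⟨l, f3⟩ := (by decide +kernel : ∀ v : V, v = Aa 1 v → v = Aa om v → ∃ l, v = (0, 0, 0, l))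
    (f (0, 0, 0, 1)) (ea 1 (0, 0, 0, 1)).1 (ea om (0, 0, 0, 1)).1
  have f0 : f (1, 0, 0, 0) = (l, 0, 0, 0) := (ew (0, 0, 0, 1)).1.trans (by rw [f3]; rfl)
  have k := ff h h2 e (1, 0, 0, 0) (0, 0, 0, 1)
  rw [f0, f3] at k
  obtain rfl := (by decide : ∀ l : F4, fm (l, 0, 0, 0) (0, 0, 0, l) = fm (1, 0, 0, 0) (0, 0, 0, 1) → l = 1) l k
  have t : ∀ r, r ≠ 0 → (1, 0, 0, 1) + r • f (0, 1, 0, 0) + (r * r) • f (0, 0, 1, 0) =
      Aa r (1, 0, 0, 0) := fun r hr => by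
    conv_rhs => rw [← f0, ← (ea r _).1, ex h h2 e f0 f3]
    simp [Aa, (by decide : ∀ r : F4, r ≠ 0 → r * r * r = 1) r hr]
  obtain ⟨s1, s2, -⟩ := solve (by simpa using t 1 one_ne_zero)
    ((by decide : om * om * (om * om) = om) ▸ t (om * om) (by decide)) (t om (by decide))
  obtain rfl : f = id := funext fun v => by
    rw [ex h h2 e f0 f3, s1.trans (c := (0, 1, 0, 0)) (by decide), s2.trans (c := (0, 0, 1, 0)) (by decide)]
    simp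
  have ad : ∀ v w, θ (v + w) = θ v + θ w := fun v w => add_right_cancel (mu h h2 e v w).2
  have t1 : ∀ (F : V → V) (L : V → F4), (∀ v, θ (F v) = θ v + L v) → (∀ v, F (om • v) = om • F v) →
      (∀ v, L (om • v) = om * L v) → ∀ v, θ (om • v) = om * θ v → θ (om • F v) = om * θ (F v) :=
    fun F L k1 k2 k3 v k => by rw [← k2, k1, k1, k, k3, mul_add]
  have ta : ∀ r v, θ (om • v) = om * θ v → θ (om • Aa r v) = om * θ (Aa r v) := fun r =>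
    t1 _ (fm (u r)) (fun v => add_right_cancel ((ea r v).2.trans (by simp only [id]; ring)))
      (by revert r; decide +kernel) fun v => fs' ..
  have tw := t1 Wa (fun v => fm w (Wa v)) (fun v => add_right_cancel ((ew v).2.trans (by
    simp only [id]; ring))) (fun _ => rfl) fun v => fs' om (Wa v) w
  have t3 : ∀ y, θ (om • (0, 0, 0, y)) = om * θ (0, 0, 0, y) := fun y => by
    have k : ∀ y, θ (0, 0, 0, y) = y * fm (u 1) (0, 0, 1, 0) := fun y => by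
      have := (ea 1 (0, 0, y, 0)).2
      rw [show Aa 1 (0, 0, y, 0) = (0, 0, y, 0) + (0, 0, 0, y) by simp [Aa], ad] at this
      rw [← fs']
      refine add_left_cancel (a := θ (0, 0, y, 0)) ?_
      simpa [al, add_comm] using this
    simp only [Prod.smul_mk, smul_eq_mul, mul_zero, k, mul_assoc]
  have t4 : ∀ v, θ (om • v) = om * θ v := fun v => by
    obtain ⟨x, y, s, t, rfl⟩ := (by decide +kernel : ∀ v : V, ∃ x y s t, v = Aa 0 (Wa (0, 0, 0, x)) +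
      Aa 1 (Wa (0, 0, 0, y)) + Aa om (Wa (0, 0, 0, s)) + Aa (om + 1) (Wa (0, 0, 0, t))) v
    simp only [smul_add, ad, ta _ _ (tw _ (t3 _)), mul_add]
  have t5 : ∀ (c : F4) v, θ (c • v) = c * θ v := fun c v => by
    rcases (by decide : ∀ c : F4, c = 0 ∨ c = 1 ∨ c = om ∨ c = om * om) c with rfl | rfl | rfl | rfl
    · simpa using ad 0 0
    · simp
    · exact t4 v
    · rw [mul_smul, t4, t4, mul_assoc]
  have t6 : ∀ v, θ v = fm (θ (0, 0, 0, 1), θ (0, 0, 1, 0), θ (0, 1, 0, 0), θ (1, 0, 0, 0)) v := fun v => by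
    conv_lhs => rw [show v = v.1 • (1, 0, 0, 0) + v.2.2.2 • (0, 0, 0, 1) + v.2.1 • (0, 1, 0, 0) +
      v.2.2.1 • (0, 0, 1, 0) by simp]
    simp only [ad, t5, fm, be]; ring
  generalize (θ (0, 0, 0, 1), θ (0, 0, 1, 0), θ (0, 1, 0, 0), θ (1, 0, 0, 0)) = m at t6
  refine ⟨_, q_Q m, ?_⟩
  have n1 := mul_mem h1 (norm_self _ (Q_P (q_Q m)))
  have n2 : g * X.q m ∈ C[X.Q] := mem_C'.2 fun x hx => by
    obtain ⟨v, c, rfl⟩ := h.mem_Q.1 hx
    have := h.q_conj m v 0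
    rw [h.z0, mul_one] at this
    rw [← mul_inv_eq_iff_eq_mul, ← cj_mul', conj_eq_of_mem_C (mul_mem h2 (h.P_CZ (Q_P (q_Q m)))) (z_Z c),
      show g * X.q m * X.q v * (g * X.q m)⁻¹ = g * (X.q m * X.q v * (X.q m)⁻¹) * g⁻¹ by group, this,
      az h h2 e, ← t6, f4_add_self, h.z0, mul_one, id]
  generalize g * X.q m = g at n1 n2
  have n3 : ∀ p ∈ X.P, ∃ c, g * p * g⁻¹ = X.z c * p := fun p hp => by
    obtain ⟨c, k⟩ := h.mem_Z.1 (h.CQZ (mul_mem (conj_mem n1 hp) (inv_mem hp)) (by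
      rw [mul_assoc g, mul_assoc g]; exact mul_mem n2 (conj_mem (N_le_NC _ (h.P_NQ hp)) (inv_mem n2))))
    exact ⟨c, eq_mul_of_mul_inv_eq k⟩
  refine mem_C_iff_le_C1.2 (h.P_perf.trans (commutator_le.2 fun a ha b hb => ?_))
  obtain ⟨c, k1⟩ := n3 a ha
  obtain ⟨d, k2⟩ := n3 b hb
  have z : ∀ c, ∀ x ∈ X.P, X.z c * x * (X.z c)⁻¹ = x := fun c x hx =>
    conj_eq_of_mem_C (cents_symm h.P_CZ (z_Z c)) hx
  rw [mem_C1_comm, mem_C1_iff_conj, commutatorElement_def, ← cj_mul', ← cj_mul', ← cj_mul', ← cj_inv',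
    ← cj_inv', k1, k2, show X.z c * a * (X.z d * b) * (X.z c * a)⁻¹ =
      X.z c * (a * X.z d * a⁻¹ * (a * b * a⁻¹)) * (X.z c)⁻¹ by group, h.P_z ha,
    z c _ (mul_mem (Z_P (z_Z d)) (conj_mem (norm_self _ ha) hb)),
    ← z d _ (mul_mem (conj_mem (norm_self _ ha) hb) (inv_mem hb))]
  group

theorem CR (hl : l ∈ X.L) (h1 : l ∈ C[X.R]) : l ∈ X.Z2 := by
  have k : ∀ w : V, w.1 = 0 → l * X.q w * l⁻¹ = X.q w := fun w hw =>
    conj_eq_of_mem_C h1 (h.sq' w ▸ h.s_R hw 0 0)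
  obtain ⟨r, v, c, rfl⟩ := h.mem_S.1 (h.S_of (h.B_of (h.cz l hl (mem_C'.1 h1 _ (Z_R (z_Z 1)))) one_ne_zero
    (conj_mem (C_le_N _ h1) (Z2_R (c_Z2 1)))) (by
      rw [conj_eq_of_mem_C h1 (Z3_R (x1_Z3 1)), h.x11]; exact one_mem _))
  have k' : ∀ w : V, w.1 = 0 → Aa r w = w ∧ al r w + fm v w = 0 := fun w hw =>
    h.inj_Q ((h.conj_q r v w c).symm.trans ((k w hw).trans (by rw [h.z0, mul_one])))
  obtain ⟨rfl, e⟩ := (by decide +kernel : ∀ (r : F4) (v : V), Aa r (0, 0, 1, 0) = (0, 0, 1, 0) →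
    al r (0, 0, 1, 0) + fm v (0, 0, 1, 0) = 0 → al r (0, 1, 0, 0) + fm v (0, 1, 0, 0) = 0 →
    al r (0, 0, 0, 1) + fm v (0, 0, 0, 1) = 0 → r = 0 ∧ v = (0, 0, 0, v.2.2.2)) r v (k' _ rfl).1
    (k' _ rfl).2 (k' _ rfl).2 (k' _ rfl).2
  rw [h.sq, e, h.qc]
  exact mul_mem (c_Z2 _) (z_Z2 _)

theorem cent_P (hg : g ∈ N[X.L]) (h1 : g ∈ C[X.P]) : g ∈ X.Z ⊔ X.K := by
  have k1 : g * (X.h * g⁻¹ * X.h⁻¹) ∈ C[X.P] := mul_mem h1 (conj_mem (N_le_NC _ h.h_NP) (inv_mem h1))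
  have k2 : ∀ l ∈ X.L, ∀ g ∈ N[X.L], g * (l * g⁻¹ * l⁻¹) ∈ X.L := fun l hl g hg => by
    rw [show g * (l * g⁻¹ * l⁻¹) = g * l * g⁻¹ * l⁻¹ by group]
    exact mul_mem (conj_mem hg hl) (inv_mem hl)
  obtain ⟨c, e⟩ := h.mem_Z.1 (h.CS (k2 _ h.hL g hg) (C_anti S_P k1))
  have e1 : X.z (om * c) * g * X.h = X.h * (X.z (om * c) * g) := by
    calc X.z (om * c) * g * X.h = X.z (om * c) * (g * (X.h * g⁻¹ * X.h⁻¹)) * (X.h * g) := by group
      _ = X.h * X.z (om * c) * X.h⁻¹ * (X.h * g) := by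
        rw [e, h.hz, ← h.z_add, (by decide : ∀ c : F4, om * c + c = om * (om * c))]
      _ = _ := by group
  have n1 : X.z (om * c) * g ∈ N[X.L] := mul_mem (norm_self _ (h.zL _)) hg
  have n2 : X.z (om * c) * g ∈ C[X.P] := mul_mem (cents_symm h.P_CZ (z_Z _)) h1
  rw [← mul_mem_cancel_left (mem_sup_left (z_Z (om * c)))]
  generalize X.z (om * c) * g = g at e1 n1 n2
  have m := mem_C_iff_le_C1.1 n2
  refine mem_sup_right (mem_C_iff_le_C1.2 (h.gen _ (fun x => m (S_P (a_S x))) (fun x => m (S_P (b_S x)))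
    (m wa_P) ?_))
  have k3 : g ∈ C{X.h} := mem_C1.2 e1
  have k4 : X.wb * g⁻¹ * X.wb⁻¹ ∈ C{X.h} := by
    rw [mem_C1_comm, ← cj_C1, mem_cj, show X.wb⁻¹ * X.h * X.wb = _ from
      (by rw [h.wbi] : _ = X.wb * X.h * X.wb⁻¹).trans h.wbh]
    exact mul_mem (inv_mem (mem_C1_comm.1 (inv_mem k3))) (mem_C_iff_le_C1.1 (inv_mem n2) k_P)
  have k5 := C_anti (R_S.trans S_P) n2
  obtain ⟨y, d, k6⟩ := h.mem_Z2.1 (CR h (k2 _ h.wbL g n1)
    (mul_mem k5 (conj_mem (N_le_NC _ h.wb_NR) (inv_mem k5))))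
  have k7 := mem_C1_iff_conj.1 (mem_C1_comm.1 (mul_mem k3 k4))
  rw [k6, ← cj_mul', h.hc, h.hz] at k7
  obtain ⟨rfl, rfl⟩ := (by decide : ∀ y d : F4, om * om * y = y ∧ om * d = d → y = 0 ∧ d = 0) y d
    (h.inj_Z2 k7)
  rw [h.c0, h.z0, one_mul] at k6
  rw [mem_C1]
  calc X.wb * g = g * (X.wb * g⁻¹ * X.wb⁻¹) * (X.wb * g) := by rw [k6, one_mul]
    _ = g * X.wb := by group

theorem aut_Q (hg : g ∈ N[X.L]) (h1 : g ∈ C[X.Z]) (h2 : ∀ v, g * X.q v * g⁻¹ * (X.q v)⁻¹ ∈ X.Z) :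
    g ∈ X.Q ⊔ X.K := by
  have hP := h.N_P hg (C_le_N _ h1)
  have t : ∀ x ∈ X.Q, g * x * g⁻¹ * x⁻¹ ∈ X.Z := fun x hx => by
    obtain ⟨v, c, rfl⟩ := h.mem_Q.1 hx
    rw [← cj_mul', conj_eq_of_mem_C h1 (z_Z c), mul_inv_rev, mul_assoc, mul_inv_cancel_left]
    exact h2 v
  obtain ⟨m, hm, k⟩ := autP h hP h1 fun p hp => h.CQ (mul_mem (conj_mem hP hp) (inv_mem hp)) fun v => by
    have a := t _ (conj_mem' (h.N_Q hP) (conj_mem' (h.P_NQ hp) (q_Q v)))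
    have b := mul_mem (conj_mem (C_le_N _ (mul_mem h1 (h.P_CZ hp))) (inv_mem a)) (t _ (q_Q v))
    rwa [show g * p * (g * (g⁻¹ * (p⁻¹ * X.q v * p) * g) * g⁻¹ * (g⁻¹ * (p⁻¹ * X.q v * p) * g)⁻¹)⁻¹ *
      (g * p)⁻¹ * (g * X.q v * g⁻¹ * (X.q v)⁻¹) =
      g * p * g⁻¹ * p⁻¹ * X.q v * (g * p * g⁻¹ * p⁻¹)⁻¹ * (X.q v)⁻¹ by group] at b
  exact (mul_mem_cancel_right (mem_sup_left hm)).1 (sup_le_sup_right Z_Q _
    (cent_P h (mul_mem hg (norm_self _ (h.S_L (Q_S hm)))) k))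

theorem red (hg : g ∈ N[X.L]) (hZ : g ∈ C[X.Z]) (hp : p ∈ X.P)
    (k : p * g ∈ N[X.L] → p * g ∈ C[X.Z] → p * g ∈ X.P ⊔ X.K) : g ∈ X.P ⊔ X.K :=
  (mul_mem_cancel_left (mem_sup_left hp)).1
    (k (mul_mem (norm_self _ (h.P_L hp)) hg) (mul_mem (h.P_CZ hp) hZ))

theorem core (hg : g ∈ N[X.L]) (hZ : g ∈ C[X.Z]) (hS : g ∈ N[X.S]) {μ d : F4}
    (hb : g * X.xb 1 * g⁻¹ = X.xb μ * X.z d) : g ∈ X.P ⊔ X.K := by
  obtain ⟨f, θ, a⟩ := h.act_Q (h.N_Q (h.N_P hg (C_le_N _ hZ)))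
  have f0 : f (1, 0, 0, 0) = (μ, 0, 0, 0) := by
    have := a (1, 0, 0, 0)
    rw [h.qb, hb, ← h.qb] at this
    exact (h.inj_Q this).1.symm
  obtain ⟨l, f3⟩ := h.q_mem_Z2 (a (0, 0, 0, 1) ▸ conj_mem (h.N_Z2 hS) (h.qc 1 ▸ c_Z2 1))
  choose π w c hs using fun r => h.mem_S.1 (conj_mem hS (a_S r))
  have ev := fun r => eqv h hZ a (hs r)
  have ex := ex h hZ a f0 f3
  have mu := mu h hZ a
  have t : ∀ r, r ≠ 0 → (μ, 0, 0, l) + r • f (0, 1, 0, 0) + (r * r) • f (0, 0, 1, 0) =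
      Aa (π r) (μ, 0, 0, 0) := fun r hr => by
    conv_rhs => rw [← f0, ← (ev r _).1, ex]
    simp [Aa, (by decide : ∀ r : F4, r ≠ 0 → r * r * r = 1) r hr]
  obtain ⟨s1, s2, s3⟩ := solve (by simpa using t 1 one_ne_zero)
    ((by decide : om * om * (om * om) = om) ▸ t (om * om) (by decide)) (t om (by decide))
  have b1 : be (f (0, 1, 0, 0)) (f (0, 1, 0, 0)) = 0 := by
    have := (mu (0, 1, 0, 0) (0, 1, 0, 0)).2
    have k := (mu 0 0).2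
    have k0 : f 0 = 0 := by simpa using sm h hZ a 0 0
    rw [V_add_self, f4_add_self, zero_add] at this k
    rw [← this]
    simpa [k0, be] using k
  have b2 := ff h hZ a (1, 0, 0, 0) (0, 0, 0, 1)
  rw [f0, f3] at b2
  rw [s1] at b1
  obtain ⟨rfl, rfl, k⟩ := (by decide +kernel : ∀ μ l p q r : F4,
    let x := Aa p (μ, 0, 0, 0)
    let y := Aa q (μ, 0, 0, 0)
    let z := Aa r (μ, 0, 0, 0)
    let A := x + om • y + (om * om) • z
    let B := x + (om * om) • y + om • z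
    (μ, 0, 0, l) = x + y + z → be A A = 0 → fm (μ, 0, 0, 0) (0, 0, 0, l) = fm (1, 0, 0, 0) (0, 0, 0, 1) →
    μ = 1 ∧ l = 1 ∧ ((p ≠ 0 ∧ B = (0, p, 0, 0)) ∨ (A = (0, 1, 0, 0) ∧ B = (0, 0, 1, 0)) ∨
      (A = (0, om, 0, 0) ∧ B = (0, 0, om * om, 0)) ∨ (A = (0, om * om, 0, 0) ∧ B = (0, 0, om, 0))))
    _ _ _ _ _ s3 b1 b2
  rw [← s1, ← s2] at k
  have gk : ∀ v, g * X.k * X.q v * (g * X.k)⁻¹ =
      g * X.q (v.1, om * om * v.2.1, om * v.2.2.1, v.2.2.2) * g⁻¹ := fun v => by rw [← h.k_q]; group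
  have u : ∀ x : F4, om * om * x * om = x ∧ om * x * (om * om) = x ∧
      om * om * (om * om * x) * (om * om) = x ∧ om * (om * x) * om = x := by decide
  have fin : ∀ l ∈ X.P, (∀ v, ∃ c, g * l * X.q v * (g * l)⁻¹ = X.q v * X.z c) → g ∈ X.P ⊔ X.K :=
    fun l hl k => (mul_mem_cancel_right (mem_sup_left hl)).1 (sup_le_sup_right Q_P _
      (aut_Q h (mul_mem hg (norm_self _ (h.P_L hl))) (mul_mem hZ (h.P_CZ hl)) fun v => by
        obtain ⟨c, k⟩ := k v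
        rw [k, ← h.zq, mul_inv_cancel_right]
        exact z_Z c))
  rcases k with ⟨k0, k⟩ | ⟨k1, k2⟩ | ⟨k1, k2⟩ | ⟨k1, k2⟩
  · exfalso
    have n : ∀ y, g * X.wb * g⁻¹ * X.z y * (g * X.wb * g⁻¹)⁻¹ = X.xc y * X.z (θ (0, 0, 0, y)) :=
      fun y => by
        rw [← conj_eq_of_mem_C hZ (z_Z y), cj_inv', cj_mul', cj_mul', h.wb_z, ← h.qc, a, ex]
        simp
    have m : ∀ y, X.wb * X.xb (θ (0, 0, 0, 1)) * (g * X.wb * g⁻¹) * X.z y *
        (X.wb * X.xb (θ (0, 0, 0, 1)) * (g * X.wb * g⁻¹))⁻¹ =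
        X.z y * X.xc (y * θ (0, 0, 0, 1) + θ (0, 0, 0, y)) := fun y => by
      conv_rhs => rw [← h.wb_c, ← h.wb_z (_ + _), cj_mul', ← h.b_c, ← n]
      group
    have m1 := m 1
    rw [one_mul, f4_add_self, h.c0, mul_one, mul_inv_eq_iff_eq_mul] at m1
    have m2 := h.cz _ (mul_mem (mul_mem h.wbL (h.bL _)) (conj_mem hg h.wbL)) m1
    have th : ∀ y, y * θ (0, 0, 0, 1) + θ (0, 0, 0, y) = 0 := fun y => by
      have := m y
      rw [h.P_z m2, left_eq_mul] at this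
      exact congrArg (·.2.2.2) (h.one_Q (v := (0, 0, 0, _)) (c := 0) (by rwa [h.qc, h.z0, mul_one])).1
    refine (by decide : ∀ p s t : F4, p ≠ 0 → ¬ ∀ y, y * t = p * (y * p * (y * p)) + s * (y * p))
      (π 1) (w 1).2.2.1 (θ (0, 0, 0, 1)) k0 fun y => ?_
    have k1 := (ev 1 (0, 0, y, 0)).2
    have k2 := (mu (0, 0, y, 0) (0, 0, 0, y)).2
    rw [ex (0, 0, y, 0), k] at k1 k2
    rw [ex (0, 0, 0, y)] at k2
    simp only [Aa, al, fm, be, Prod.mk_add_mk, Prod.smul_mk, smul_eq_mul, mul_zero, zero_mul, add_zero,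
      zero_add, one_mul, zero_smul] at k1 k2
    rw [f4_eq (th y)]
    exact add_left_cancel (k2.symm.trans (k1.trans (add_comm _ _)))
  · exact fin 1 (one_mem _) fun v => ⟨θ v, by rw [mul_one, a, ex, k1, k2]; simp⟩
  · refine fin X.k k_P fun v => ?_
    rw [gk, a, ex, k1, k2]
    simp [u]
  · refine fin (X.k * X.k) (mul_mem k_P k_P) fun v => ?_
    rw [show g * (X.k * X.k) * X.q v * (g * (X.k * X.k))⁻¹ = g * X.k * (X.k * X.q v * X.k⁻¹) * (g * X.k)⁻¹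
      by group, h.k_q, gk, a, ex, k1, k2]
    simp [u]

theorem core2 (hg : g ∈ N[X.L]) (hZ : g ∈ C[X.Z]) (hS : g ∈ N[X.S]) : g ∈ X.P ⊔ X.K := by
  have hP := h.N_P hg (C_le_N _ hZ)
  obtain ⟨y, c, k⟩ := h.mem_Z2.1 (conj_mem (h.N_Z2 hS) (c_Z2 1))
  have b : g * X.xb 1 * g⁻¹ = g * X.wa * g⁻¹ * (X.xc y * X.z c) * (g * X.wa * g⁻¹)⁻¹ := by
    rw [← k, ← h.wa_c]; group
  rcases h.bruhat (conj_mem hP wa_P) with m | ⟨r, s, hs, m⟩
  · have := (conj_mem_iff (h.N_Z2 hS)).1 (b ▸ conj_mem (h.N_Z2 (h.B_NS m)) (mul_mem (c_Z2 y) (z_Z2 c)))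
    rw [← h.qb, ← mul_one (X.q _), ← h.z0] at this
    obtain ⟨_, k⟩ := h.q_mem_Z2 this
    exact absurd (congrArg (·.1) k) one_ne_zero
  · obtain ⟨d, k⟩ := h.cell_c hs r y
    refine red h hg hZ (S_P (a_S r)) fun h1 h2 => core h h1 h2 (mul_mem (norm_self _ (a_S r)) hS)
      (μ := y) (d := al r (Aa r (y, 0, 0, 0)) + (d + c)) ?_
    rw [← cj_mul', h.P_z (conj_mem hP wa_P), m, k, mul_assoc (X.q _), ← h.z_add] at b
    rw [show X.xa r * g * X.xb 1 * (X.xa r * g)⁻¹ = X.xa r * (g * X.xb 1 * g⁻¹) * (X.xa r)⁻¹ by group, b,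
      ← cj_mul', h.a_q, h.a_z, Aa_Aa, h.qb, mul_assoc, ← h.z_add]

theorem aut_Z (hg : g ∈ N[X.L]) (hZ : g ∈ C[X.Z]) : g ∈ X.P ⊔ X.K := by
  have s := h.syl.of_le S_P h.P_L
  obtain ⟨p, hp, k⟩ := Sylow_trans p2 (cj_of_mem_N (h.N_P hg (C_le_N _ hZ)) ▸ s.cj g) s
  exact red h hg hZ hp fun h1 h2 => core2 h h1 h2 (mem_N_iff_cj.2 (by rw [cj_mul, ← k]))

end H24.G4.B1
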