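import Mathlib
import Cfsg.Agent.H24.Gw1
import Cfsg.Agent.H24.GwB1
import Cfsg.Agent.H24.SuB

/-! Automorphisms of `G₂(4)` and of `2^(2+8) : A₅`. -/

set_option autoImplicit false
set_option linter.unusedSectionVars false
set_option synthInstance.maxSize 4000

namespace H24.G4

open H26 H26.Gold Subgroup
open H9 (F4)
open H7.SJ (p2)
open H24.Sz (om f4_add_self)
open scoped commutatorElement

namespace Dat.Fr

variable {G : Type*} [Group G] [Finite G] {X : Dat G} {g a b : G} {T : Subgroup G} (h : X.Fr)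
include h

theorem mem_LK : g ∈ X.L ⊔ X.K ↔ ∃ l ∈ X.L, ∃ k ∈ X.K, g = l * k := mem_sup_of_norm (C_le_N _)
theorem mem_MK {M : Subgroup G} (hM : M ≤ X.L) : g ∈ M ⊔ X.K ↔ ∃ l ∈ M, ∃ k ∈ X.K, g = l * k :=
  mem_sup_of_norm (norm_of_cent (C_anti hM))
/-- automorphisms of `P` that are trivial on `Z` and `P / Q` are induced by `Q`. -/
theorem autP (h1 : g ∈ N[X.P]) (h2 : g ∈ C[X.Z]) (h3 : ∀ p ∈ X.P, g * p * g⁻¹ * p⁻¹ ∈ X.Q) :
    ∃ m ∈ X.Q, g * m ∈ C[X.P] := B1.autP h h1 h2 h3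
theorem cent_P (hg : g ∈ N[X.L]) (h1 : g ∈ C[X.P]) : g ∈ X.Z ⊔ X.K := B1.cent_P h hg h1
theorem aut_Q (hg : g ∈ N[X.L]) (h1 : g ∈ C[X.Z]) (h2 : ∀ v, g * X.q v * g⁻¹ * (X.q v)⁻¹ ∈ X.Z) :
    g ∈ X.Q ⊔ X.K := B1.aut_Q h hg h1 h2
theorem aut_S (hg : g ∈ N[X.L]) (h2 : ∀ u ∈ X.S, g * u * g⁻¹ * u⁻¹ ∈ X.Z) : g ∈ X.Z2 ⊔ X.K := by
  have e : ∀ v, ∃ c, g * X.q v * g⁻¹ = X.q v * X.z c := fun v =>
    let ⟨c, k⟩ := h.mem_Z.1 (h2 _ (q_S v)); ⟨c, by rw [← h.zq, ← k, inv_mul_cancel_right]⟩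
  obtain ⟨m, hm, k, hk, rfl⟩ := (h.mem_MK (Q_S.trans h.S_L)).1 (h.aut_Q hg (cents_symm (Z_le fun c => by
    obtain ⟨_, k1⟩ := e (1, 0, 0, 0)
    obtain ⟨_, k2⟩ := e (0, 0, 0, c)
    have := B1.key h k1 k2
    rw [show fm (1, 0, 0, 0) (0, 0, 0, c) = c by simp [fm, be]] at this
    exact C_zpowers g ▸ mem_C1_comm.1 (mem_C1_iff_conj.2 this)) (mem_zpowers g)) fun v => h2 _ (q_S v))
  refine mul_mem (mem_sup_left (h.mem_Z2' (Q_S hm) fun t ht => ?_)) (mem_sup_right hk)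
  have := h2 t ht
  rwa [show m * k * t * (m * k)⁻¹ = m * (k * t * k⁻¹) * m⁻¹ by group,
    conj_eq_of_mem_C hk (h.S_L ht)] at this
theorem cent_S (hg : g ∈ N[X.L]) (h1 : g ∈ C[X.S]) : g ∈ X.Z ⊔ X.K := by
  obtain ⟨m, hm, k, hk, rfl⟩ := (h.mem_MK (Z2_S.trans h.S_L)).1 (h.aut_S hg fun u hu => by
    rw [conj_eq_of_mem_C h1 hu, mul_inv_cancel]; exact one_mem _)
  exact mul_mem (mem_sup_left (h.CS (h.S_L (Z2_S hm))
    ((mul_mem_cancel_right (C_anti h.S_L hk)).1 h1))) (mem_sup_right hk)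
theorem cent_R (hg : g ∈ N[X.L]) (h1 : g ∈ C[X.R]) : g ∈ X.Z2 ⊔ X.K := by
  obtain ⟨m, hm, k, hk, rfl⟩ := (h.mem_MK h.P_L).1 (B1.aut_Z h hg (C_anti Z_R h1))
  exact mul_mem (mem_sup_left (B1.CR h (h.P_L hm)
    ((mul_mem_cancel_right (C_anti (R_S.trans h.S_L) hk)).1 h1))) (mem_sup_right hk)
theorem aut_B (hg : g ∈ N[X.L]) (h1 : g ∈ N[X.S]) (h2 : g ∈ C[X.Z]) : g ∈ X.B ⊔ X.K := by
  obtain ⟨m, hm, k, hk, rfl⟩ := (h.mem_MK h.P_L).1 (B1.aut_Z h hg h2)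
  exact mul_mem (mem_sup_left (h.B_of hm one_ne_zero (conj_mem (h.N_R ((mul_mem_cancel_right
    (C_le_N _ (C_anti h.S_L hk))).1 h1)) (Z2_R (c_Z2 1))))) (mem_sup_right hk)
theorem aut_Z (hg : g ∈ N[X.L]) (h2 : g ∈ C[X.Z]) : g ∈ X.P ⊔ X.K := B1.aut_Z h hg h2

omit h in
theorem b_cube {M : Subgroup G} (h3 : TwoE g) (e : g ^ 3 ∈ M) : g ∈ M :=
  zpowers_le.2 e (mem_zpowers_pow_iff.2 ((Nat.prime_three.coprime_iff_not_dvd).2 fun e0 =>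
    absurd (h3 3 Nat.prime_three e0) (by decide)))

theorem two_S (hg : g ∈ N[X.L]) (h1 : g ∈ N[X.S]) (h2 : g ∈ C[X.Z]) (h3 : TwoE g) :
    g ∈ X.S ⊔ X.K := by
  obtain ⟨m, hm, k, hk, rfl⟩ := (h.mem_MK (B_P.trans h.P_L)).1 (h.aut_B hg h1 h2)
  refine b_cube h3 ?_
  rw [Commute.mul_pow (mem_C.1 hk m (h.P_L (B_P hm)))]
  refine mul_mem (mem_sup_left ?_) (mem_sup_right (pow_mem hk 3))
  obtain ⟨t, ht, j, hj, rfl⟩ := (mem_sup_of_norm (zpowers_le.2 h.k_NS)).1 hm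
  have j3 : j ^ 3 = 1 := by
    obtain ⟨n, rfl⟩ := hj
    change (X.k ^ n) ^ 3 = 1
    rw [← zpow_natCast, ← zpow_mul, mul_comm, zpow_mul, zpow_natCast, pow_three', h.kkk, one_zpow]
  have jn := zpowers_le.2 h.k_NS hj
  rw [show (t * j) ^ 3 = t * (j * (t * (j * t * j⁻¹)) * j⁻¹) * j ^ 3 by rw [pow_three, pow_three]; group,
    j3, mul_one]
  exact mul_mem ht (conj_mem jn (mul_mem ht (conj_mem jn ht)))
/-- an outer `2`-element acts nontrivially on `Z`, `Z2 / Z` and `Q / Z3`. -/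
theorem two_lin (hg : g ∈ N[X.L]) (h1 : g ∈ N[X.S]) (h3 : TwoE g) (h4 : g ∉ X.S ⊔ X.K) :
    g ∉ C[X.Z] ∧ (∃ y, g * X.xc y * g⁻¹ * X.xc y ∉ X.Z) ∧ ∃ y, g * X.xb y * g⁻¹ * X.xb y ∉ X.Z3 := by
  have n : g ∉ C[X.Z] := fun k => h4 (h.two_S hg h1 k h3)
  have sc : ∀ m, ¬ ∀ c, g * X.z c * g⁻¹ = X.z (c * m) := fun m e => n (b_cube h3 (cents_symm (Z_le fun c =>
    C_zpowers (g ^ 3) ▸ mem_C1_comm.1 (mem_C1_iff_conj.2 (by
      have m0 : m ≠ 0 := fun k => h.z1 (conj_eq_one_iff'.1 (by rw [e, k, mul_zero, h.z0]))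
      rw [show g ^ 3 * X.z c * (g ^ 3)⁻¹ = g * (g * (g * X.z c * g⁻¹) * g⁻¹) * g⁻¹ by
        rw [pow_three]; group, e, e, e, (by decide : ∀ c m : F4, m ≠ 0 → c * m * m * m = c) c m m0])))
      (mem_zpowers _)))
  obtain ⟨f, θ, e⟩ := h.act_Q (h.N_Q (h.N_P hg (h.N_Z h1)))
  have pr : ∀ v w c, X.q v * X.z c * X.q w = X.q (v + w) * X.z (c + 0 + be v w) := fun v w c => by
    rw [← h.qz_mul, h.z0, mul_one]
  refine ⟨n, by_contra fun k => sc (f (1, 0, 0, 0)).1 fun c => ?_, by_contra fun k => ?_⟩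
  · have k1 := not_not.1 (not_exists.1 k c)
    rw [← h.qc, e, pr] at k1
    have := B1.key h (e (0, 0, 0, c)) (e (1, 0, 0, 0))
    rw [V_eq (h.q_mem_Z k1)] at this
    simpa [fm, be] using this
  · obtain ⟨l, f3⟩ := h.q_mem_Z2 (e (0, 0, 0, 1) ▸ conj_mem (h.N_Z2 h1) (h.qc 1 ▸ c_Z2 1))
    refine sc l fun c => ?_
    have k1 := not_not.1 (not_exists.1 k c)
    rw [← h.qb, e, pr, ← h.sq] at k1
    have := B1.key h (e (c, 0, 0, 0)) (e (0, 0, 0, 1))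
    have k2 : (f (c, 0, 0, 0)).1 = c := f4_eq (h.s_mem_R (Z3_R k1))
    simpa [fm, be, f3, k2, mul_comm] using this
/-- an outer involution centralises two elements of `Q` with a nontrivial commutator. -/
theorem outer (hg : g ∈ N[X.L]) (h1 : g ∈ N[X.S]) (h3 : g * g = 1) (h4 : g ∉ X.S ⊔ X.K) :
    ∃ m ∈ X.Q, ∃ n ∈ X.Q, ∃ c, c ≠ 0 ∧ g * m = m * g ∧ g * n = n * g ∧ m * n = n * m * X.z c ∧
      ∃ d, X.z d * g * (X.z d)⁻¹ = g * X.z c := by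
  obtain ⟨n, ⟨y, hy⟩, u, hu⟩ := h.two_lin hg h1 (twoE_of_sq h3) h4
  choose σ hσ using fun c => h.mem_Z.1 (conj_mem (h.N_Z h1) (z_Z c))
  have gg : ∀ x, g * (g * x * g⁻¹) * g⁻¹ = x := fun x => by
    rw [show g * (g * x * g⁻¹) * g⁻¹ = g * g * x * (g * g)⁻¹ by group, h3]; group
  have ad : ∀ c d, σ (c + d) = σ c + σ d := fun c d =>
    h.z_eq (by rw [← hσ, h.z_add, h.z_add, ← hσ, ← hσ, cj_mul'])
  have ss : ∀ c, σ (σ c) = c := fun c => h.z_eq (by rw [← hσ, ← hσ, gg])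
  have fx : ∀ e, σ e = e → ∃ d, σ d + d = e := fun e he => by
    obtain ⟨d, hd⟩ : ∃ d, σ d ≠ d := by_contra fun k => n (cents_symm (Z_le fun c =>
      C_zpowers g ▸ mem_C1_comm.1 (mem_C1_iff_conj.2 (by
        rw [hσ, not_not.1 (not_exists.1 k c)]))) (mem_zpowers g))
    have s0 : σ 0 = 0 := by simpa using ad 0 0
    have sc : σ (σ d + d) = σ d + d := by rw [ad, ss, add_comm]
    rcases (by decide : ∀ e c d : F4, c ≠ 0 → e = 0 ∨ c = e ∨ d = 0 ∨ d = e ∨ d = c ∨ d = e + c) e _ d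
      (fun k => hd (f4_eq k)) with k | k | k | k | k | k
    · exact ⟨0, by rw [s0, k, add_zero]⟩
    · exact ⟨d, k⟩
    · exact absurd (by rw [k, s0]) hd
    · exact absurd (by rw [k, he]) hd
    · exact absurd (by rw [k, sc]) hd
    · exact absurd (by rw [k, ad, sc, he]) hd
  have nQ := h.N_Q (h.N_P hg (h.N_Z h1))
  have m1 := conj_mem (h.N_Z2 h1) (c_Z2 y)
  obtain ⟨y', c1, e1⟩ := h.mem_Z2.1 (mul_mem m1 (c_Z2 y))
  have m2 : g * (X.xc y' * X.z c1) * g⁻¹ = X.xc y' * X.z c1 := by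
    rw [← e1, ← cj_mul', gg, h.eaZ2.comm m1 (c_Z2 y)]
  obtain ⟨v, c2, e2⟩ := h.mem_Q.1 (conj_mem nQ (b_Q u))
  have e3 : g * X.xb u * g⁻¹ * X.xb u = X.q (v + (u, 0, 0, 0)) * X.z (c2 + 0 + be v (u, 0, 0, 0)) := by
    rw [e2, ← h.qz_mul, h.z0, mul_one, h.qb]
  have e4 : g * (g * X.xb u * g⁻¹ * X.xb u) * g⁻¹ = g * X.xb u * g⁻¹ * X.xb u * X.z (fm (u, 0, 0, 0) v) := by
    rw [← cj_mul', gg, e2, ← mul_assoc, ← h.qb, h.q_comm, mul_assoc (X.q v) (X.z c2), h.zq, mul_assoc,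
      mul_assoc, mul_assoc, mul_assoc, ← h.z_add, ← h.z_add, add_comm]
  obtain ⟨d, hd⟩ := fx (fm (u, 0, 0, 0) v) (by
    have := gg (g * X.xb u * g⁻¹ * X.xb u)
    rw [e4, ← cj_mul', e4, hσ, mul_assoc, ← h.z_add, mul_eq_left] at this
    exact (f4_eq (h.z_inj _ this)).symm)
  have m3 : g * (g * X.xb u * g⁻¹ * X.xb u * X.z d) * g⁻¹ = g * X.xb u * g⁻¹ * X.xb u * X.z d := by
    rw [← cj_mul', e4, hσ, ← hd, mul_assoc _ (X.z _), ← h.z_add, add_right_comm, f4_add_self, zero_add]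
  rw [e3, mul_assoc (X.q _), ← h.z_add] at m3
  rw [e3, ← h.sq] at hu
  have n1 : y' ≠ 0 := fun k => hy (by rw [e1, k, h.c0, one_mul]; exact z_Z _)
  have n2 : (v + (u, 0, 0, 0)).1 ≠ 0 := fun k =>
    hu (h.Z3_eq ▸ ⟨h.s_R k _ _, h.sq _ _ ▸ mul_mem (q_Q _) (z_Q _)⟩)
  generalize v + (u, 0, 0, 0) = w at m3 n2
  generalize c2 + 0 + be v (u, 0, 0, 0) + d = c3 at m3
  have cm : X.xc y' * X.z c1 * (X.q w * X.z c3) = X.q w * X.z c3 * (X.xc y' * X.z c1) * X.z (y' * w.1) := by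
    rw [← h.qc, h.qz_mul, h.qz_mul, add_comm w, mul_assoc, ← h.z_add]
    congr 2
    simp only [be]; ring
  obtain ⟨d', hd'⟩ := fx (y' * w.1) (by
    have := congrArg (fun x => g * x * g⁻¹) cm
    simp only [← cj_mul' g (_ * _), m2, m3, hσ] at this
    exact h.z_eq (mul_left_cancel (this.symm.trans cm)))
  refine ⟨_, mul_mem (c_Q y') (z_Q c1), _, mul_mem (q_Q w) (z_Q c3), _, mul_ne_zero n1 n2,
    mul_inv_eq_iff_eq_mul.1 m2, mul_inv_eq_iff_eq_mul.1 m3, cm, d', ?_⟩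
  rw [← hd', h.z_add, ← hσ, h.zi, ← mul_assoc, ← mul_assoc, ← mul_assoc, h3, one_mul,
    inv_eq_of_mul_eq_one_right h3]
theorem ex_conj (hT : TwoG T) (h1 : T ≤ N[X.L]) : ∃ l ∈ X.L, H24.cj l T ≤ N[X.S] := by
  obtain ⟨P, hP, h2⟩ := Sylow_superset p2 hT (le_sup_right : T ≤ X.L ⊔ T)
  obtain ⟨l, hl, e⟩ := Sylow_trans p2 h.syl (hP.inf_nml (nml_sup_left h1))
  refine ⟨l⁻¹, inv_mem hl, le_cj_iff.1 ?_⟩
  rw [cj_N, ← e]
  exact norm_inf (norm_of_le h2) h1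

theorem b_frob (ha : a ∈ N[X.L]) (h1 : a ∉ X.L ⊔ X.K) :
    ∃ l ∈ X.L, ∀ c, l * a * X.z c * (l * a)⁻¹ = X.z (c * c) := by
  obtain ⟨p, hp, k⟩ := Sylow_trans p2 (cj_of_mem_N ha ▸ h.syl.cj a) h.syl
  have n1 := h.N_Z (mem_N_iff_cj.2 (show H24.cj (p * a) X.S = X.S by rw [cj_mul, ← k]))
  obtain ⟨c, e⟩ := h.mem_Z.1 (conj_mem n1 (z_Z 1))
  obtain ⟨m, hm, e1⟩ := h.longz (c := c) fun k => h.z1 (conj_eq_one_iff'.1 (by rw [e, k, h.z0]))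
  have l1 := mul_mem (zpowers_le.2 h.hL hm) hp
  have n2 := mul_mem (zpowers_le.2 h.h_NZ hm) n1
  rw [← mul_assoc] at n2
  choose σ hσ using fun c => h.mem_Z.1 (conj_mem n2 (z_Z c))
  have ad : ∀ c d, σ (c + d) = σ c + σ d := fun c d =>
    h.z_eq (by rw [← hσ, h.z_add, h.z_add, ← hσ, ← hσ, cj_mul'])
  have s0 : σ 0 = 0 := by simpa using ad 0 0
  have s1 : σ 1 = 1 := h.z_eq (by
    rw [← hσ]; conv_rhs => rw [← e1, ← e]
    group)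
  have inj : ∀ c, σ c = 0 → c = 0 := fun c k => h.z_inj c (conj_eq_one_iff'.1 (by rw [hσ, k, h.z0]))
  have all : ∀ τ : F4 → F4, τ 0 = 0 → τ 1 = 1 → τ (1 + om) = 1 + τ om → σ om = τ om → ∀ c, σ c = τ c :=
    fun τ t0 t1 t2 t3 c => by
      rcases (by decide : ∀ c : F4, c = 0 ∨ c = 1 ∨ c = om ∨ c = 1 + om) c with rfl | rfl | rfl | rfl
      exacts [s0.trans t0.symm, s1.trans t1.symm, t3, by rw [ad, s1, t2, t3]]
  rcases (by decide : ∀ x : F4, x ≠ 0 → 1 + x ≠ 0 → x = om ∨ x = om * om) (σ om)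
    (fun k => absurd (inj _ k) (by decide)) (fun k => absurd (inj (1 + om) (by rw [ad, s1, k])) (by decide))
    with k | k
  · refine absurd ((mul_mem_cancel_left (mem_sup_left l1)).1 (sup_le_sup_right h.P_L _ (h.aut_Z
      (mul_mem (norm_self _ l1) ha) (cents_symm (Z_le fun c => ?_) (mem_zpowers _))))) h1
    exact C_zpowers (m * p * a) ▸ mem_C1_comm.1 (mem_C1_iff_conj.2 (by rw [hσ, all id rfl rfl rfl k, id]))
  · exact ⟨_, l1, fun c => by rw [hσ, all (fun c => c * c) (by decide) (by decide) (by decide) k]⟩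

/-- `N(L) / L K` has order at most `2`. -/
theorem idx2 (ha : a ∈ N[X.L]) (hb : b ∈ N[X.L]) (h1 : a ∉ X.L ⊔ X.K) (h2 : b ∉ X.L ⊔ X.K) :
    a * b ∈ X.L ⊔ X.K := by
  obtain ⟨l, hl, e⟩ := h.b_frob ha h1
  obtain ⟨m, hm, e'⟩ := h.b_frob hb h2
  have := sup_le_sup_right h.P_L _ (h.aut_Z (mul_mem (mul_mem (norm_self _ hl) ha)
    (mul_mem (norm_self _ hm) hb)) (cents_symm (Z_le fun c => C_zpowers (l * a * (m * b)) ▸
      mem_C1_comm.1 (mem_C1_iff_conj.2 (by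
        rw [show l * a * (m * b) * X.z c * (l * a * (m * b))⁻¹ =
          l * a * (m * b * X.z c * (m * b)⁻¹) * (l * a)⁻¹ by group, e', e,
          (by decide : ∀ c : F4, c * c * (c * c) = c)]))) (mem_zpowers _)))
  rwa [show l * a * (m * b) = l * (a * m * a⁻¹) * (a * b) by group,
    mul_mem_cancel_left (mem_sup_left (mul_mem hl (conj_mem ha hm)))] at this
theorem der_N : ⁅N[X.L], N[X.L]⁆ ≤ X.L ⊔ X.K := commutator_le.2 fun a ha b hb => by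
  have n : N[X.L] ≤ N[X.L ⊔ X.K] := norm_sup le_rfl (N_le_NC _)
  rw [commutatorElement_def]
  by_cases h1 : a ∈ X.L ⊔ X.K
  · rw [mul_assoc a, mul_assoc a]; exact mul_mem h1 (conj_mem (n hb) (inv_mem h1))
  by_cases h2 : b ∈ X.L ⊔ X.K
  · exact mul_mem (conj_mem (n ha) h2) (inv_mem h2)
  rw [mul_assoc]
  exact mul_mem (h.idx2 ha hb h1 h2) (h.idx2 (inv_mem ha) (inv_mem hb) (mt inv_mem_iff.1 h1)
    (mt inv_mem_iff.1 h2))
theorem sq_mem (hg : g ∈ N[X.L]) : g * g ∈ X.L ⊔ X.K :=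
  (em (g ∈ X.L ⊔ X.K)).elim (fun k => mul_mem k k) fun k => h.idx2 hg hg k k
theorem card_two (hT : TwoG T) (h1 : T ≤ N[X.L]) : ♯T ≤ 8192 * ♯(T ⊓ X.K) := by
  have c : H25.Tw.Ch T (· ∈ X.L ⊔ X.K) := fun a ha b hb => by
    by_cases e1 : a ∈ X.L ⊔ X.K
    · simp only [e1, true_iff]
      exact mul_mem_cancel_left e1
    by_cases e2 : b ∈ X.L ⊔ X.K
    · simp only [e2, iff_true]
      exact mul_mem_cancel_right e2
    simp only [e1, e2, iff_true]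
    exact h.idx2 (h1 ha) (h1 hb) e1 e2
  have k0 := H24.Sz.b_ch_card c
  rw [show c.sub = T ⊓ (X.L ⊔ X.K) from rfl] at k0
  set E0 := T ⊓ (X.L ⊔ X.K) with hE0
  set Y := X.L ⊓ (E0 ⊔ X.K) with hY
  have card : ♯E0 = ♯Y * ♯(T ⊓ X.K) := by
    have k1 := card_sup (A := X.K) (B := E0) (inf_le_left.trans (norm_C h1))
    have k2 : Y ⊔ X.K = X.K ⊔ E0 := by
      rw [hY, group_modr (B := X.K) (C_le_N _) le_sup_right, sup_comm E0,
        inf_eq_right.2 (sup_le le_sup_right inf_le_right)]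
    have k3 := card_sup_of_inf (A := Y) (B := X.K) (norm_of_cent (C_anti inf_le_left))
      (eq_bot_of_le h.LK (inf_le_inf_right _ inf_le_left))
    have k4 : X.K ⊓ E0 = T ⊓ X.K := by
      rw [hE0, inf_left_comm, inf_eq_left.2 (le_sup_right : X.K ≤ X.L ⊔ X.K)]
    rw [← k2, k3, k4, mul_comm ♯Y, mul_assoc] at k1
    exact (Nat.eq_of_mul_eq_mul_left (card_pos _) k1).symm
  have k5 := Nat.le_of_dvd (card_pos _) (h.syl.card_dvd (H := X.S) (K := Y)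
    ((hT.of_le (inf_le_left : E0 ≤ T)).piNat.dvd (Dvd.intro _ card.symm)) inf_le_left)
  rw [h.card_S] at k5
  nlinarith

end Dat.Fr

end H24.G4
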