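import Mathlib
import Cfsg.Agent.H5.LyT
import Cfsg.Agent.H24.Base5

/-! Counting involutions in cosets of a normal subgroup of odd order. -/

set_option autoImplicit false

namespace H24.QH

open H24 Cfsg Subgroup Finset

universe u

variable {G : Type u} [Group G]

open Classical in
/-- the finset of elements with a given property -/
noncomputable def fs {α : Type*} [Fintype α] (P : α → Prop) : Finset α := univ.filter P

@[simp] theorem mem_fs {α : Type*} [Fintype α] {P : α → Prop} {a : α} : a ∈ fs P ↔ P a := by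
  simp [fs]

theorem ncard_fs {α : Type*} [Fintype α] (P : α → Prop) : {a | P a}.ncard = #(fs P) := by
  rw [← Set.ncard_coe_finset]; congr 1; ext a; simp

theorem card_fs_mem [Fintype G] (K : Subgroup G) : #(fs (· ∈ K)) = ♯K := by
  rw [← ncard_fs]; exact (Nat.card_coe_set_eq (K : Set G)).symm

theorem card_fib [Fintype G] {K : Subgroup G} {x g₀ : G} (h : g₀ ∈ K) :
    #(fs fun g => g ∈ K ∧ g * x * g⁻¹ = g₀ * x * g₀⁻¹) = ♯(K ⊓ C{x}) := by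
  rw [← card_fs_mem]
  refine card_bij (fun g _ => g₀⁻¹ * g) (fun g hg => ?_) (fun a _ b _ e => by simpa using e)
    (fun g hg => ⟨g₀ * g, ?_, by group⟩)
  · rw [mem_fs] at hg ⊢
    refine ⟨K.mul_mem (K.inv_mem h) hg.1, mem_C1_iff_conj.2 ?_⟩
    calc _ = g₀⁻¹ * (g * x * g⁻¹) * g₀ := by group
      _ = x := by rw [hg.2]; group
  · rw [mem_fs] at hg ⊢
    refine ⟨mul_mem h hg.1, ?_⟩
    calc _ = g₀ * (g * x * g⁻¹) * g₀⁻¹ := by group
      _ = _ := by rw [mem_C1_iff_conj.1 hg.2]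

/-- size of a `K`-class -/
theorem card_cls [Fintype G] (K : Subgroup G) (x : G) :
    #(fs fun y => ∃ g ∈ K, y = g * x * g⁻¹) * ♯(K ⊓ C{x}) = ♯K := by
  classical
  rw [← card_fs_mem K, card_eq_sum_card_fiberwise (f := fun g => g * x * g⁻¹) (s := fs (· ∈ K))
    (t := fs fun y => ∃ g ∈ K, y = g * x * g⁻¹)
    (fun g hg => by simpa using ⟨g, by simpa using hg, rfl⟩), ← smul_eq_mul, ← sum_const]
  refine sum_congr rfl fun y hy => ?_
  obtain ⟨g, hg, rfl⟩ := mem_fs.1 hy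
  rw [← card_fib hg]
  congr 1; ext a; simp

/-- an element of odd order inverted by `j` -/
theorem exists_conj_of_inv [Finite G] {j o : G} (ho : Odd (orderOf o)) (h : j * o * j⁻¹ = o⁻¹) :
    ∃ z ∈ zpowers o, j * o = z * j * z⁻¹ := by
  obtain ⟨k, hk⟩ := ho
  have h1 : o ^ (k + 1) * o ^ (k + 1) = o := by
    rw [← pow_add, show k + 1 + (k + 1) = orderOf o + 1 by omega, pow_succ, pow_orderOf_eq_one,
      one_mul]
  have h2 : j * o ^ (k + 1) * j⁻¹ = (o ^ (k + 1))⁻¹ := by rw [← conj_pow, h, inv_pow]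
  refine ⟨(o ^ (k + 1))⁻¹, inv_mem (npow_mem_zpowers _ _), ?_⟩
  generalize o ^ (k + 1) = z at h1 h2
  calc _ = j * z * j⁻¹ * j * z := by rw [← h1]; group
    _ = _ := by rw [h2, inv_inv]

theorem inv_of_sq {a b : G} (ha : a * a = 1) (hb : b * b = 1) :
    a * (a⁻¹ * b) * a⁻¹ = (a⁻¹ * b)⁻¹ := by
  rw [mul_inv_rev, inv_inv, ← eq_inv_of_mul_eq_one_left hb, ← eq_inv_of_mul_eq_one_left ha,
    ← mul_assoc, ha, one_mul]

theorem count_inv [Finite G] {Y O A : Subgroup G} {t : G} (hO : O ⊴ Y) (ho : Odd ♯O)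
    (ht : orderOf t = 2) (htA : t ∈ A) (hOA : O ≤ A) (hA : A ≤ Y) :
    {a | a ∈ Y ⊓ C{t} ∧ a ∉ A ∧ a * a = 1}.ncard ^ 2 * ♯O ≤
      {a | a ∈ Y ∧ a ∉ A ∧ a * a = 1}.ncard ^ 2 * ♯(O ⊓ C{t}) := by
  classical
  have := Fintype.ofFinite G
  rw [ncard_fs, ncard_fs]
  set JC := fs fun a => a ∈ Y ⊓ C{t} ∧ a ∉ A ∧ a * a = 1 with hJC
  set J := fs fun a => a ∈ Y ∧ a ∉ A ∧ a * a = 1 with hJ
  have tt : t * t = 1 := by rw [← pow_two, ← ht, pow_orderOf_eq_one]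
  have t1 : t ≠ 1 := fun e => by simp [e] at ht
  let n : G → ℕ := fun j => #(J.filter fun a => j⁻¹ * a ∈ O)
  let n0 : G → ℕ := fun j => #(JC.filter fun a => j⁻¹ * a ∈ O)
  have dc : ∑ j ∈ JC, (n j : ℝ) / n0 j ≤ #J := by
    have e : ∀ j, (n j : ℝ) / n0 j = ∑ a ∈ J, if j⁻¹ * a ∈ O then (1 : ℝ) / n0 j else 0 := by
      intro j
      rw [← sum_filter, sum_const, nsmul_eq_mul]; ring
    simp only [e]
    rw [sum_comm, card_eq_sum_ones, Nat.cast_sum]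
    refine sum_le_sum fun a _ => ?_
    rw [← sum_filter, sum_congr rfl (g := fun _ =>
      (1 : ℝ) / #(JC.filter fun j => j⁻¹ * a ∈ O)) fun j hj => ?_, sum_const, nsmul_eq_mul,
      mul_one_div, Nat.cast_one]
    · exact div_self_le_one _
    · congr 2
      refine congrArg card (filter_congr fun b _ => ?_)
      have hj' := (mem_filter.1 hj).2
      constructor
      · intro hb
        have := mul_mem (inv_mem hb) hj'
        rwa [show (j⁻¹ * b)⁻¹ * (j⁻¹ * a) = b⁻¹ * a by group] at this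
      · intro hb
        have := mul_mem hj' (inv_mem hb)
        rwa [show j⁻¹ * a * (b⁻¹ * a)⁻¹ = j⁻¹ * b by group] at this
  have h1 : ∀ j ∈ JC, ♯O ≤ n j * ♯(O ⊓ C{j}) := fun j hj => by
    obtain ⟨⟨hY, -⟩, hn, hj2⟩ := mem_fs.1 hj
    rw [← card_cls O j]
    refine Nat.mul_le_mul_right _ (card_le_card fun y hy => ?_)
    obtain ⟨g, hg, rfl⟩ := mem_fs.1 hy
    have hm : j⁻¹ * (g * j * g⁻¹) ∈ O := by
      have := mul_mem (conj_mem' (hO.norm hY) hg) (inv_mem hg)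
      rwa [show j⁻¹ * g * j * g⁻¹ = j⁻¹ * (g * j * g⁻¹) by group] at this
    refine mem_filter.2 ⟨mem_fs.2 ⟨mul_mem (mul_mem (hO.le hg) hY) (inv_mem (hO.le hg)),
      fun e => hn ?_, ?_⟩, hm⟩
    · have := mul_mem e (inv_mem (hOA hm))
      rwa [show g * j * g⁻¹ * (j⁻¹ * (g * j * g⁻¹))⁻¹ = j by group] at this
    · calc _ = g * (j * j) * g⁻¹ := by group
        _ = 1 := by rw [hj2]; group
  have h2 : ∀ j ∈ JC, n0 j * ♯(O ⊓ C{t} ⊓ C{j}) ≤ ♯(O ⊓ C{t}) := fun j hj => by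
    obtain ⟨⟨-, hC⟩, -, hj2⟩ := mem_fs.1 hj
    rw [← card_cls (O ⊓ C{t}) j]
    refine Nat.mul_le_mul_right _ (card_le_card fun y hy => ?_)
    obtain ⟨hy1, hy2⟩ := mem_filter.1 hy
    obtain ⟨⟨-, hC'⟩, -, hy3⟩ := mem_fs.1 hy1
    obtain ⟨z, hz, e⟩ := exists_conj_of_inv (ho.of_dvd_nat (orderOf_dvd_card' hy2))
      (inv_of_sq hj2 hy3)
    refine mem_fs.2 ⟨z, zpowers_le.2 (show j⁻¹ * y ∈ O ⊓ C{t} from
      ⟨hy2, C{t}.mul_mem (C{t}.inv_mem hC) hC'⟩) hz, ?_⟩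
    rw [← e]; group
  have h3 : ∀ j ∈ JC, 0 < n0 j := fun j hj =>
    Finset.card_pos.2 ⟨j, mem_filter.2 ⟨hj, by simp⟩⟩
  have h4 : ∀ j ∈ JC, t * j ∈ JC := fun j hj => by
    obtain ⟨⟨hY, hC⟩, hn, hj2⟩ := mem_fs.1 hj
    refine mem_fs.2 ⟨⟨mul_mem (hA htA) hY, mul_mem (self_mem_C1 t) hC⟩, fun e => hn ?_, ?_⟩
    · simpa using mul_mem (inv_mem htA) e
    · rw [mul_assoc, ← mul_assoc j, mem_C1.1 hC, mul_assoc, hj2, mul_one, tt]
  have h5 : ∀ j ∈ JC, ♯O * ♯(O ⊓ C{t} ⊓ C{j}) ^ 2 =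
      ♯(O ⊓ C{t}) * ♯(O ⊓ C{j}) * ♯(O ⊓ C{t * j}) := fun j hj => by
    obtain ⟨⟨hY, hC⟩, hn, hj2⟩ := mem_fs.1 hj
    have := H5.four_formula ho tt hj2 (mem_C1.1 hC) t1 (fun e => hn (e ▸ one_mem _))
      (fun e => hn (e ▸ htA)) (fun x hx => hO.conj_mem (hA htA) hx) fun x hx => hO.conj_mem hY hx
    rwa [show O ⊓ centralizer {t, j} = O ⊓ C{t} ⊓ C{j} by
      ext x; simp [mem_centralizer_iff, and_assoc]] at this
  have h6 : ∀ j ∈ JC, O ⊓ C{t} ⊓ C{t * j} = O ⊓ C{t} ⊓ C{j} := fun j hj => by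
    ext x
    simp only [Subgroup.mem_inf, mem_C1, and_congr_right_iff]
    intro hx
    rw [← mul_assoc, hx.2, mul_assoc, mul_assoc, mul_right_inj]
  set r : ℝ := √((♯O : ℝ) / ♯(O ⊓ C{t})) with hr
  have p0 : (0 : ℝ) < ♯(O ⊓ C{t}) := by exact_mod_cast H24.card_pos _
  have pO : (0 : ℝ) < ♯O := by exact_mod_cast H24.card_pos _
  have r2 : r ^ 2 = (♯O : ℝ) / ♯(O ⊓ C{t}) := Real.sq_sqrt (by positivity)
  have r0 : 0 ≤ r := Real.sqrt_nonneg _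
  have h7 : ∀ j ∈ JC, (♯O : ℝ) * ♯(O ⊓ C{t} ⊓ C{j}) / (♯(O ⊓ C{t}) * ♯(O ⊓ C{j})) ≤ n j / n0 j := by
    intro j hj
    have a1 : (♯O : ℝ) ≤ n j * ♯(O ⊓ C{j}) := by exact_mod_cast h1 j hj
    have a2 : (n0 j : ℝ) * ♯(O ⊓ C{t} ⊓ C{j}) ≤ ♯(O ⊓ C{t}) := by exact_mod_cast h2 j hj
    have a3 : (0 : ℝ) < n0 j := by exact_mod_cast h3 j hj
    have a4 : (0 : ℝ) < ♯(O ⊓ C{j}) := by exact_mod_cast H24.card_pos _
    rw [div_le_div_iff₀ (by positivity) a3]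
    calc _ = (♯O : ℝ) * (n0 j * ♯(O ⊓ C{t} ⊓ C{j})) := by ring
      _ ≤ (n j * ♯(O ⊓ C{j})) * ♯(O ⊓ C{t}) := by gcongr
      _ = _ := by ring
  have h8 : ∀ j ∈ JC, 2 * r ≤ n j / n0 j + n (t * j) / n0 (t * j) := fun j hj => by
    have a1 := h7 j hj
    have a2 := h7 _ (h4 j hj)
    rw [h6 j hj] at a2
    have a3 : (♯O : ℝ) * ♯(O ⊓ C{t} ⊓ C{j}) ^ 2 =
      ♯(O ⊓ C{t}) * ♯(O ⊓ C{j}) * ♯(O ⊓ C{t * j}) := by exact_mod_cast h5 j hj
    have a4 : (0 : ℝ) < ♯(O ⊓ C{j}) := by exact_mod_cast H24.card_pos _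
    have a5 : (0 : ℝ) < ♯(O ⊓ C{t * j}) := by exact_mod_cast H24.card_pos _
    refine le_trans ?_ (add_le_add a1 a2)
    set α := (♯O : ℝ) * ♯(O ⊓ C{t} ⊓ C{j}) / (♯(O ⊓ C{t}) * ♯(O ⊓ C{j})) with hα
    set β := (♯O : ℝ) * ♯(O ⊓ C{t} ⊓ C{j}) / (♯(O ⊓ C{t}) * ♯(O ⊓ C{t * j})) with hβ
    have e : α * β = r ^ 2 := by
      rw [r2, hα, hβ]
      field_simp
      linear_combination a3
    have : 0 ≤ α := by positivity
    have : 0 ≤ β := by positivity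
    refine abs_le_of_sq_le_sq' (by nlinarith [sq_nonneg (α - β)]) (by positivity) |>.2
  have h9 : ∑ j ∈ JC, (n (t * j) : ℝ) / n0 (t * j) = ∑ j ∈ JC, (n j : ℝ) / n0 j :=
    sum_bij (fun j _ => t * j) h4 (fun a _ b _ e => by simpa using e)
      (fun b hb => ⟨t * b, h4 b hb, by rw [← mul_assoc, tt, one_mul]⟩) fun _ _ => rfl
  have h10 := sum_le_sum h8
  rw [sum_add_distrib, h9, sum_const, nsmul_eq_mul] at h10
  have h11 : (#JC : ℝ) * r ≤ #J := by linarith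
  have h12 : ((#JC : ℝ) * r) ^ 2 ≤ (#J : ℝ) ^ 2 := by gcongr
  rw [mul_pow, r2, ← mul_div_assoc, div_le_iff₀ p0] at h12
  exact_mod_cast h12

end H24.QH
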