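import Mathlib
import Cfsg.Agent.H24.QHa
import Cfsg.Agent.H26.S01a

/-! Sums over `p`-sections in a group and in the centraliser of an involution. -/

set_option autoImplicit false

namespace H24.QH

open H24 Cfsg Subgroup Finset

universe u

variable {G : Type u} [Group G] [Fintype G] {p : ℕ} {Y P : Subgroup G} {t w y : G}

/-- the number of elements of `Y` conjugating `w` into `P` -/
noncomputable def cc (Y P : Subgroup G) (w : G) : ℕ := #(fs fun y => y ∈ Y ∧ y * w * y⁻¹ ∈ P)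

/-- the number of `Y`-conjugates of `w` in `P` -/
noncomputable def dd (Y P : Subgroup G) (w : G) : ℕ :=
  #(fs fun b => b ∈ P ∧ ∃ y ∈ Y, b = y * w * y⁻¹)

theorem cc_conj (hy : y ∈ Y) : cc Y P (y * w * y⁻¹) = cc Y P w := by
  refine card_bij (fun g _ => g * y) (fun g hg => ?_) (fun a _ b _ e => by simpa using e)
    (fun g hg => ⟨g * y⁻¹, ?_, by group⟩)
  · rw [mem_fs] at hg ⊢
    exact ⟨mul_mem hg.1 hy, by convert hg.2 using 1; group⟩
  · rw [mem_fs] at hg ⊢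
    exact ⟨mul_mem hg.1 (inv_mem hy), by convert hg.2 using 1; group⟩

theorem cc_pos (hp : p.Prime) (hP : Syl p Y P) (hw : w ∈ Y) (hw' : PiElt {p} w) :
    0 < cc Y P w := by
  obtain ⟨g, hg, h⟩ := Sylow_Jsub hp hP hw'.isPi (zpowers_le.2 hw)
  exact Finset.card_pos.2 ⟨g, mem_fs.2 ⟨hg, h (conj_mem_cj g (mem_zpowers w))⟩⟩

theorem cc_eq (Y P : Subgroup G) (w : G) : cc Y P w = dd Y P w * ♯(Y ⊓ C{w}) := by
  classical
  rw [cc, dd, card_eq_sum_card_fiberwise (f := fun g => g * w * g⁻¹)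
    (s := fs fun y => y ∈ Y ∧ y * w * y⁻¹ ∈ P) (t := fs fun b => b ∈ P ∧ ∃ y ∈ Y, b = y * w * y⁻¹)
    (fun g hg => by
      have := mem_fs.1 (mem_coe.1 hg)
      exact mem_coe.2 (mem_fs.2 ⟨this.2, g, this.1, rfl⟩)), ← smul_eq_mul, ← sum_const]
  refine sum_congr rfl fun b hb => ?_
  obtain ⟨h1, g, hg, rfl⟩ := mem_fs.1 hb
  rw [← card_fib hg]
  congr 1; ext a
  simp only [mem_filter, mem_fs]
  exact ⟨fun h => ⟨h.1.1, h.2⟩, fun h => ⟨⟨h.1, h.2 ▸ h1⟩, h.2⟩⟩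

open Classical in
theorem sum_fib {α : Type*} (hp : p.Prime) (hP : Syl p Y P) (Ω : Finset α) (act : G → α → α)
    (π : α → G) (θ : G → ℝ) (hact : ∀ y a, act y⁻¹ (act y a) = a)
    (hΩ : ∀ y ∈ Y, ∀ a ∈ Ω, act y a ∈ Ω) (hπ : ∀ y a, π (act y a) = y * π a * y⁻¹)
    (hm : ∀ a ∈ Ω, π a ∈ Y ∧ PiElt {p} (π a)) (hθ : ∀ y w, θ (y * w * y⁻¹) = θ w) :
    ∑ a ∈ Ω, θ (π a) = ♯Y * ∑ w ∈ fs (· ∈ P),
      θ w * (#(Ω.filter (π · = w)) / (dd Y P w * ♯(Y ⊓ C{w}))) := by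
  let φ : G → ℝ := fun w => if w ∈ P then θ w / cc Y P w else 0
  have h1 : ∀ a ∈ Ω, θ (π a) = ∑ y ∈ fs (· ∈ Y), φ (π (act y a)) := fun a ha => by
    have h0 : (cc Y P (π a) : ℝ) ≠ 0 := by
      exact_mod_cast (cc_pos hp hP (hm a ha).1 (hm a ha).2).ne'
    rw [sum_congr rfl (g := fun y => if y * π a * y⁻¹ ∈ P then θ (π a) / cc Y P (π a) else 0)
      fun y hy => by simp only [φ, hπ, hθ, cc_conj (mem_fs.1 hy)], ← sum_filter, sum_const,
      nsmul_eq_mul, show #((fs (· ∈ Y)).filter fun y => y * π a * y⁻¹ ∈ P) = cc Y P (π a) by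
        unfold cc; congr 1; ext y; simp]
    field_simp
  have h2 : ∀ y ∈ fs (· ∈ Y), ∑ a ∈ Ω, φ (π (act y a)) = ∑ a ∈ Ω, φ (π a) := fun y hy =>
    sum_bij (fun a _ => act y a) (fun a ha => hΩ y (mem_fs.1 hy) a ha)
      (fun a _ b _ e => by rw [← hact y a, e, hact])
      (fun b hb => ⟨act y⁻¹ b, hΩ _ (inv_mem (mem_fs.1 hy)) b hb, by
        simpa using hact y⁻¹ b⟩) fun _ _ => rfl
  rw [sum_congr rfl h1, sum_comm, sum_congr rfl h2, sum_const, card_fs_mem, nsmul_eq_mul]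
  congr 1
  rw [← sum_fiberwise_of_maps_to (g := π) (t := univ) fun _ _ => mem_univ _,
    show fs (· ∈ P) = univ.filter (· ∈ P) by ext; simp, sum_filter]
  refine sum_congr rfl fun w _ => ?_
  rw [sum_congr rfl (g := fun _ => φ w) fun a ha => by rw [(mem_filter.1 ha).2], sum_const,
    nsmul_eq_mul]
  simp only [φ, cc_eq]
  split_ifs
  · push_cast; ring
  · simp

/-- an abelian Sylow `p`-subgroup whose normaliser centralises the involution `t` -/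
structure Sit (p : ℕ) (P : Subgroup G) (t : G) : Prop where
  hp : p.Prime
  p2 : p ≠ 2
  ht : orderOf t = 2
  syl : Syl p ⊤ P
  abl : Abl P
  norm : N[P] ≤ C{t}

/-- the two types of `p`-elements -/
def Dich (t w : G) : Prop :=
  (∀ g, g * w * g⁻¹ = w ∨ g * w * g⁻¹ = w⁻¹ → g ∈ C{t}) ∨
    (Abl (C{t} ⊓ C{w}) ∧ ∀ x ∈ C{t} ⊓ C{w}, x * x = 1 → x = 1 ∨ x = t)

omit [Fintype G] in
theorem burn [Finite G] {A B R : Subgroup G} {r : ℕ} (hr : r.Prime) (hB : B ≤ A) (ha : Abl B)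
    (hR : Syl r B R) (h : A ⊓ N[R] ≤ B) : SD O[{r}ᶜ, A] R A :=
  H26.Burnside_normal_complement hr (hR.of_norm_le hr hB h) (h.trans (ha.cents le_rfl hR.le))

namespace Sit

theorem le (h : Sit p P t) : P ≤ C{t} := (norm_self P).trans h.norm

theorem sylH (h : Sit p P t) : Syl p C{t} P := h.syl.of_le h.le le_top

theorem le_C (h : Sit p P t) (hw : w ∈ P) : P ≤ C{w} := h.abl.le_C.trans (C_le_C1 hw)

theorem fus (h : Sit p P t) (hw : w ∈ P) {g : G} (hb : g * w * g⁻¹ ∈ P) :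
    ∃ y ∈ C{t}, g * w * g⁻¹ = y * w * y⁻¹ := by
  have h1 : Syl p C{g * w * g⁻¹} (cj g P) :=
    (h.syl.cj_mem (mem_top g)).of_le (cj_C1 g w ▸ cj_mono g (h.le_C hw)) le_top
  obtain ⟨c, hc, e⟩ := Sylow_trans h.hp h1 (h.syl.of_le (h.le_C hb) le_top)
  refine ⟨c * g, h.norm (mem_N_iff_cj.2 (by rw [cj_mul, ← e])), ?_⟩
  calc _ = c * (g * w * g⁻¹) * c⁻¹ := (mem_C1_iff_conj.1 hc).symm
    _ = _ := by group

theorem dd_eq (h : Sit p P t) (hw : w ∈ P) : dd ⊤ P w = dd C{t} P w := by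
  unfold dd
  congr 1; ext b
  simp only [mem_fs, and_congr_right_iff]
  refine fun hb => ⟨?_, fun ⟨y, _, e⟩ => ⟨y, mem_top _, e⟩⟩
  rintro ⟨g, -, rfl⟩
  exact h.fus hw hb

theorem sd (h : Sit p P t) (hw : w ∈ P) (ha : Abl (C{t} ⊓ C{w})) :
    SD O[{p}ᶜ, C{w}] P C{w} :=
  burn h.hp inf_le_right ha (h.syl.of_le (le_inf h.le (h.le_C hw)) le_top)
    (le_inf (inf_le_right.trans h.norm) inf_le_left)

theorem constt_iff (h : Sit p P t) (hw : w ∈ P) (ha : Abl (C{t} ⊓ C{w})) {g : G} :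
    constt {p} g = w ↔ w⁻¹ * g ∈ O[{p}ᶜ, C{w}] := by
  constructor
  · rintro rfl
    rw [show (constt {p} g)⁻¹ * g = constt {p}ᶜ g by
      rw [inv_mul_eq_iff_eq_mul, constt_mul_constt]]
    exact ((h.sd hw ha).hall_left (pcore_pi _ _) (by simpa using h.syl.pi)).mem_pcore
      (piElt_constt _ _) (mem_C1.2 (constt_comm _ _ _))
  · intro hg
    rw [show g = w * (w⁻¹ * g) by group]
    exact constt_mul_of (h.syl.pi.piElt hw) ((pcore_pi _ _).piElt hg)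
      (mem_C1.1 (pcore_le _ _ hg)).symm

open Classical in
theorem fib_eq (h : Sit p P t) (hw : w ∈ P) (ha : Abl (C{t} ⊓ C{w})) (hY : P ≤ Y) :
    (#((fs (· ∈ Y)).filter (constt {p} · = w)) : ℝ) * ♯P = ♯(Y ⊓ C{w}) := by
  have h1 := ((h.sd hw ha).modr (le_inf hY (h.le_C hw)) inf_le_right).card
  rw [h1, Nat.cast_mul, ← card_fs_mem (_ ⊓ _)]
  congr 2
  refine card_bij (fun g _ => w⁻¹ * g) (fun g hg => ?_) (fun a _ b _ e => by simpa using e)
    (fun g hg => ⟨w * g, ?_, by group⟩)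
  · rw [mem_filter, mem_fs, h.constt_iff hw ha] at hg
    exact mem_fs.2 ⟨hg.2, Y.mul_mem (Y.inv_mem (hY hw)) hg.1, pcore_le _ _ hg.2⟩
  · rw [mem_fs] at hg
    rw [mem_filter, mem_fs, h.constt_iff hw ha]
    exact ⟨mul_mem (hY hw) hg.2.1, by simpa using hg.1⟩

/-- transfer of averages from `C(t)` to `G` -/
theorem avg (h : Sit p P t) (θ : G → ℝ) (hθ : ∀ y w, θ (y * w * y⁻¹) = θ w)
    (hD : ∀ w ∈ P, θ w ≠ 0 → Dich t w) :
    ♯C{t} * ∑ g, θ (constt {p} g) = Nat.card G * ∑ g ∈ fs (· ∈ C{t}), θ (constt {p} g) := by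
  classical
  have key : ∀ {Y : Subgroup G}, Syl p Y P → ∑ g ∈ fs (· ∈ Y), θ (constt {p} g) = _ := fun hY =>
    sum_fib h.hp hY _ (fun y a => y * a * y⁻¹) (constt {p}) θ (fun y a => by group)
      (fun y hy a ha => mem_fs.2 (mul_mem (mul_mem hy (mem_fs.1 ha)) (inv_mem hy)))
      (fun y a => constt_conj _ _ _)
      (fun a ha => ⟨constt_mem _ (mem_fs.1 ha), piElt_constt _ _⟩) hθ
  rw [show (univ : Finset G) = fs (· ∈ (⊤ : Subgroup G)) by ext; simp, key h.syl, key h.sylH,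
    card_top, mul_left_comm]
  congr 2
  refine sum_congr rfl fun w hw => ?_
  have hw := mem_fs.1 hw
  by_cases h0 : θ w = 0
  · simp [h0]
  rw [h.dd_eq hw]
  congr 1
  rcases hD w hw h0 with h1 | h1
  · have h2 : C{w} ≤ C{t} := fun g hg => h1 g (.inl (mem_C1_iff_conj.1 hg))
    rw [top_inf_eq, inf_eq_right.2 h2]
    congr 3
    ext g
    simp only [mem_filter, mem_fs, mem_top, true_and, iff_and_self]
    rintro rfl
    exact h2 (C1_le_C1_constt _ _ (self_mem_C1 g))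
  · rw [← h.fib_eq hw h1.1 le_top, ← h.fib_eq hw h1.1 h.le]
    have a1 := h.fib_eq hw h1.1 le_top
    have a2 := h.fib_eq hw h1.1 h.le
    have b1 : (#((fs (· ∈ (⊤ : Subgroup G))).filter (constt {p} · = w)) : ℝ) ≠ 0 := fun e => by
      rw [e, zero_mul] at a1; exact H24.card_ne_zero _ (by exact_mod_cast a1.symm)
    have b2 : (#((fs (· ∈ C{t})).filter (constt {p} · = w)) : ℝ) ≠ 0 := fun e => by
      rw [e, zero_mul] at a2; exact H24.card_ne_zero _ (by exact_mod_cast a2.symm)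
    rw [mul_left_comm, div_mul_cancel_left₀ b1, mul_left_comm, div_mul_cancel_left₀ b2]

end Sit

end H24.QH
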