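import Mathlib
import Cfsg.Agent.H24.QHb

/-! Counting pairs of involutions whose product has a given `p`-part. -/

set_option autoImplicit false

namespace H24.QH

open H24 Cfsg Subgroup Finset

universe u

variable {G : Type u} [Group G] [Fintype G] {p : ℕ} {Y P K : Subgroup G} {t w a b v : G}

/-- involutions of `Y` inverting `w` -/
noncomputable def JJ (Y : Subgroup G) (w : G) : Finset G :=
  fs fun a => a ∈ Y ∧ a * a = 1 ∧ a * w * a⁻¹ = w⁻¹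

/-- pairs of elements of order at most two -/
noncomputable def II (Y : Subgroup G) : Finset (G × G) :=
  fs (fun a => a ∈ Y ∧ a * a = 1) ×ˢ fs fun a => a ∈ Y ∧ a * a = 1

/-- the extended centraliser -/
def Cs (w : G) : Subgroup G where
  carrier := {g | g * w * g⁻¹ = w ∨ g * w * g⁻¹ = w⁻¹}
  one_mem' := .inl (by simp)
  mul_mem' := by
    intro a b ha hb
    have e : a * b * w * (a * b)⁻¹ = a * (b * w * b⁻¹) * a⁻¹ := by group
    have e' : a * w⁻¹ * a⁻¹ = (a * w * a⁻¹)⁻¹ := by group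
    simp only [Set.mem_ofPred_eq] at ha hb ⊢
    rcases hb with hb | hb
    · rw [e, hb]; exact ha
    · rw [e, hb, e']; rcases ha with ha | ha <;> simp [ha]
  inv_mem' := by
    intro a ha
    simp only [Set.mem_ofPred_eq, inv_inv] at ha ⊢
    rcases ha with ha | ha
    · left; conv_lhs => rw [← ha]
      group
    · right; rw [← inv_eq_iff_eq_inv]
      calc _ = a⁻¹ * w⁻¹ * a := by group
        _ = _ := by rw [← ha]; group

omit [Fintype G] in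
theorem mem_Cs : a ∈ Cs w ↔ a * w * a⁻¹ = w ∨ a * w * a⁻¹ = w⁻¹ := Iff.rfl

omit [Fintype G] in
theorem C_nml_Cs (w : G) : C{w} ⊴ Cs w := by
  refine ⟨fun g hg => .inl (mem_C1_iff_conj.1 hg), fun g hg => mem_N_iff_cj.2 ?_⟩
  rw [cj_C1]
  rcases hg with h | h
  · rw [h]
  · rw [h, ← C_zpowers, zpowers_inv, C_zpowers]

theorem inv_constt (π : Set ℕ) (ha : a * a = 1) (hb : b * b = 1) :
    a * constt π (a * b) * a⁻¹ = (constt π (a * b))⁻¹ ∧
      b * constt π (a * b) * b⁻¹ = (constt π (a * b))⁻¹ := by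
  obtain ⟨k, hk⟩ := constt_mem_zpowers π (a * b)
  have h1 := eq_inv_of_mul_eq_one_left ha
  have h2 := eq_inv_of_mul_eq_one_left hb
  simp only at hk
  rw [← hk, ← conj_zpow, ← conj_zpow, ← inv_zpow, mul_inv_rev, ← h1, ← h2, ← mul_assoc a a, ha,
    one_mul, mul_assoc, mul_assoc, hb, mul_one]
  exact ⟨rfl, rfl⟩

theorem JJ_conj (hv : v ∈ Y) (hc : v ∈ C{w}) (ha : a ∈ JJ Y w) : v * a * v⁻¹ ∈ JJ Y w := by
  obtain ⟨h1, h2, h3⟩ := mem_fs.1 ha
  refine mem_fs.2 ⟨mul_mem (mul_mem hv h1) (inv_mem hv), ?_, ?_⟩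
  · calc _ = v * (a * a) * v⁻¹ := by group
      _ = 1 := by rw [h2]; group
  · calc _ = v * (a * (v⁻¹ * w * v⁻¹⁻¹) * a⁻¹) * v⁻¹ := by group
      _ = (v * w * v⁻¹)⁻¹ := by rw [mem_C1_iff_conj.1 (inv_mem hc), h3]; group
      _ = _ := by rw [mem_C1_iff_conj.1 hc]

theorem JJ_mul (ha : a ∈ JJ ⊤ w) : a * w ∈ JJ ⊤ w := by
  obtain ⟨h1, h2, h3⟩ := mem_fs.1 ha
  refine mem_fs.2 ⟨mem_top _, ?_, ?_⟩
  · calc _ = a * w * a⁻¹ * (a * a) * w := by group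
      _ = 1 := by rw [h2, h3]; group
  · rw [← h3]; group

open Classical in
/-- involutions inverting `w` in a coset of `K` -/
noncomputable def nn (Y K : Subgroup G) (w a : G) : ℕ := #((JJ Y w).filter fun b => a⁻¹ * b ∈ K)

theorem nn_conj (hv : v ∈ Y) (hc : v ∈ C{w}) (hK : v ∈ N[K]) :
    nn Y K w (v * a * v⁻¹) = nn Y K w a := by
  classical
  symm
  refine card_bij (fun g _ => v * g * v⁻¹) (fun g hg => ?_) (fun a _ b _ e => by simpa using e)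
    (fun g hg => ⟨v⁻¹ * g * v⁻¹⁻¹, ?_, by group⟩)
  · rw [mem_filter] at hg ⊢
    exact ⟨JJ_conj hv hc hg.1, by convert conj_mem hK hg.2 using 1; group⟩
  · rw [mem_filter] at hg ⊢
    exact ⟨JJ_conj (inv_mem hv) (inv_mem hc) hg.1, by convert conj_mem' hK hg.2 using 1; group⟩

theorem nn_congr (h : a⁻¹ * b ∈ K) : nn Y K w a = nn Y K w b := by
  classical
  refine congrArg card (filter_congr fun x _ => ⟨fun e => ?_, fun e => ?_⟩)
  · convert mul_mem (inv_mem h) e using 1; group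
  · convert mul_mem h e using 1; group

namespace Sit

theorem odd (h : Sit p P t) (hw : PiElt {p} w) : Odd (orderOf w) := by
  obtain ⟨k, hk⟩ := hw.exists_pow h.hp
  rw [hk]; exact (h.hp.odd_of_ne_two h.p2).pow

theorem ne_inv (h : Sit p P t) (hw : PiElt {p} w) (h1 : w ≠ 1) : w ≠ w⁻¹ := fun e => by
  have h2 : orderOf w ∣ 2 := orderOf_dvd_of_pow_eq_one (by rw [pow_two]; nth_rw 1 [e]; simp)
  rcases (Nat.dvd_prime Nat.prime_two).1 h2 with h3 | h3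
  · exact h1 (orderOf_eq_one_iff.1 h3)
  · have := h.odd hw; rw [h3] at this; exact absurd this (by decide)

theorem Cs_le (w : G) (π : Set ℕ) : Cs w ≤ N[O[π, C{w}]] := norm_pcore _ (C_nml_Cs w).norm

theorem exists_v (h : Sit p P t) (hw : w ∈ P) (hab : Abl (C{t} ⊓ C{w})) (ha : a ∈ JJ ⊤ w)
    (hb : b ∈ JJ ⊤ w) : ∃ v ∈ P, (v * a * v⁻¹)⁻¹ * b ∈ O[{p}ᶜ, C{w}] := by
  obtain ⟨-, a2, a3⟩ := mem_fs.1 ha
  obtain ⟨-, b2, b3⟩ := mem_fs.1 hb
  have a1 := eq_inv_of_mul_eq_one_left a2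
  have hs := h.sd hw hab
  have hc : a * b ∈ C{w} := mem_C1_iff_conj.2 (by
    calc _ = a * (b * w * b⁻¹) * a⁻¹ := by group
      _ = (a * w * a⁻¹)⁻¹ := by rw [b3]; group
      _ = w := by rw [a3, inv_inv])
  obtain ⟨z, hz, e⟩ := exists_conj_of_inv (h.odd (piElt_constt {p} (a * b)))
    (inv_constt {p} a2 b2).1
  obtain ⟨k, hk, v, hv, rfl⟩ := hs.isProd.mul z (zpowers_le.2 (constt_mem {p} hc) hz)
  have hk' : constt {p}ᶜ (a * b) ∈ O[{p}ᶜ, C{w}] :=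
    (hs.hall_left (pcore_pi _ _) (by simpa using h.syl.pi)).mem_pcore
      (piElt_constt _ _) (constt_mem _ hc)
  have hn : v * a * v⁻¹ ∈ N[O[{p}ᶜ, C{w}]] :=
    Cs_le w _ (.inr (mem_fs.1 (JJ_conj (mem_top v) (h.le_C hw hv) ha)).2.2)
  refine ⟨v, hv, ?_⟩
  have e2 : b = k * v * a * (k * v)⁻¹ * constt {p}ᶜ (a * b) := by
    rw [← e, mul_assoc, constt_mul_constt, ← mul_assoc, a2, one_mul]
  have := mul_mem (mul_mem (conj_mem' hn hk) (inv_mem hk)) hk'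
  convert this using 1
  nth_rw 1 [e2]
  group

theorem nn_eq (h : Sit p P t) (hw : w ∈ P) (hab : Abl (C{t} ⊓ C{w})) (hY : P ≤ Y)
    (ha : a ∈ JJ ⊤ w) (hb : b ∈ JJ ⊤ w) :
    nn Y O[{p}ᶜ, C{w}] w b = nn Y O[{p}ᶜ, C{w}] w a := by
  obtain ⟨v, hv, e⟩ := h.exists_v hw hab ha hb
  rw [← nn_congr e, nn_conj (hY hv) (h.le_C hw hv)
    (Cs_le w _ ((C_nml_Cs w).le (h.le_C hw hv)))]

theorem nn_mul (h : Sit p P t) (hw : w ∈ P) (hab : Abl (C{t} ⊓ C{w})) (hY : P ≤ Y)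
    (ha : a ∈ JJ ⊤ w) : ♯P * nn Y O[{p}ᶜ, C{w}] w a =
      #(JJ Y w) * #(fs fun v => v ∈ P ∧ (v * a * v⁻¹)⁻¹ * a ∈ O[{p}ᶜ, C{w}]) := by
  classical
  rw [← card_fs_mem, ← smul_eq_mul, ← sum_const, ← smul_eq_mul, ← sum_const,
    sum_congr rfl (g := fun v => ∑ b ∈ JJ Y w,
      if (v * a * v⁻¹)⁻¹ * b ∈ O[{p}ᶜ, C{w}] then 1 else 0) fun v hv => ?_, sum_comm]
  · refine sum_congr rfl fun b hb => ?_
    obtain ⟨v, hv, e⟩ := h.exists_v hw hab ha (mem_fs.2 ⟨mem_top b, (mem_fs.1 hb).2⟩)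
    have hn := Cs_le w {p}ᶜ ((C_nml_Cs w).le (h.le_C hw hv))
    rw [← card_filter]
    refine card_bij (fun g _ => v⁻¹ * g) (fun g hg => ?_) (fun a _ b _ e => by simpa using e)
      (fun g hg => ⟨v * g, ?_, by group⟩)
    · rw [mem_filter, mem_fs] at hg
      refine mem_fs.2 ⟨mul_mem (inv_mem hv) hg.1, ?_⟩
      convert conj_mem' hn (mul_mem hg.2 (inv_mem e)) using 1; group
    · rw [mem_fs] at hg
      rw [mem_filter, mem_fs]
      refine ⟨mul_mem hv hg.1, ?_⟩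
      convert mul_mem (conj_mem hn hg.2) e using 1; group
  · have hv := mem_fs.1 hv
    rw [← nn_conj (hY hv) (h.le_C hw hv) (Cs_le w _ ((C_nml_Cs w).le (h.le_C hw hv))), nn,
      card_filter]

open Classical in
theorem pair_eq (h : Sit p P t) (hw : w ∈ P) (hab : Abl (C{t} ⊓ C{w})) (hY : P ≤ Y)
    (ha : a ∈ JJ ⊤ w) : ♯P * #((II Y).filter fun x => constt {p} (x.1 * x.2) = w) =
      #(JJ Y w) ^ 2 * #(fs fun v => v ∈ P ∧ (v * a * v⁻¹)⁻¹ * a ∈ O[{p}ᶜ, C{w}]) := by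
  have e : (II Y).filter (fun x => constt {p} (x.1 * x.2) = w) =
      (JJ Y w ×ˢ JJ Y w).filter fun x => (x.1 * w)⁻¹ * x.2 ∈ O[{p}ᶜ, C{w}] := by
    ext ⟨x, y⟩
    simp only [II, JJ, mem_filter, mem_product, mem_fs]
    constructor
    · rintro ⟨⟨h1, h2⟩, h3⟩
      have := inv_constt {p} h1.2 h2.2
      rw [h3] at this
      refine ⟨⟨⟨h1.1, h1.2, this.1⟩, h2.1, h2.2, this.2⟩, ?_⟩
      rw [mul_inv_rev, ← eq_inv_of_mul_eq_one_left h1.2, mul_assoc]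
      exact (h.constt_iff hw hab).1 h3
    · rintro ⟨⟨h1, h2⟩, h3⟩
      rw [mul_inv_rev, ← eq_inv_of_mul_eq_one_left h1.2.1, mul_assoc] at h3
      exact ⟨⟨⟨h1.1, h1.2.1⟩, h2.1, h2.2.1⟩, (h.constt_iff hw hab).2 h3⟩
  rw [e, card_filter, sum_product, sum_congr rfl (g := fun _ => nn Y O[{p}ᶜ, C{w}] w a)
    fun x hx => ?_, sum_const, smul_eq_mul, mul_left_comm, h.nn_mul hw hab hY ha]
  · ring
  · rw [← h.nn_eq hw hab hY ha (JJ_mul (mem_fs.2 ⟨mem_top x, (mem_fs.1 hx).2⟩)), nn, card_filter]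

theorem JJ_le (h : Sit p P t) (hw : w ∈ P) (h1 : w ≠ 1) (hab : Abl (C{t} ⊓ C{w}))
    (hi : ∀ x ∈ C{t} ⊓ C{w}, x * x = 1 → x = 1 ∨ x = t) :
    #(JJ C{t} w) ^ 2 * ♯C{w} ≤ #(JJ ⊤ w) ^ 2 * ♯(C{t} ⊓ C{w}) := by
  have tt : t * t = 1 := by rw [← pow_two, ← h.ht, pow_orderOf_eq_one]
  have t1 : t ≠ 1 := fun e => by simpa [e] using h.ht
  have htw : t ∈ C{w} := mem_C1_comm.1 (h.le hw)
  obtain ⟨R, hR, htR⟩ := Sylow_superset Nat.prime_two
    (piElt_of_orderOf_prime Nat.prime_two h.ht).isPi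
    (zpowers_le.2 (show t ∈ C{t} ⊓ C{w} from ⟨self_mem_C1 t, htw⟩))
  have hs := burn Nat.prime_two inf_le_right hab hR fun g hg => ⟨by
    have h2 := conj_mem hg.2 (htR (mem_zpowers t))
    rcases hi _ (hR.le h2) (by
      calc _ = g * (t * t) * g⁻¹ := by group
        _ = 1 := by rw [tt]; group) with h3 | h3
    · exact absurd (conj_eq_one_iff'.1 h3) t1
    · exact mem_C1_iff_conj.2 h3, hg.1⟩
  have ho : Odd ♯O[{2}ᶜ, C{w}] := Nat.odd_iff.2 (Nat.two_dvd_ne_zero.1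
    ((isPi_compl_iff Nat.prime_two).1 (pcore_pi _ _)))
  have h2 := count_inv ((C_nml_Cs w).pcore {2}ᶜ) ho h.ht htw (pcore_le _ _) (C_nml_Cs w).le
  have hne := h.ne_inv (h.syl.pi.piElt hw) h1
  have key : ∀ Y : Subgroup G, {a | a ∈ Cs w ⊓ Y ∧ a ∉ C{w} ∧ a * a = 1}.ncard = #(JJ Y w) := by
    intro Y
    rw [ncard_fs]; congr 1; ext x
    simp only [JJ, mem_fs, Subgroup.mem_inf, mem_Cs, mem_C1_iff_conj]
    exact ⟨fun e => ⟨e.1.2, e.2.2, e.1.1.resolve_left e.2.1⟩,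
      fun e => ⟨⟨.inr e.2.2, e.1⟩, fun e' => hne (e'.symm.trans e.2.2), e.2.1⟩⟩
  rw [key, ← inf_top_eq (Cs w), key] at h2
  have h3 := (hs.isProd.mono_right hR.le inf_le_right).card
  rw [← inf_assoc, inf_eq_left.2 (inf_le_left.trans (pcore_le _ _))] at h3
  refine Nat.le_of_mul_le_mul_right ?_ (H24.card_pos (O[{2}ᶜ, C{w}] ⊓ C{t}))
  rw [mul_assoc, h3, ← mul_assoc, mul_right_comm (#(JJ ⊤ w) ^ 2)]
  exact Nat.mul_le_mul_right _ h2

/-- comparison of the sums over pairs of involutions -/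
theorem pairs (h : Sit p P t) (θ : G → ℝ) (hθ : ∀ y w, θ (y * w * y⁻¹) = θ w)
    (h0 : ∀ w, 0 ≤ θ w) (h1 : θ 1 = 0) (hD : ∀ w ∈ P, θ w ≠ 0 → Dich t w) :
    Nat.card G * ∑ x ∈ II C{t}, θ (constt {p} (x.1 * x.2)) ≤
      ♯C{t} * ∑ x ∈ II ⊤, θ (constt {p} (x.1 * x.2)) := by
  classical
  have key : ∀ {Y : Subgroup G}, Syl p Y P →
      ∑ x ∈ II Y, θ (constt {p} (x.1 * x.2)) = _ := fun {Y} hY =>
    sum_fib h.hp hY _ (fun y a => (y * a.1 * y⁻¹, y * a.2 * y⁻¹))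
      (fun x => constt {p} (x.1 * x.2)) θ (fun y a => by simp [mul_assoc])
      (fun y hy a ha => by
        have k : ∀ x, x ∈ Y ∧ x * x = 1 → y * x * y⁻¹ ∈ Y ∧ y * x * y⁻¹ * (y * x * y⁻¹) = 1 :=
          fun x hx => ⟨mul_mem (mul_mem hy hx.1) (inv_mem hy), by
            calc _ = y * (x * x) * y⁻¹ := by group
              _ = 1 := by rw [hx.2]; group⟩
        simp only [II, mem_product, mem_fs] at ha ⊢
        exact ⟨k _ ha.1, k _ ha.2⟩)
      (fun y a => by rw [← constt_conj]; congr 1; group)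
      (fun a ha => by
        simp only [II, mem_product, mem_fs] at ha
        exact ⟨constt_mem _ (mul_mem ha.1.1 ha.2.1), piElt_constt _ _⟩) hθ
  rw [key h.syl, key h.sylH, card_top, mul_left_comm]
  refine mul_le_mul_of_nonneg_left (mul_le_mul_of_nonneg_left (sum_le_sum fun w hw => ?_)
    (by positivity)) (by positivity)
  have hw := mem_fs.1 hw
  by_cases e0 : θ w = 0
  · simp [e0]
  rw [h.dd_eq hw]
  refine mul_le_mul_of_nonneg_left ?_ (h0 w)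
  rw [mul_comm (dd _ _ _ : ℝ), mul_comm (dd _ _ _ : ℝ), ← div_div, ← div_div]
  gcongr ?_ / _
  rw [top_inf_eq]
  rcases hD w hw e0 with h2 | h2
  · rw [inf_eq_right.2 fun g hg => h2 g (.inl (mem_C1_iff_conj.1 hg))]
    gcongr
    intro x hx
    simp only [II, mem_product, mem_fs] at hx ⊢
    exact ⟨⟨mem_top _, hx.1.2⟩, mem_top _, hx.2.2⟩
  rcases (JJ ⊤ w).eq_empty_or_nonempty with h3 | ⟨a, ha⟩
  · rw [show (II C{t}).filter (fun x => constt {p} (x.1 * x.2) = w) = ∅ from ?_]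
    · simp only [card_empty, Nat.cast_zero, zero_div]; positivity
    refine filter_eq_empty_iff.2 fun x hx e => ?_
    simp only [II, mem_product, mem_fs] at hx
    have := (inv_constt {p} hx.1.2 hx.2.2).1
    rw [e] at this
    exact (h3 ▸ notMem_empty x.1) (mem_fs.2 ⟨mem_top _, hx.1.2, this⟩ : x.1 ∈ JJ ⊤ w)
  have a1 := h.pair_eq hw h2.1 le_top ha
  have a2 := h.pair_eq hw h2.1 h.le ha
  have a3 := h.JJ_le hw (fun e => e0 (e ▸ h1)) h2.1 h2.2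
  rw [div_le_div_iff₀ (by exact_mod_cast H24.card_pos _) (by exact_mod_cast H24.card_pos _)]
  norm_cast
  refine Nat.le_of_mul_le_mul_left ?_ (H24.card_pos P)
  rw [← mul_assoc, ← mul_assoc, a1, a2, mul_right_comm, mul_right_comm (#(JJ ⊤ w) ^ 2)]
  exact Nat.mul_le_mul_right _ a3

end Sit

end H24.QH
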