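import Mathlib
import Cfsg.Agent.H24.QHc
import Cfsg.Agent.H4.LemT
import Cfsg.Agent.H18.WS1

/-! A generalized character of norm three lifted from an abelian Sylow subgroup. -/

set_option autoImplicit false

namespace H24.QH

open H24 H4 Cfsg Subgroup Finset
open H4.LT (Lin)
open scoped ComplexConjugate

universe u

variable {G : Type u} [Group G] [Fintype G] {p : ℕ} {Y P Lt : Subgroup G} {t s g x : G}
  {lam : G → ℂ}

theorem sum_II {Φ : G → ℂ} (h0 : ∀ g, g * g = 1 → Φ g = 0) {A : Finset G}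
    (hA : ∀ a ∈ A, a ∈ Y ∧ a * a = 1) (hA' : ∀ a ∈ Y, a * a = 1 → a ∈ A ∨ Y ≤ C{a}) :
    ∑ x ∈ II Y, Φ (x.1 * x.2) = ∑ a ∈ A, ∑ b ∈ A, Φ (a * b) := by
  rw [← sum_product']
  symm
  refine sum_subset (fun x hx => ?_) fun x hx hx' => h0 _ ?_
  · simp only [II, mem_product, mem_fs] at hx ⊢
    exact ⟨hA _ hx.1, hA _ hx.2⟩
  · simp only [II, mem_product, mem_fs] at hx hx'
    have : x.2 * x.1 = x.1 * x.2 := by
      rcases hA' _ hx.1.1 hx.1.2 with h1 | h1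
      · exact (mem_C1.1 ((hA' _ hx.2.1 hx.2.2).resolve_left (fun e => hx' ⟨h1, e⟩) hx.1.1)).symm
      · exact mem_C1.1 (h1 hx.2.1)
    rw [mul_assoc, ← mul_assoc x.2, this, mul_assoc, hx.2.2, mul_one, hx.1.2]

/-- a linear character of `p`-power order of a subgroup of index two of `C(t)` -/
structure LS (p : ℕ) (P Lt : Subgroup G) (t : G) (lam : G → ℂ) : Prop extends Sit p P t where
  lin : Lin Lt lam
  nml : Lt ⊴ C{t}
  P_le : P ≤ Lt
  idx : Lt.relIndex C{t} = 2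
  out : ∀ h ∈ C{t}, h ∉ Lt → ∀ g ∈ Lt, lam (h * g * h⁻¹) = (lam g)⁻¹
  pp : ∀ g ∈ Lt, PiElt {p}ᶜ g → lam g = 1
  ne : ∃ x ∈ Lt, lam x ≠ 1
  dich : ∀ w ∈ P, lam w ≠ 1 → Dich t w

/-- `2 - λ - λ̄` -/
noncomputable def psi (lam : G → ℂ) (g : G) : ℂ := 2 - lam g - (lam g)⁻¹

namespace LS

theorem inv (h : LS p P Lt t lam) : LS p P Lt t fun g => (lam g)⁻¹ :=
  { h with
    lin := h.lin.inv'
    out := fun a ha ha' g hg => by rw [h.out a ha ha' g hg]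
    pp := fun g hg h1 => by rw [h.pp g hg h1, inv_one]
    ne := h.ne.imp fun x hx => ⟨hx.1, by simpa using hx.2⟩
    dich := fun w hw h1 => h.dich w hw (by simpa using h1) }

theorem mul_mem (h : LS p P Lt t lam) (hg : g ∈ C{t}) (hx : x ∈ C{t}) :
    g * x ∈ Lt ↔ (g ∈ Lt ↔ x ∈ Lt) :=
  mul_mem_iff_of_index_two (H := Lt.subgroupOf C{t}) h.idx (a := ⟨g, hg⟩) (b := ⟨x, hx⟩)

theorem odd_mem (h : LS p P Lt t lam) (hg : g ∈ C{t}) (ho : Odd (orderOf g)) : g ∈ Lt := by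
  obtain ⟨k, hk⟩ := ho
  have : g = ((g * g) ^ k)⁻¹ := by
    rw [eq_inv_iff_mul_eq_one, ← pow_two, ← pow_mul, ← pow_succ', ← hk, pow_orderOf_eq_one]
  rw [this]
  exact inv_mem (pow_mem ((h.mul_mem hg hg).2 Iff.rfl) _)

theorem lam_constt (h : LS p P Lt t lam) (hg : g ∈ Lt) : lam (constt {p} g) = lam g := by
  conv_rhs => rw [← constt_mul_constt {p} g]
  rw [h.lin.mul _ (constt_mem _ hg) _ (constt_mem _ hg), h.pp _ (constt_mem _ hg)
    (piElt_constt _ _), mul_one]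

theorem eq_one (h : LS p P Lt t lam) (hg : g ∈ Lt) (h2 : lam g ^ 2 = 1) : lam g = 1 := by
  rw [← h.lam_constt hg] at h2 ⊢
  exact h.lin.eq_one_of_odd (constt_mem _ hg) (h.odd (piElt_constt _ _)) h2

theorem psi_conj (h : LS p P Lt t lam) (hx : x ∈ C{t}) (hg : g ∈ Lt) :
    psi lam (x * g * x⁻¹) = psi lam g := by
  by_cases h1 : x ∈ Lt
  · have := h.lin.conj_mem (inv_mem h1) hg
    rw [inv_inv] at this
    rw [psi, this, psi]
  · rw [psi, h.out x hx h1 g hg, psi, inv_inv]; ring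

theorem psi_real (h : LS p P Lt t lam) (hg : g ∈ Lt) :
    psi lam g = (Complex.normSq (1 - lam g) : ℝ) := by
  rw [← Complex.mul_conj, map_sub, map_one, h.lin.conj_eq hg, psi]
  have := h.lin.ne_zero hg
  field_simp
  ring

theorem sum_lam (h : LS p P Lt t lam) : ∑ g ∈ fs (· ∈ Lt), lam g = 0 ∧
    ∑ g ∈ fs (· ∈ Lt), lam g * lam g = 0 := by
  obtain ⟨x, hx, h1⟩ := h.ne
  rw [show fs (· ∈ Lt) = LT.fs Lt by ext; simp]
  exact ⟨h.lin.sum_eq_zero hx h1, (h.lin.mul' h.lin).sum_eq_zero hx fun e =>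
    h1 (h.eq_one hx (by rw [pow_two, e]))⟩

theorem card_H (h : LS p P Lt t lam) : (♯C{t} : ℂ) = 2 * ♯Lt := by
  rw [← card_mul_relIndex h.nml.le, h.idx]; push_cast; ring

theorem sum_psi (h : LS p P Lt t lam) : ∑ g ∈ fs (· ∈ Lt), psi lam g = ♯C{t} ∧
    ∑ g ∈ fs (· ∈ Lt), psi lam g * psi lam g = 3 * ♯C{t} := by
  obtain ⟨a1, a2⟩ := h.sum_lam
  obtain ⟨b1, b2⟩ := h.inv.sum_lam
  rw [sum_congr rfl (g := fun g => 6 - 4 * lam g - 4 * (lam g)⁻¹ + lam g * lam g +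
    (lam g)⁻¹ * (lam g)⁻¹) (f := fun g => psi lam g * psi lam g) fun g hg => by
      have := h.lin.ne_zero (mem_fs.1 hg)
      rw [psi]; field_simp; ring]
  simp only [psi, sum_add_distrib, sum_sub_distrib, ← mul_sum, a1, a2, b1, b2, sum_const,
    card_fs_mem, nsmul_eq_mul, h.card_H]
  constructor <;> ring

theorem cls_out (h : LS p P Lt t lam) (hs : s ∈ C{t}) (hs' : s ∉ Lt) {a : G}
    (ha : a ∈ fs fun y => ∃ g ∈ C{t}, y = g * s * g⁻¹) : a ∈ C{t} ∧ a ∉ Lt := by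
  obtain ⟨g, hg, rfl⟩ := mem_fs.1 ha
  exact ⟨C{t}.mul_mem (C{t}.mul_mem hg hs) (inv_mem hg),
    fun e => hs' ((conj_mem_iff (h.nml.norm hg)).1 e)⟩

theorem sum_cls (h : LS p P Lt t lam) (hs : s ∈ C{t}) (hs' : s ∉ Lt) {b : G} (hb : b ∈ C{t})
    (hb' : b ∉ Lt) : ∑ a ∈ fs (fun y => ∃ g ∈ C{t}, y = g * s * g⁻¹), lam (a * b) = 0 := by
  obtain ⟨x, hx, h1⟩ := h.ne
  have k : ∀ x ∈ Lt, ∀ a ∈ fs (fun y => ∃ g ∈ C{t}, y = g * s * g⁻¹),
      x * a * x⁻¹ ∈ fs (fun y => ∃ g ∈ C{t}, y = g * s * g⁻¹) := fun x hx a ha => by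
    obtain ⟨g, hg, rfl⟩ := mem_fs.1 ha
    exact mem_fs.2 ⟨x * g, C{t}.mul_mem (h.nml.le hx) hg, by group⟩
  by_contra h0
  refine h1 (h.eq_one hx (mul_right_cancel₀ h0 ?_))
  rw [one_mul, mul_sum]
  refine sum_bij (fun a _ => x * a * x⁻¹) (k x hx) (fun a _ b _ e => by simpa using e)
    (fun a ha => ⟨_, k _ (inv_mem hx) a ha, by group⟩) fun a ha => ?_
  obtain ⟨a1, a2⟩ := h.cls_out hs hs' ha
  have a3 : a * b ∈ Lt := (h.mul_mem a1 hb).2 (iff_of_false a2 hb')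
  have a4 := h.nml.conj_mem a1 (inv_mem hx)
  rw [show x * a * x⁻¹ * b = x * (a * x⁻¹ * a⁻¹ * (a * b)) by group,
    h.lin.mul _ hx _ (Lt.mul_mem a4 a3), h.lin.mul _ a4 _ a3, h.out a a1 a2 _ (inv_mem hx),
    h.lin.inv hx, inv_inv]
  ring

theorem exists_psi (h : LS p P Lt t lam) (hs : s ∈ C{t}) (hs' : s ∉ Lt) (ss : s * s = 1)
    (hH : ∀ a ∈ C{t}, a * a = 1 → a = 1 ∨ a = t ∨ ∃ g ∈ C{t}, a = g * s * g⁻¹)
    (hG : ∀ a, a * a = 1 → a = 1 ∨ IsConj t a) :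
    ∃ Φ : G → ℂ, IsGeneralizedCharacter G Φ ∧ classInner Φ Φ = 3 ∧
      classInner Φ (fun _ => 1) = 1 ∧ (∀ g ∈ Lt, Φ g = psi lam g) ∧
      (∀ g ∈ C{t}, g ∉ Lt → Φ g = 0) ∧ (∀ g, g * g = 1 → Φ g = 0) ∧
      ∃ r : ℝ, ∑ a ∈ H5.cl t, ∑ b ∈ H5.cl t, Φ (a * b) = r ∧
        C{t}.index * (2 * ((C{t} ⊓ C{s}).relIndex C{t} : ℝ) ^ 2) ≤ r := by
  classical
  obtain ⟨Φ, hΦ, hv⟩ := H18.WS.exists_ext h.hp h.syl (F := fun a => psi lam a)
    (by
      have := ((isGen_one.add isGen_one).sub (h.lin.mono h.P_le).irr.isGen).sub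
        (h.lin.inv'.mono h.P_le).irr.isGen
      convert this using 1
      ext a; simp [psi]; norm_num)
    (fun a b e => by
      obtain ⟨g, hg⟩ := isConj_iff.1 e
      obtain ⟨y, hy, e'⟩ := h.fus a.2 (hg ▸ b.2)
      rw [← hg, e', h.psi_conj hy (h.P_le a.2)])
  have hc : ∀ g, Φ (constt {p} g) = Φ g := fun g => by
    obtain ⟨y, -, hy⟩ := Sylow_Jsub h.hp h.syl (piElt_constt {p} g).isPi le_top
    have e : IsConj (constt {p} g) ((⟨_, hy (conj_mem_cj y (mem_zpowers _))⟩ : P) : G) :=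
      isConj_iff.2 ⟨y, rfl⟩
    rw [hv g _ e, hv _ _ (by rwa [constt_eq_self (piElt_constt _ _)])]
  have hp : ∀ g, constt {p} g ∈ Lt → Φ g = psi lam (constt {p} g) := fun g hg => by
    obtain ⟨y, hy, e⟩ := Sylow_Jsub h.hp (h.syl.of_le h.P_le le_top) (piElt_constt {p} g).isPi
      (zpowers_le.2 hg)
    rw [hv g ⟨_, e (conj_mem_cj y (mem_zpowers _))⟩ (isConj_iff.2 ⟨y, rfl⟩),
      h.psi_conj (h.nml.le hy) hg]
  have hL : ∀ g ∈ Lt, Φ g = psi lam g := fun g hg => by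
    rw [hp g (constt_mem _ hg), psi, psi, h.lam_constt hg]
  have hO : ∀ g ∈ C{t}, g ∉ Lt → Φ g = 0 := fun g hg hg' => by
    have h1 := h.odd_mem (constt_mem {p} hg) (h.odd (piElt_constt _ _))
    have h2 := h.out g hg hg' _ h1
    rw [← constt_conj, mul_inv_cancel_right] at h2
    rw [hp g h1, psi, h.eq_one h1 (by
      rw [pow_two]; nth_rw 1 [h2]; exact inv_mul_cancel₀ (h.lin.ne_zero h1))]
    norm_num
  have h2 : ∀ g, g * g = 1 → Φ g = 0 := fun g hg => by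
    rw [← hc, constt_eq_one (piElt_of_pow_eq_one ((piNat_prime Nat.prime_two).2
      (show 2 ∈ ({p} : Set ℕ)ᶜ from h.p2.symm)) (by rw [pow_two, hg])), hL 1 (one_mem _), psi, h.lin.one]
    norm_num
  obtain ⟨θ, h0, hθ⟩ : ∃ θ : G → ℝ, (∀ g, 0 ≤ θ g) ∧ ∀ g, Φ g = θ g := by
    have : ∀ g, ∃ r : ℝ, 0 ≤ r ∧ Φ g = r := fun g => by
      obtain ⟨y, -, hy⟩ := Sylow_Jsub h.hp h.syl (piElt_constt {p} g).isPi le_top
      have hm := hy (conj_mem_cj y (mem_zpowers _))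
      exact ⟨_, Complex.normSq_nonneg _, (hv g ⟨_, hm⟩ (isConj_iff.2 ⟨y, rfl⟩)).trans
        (h.psi_real (h.P_le hm))⟩
    choose θ h0 hθ using this
    exact ⟨θ, h0, hθ⟩
  have c1 : ∀ y w, θ (y * w * y⁻¹) = θ w := fun y w => by
    exact_mod_cast (hθ _).symm.trans ((hΦ.classFun w y).trans (hθ w))
  have c2 : ∀ g, θ (constt {p} g) = θ g := fun g => by
    exact_mod_cast (hθ _).symm.trans ((hc g).trans (hθ g))
  have c3 : ∀ w ∈ P, θ w ≠ 0 → Dich t w := fun w hw e => h.dich w hw fun e' => e (by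
    have := hL w (h.P_le hw)
    rw [hθ, psi, e'] at this
    exact_mod_cast this.trans (by norm_num : _ = (0 : ℂ)))
  have sub : ∀ f : ℂ → ℂ, f 0 = 0 →
      ∑ g ∈ fs (· ∈ C{t}), f (Φ g) = ∑ g ∈ fs (· ∈ Lt), f (psi lam g) := fun f hf => by
    rw [← sum_subset (s₁ := fs (· ∈ Lt)) (fun g hg => mem_fs.2 (h.nml.le (mem_fs.1 hg)))
      fun g hg hg' => by rw [hO g (mem_fs.1 hg) (mt mem_fs.2 hg'), hf]]
    exact sum_congr rfl fun g hg => by rw [hL g (mem_fs.1 hg)]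
  have pH : (♯C{t} : ℂ) ≠ 0 := by exact_mod_cast H24.card_ne_zero _
  have a1 := congrArg (fun r : ℝ => (r : ℂ)) (h.avg θ c1 c3)
  have a2 := congrArg (fun r : ℝ => (r : ℂ)) (h.avg (fun g => θ g * θ g)
    (fun y w => by rw [c1]) fun w hw e => c3 w hw (left_ne_zero_of_mul e))
  simp only [c2] at a1 a2
  push_cast at a1 a2
  simp only [← hθ] at a1 a2
  rw [sub (fun z => z) rfl, h.sum_psi.1] at a1
  rw [sub (fun z => z * z) (by simp), h.sum_psi.2] at a2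
  refine ⟨Φ, hΦ, ?_, ?_, hL, hO, h2, ∑ x ∈ II ⊤, θ (x.1 * x.2), ?_, ?_⟩
  · apply mul_left_cancel₀ (H4.card_ne_zero G)
    apply mul_left_cancel₀ pH
    rw [card_mul_classInner, sum_congr rfl (g := fun g => Φ g * Φ g) fun g _ => by
      rw [hθ, Complex.conj_ofReal], a2]
    ring
  · apply mul_left_cancel₀ (H4.card_ne_zero G)
    apply mul_left_cancel₀ pH
    rw [card_mul_classInner]
    simp only [map_one, mul_one]
    rw [a1, mul_comm]
  · push_cast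
    simp only [← hθ]
    refine (sum_II h2 (fun a ha => ⟨mem_top _, ?_⟩) fun a _ ha => ?_).symm
    · obtain ⟨g, rfl⟩ := isConj_iff.1 (H5.mem_cl.1 ha)
      rw [← pow_two, conj_pow, ← h.ht, pow_orderOf_eq_one]; group
    · exact (hG a ha).symm.imp H5.mem_cl.2 fun e g _ => mem_C1.2 (by simp [e])
  · have a3 := h.pairs θ c1 h0 (by exact_mod_cast (hθ 1).symm.trans (h2 1 (by simp))) c3
    simp only [c2] at a3
    have a4 : ∑ x ∈ II C{t}, θ (x.1 * x.2) = 2 * ((C{t} ⊓ C{s}).relIndex C{t} : ℝ) ^ 2 := by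
      apply Complex.ofReal_injective
      push_cast
      simp only [← hθ]
      rw [sum_II h2 (A := fs fun y => ∃ g ∈ C{t}, y = g * s * g⁻¹) (fun a ha =>
        ⟨(h.cls_out hs hs' ha).1, by
          obtain ⟨g, -, rfl⟩ := mem_fs.1 ha
          calc _ = g * (s * s) * g⁻¹ := by group
            _ = 1 := by rw [ss]; group⟩) fun a ha e => ?_, sum_comm,
        sum_congr rfl (g := fun _ => 2 * ((C{t} ⊓ C{s}).relIndex C{t} : ℂ)) fun b hb => ?_,
        sum_const, nsmul_eq_mul]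
      all_goals
        have k : #(fs fun y => ∃ g ∈ C{t}, y = g * s * g⁻¹) = (C{t} ⊓ C{s}).relIndex C{t} :=
          Nat.eq_of_mul_eq_mul_right (H24.card_pos (C{t} ⊓ C{s})) (by
            rw [card_cls, mul_comm, card_mul_relIndex inf_le_left])
      · rw [k]; ring
      · obtain ⟨b1, b2⟩ := h.cls_out hs hs' hb
        rw [sum_congr rfl fun a ha => hL _ ((h.mul_mem (h.cls_out hs hs' ha).1 b1).2
          (iff_of_false (h.cls_out hs hs' ha).2 b2))]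
        simp only [psi, sum_sub_distrib, h.sum_cls hs hs' b1 b2, h.inv.sum_cls hs hs' b1 b2,
          sum_const, k, nsmul_eq_mul]
        ring
      · rcases hH a ha e with h1 | h1 | h1
        · exact .inr fun g _ => mem_C1.2 (by simp [h1])
        · exact .inr (h1 ▸ le_rfl)
        · exact .inl (mem_fs.2 h1)
    rw [a4, ← C{t}.card_mul_index, Nat.cast_mul, mul_assoc] at a3
    exact le_of_mul_le_mul_left a3 (by exact_mod_cast H24.card_pos _)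

end LS

end H24.QH
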