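import Mathlib
import Cfsg.Agent.H24.QHd
import Cfsg.Agent.H27.JTL
import Cfsg.Agent.H2.QB2

/-! The local structure when a Sylow subgroup of `U` is a trivial intersection set. -/

set_option autoImplicit false

namespace H24.QH

open H24 H4 Cfsg Subgroup Finset H2.QD
open H4.LT (Lin)
open H13.Dih (Inv)
open scoped MatrixGroups

universe u

variable {G : Type u} [Group G]

/-- the hypotheses of `MC.hiib` -/
structure HB {c : QC G} (M : Mod c) (L₁ : Subgroup G) (p : ℕ) : Prop where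
  hL : M.Comp L₁
  h0 : M.L0 = ⊤
  hab : Abl c.U
  hp : p.Prime
  hne : O[{p}, c.U] ≠ ⊥
  hinv : Inv c.s O[{p}, c.U]
  hi : ¬ p ∣ c.H.index
  hti : ∀ g, cj g O[{p}, c.U] ⊓ c.H ≠ ⊥ → g ∈ c.H

namespace HB

variable [Fintype G] {c : QC G} {M : Mod c} {L₁ P : Subgroup G} {p : ℕ} {g x l : G}
  (h : HB M L₁ p)
include h

theorem p2 : p ≠ 2 := fun e => by
  have := (pcore_pi {p} c.U).odd_prime h.hne (odd_of_le c.odd_U (pcore_le _ _))
  rw [e] at this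
  exact absurd this (by decide)

theorem le : L₁ ≤ M.Lt := h.hL.sup ▸ le_sup_left

theorem Lt_C : M.Lt ≤ C[c.U] := h.hL.sup ▸ sup_le h.hL.cent h.hab.le_C

omit h in
theorem s_not : c.s ∉ M.Lt := fun e => M.e_not (M.mem_Lt.1 e).2

theorem idx : M.Lt.relIndex c.H = 2 := by
  have h1 := card_mul_relIndex M.L_le
  rw [M.card_L0, ← M.card_L, mul_comm 2] at h1
  rw [Mod.Lt, relIndex_pre _ _ le_rfl, M.img_H, ← h.h0]
  exact Nat.eq_of_mul_eq_mul_left (H24.card_pos _) h1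

theorem mul_mem (hg : g ∈ c.H) (hx : x ∈ c.H) : g * x ∈ M.Lt ↔ (g ∈ M.Lt ↔ x ∈ M.Lt) :=
  mul_mem_iff_of_index_two (H := M.Lt.subgroupOf c.H) h.idx (a := ⟨g, hg⟩) (b := ⟨x, hx⟩)

theorem dec (hg : g ∈ M.Lt) : ∃ l ∈ L₁, ∃ u ∈ c.U, g = l * u :=
  (mem_sup_of_norm' (norm_of_cent h.hL.cent)).1 (h.hL.sup.symm ▸ hg)

theorem der_le : ⁅M.Lt, M.Lt⁆ ≤ L₁ := by
  rw [← h.hL.sup, der1_sup_of_cent (cents_symm h.hL.cent), der1_eq_bot.2 h.hab, sup_bot_eq]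
  exact der1_le _

theorem inv_out (hg : g ∈ c.H) (hg' : g ∉ M.Lt) (hx : x ∈ O[{p}, c.U]) :
    g * x * g⁻¹ = x⁻¹ := by
  have hs := c.S_le_H c.s_mem_S
  have h1 : c.s⁻¹ * g ∈ M.Lt :=
    (h.mul_mem (inv_mem hs) hg).2 (iff_of_false (by simpa using s_not) hg')
  rw [← h.hinv x hx]
  conv_rhs => rw [← conj_eq_of_mem_C (h.Lt_C h1) (pcore_le _ _ hx)]
  group

theorem abl_C (hl : l ∈ L₁) (h1 : l * l ≠ 1) : Abl (M.Lt ⊓ C{l}) := by
  have := Fintype.ofFinite M.F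
  have inj : ∀ x ∈ L₁, ap M.lam x = 1 → x = 1 := fun x hx e => mem_bot.1 (h.hL.inf ▸
    (⟨hx, (M.lam_ker ⟨x, h.le hx⟩).1 ((ap_of_mem M.lam (h.le hx)).symm.trans e)⟩ : x ∈ L₁ ⊓ c.U))
  have nc : ap M.lam l ∉ center SL(2, M.F) := fun e => h1 (inj _ (L₁.mul_mem hl hl) (by
    rw [ap_mul M.lam (h.le hl) (h.le hl)]
    rcases (H16.sl2_mem_center_iff' _).1 e with e | e <;> simp [e]))
  refine abl_iff.2 (le_C_iff.2 fun a ha b hb => ?_)
  have k : ∀ a ∈ M.Lt ⊓ C{l}, ap M.lam a * ap M.lam l = ap M.lam l * ap M.lam a := fun a ha => by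
    rw [← ap_mul M.lam ha.1 (h.le hl), mem_C1.1 ha.2, ap_mul M.lam (h.le hl) ha.1]
  rw [← commutatorElement_eq_one_iff_mul_comm]
  refine inj _ (h.der_le (commutator_mem_commutator ha.1 hb.1)) ?_
  rw [ap_commutator M.lam ha.1 hb.1, commutatorElement_eq_one_iff_mul_comm]
  exact H27.JT.sl2_comm _ _ _ nc (k a ha) (k b hb)

theorem sq_ne (hl : PiElt {p} l) (h1 : l ≠ 1) : l * l ≠ 1 := fun e =>
  h1 (hl.eq_one (piElt_of_pow_eq_one ((piNat_prime Nat.prime_two).2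
    (show 2 ∈ ({p} : Set ℕ)ᶜ from h.p2.symm)) (by rw [pow_two, e])))

theorem sit (hP : Syl p M.Lt P) : Sit p P c.t where
  hp := h.hp
  p2 := h.p2
  ht := c.four.ht
  syl := hP.of_idx le_top ((piNat_compl_singleton h.hp).2 (by
    rw [relIndex_top_right, ← relIndex_mul_index M.Lt_nml.le, h.idx, h.hp.dvd_mul,
      Nat.prime_dvd_prime_iff_eq h.hp Nat.prime_two]
    exact not_or.2 ⟨h.p2, h.hi⟩))
  abl := by
    by_cases h1 : P ⊓ L₁ = ⊥
    · exact der1_eq_bot.1 (eq_bot_of_le h1 (le_inf (der1_le _) ((der1_mono hP.le).trans h.der_le)))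
    · obtain ⟨l, hl, h2⟩ := exists_ne_one (IsPi.inf_C_ne_bot h.hp hP.pi (hP.pi.inf_left L₁)
        (norm_inf (norm_self P) (hP.le.trans (M.Lt_nml.le.trans h.hL.nml.norm))) h1)
      exact (h.abl_C hl.1.2 (h.sq_ne (hP.pi.piElt hl.1.1) h2)).of_le
        (le_inf hP.le (mem_C_iff_le_C1.1 hl.2))
  norm := fun g hg => h.hti g (ne_bot_of_le (fun e => h.hne (by simpa using congrArg (cj g⁻¹) e))
    (le_inf le_rfl ((cj_le_of_mem_N (hP.nml_le (pcore_pi _ _) ((c.U_nml.pcore _).of_le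
      ((pcore_le _ _).trans M.U_le_Lt) M.Lt_nml.le)) hg).trans (hP.le.trans M.Lt_nml.le))))

theorem dich (hg : g ∈ M.Lt) (hp : PiElt {p} g) (h1 : g ∉ L₁) : Dich c.t g := by
  obtain ⟨l, hl, x, hx, rfl⟩ := h.dec hg
  have hc := comm_of_cent h.hL.cent hl hx
  have e := constt_mul {p}ᶜ hc
  rw [constt_eq_one (by rwa [compl_compl])] at e
  obtain ⟨e1, e2⟩ := mul_eq_mul_of_inf h.hL.inf (one_mem _) (constt_mem _ hl) (one_mem _)
    (constt_mem _ hx) ((one_mul 1).trans e)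
  have pl : PiElt {p} l := by simpa using constt_eq_one_iff.1 e1.symm
  have hX : x ∈ O[{p}, c.U] := h.hab.nil.mem_pcore (by simpa using constt_eq_one_iff.1 e2.symm) hx
  have x1 : x ≠ 1 := fun e => h1 (by simpa [e] using hl)
  by_cases l1 : l = 1
  · left
    rw [l1, one_mul]
    refine fun y hy => h.hti y (ne_bot_of_mem ⟨conj_mem_cj y hX, ?_⟩ (mt conj_eq_one_iff'.1 x1))
    rcases hy with hy | hy <;> rw [hy]
    exacts [c.U_le_H hx, c.H.inv_mem (c.U_le_H hx)]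
  · have k : C{c.t} ⊓ C{l * x} ≤ M.Lt ⊓ C{l} := fun y hy => by
      obtain ⟨a1, a2⟩ := mul_eq_mul_of_inf h.hL.inf (h.hL.nml.conj_mem hy.1 hl) hl
        (c.U_nml.conj_mem hy.1 hx) hx (by rw [← mem_C1_iff_conj.1 hy.2]; group)
      refine ⟨by_contra fun e => ?_, mem_C1_iff_conj.2 a1⟩
      rw [h.inv_out hy.1 e hX] at a2
      exact h.sq_ne ((pcore_pi _ _).piElt hX) x1 (by nth_rw 1 [← a2]; simp)
    exact .inr ⟨(h.abl_C hl (h.sq_ne pl l1)).of_le k, fun y hy => M.invol_Lt (k hy).1⟩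

theorem exists_LS : ∃ P lam, LS p P M.Lt c.t lam ∧ ∃ x ∈ c.U, lam x ≠ 1 := by
  obtain ⟨P, hP⟩ := Sylow_exists h.hp M.Lt
  obtain ⟨x, hx, x1⟩ := exists_ne_one h.hne
  have dp := h.hab.nil.pcoreC {p}
  have hU := M.U_le_Lt
  obtain ⟨lam, lin, k1, k2⟩ := H4.LT.exists_lin (C := M.Lt) (K := L₁ ⊔ O[{p}ᶜ, c.U])
    (sup_le h.le ((pcore_le _ _).trans hU))
    (fun a ha b hb => mem_sup_left (h.der_le (commutator_mem_commutator ha hb)))
    (hU (pcore_le _ _ hx)) fun e => by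
      obtain ⟨l, hl, y, hy, e⟩ := (mem_sup_of_norm' (h.hL.cent.trans
        ((C_anti (pcore_le _ _)).trans (C_le_N _)))).1 e
      have := (mul_eq_mul_of_inf h.hL.inf (one_mem _) hl (pcore_le _ _ hx) (pcore_le _ _ hy)
        ((one_mul x).trans e)).2
      exact x1 (mem_bot.1 (dp.inf ▸ (⟨hx, this ▸ hy⟩ : x ∈ O[{p}, c.U] ⊓ O[{p}ᶜ, c.U])))
  have k3 : ∀ l ∈ L₁, ∀ x ∈ O[{p}, c.U], ∀ y ∈ O[{p}ᶜ, c.U], lam (l * (x * y)) = lam x :=
    fun l hl x hx y hy => by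
      have hx := hU (pcore_le _ _ hx)
      have hy' := hU (pcore_le _ _ hy)
      rw [lin.mul _ (h.le hl) _ (M.Lt.mul_mem hx hy'), lin.mul _ hx _ hy', k1 _ (mem_sup_left hl),
        k1 _ (mem_sup_right hy), one_mul, mul_one]
  refine ⟨P, lam, ⟨h.sit hP, lin, M.Lt_nml, hP.le, h.idx, fun a ha ha' g hg => ?_,
    fun g hg hg' => ?_, ⟨x, hU (pcore_le _ _ hx), k2⟩, fun w hw e => h.dich (hP.le hw)
      (hP.pi.piElt hw) fun e' => e (k1 _ (mem_sup_left e'))⟩, x, pcore_le _ _ hx, k2⟩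
  all_goals
    obtain ⟨l, hl, u, hu, rfl⟩ := h.dec hg
    obtain ⟨x, hx, y, hy, rfl⟩ := dp.isProd.mul u hu
  · rw [k3 l hl x hx y hy, ← lin.inv (hU (pcore_le _ _ hx)), ← h.inv_out ha ha' hx,
      ← k3 _ (h.hL.nml.conj_mem ha hl) _ ((c.U_nml.pcore _).conj_mem ha hx) _
        ((c.U_nml.pcore _).conj_mem ha hy)]
    congr 1; group
  · have e := constt_mul {p} (comm_of_cent h.hL.cent hl hu)
    rw [constt_eq_one hg', constt_mul_of ((pcore_pi _ _).piElt hx) ((pcore_pi _ _).piElt hy)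
      (h.hab.comm (pcore_le _ _ hx) (pcore_le _ _ hy))] at e
    rw [k3 l hl x hx y hy, ← (mul_eq_mul_of_inf h.hL.inf (one_mem _) (constt_mem _ hl) (one_mem _)
      (pcore_le _ _ hx) ((one_mul 1).trans e)).2, lin.one]

end HB

end H24.QH
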