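import Mathlib
import Cfsg.Agent.H16.K3T0
import Cfsg.Agent.H18.K3Fr0
import Cfsg.Agent.H12.K3U1
import Cfsg.Agent.H4.K3TH
import Cfsg.Agent.H4.K3SD
import Cfsg.Agent.H8.K3F
import Cfsg.Agent.H21.K3H
import Cfsg.Agent.H2.K3E
import Cfsg.Agent.H14.K3M

/-!
# Thin groups with three primes: the 2-local subgroups of type `L₂(8)`
-/

set_option autoImplicit false
set_option linter.unusedSectionVars false

open Cfsg H24 H26 H26.Gold H23.TC Subgroup H18.K3 H16.K3T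

namespace H24.K3

universe u

variable {G : Type u} [Group G] [Finite G] {a b : ℕ} {Q L : Subgroup G}

theorem arith8 {m : ℕ} (h7 : 7 ∣ 2 ^ m * 2 ^ m - 1) (h1 : 2 ^ m * 2 ^ m ≠ 1) :
    2 ^ m = 8 ∨ 16 < 2 ^ m := by
  rcases lt_or_ge m 5 with h | h
  · interval_cases m <;> simp_all
  · exact Or.inr (lt_of_lt_of_le (by norm_num) (Nat.pow_le_pow_right (by norm_num) h))

theorem core8 (h : KT G 7 a b) (th : H16.K3T.Thin G) {F : Type} [Field F] [Fintype F]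
    (hF : Fintype.card F = 8) {φ : L →* Matrix.ProjectiveSpecialLinearGroup (Fin 2) F}
    (fm : Fm Q L φ) : EA Q ∧ ((∃ S : Sylow 2 G, IsStronglyClosed Q (S : Subgroup G)) ∨
      ∀ t : G, orderOf t = 2 → IsPGroup 2 (C{t})) := by
  have hX : Nat.card (Matrix.ProjectiveSpecialLinearGroup (Fin 2) F) = 504 := by
    simpa using H8.K3.card_l2 (F := F) (x := 7) hF
  have : CharP F 2 := charP_of_card_eq_prime_pow (p := 2) (f := 3) hF
  have cM := H14.K3.card8 h fm (fun A hA h3 => h.cyc3 th fm.two fm.ne hA h3) hX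
  have eL : L = N[Q] := eq_of_le_of_card_ge fm.nml.le (by rw [cM, fm.card, hX])
  have hy : ∀ y ∈ N[Q], orderOf y = 3 → Q ⊓ C{y} = ⊥ := fun y hy ho =>
    H12.K3.fpf h (H4.K3.th_of h th).rk fm.two (cM ▸ Dvd.dvd.mul_left (by norm_num) _)
      (Or.inr (Or.inr ⟨rfl, cM ▸ Dvd.dvd.mul_left (by norm_num) _,
        fun A hA h3 => h.cyc3 th fm.two fm.ne hA h3⟩)) hy ho
  obtain ⟨hQ, hT⟩ := H21.K3H.higman (by omega) fm.nmlQ fm.two φ fm.sur fm.ker
    fun y e => hy y (fm.nml.le e)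
  refine ⟨hQ, ?_⟩
  obtain ⟨T, sT⟩ := Sylow_exists p2 L
  obtain ⟨QT, cT, cQ, -, hs, x, xL, xT, ox⟩ := hT T sT
  rw [hF] at cT ox
  obtain ⟨m, hm⟩ := (fm.two.inf_left C[T]).card_eq_pow Nat.prime_two
  have h7 := H12.K3.p_dvd h fm.two ox (fm.nml.le xL)
  have h1 : ♯Q ≠ 1 := fun e => fm.ne (card_eq_one'.1 e)
  rw [cQ, hm] at h7 h1
  rcases arith8 h7 h1 with e | e
  · rw [hm, e] at cQ
    exact H2.K3E.l28 h th hQ cQ (by rw [cM, cQ]) QT (sT.le.trans fm.nml.le) (by rw [cT, cQ]) ox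
      (fm.nml.le xL) xT (hm.trans e) (fun s h1 h2 => ((hs s h1).2 h2).1) hy
  obtain ⟨S, hS⟩ := (fm.two.isPGroup Nat.prime_two).exists_le_sylow
  refine Or.inl ⟨S, H4.K3.thin_sc (r := 8) h (H4.K3.mx_of_thin th) ⟨hQ, fun E hE ea => ?_,
    fun s hs h1 h2 => ?_⟩ S hS⟩
  · have h2 : ♯(Q ⊔ E : Subgroup G) ≤ ♯Q * 8 := cT ▸ Nat.le_of_dvd (card_pos T)
      (sT.card_dvd (fm.two.sup ea.two hE) (sup_le fm.QL (eL ▸ hE)))
    have h3 := card_sup hE
    rw [inf_comm E]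
    refine Nat.le_of_mul_le_mul_left ?_ (card_pos Q)
    calc ♯Q * ♯E = ♯(Q ⊔ E : Subgroup G) * ♯(Q ⊓ E : Subgroup G) := by first | exact h3 | exact h3.symm
      _ ≤ ♯Q * 8 * ♯(Q ⊓ E : Subgroup G) := Nat.mul_le_mul_right _ h2
      _ = _ := mul_assoc _ _ _
  · have h3 : TwoE s := piElt_of_pow_eq_one (n := 2 * 2) ((piNat_self p2).mul (piNat_self p2))
      (by rw [pow_mul, pow_two s, pow_two, EA.sq hQ h2])
    obtain ⟨T', sT', hle⟩ := Sylow_superset p2 h3.isPi (zpowers_le.2 (eL ▸ hs : s ∈ L))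
    obtain ⟨-, -, cQ', -, hs', -⟩ := hT T' sT'
    rw [((hs' s (hle (mem_zpowers s))).2 h1).1]
    have h4 : ♯(Q ⊓ C[T'] : Subgroup G) = 2 ^ m := by
      rw [cQ, hm] at cQ'
      exact (Nat.mul_self_inj.1 cQ').symm
    rw [h4, cQ, hm]
    exact Nat.mul_lt_mul_of_pos_right e (by positivity)

end H24.K3
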