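import Mathlib
import Cfsg.Agent.H24.K3E8a
import Cfsg.Agent.H8.K3G

/-!
# Thin groups with three primes: the case `L₂(8)`
-/

set_option autoImplicit false
set_option linter.unusedSectionVars false

open Cfsg H24 H26 H26.Gold Subgroup H18.K3 H16.K3T

namespace H24.K3

universe u

variable {G : Type u} [Group G] [Finite G] {a b : ℕ} {Q L : Subgroup G}

theorem case8 (h : KT G 7 a b) (th : H16.K3T.Thin G) {F : Type} [Field F] [Fintype F]
    (hF : Fintype.card F = 8) {φ : L →* Matrix.ProjectiveSpecialLinearGroup (Fin 2) F}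
    (fm : Fm Q L φ) : H8.K3.Concl G := by
  have := h.simple
  have k : H8.K3.K3N (Nat.card G) := ⟨7, a, b, h.prime, h.card⟩
  obtain ⟨hQ, ⟨S, hS⟩ | hc⟩ := core8 h th hF fm
  · exact H8.K3.of_sca h.na k S fm.ne hQ.abl hS
  · exact H8.K3.of_cit h.na k hc

end H24.K3
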