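import Mathlib

/-! The 2-group `W n = (Z_{2^n} × Z_{2^n}) ⋊ (Z_2 × Z_2)` (swap and inversion): the Sylow 2-subgroup of `G₂(q)`,
`q` odd. -/

set_option autoImplicit false

namespace H24.G2S

/-- `a^i a'^j s^σ w^δ` -/
@[ext] structure W (n : ℕ) where
  i : ZMod (2 ^ n)
  j : ZMod (2 ^ n)
  σ : Bool
  δ : Bool

variable {n : ℕ}

/-- the sign -/
def e (n : ℕ) (d : Bool) : ZMod (2 ^ n) := if d then -1 else 1

@[simp] theorem e_true : e n true = -1 := rfl
@[simp] theorem e_false : e n false = 1 := rfl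

instance : Mul (W n) := ⟨fun x y =>
  ⟨x.i + e n x.δ * (if x.σ then y.j else y.i), x.j + e n x.δ * (if x.σ then y.i else y.j), xor x.σ y.σ, xor x.δ y.δ⟩⟩
instance : One (W n) := ⟨⟨0, 0, false, false⟩⟩
instance : Inv (W n) := ⟨fun x =>
  ⟨-(e n x.δ * (if x.σ then x.j else x.i)), -(e n x.δ * (if x.σ then x.i else x.j)), x.σ, x.δ⟩⟩

theorem mul_def (x y : W n) : x * y = ⟨x.i + e n x.δ * (if x.σ then y.j else y.i),
  x.j + e n x.δ * (if x.σ then y.i else y.j), xor x.σ y.σ, xor x.δ y.δ⟩ := rfl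
theorem one_def : (1 : W n) = ⟨0, 0, false, false⟩ := rfl
theorem inv_def (x : W n) : x⁻¹ =
  ⟨-(e n x.δ * (if x.σ then x.j else x.i)), -(e n x.δ * (if x.σ then x.i else x.j)), x.σ, x.δ⟩ := rfl

@[simp] theorem mk_mul (i j i' j' : ZMod (2 ^ n)) (σ δ σ' δ' : Bool) :
    (⟨i, j, σ, δ⟩ : W n) * ⟨i', j', σ', δ'⟩ = ⟨i + e n δ * (if σ then j' else i'),
      j + e n δ * (if σ then i' else j'), xor σ σ', xor δ δ'⟩ := rfl
@[simp] theorem mk_inv (i j : ZMod (2 ^ n)) (σ δ : Bool) :
    (⟨i, j, σ, δ⟩ : W n)⁻¹ = ⟨-(e n δ * (if σ then j else i)), -(e n δ * (if σ then i else j)), σ, δ⟩ := rfl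
theorem mk_eq_one {i j : ZMod (2 ^ n)} {σ δ : Bool} :
    (⟨i, j, σ, δ⟩ : W n) = 1 ↔ i = 0 ∧ j = 0 ∧ σ = false ∧ δ = false := by
  rw [one_def, W.mk.injEq]

instance : Group (W n) := Group.ofLeftAxioms
  (by
    rintro ⟨i, j, σ, δ⟩ ⟨i', j', σ', δ'⟩ ⟨i'', j'', σ'', δ''⟩
    cases σ <;> cases δ <;> cases σ' <;> cases δ' <;> simp <;> constructor <;> ring)
  (by rintro ⟨i, j, σ, δ⟩; simp [one_def])
  (by rintro ⟨i, j, σ, δ⟩; cases σ <;> cases δ <;> simp [one_def])

/-- as a product type -/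
def equivProd : W n ≃ ZMod (2 ^ n) × ZMod (2 ^ n) × Bool × Bool where
  toFun x := (x.i, x.j, x.σ, x.δ)
  invFun p := ⟨p.1, p.2.1, p.2.2.1, p.2.2.2⟩
  left_inv _ := rfl
  right_inv _ := rfl

instance : Finite (W n) := Finite.of_equiv _ equivProd.symm

theorem card_W : Nat.card (W n) = 2 ^ (2 * n + 2) := by
  rw [Nat.card_congr equivProd]
  rw [Nat.card_prod, Nat.card_prod, Nat.card_prod, Nat.card_zmod, Nat.card_eq_fintype_card, Fintype.card_bool]
  ring

/-! ### arithmetic modulo `2 ^ n` -/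

/-- `2 ^ (n - 1)` -/
def h (n : ℕ) : ZMod (2 ^ n) := 2 ^ (n - 1)
/-- `2 ^ (n - 2)` -/
def k (n : ℕ) : ZMod (2 ^ n) := 2 ^ (n - 2)

theorem two_pow_eq_zero : (2 : ZMod (2 ^ n)) ^ n = 0 := by
  have := ZMod.natCast_self (2 ^ n)
  push_cast at this
  exact this

theorem two_h (hn : 1 ≤ n) : 2 * h n = 0 := by
  rw [h, ← pow_succ', Nat.sub_add_cancel hn, two_pow_eq_zero]

theorem two_k (hn : 2 ≤ n) : 2 * k n = h n := by
  rw [h, k, ← pow_succ']; congr 1; omega

theorem h_ne (hn : 1 ≤ n) : h n ≠ 0 := by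
  intro e0
  have : ((2 ^ (n - 1) : ℕ) : ZMod (2 ^ n)) = 0 := by push_cast; exact e0
  rw [ZMod.natCast_eq_zero_iff] at this
  have := Nat.le_of_dvd (by positivity) this
  have h2 : 2 ^ (n - 1) < 2 ^ n := Nat.pow_lt_pow_right (by norm_num) (by omega)
  omega

theorem neg_h (hn : 1 ≤ n) : -h n = h n := by linear_combination -two_h hn

theorem two_mul_eq_zero (hn : 1 ≤ n) {x : ZMod (2 ^ n)} (hx : 2 * x = 0) : x = 0 ∨ x = h n := by
  have h1 : ((2 * x.val : ℕ) : ZMod (2 ^ n)) = 0 := by push_cast; rw [ZMod.natCast_zmod_val]; exact hx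
  rw [ZMod.natCast_eq_zero_iff] at h1
  obtain ⟨m, rfl⟩ : ∃ m, n = m + 1 := ⟨n - 1, by omega⟩
  have h1' : 2 * 2 ^ m ∣ 2 * x.val := by rw [← pow_succ']; exact h1
  obtain ⟨c, hc⟩ := Nat.dvd_of_mul_dvd_mul_left (by norm_num) h1'
  have hlt : x.val < 2 ^ m * 2 := by rw [← pow_succ]; exact ZMod.val_lt x
  have hc2 : c < 2 := by
    by_contra hh
    have : 2 ^ m * 2 ≤ 2 ^ m * c := Nat.mul_le_mul_left _ (by omega)
    omega
  have hx' : x = ((2 ^ m * c : ℕ) : ZMod (2 ^ (m + 1))) := by rw [← hc, ZMod.natCast_zmod_val]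
  interval_cases c
  · left; simpa using hx'
  · right; rw [hx', h]; simp

/-- parity -/
def par (hn : 1 ≤ n) : ZMod (2 ^ n) →+* ZMod 2 := ZMod.castHom (dvd_pow_self 2 (by omega)) (ZMod 2)

theorem par_two_mul (hn : 1 ≤ n) (x : ZMod (2 ^ n)) : par hn (2 * x) = 0 := by
  rw [map_mul, map_ofNat]
  have : (2 : ZMod 2) = 0 := rfl
  rw [this, zero_mul]

theorem exists_half (hn : 1 ≤ n) {x : ZMod (2 ^ n)} (hx : par hn x = 0) : ∃ m, x = 2 * m := by
  have h1 : ((x.val : ℕ) : ZMod 2) = 0 := by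
    rw [← ZMod.natCast_zmod_val x, map_natCast] at hx; exact hx
  rw [ZMod.natCast_eq_zero_iff] at h1
  obtain ⟨c, hc⟩ := h1
  exact ⟨c, by rw [← ZMod.natCast_zmod_val x, hc]; push_cast; rfl⟩

theorem par_h (hn : 2 ≤ n) : par (by omega : 1 ≤ n) (h n) = 0 := by
  rw [← two_k hn, par_two_mul]

theorem par_neg (hn : 1 ≤ n) (x : ZMod (2 ^ n)) : par hn (-x) = par hn x := by
  rw [map_neg]; exact ZMod.neg_eq_self_mod_two _

theorem k_ne_zero (hn : 2 ≤ n) : k n ≠ 0 := fun e0 => h_ne (n := n) (by omega) (by rw [← two_k hn, e0, mul_zero])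

theorem k_ne_h (hn : 2 ≤ n) : k n ≠ h n := fun e0 =>
  h_ne (n := n) (by omega) (by rw [← two_k hn, e0, two_h (by omega)])

theorem k_ne_neg (hn : 2 ≤ n) : k n ≠ -k n := fun e0 =>
  h_ne (n := n) (by omega) (by rw [← two_k hn]; linear_combination e0)

theorem two_mul_eq_h (hn : 2 ≤ n) {x : ZMod (2 ^ n)} (hx : 2 * x = h n) : x = k n ∨ x = -k n := by
  have : 2 * (x - k n) = 0 := by rw [mul_sub, hx, two_k hn, sub_self]
  rcases two_mul_eq_zero (by omega) this with h1 | h1
  · left; linear_combination h1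
  · right; linear_combination h1 + two_h (n := n) (by omega) + two_k hn

theorem exists_half_k (hn : 3 ≤ n) : ∃ m, k n = 2 * m :=
  ⟨2 ^ (n - 3), by rw [k, ← pow_succ']; congr 1; omega⟩

/-! ### special elements -/

/-- the central involution -/
def z (n : ℕ) : W n := ⟨h n, h n, false, false⟩
/-- a noncentral involution of the abelian subgroup -/
def z' (n : ℕ) : W n := ⟨h n, 0, false, false⟩
/-- the swap -/
def s (n : ℕ) : W n := ⟨0, 0, true, false⟩
/-- swap and inversion -/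
def t (n : ℕ) : W n := ⟨0, 0, true, true⟩
/-- the inversion -/
def w (n : ℕ) : W n := ⟨0, 0, false, true⟩
/-- an element of order 4 centralized by `s` -/
def b0 (n : ℕ) : W n := ⟨k n, k n, false, false⟩
/-- an element of order 4 centralized by `t` -/
def a0 (n : ℕ) : W n := ⟨k n, -k n, false, false⟩

theorem z_ne_one (hn : 1 ≤ n) : z n ≠ 1 := fun e0 => h_ne hn (mk_eq_one.1 e0).1

theorem z_mul_z (hn : 1 ≤ n) : z n * z n = 1 := by
  simp only [z, mk_mul, mk_eq_one, e_false]; simp; linear_combination two_h hn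

theorem z_comm (hn : 1 ≤ n) (x : W n) : x * z n = z n * x := by
  obtain ⟨i, j, σ, δ⟩ := x
  have := two_h hn
  cases σ <;> cases δ <;> simp [z] <;> constructor <;> first | ring1 | linear_combination -this

theorem exists_center_mem {P : Type*} [Group P] [Finite P] {p : ℕ} [Fact p.Prime] (hp : IsPGroup p P)
    (K : Subgroup P) [K.Normal] (hne : K ≠ ⊥) : ∃ x ∈ K, x ∈ Subgroup.center P ∧ x ≠ 1 := by
  have hp' : IsPGroup p (ConjAct P) := hp.of_equiv ConjAct.toConjAct
  have hK : IsPGroup p K := hp.to_subgroup K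
  haveI : Nontrivial K := (Subgroup.nontrivial_iff_ne_bot K).2 hne
  obtain ⟨m, hm0, hm⟩ := hK.nontrivial_iff_card.1 inferInstance
  have hdvd : p ∣ Nat.card K := hm ▸ dvd_pow_self p hm0.ne'
  obtain ⟨b, hb, hb1⟩ := hp'.exists_fixed_point_of_prime_dvd_card_of_fixed_point K hdvd
    (show (1 : K) ∈ MulAction.fixedPoints (ConjAct P) K from fun g => smul_one g)
  refine ⟨b, b.2, Subgroup.mem_center_iff.2 fun g => ?_, fun e0 => hb1 (Subtype.ext e0).symm⟩
  have := congrArg Subtype.val (hb (ConjAct.toConjAct g))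
  simp only [ConjAct.Subgroup.val_conj_smul, ConjAct.smul_def, ConjAct.ofConjAct_toConjAct] at this
  rw [← mul_inv_eq_iff_eq_mul]; exact this

/-- a nontrivial normal subgroup contains `z` -/
theorem z_mem_of_normal (hn : 2 ≤ n) (K : Subgroup (W n)) [hK : K.Normal] (hne : K ≠ ⊥) : z n ∈ K := by
  have hp : IsPGroup 2 (W n) := IsPGroup.of_card card_W
  obtain ⟨x, hxK, hxZ, hx1⟩ := exists_center_mem hp K hne
  obtain ⟨i, j, σ, δ⟩ := x
  rw [Subgroup.mem_center_iff] at hxZ
  have h1 := hxZ ⟨1, 0, false, false⟩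
  have h2 := hxZ (s n)
  have h3 := hxZ (w n)
  have h1n : 1 ≤ n := by omega
  have h10 : (1 : ZMod (2 ^ n)) ≠ 0 := fun e0 => h_ne h1n (by rw [← mul_one (h n), e0, mul_zero])
  have h20 : (2 : ZMod (2 ^ n)) ≠ 0 := fun e0 => h_ne h1n (by rw [← two_k hn, e0, zero_mul])
  cases σ <;> cases δ <;> simp [s, w] at h1 h2 h3
  · obtain ⟨rfl, -⟩ := h2
    rcases two_mul_eq_zero h1n (x := j) (by linear_combination -h3.1) with rfl | rfl
    · exact absurd rfl hx1
    · exact hxK
  · exact absurd (by linear_combination h1) h20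
  · exact absurd h1 h10
  · exact absurd (by linear_combination h1) h10

/-! ### homomorphisms out of `W n` -/

section lift
variable {Γ : Type*} [Group Γ]

/-- `a ^ i` -/
def pw (a : Γ) (i : ZMod (2 ^ n)) : Γ := a ^ i.val

theorem pw_add {a : Γ} (ha : a ^ 2 ^ n = 1) (i j : ZMod (2 ^ n)) : pw a (i + j) = pw a i * pw a j := by
  rw [pw, pw, pw, ← pow_add, ZMod.val_add, ← pow_eq_pow_mod _ ha]

theorem pw_zero (a : Γ) : pw a (0 : ZMod (2 ^ n)) = 1 := by rw [pw, ZMod.val_zero, pow_zero]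

theorem pw_neg {a : Γ} (ha : a ^ 2 ^ n = 1) (i : ZMod (2 ^ n)) : pw a (-i) = (pw a i)⁻¹ := by
  rw [eq_inv_iff_mul_eq_one, ← pw_add ha, neg_add_cancel, pw_zero]

theorem pw_h (hn : 1 ≤ n) (a : Γ) : pw a (h n) = a ^ 2 ^ (n - 1) := by
  have : h n = ((2 ^ (n - 1) : ℕ) : ZMod (2 ^ n)) := by rw [h]; push_cast; rfl
  rw [pw, this, ZMod.val_natCast, Nat.mod_eq_of_lt (Nat.pow_lt_pow_right (by norm_num) (by omega))]

/-- the defining relations of `W n` -/
structure Rel (n : ℕ) (a u v : Γ) : Prop where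
  ha : a ^ 2 ^ n = 1
  comm : Commute a (u * a * u⁻¹)
  hu : u * u = 1
  hv : v * v = 1
  huv : u * v = v * u
  hva : v * a * v⁻¹ = a⁻¹

/-- the map -/
def liftFun (a u v : Γ) (x : W n) : Γ :=
  pw a x.i * pw (u * a * u⁻¹) x.j * ((if x.σ then u else 1) * (if x.δ then v else 1))

theorem Rel.map_mul {a u v : Γ} (R : Rel n a u v) (x y : W n) :
    liftFun a u v (x * y) = liftFun a u v x * liftFun a u v y := by
  set a' := u * a * u⁻¹ with ha'
  have hb : a' ^ 2 ^ n = 1 := by rw [ha', conj_pow, R.ha, mul_one, mul_inv_cancel]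
  have ui : u⁻¹ = u := inv_eq_of_mul_eq_one_right R.hu
  have c1 : ∀ i j : ZMod (2 ^ n), pw a' j * pw a i = pw a i * pw a' j := fun i j => (R.comm.pow_pow _ _).eq.symm
  have u1 : ∀ i : ZMod (2 ^ n), u * pw a i = pw a' i * u := fun i => by
    rw [pw, pw, ha', conj_pow]; group
  have u2 : ∀ i : ZMod (2 ^ n), u * pw a' i = pw a i * u := fun i => by
    rw [pw, pw, ha', conj_pow, ui, ← mul_assoc, ← mul_assoc, R.hu, one_mul]
  have v1 : ∀ i : ZMod (2 ^ n), v * pw a i = pw a (-i) * v := fun i => by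
    rw [pw_neg R.ha, pw, ← inv_pow, ← R.hva, conj_pow]; group
  have v2 : ∀ i : ZMod (2 ^ n), v * pw a' i = pw a' (-i) * v := fun i => by
    have : v * a' * v⁻¹ = a'⁻¹ := by
      rw [ha', ← mul_assoc, ← mul_assoc, ← R.huv, mul_assoc (u * v * a), ← mul_inv_rev, ← R.huv, mul_inv_rev,
        mul_inv_rev, mul_inv_rev, inv_inv, ← R.hva]
      group
    rw [pw_neg hb, pw, ← inv_pow, ← this, conj_pow (a := v), inv_mul_cancel_right]
  have c1' : ∀ (i j : ZMod (2 ^ n)) (r : Γ), pw a' j * (pw a i * r) = pw a i * (pw a' j * r) := fun i j r => by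
    rw [← mul_assoc, c1, mul_assoc]
  have u1' : ∀ (i : ZMod (2 ^ n)) (r : Γ), u * (pw a i * r) = pw a' i * (u * r) := fun i r => by
    rw [← mul_assoc, u1, mul_assoc]
  have u2' : ∀ (i : ZMod (2 ^ n)) (r : Γ), u * (pw a' i * r) = pw a i * (u * r) := fun i r => by
    rw [← mul_assoc, u2, mul_assoc]
  have v1' : ∀ (i : ZMod (2 ^ n)) (r : Γ), v * (pw a i * r) = pw a (-i) * (v * r) := fun i r => by
    rw [← mul_assoc, v1, mul_assoc]
  have v2' : ∀ (i : ZMod (2 ^ n)) (r : Γ), v * (pw a' i * r) = pw a' (-i) * (v * r) := fun i r => by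
    rw [← mul_assoc, v2, mul_assoc]
  have vu : ∀ r : Γ, v * (u * r) = u * (v * r) := fun r => by rw [← mul_assoc, ← R.huv, mul_assoc]
  have uu : ∀ r : Γ, u * (u * r) = r := fun r => by rw [← mul_assoc, R.hu, one_mul]
  have hu := R.hu
  have hv := R.hv
  have hvu := R.huv.symm
  obtain ⟨i, j, σ, δ⟩ := x
  obtain ⟨i', j', σ', δ'⟩ := y
  cases σ <;> cases δ <;> cases σ' <;> cases δ' <;>
    simp only [liftFun, ← ha', mk_mul, e_true, e_false, one_mul, neg_mul, mul_one, Bool.false_eq_true, if_false,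
      if_true, Bool.xor_false, Bool.xor_true, Bool.not_true, Bool.not_false, pw_add R.ha, pw_add hb, mul_assoc,
      c1', u1', u2', v1', v2', vu, uu, hu, hv, hvu, c1, u1, u2, v1, v2]

/-- the homomorphism -/
def Rel.lift {a u v : Γ} (R : Rel n a u v) : W n →* Γ := MonoidHom.mk' (liftFun a u v) R.map_mul

theorem Rel.lift_injective {a u v : Γ} (R : Rel n a u v) (hn : 2 ≤ n)
    (hz : (a * (u * a * u⁻¹)) ^ 2 ^ (n - 1) ≠ 1) : Function.Injective R.lift := by
  rw [← MonoidHom.ker_eq_bot_iff]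
  by_contra hne
  have := z_mem_of_normal hn _ hne
  rw [MonoidHom.mem_ker] at this
  apply hz
  rw [R.comm.mul_pow, ← pw_h (by omega), ← pw_h (by omega)]
  simpa [Rel.lift, liftFun, z] using this

end lift

/-! ### involutions and centralizers -/

theorem invol_cases (hn : 1 ≤ n) {x : W n} (hx : x * x = 1) (h1 : x ≠ 1) :
    x = z n ∨ IsConj (z' n) x ∧ x.σ = false ∧ x.δ = false ∨ IsConj (s n) x ∧ x.σ = true ∧ x.δ = false ∧ x.j = -x.i ∨
      IsConj (t n) x ∧ x.σ = true ∧ x.δ = true ∧ x.j = x.i ∨ x.σ = false ∧ x.δ = true := by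
  obtain ⟨i, j, σ, δ⟩ := x
  cases σ <;> cases δ <;> simp [mk_eq_one] at hx h1
  · rcases two_mul_eq_zero hn (x := i) (by linear_combination hx.1) with rfl | rfl <;>
      rcases two_mul_eq_zero hn (x := j) (by linear_combination hx.2) with rfl | rfl
    · exact absurd rfl (h1 rfl)
    · right; left
      exact ⟨isConj_iff.2 ⟨s n, by simp [s, z']⟩, rfl, rfl⟩
    · right; left; exact ⟨IsConj.refl _, rfl, rfl⟩
    · left; rfl
  · simp
  · obtain rfl : j = -i := by linear_combination hx.1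
    right; right; left
    exact ⟨isConj_iff.2 ⟨⟨i, 0, false, false⟩, by simp [s]⟩, rfl, rfl, rfl⟩
  · obtain rfl : j = i := by linear_combination -hx.1
    right; right; right; left
    exact ⟨isConj_iff.2 ⟨⟨j, 0, false, false⟩, by simp [t]⟩, rfl, rfl, rfl⟩

theorem sq_σ (x : W n) : (x * x).σ = false := by simp [mul_def]
theorem sq_δ (x : W n) : (x * x).δ = false := by simp [mul_def]

theorem b0_sq (hn : 2 ≤ n) : b0 n * b0 n = z n := by
  simp [b0, z]; linear_combination two_k hn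

theorem a0_sq (hn : 2 ≤ n) : a0 n * a0 n = z n := by
  simp [a0, z]; constructor
  · linear_combination two_k hn
  · linear_combination -two_k hn - two_h (n := n) (by omega)

/-- an involution outside `A` which is not of odd inverting type centralizes a square root of `z` -/
theorem exists_sqrt_z (hn : 2 ≤ n) {x : W n} (hx : x * x = 1) (hA : x.σ = true ∨ x.δ = true)
    (hv : x.σ = false → par (by omega : 1 ≤ n) (x.i + x.j) = 0) : ∃ ρ : W n, ρ * x = x * ρ ∧ ρ * ρ = z n := by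
  obtain ⟨i, j, σ, δ⟩ := x
  cases σ <;> cases δ <;> simp [mk_eq_one] at hx hA hv
  · obtain ⟨m, hm⟩ := exists_half (n := n) (by omega) (x := i - j) (by
      rw [sub_eq_add_neg, map_add, par_neg]; exact hv)
    refine ⟨⟨m, h n - m, true, false⟩, ?_, by simp [z]⟩
    simp; constructor
    · linear_combination -hm
    · linear_combination hm + two_h (n := n) (by omega)
  · exact ⟨b0 n, by simp [b0, add_comm], b0_sq hn⟩
  · exact ⟨a0 n, by simp [a0, add_comm], a0_sq hn⟩

/-- the centralizer of an odd inverting involution -/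
theorem conj_of_comm_v (hn : 2 ≤ n) {x y : W n} (hxσ : x.σ = false) (hxδ : x.δ = true)
    (hv : par (by omega : 1 ≤ n) (x.i + x.j) ≠ 0) (hc : y * x = x * y) (hy : y.δ = true) : IsConj x y := by
  obtain ⟨i, j, σ, δ⟩ := x
  obtain ⟨a, b, σ', δ'⟩ := y
  dsimp only at hxσ hxδ hy hv
  subst hxσ hxδ hy
  have h1n : 1 ≤ n := by omega
  cases σ' <;> simp at hc
  · have hk := two_k hn
    have hh := two_h h1n
    rcases two_mul_eq_zero h1n (x := a - i) (by linear_combination hc.1) with e1 | e1 <;>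
      rcases two_mul_eq_zero h1n (x := b - j) (by linear_combination hc.2) with e2 | e2
    · exact isConj_iff.2 ⟨⟨0, 0, false, false⟩, by simp; constructor <;> [linear_combination -e1; linear_combination -e2]⟩
    · exact isConj_iff.2 ⟨⟨0, k n, false, false⟩, by
        simp; constructor <;> [linear_combination -e1; linear_combination -e2 + hk]⟩
    · exact isConj_iff.2 ⟨⟨k n, 0, false, false⟩, by
        simp; constructor <;> [linear_combination -e1 + hk; linear_combination -e2]⟩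
    · exact isConj_iff.2 ⟨⟨k n, k n, false, false⟩, by
        simp; constructor <;> [linear_combination -e1 + hk; linear_combination -e2 + hk]⟩
  · exfalso; apply hv
    rw [show i + j = 2 * a by linear_combination -hc.1, par_two_mul]

/-- squares of order 4 in the centralizer of an involution outside `A` -/
theorem sq_cases (hn : 2 ≤ n) {x : W n} (hx : x * x = 1) (hA : x.σ = true ∨ x.δ = true) :
    ∃ c : W n, ∀ ρ : W n, ρ * x = x * ρ → ρ * ρ * (ρ * ρ) ≠ 1 → ρ * ρ * (ρ * ρ) * (ρ * ρ * (ρ * ρ)) = 1 →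
      ρ * ρ = c ∨ ρ * ρ = c⁻¹ := by
  obtain ⟨i, j, σ, δ⟩ := x
  have h1n : 1 ≤ n := by omega
  have key : ∀ u : ZMod (2 ^ n), 2 * u ≠ 0 → 2 * (2 * u) = 0 → u = k n ∨ u = -k n := fun u h1 h2 =>
    two_mul_eq_h hn ((two_mul_eq_zero h1n h2).resolve_left h1)
  cases σ <;> cases δ <;> simp [mk_eq_one] at hx hA
  · refine ⟨1, ?_⟩
    rintro ⟨a, b, σ', δ'⟩ hc h1 -
    exfalso; apply h1
    cases σ' <;> cases δ' <;> simp [mk_eq_one] at hc ⊢
    · constructor <;> [linear_combination 2 * hc.1; linear_combination 2 * hc.2]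
    · constructor <;> linear_combination hc.1 + hc.2
    · constructor <;> [linear_combination hc.1 - hc.2; linear_combination hc.2 - hc.1]
  · refine ⟨b0 n, ?_⟩
    rintro ⟨a, b, σ', δ'⟩ hc h1 h2
    cases σ' <;> cases δ' <;> simp [mk_eq_one, b0] at hc h1 h2 ⊢
    · obtain rfl : b = a := by linear_combination -hc.1
      rcases key (b + b) (fun e0 => h1 (by linear_combination e0) (by linear_combination e0))
        (by linear_combination h2.1) with e1 | e1 <;> simp [e1]
    · rcases key (a + b) (fun e0 => h1 (by linear_combination e0) (by linear_combination e0))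
        (by linear_combination h2.1) with e1 | e1
      · left; constructor <;> linear_combination e1
      · right; constructor <;> linear_combination e1
    · exfalso
      exact h1 (by linear_combination 2 * hc.1 + 2 * hx.1) (by linear_combination -2 * hc.1 - 2 * hx.1)
  · refine ⟨a0 n, ?_⟩
    rintro ⟨a, b, σ', δ'⟩ hc h1 h2
    cases σ' <;> cases δ' <;> simp [mk_eq_one, a0] at hc h1 h2 ⊢
    · obtain rfl : b = -a := by linear_combination hc.1
      rcases key (a + a) (fun e0 => h1 (by linear_combination e0) (by linear_combination -e0))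
        (by linear_combination h2.1) with e1 | e1
      · left; constructor <;> [linear_combination e1; linear_combination -e1]
      · right; constructor <;> [linear_combination e1; linear_combination -e1]
    · exfalso
      exact h1 (by linear_combination 2 * hc.1 + 2 * hx.1) (by linear_combination 2 * hc.1 + 2 * hx.1)
    · rcases key (a - b) (fun e0 => h1 (by linear_combination e0) (by linear_combination -e0))
        (by linear_combination h2.1) with e1 | e1
      · left; constructor <;> [linear_combination e1; linear_combination -e1]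
      · right; constructor <;> [linear_combination e1; linear_combination -e1]

/-- squares whose square is `z` -/
theorem sq_sqrt_z (hn : 2 ≤ n) {ρ : W n} (h2 : ρ * ρ * (ρ * ρ) = z n) :
    ρ * ρ = b0 n ∨ ρ * ρ = (b0 n)⁻¹ ∨ ρ * ρ = a0 n ∨ ρ * ρ = (a0 n)⁻¹ := by
  have hσ := sq_σ ρ
  have hδ := sq_δ ρ
  generalize ρ * ρ = x at *
  obtain ⟨a, b, σ, δ⟩ := x
  dsimp only at hσ hδ
  subst hσ hδ
  simp [z] at h2
  rcases two_mul_eq_h hn (x := a) (by linear_combination h2.1) with rfl | rfl <;>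
    rcases two_mul_eq_h hn (x := b) (by linear_combination h2.2) with rfl | rfl <;> simp [a0, b0]

theorem conj_b0 (x : W n) : x * b0 n * x⁻¹ = b0 n ∨ x * b0 n * x⁻¹ = (b0 n)⁻¹ := by
  obtain ⟨a, b, σ, δ⟩ := x
  cases σ <;> cases δ <;> simp [b0]

theorem conj_a0 (x : W n) : x * a0 n * x⁻¹ = a0 n ∨ x * a0 n * x⁻¹ = (a0 n)⁻¹ := by
  obtain ⟨a, b, σ, δ⟩ := x
  cases σ <;> cases δ <;> simp [a0]

theorem a0_ne_b0 (hn : 2 ≤ n) : a0 n ≠ b0 n := fun e0 => by
  simp [a0, b0] at e0; exact k_ne_neg hn e0.symm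

theorem a0_ne_b0_inv (hn : 2 ≤ n) : a0 n ≠ (b0 n)⁻¹ := fun e0 => by
  simp [a0, b0] at e0; exact k_ne_neg hn e0

theorem center_eq (hn : 2 ≤ n) {x : W n} (hx : ∀ y, y * x = x * y) (h1 : x ≠ 1) : x = z n := by
  have hK : z n ∈ Subgroup.zpowers x := by
    haveI : (Subgroup.zpowers x).Normal := ⟨fun a ha g => by
      obtain ⟨m, rfl⟩ := Subgroup.mem_zpowers_iff.1 ha
      have : Commute g (x ^ m) := (show Commute g x from hx g).zpow_right m
      rw [this.eq, mul_inv_cancel_right]; exact ha⟩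
    exact z_mem_of_normal hn _ (by simpa using h1)
  obtain ⟨i, j, σ, δ⟩ := x
  have h1' := hx ⟨1, 0, false, false⟩
  have h2 := hx (s n)
  have h3 := hx (w n)
  have h1n : 1 ≤ n := by omega
  have h10 : (1 : ZMod (2 ^ n)) ≠ 0 := fun e0 => h_ne h1n (by rw [← mul_one (h n), e0, mul_zero])
  have h20 : (2 : ZMod (2 ^ n)) ≠ 0 := fun e0 => h_ne h1n (by rw [← two_k hn, e0, zero_mul])
  cases σ <;> cases δ <;> simp [s, w] at h1' h2 h3
  · obtain ⟨rfl, -⟩ := h2
    rcases two_mul_eq_zero h1n (x := j) (by linear_combination -h3.1) with rfl | rfl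
    · exact absurd rfl h1
    · rfl
  · exact absurd (by linear_combination h1') h20
  · exact absurd h1' h10
  · exact absurd (by linear_combination h1') h10

/-- the index-two subgroup `⟨A, s⟩` -/
def M1 (n : ℕ) : Subgroup (W n) where
  carrier := {x | x.δ = false}
  mul_mem' {x y} (hx : x.δ = false) (hy : y.δ = false) := show (x * y).δ = false by simp [mul_def, hx, hy]
  one_mem' := rfl
  inv_mem' hx := hx

/-- the index-two subgroup `⟨A, t⟩` -/
def M2 (n : ℕ) : Subgroup (W n) where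
  carrier := {x | x.δ = x.σ}
  mul_mem' {x y} (hx : x.δ = x.σ) (hy : y.δ = y.σ) := show (x * y).δ = (x * y).σ by simp [mul_def, hx, hy]
  one_mem' := rfl
  inv_mem' hx := hx

theorem index_M1 : (M1 n).index = 2 := by
  refine Subgroup.index_eq_two_iff.2 ⟨w n, fun b => ?_⟩
  obtain ⟨a, b, σ, δ⟩ := b
  cases δ <;> simp [M1, w, Xor]

theorem index_M2 : (M2 n).index = 2 := by
  refine Subgroup.index_eq_two_iff.2 ⟨w n, fun b => ?_⟩
  obtain ⟨a, b, σ, δ⟩ := b
  cases δ <;> cases σ <;> simp [M2, w, Xor]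

end H24.G2S
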