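import Mathlib
import Cfsg.Agent.H24.G2W
import Cfsg.Agent.S0111
import Cfsg.Agent.S0215

/-! Fusion of involutions in a group whose Sylow 2-subgroup is `W n` (type `G₂(q)`). -/

set_option autoImplicit false

namespace H24.G2S

variable {G : Type*} [Group G] [Finite G] {n : ℕ}

omit [Finite G] in
theorem orderOf_of_isConj {x y : G} (h : IsConj x y) : orderOf x = orderOf y := by
  obtain ⟨c, rfl⟩ := isConj_iff.1 h
  exact ((MulAut.conj c).orderOf_eq x).symm

theorem exists_conj_le_sylow (S : Sylow 2 G) (P : Subgroup G) (hP : IsPGroup 2 P) :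
    ∃ g : G, ∀ p ∈ P, g * p * g⁻¹ ∈ (S : Subgroup G) := by
  obtain ⟨Q, hQ⟩ := hP.exists_le_sylow
  obtain ⟨g, rfl⟩ := MulAction.exists_smul_eq G Q S
  refine ⟨g, fun p hp => ?_⟩
  rw [Sylow.coe_subgroup_smul]
  exact Subgroup.smul_mem_pointwise_smul p (MulAut.conj g) _ (hQ hp)

/-- conjugating a 2-subgroup of `C(y)` into a Sylow 2-subgroup of `C(x)` -/
theorem exists_conj_cent {x y : G} (hxy : IsConj y x) (R : Sylow 2 (Subgroup.centralizer ({x} : Set G)))
    (P : Subgroup G) (hP : IsPGroup 2 P) (hPy : ∀ p ∈ P, p * y = y * p) :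
    ∃ g : G, g * y * g⁻¹ = x ∧ ∀ p ∈ P, g * p * g⁻¹ ∈ (R : Subgroup _).map (Subgroup.centralizer ({x} : Set G)).subtype := by
  obtain ⟨g0, hg0⟩ := isConj_iff.1 hxy
  have hmem : ∀ p ∈ P, g0 * p * g0⁻¹ ∈ Subgroup.centralizer ({x} : Set G) := fun p hp => by
    rw [Subgroup.mem_centralizer_singleton_iff, ← hg0]
    calc g0 * p * g0⁻¹ * (g0 * y * g0⁻¹) = g0 * (p * y) * g0⁻¹ := by group
      _ = g0 * y * g0⁻¹ * (g0 * p * g0⁻¹) := by rw [hPy p hp]; group
  have hP' : IsPGroup 2 ((P.map (MulAut.conj g0).toMonoidHom).subgroupOf (Subgroup.centralizer ({x} : Set G))) :=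
    (hP.map _).comap_subtype
  obtain ⟨c, hc⟩ := exists_conj_le_sylow R _ hP'
  refine ⟨c * g0, ?_, fun p hp => ?_⟩
  · have := Subgroup.mem_centralizer_singleton_iff.1 c.2
    calc (c : G) * g0 * y * (c * g0)⁻¹ = c * (g0 * y * g0⁻¹) * (c : G)⁻¹ := by group
      _ = x := by rw [hg0, this, mul_inv_cancel_right]
  · refine ⟨_, hc ⟨_, hmem p hp⟩ ⟨p, hp, rfl⟩, ?_⟩
    simp [mul_assoc]

/-- an isomorphism of `W n` onto a Sylow 2-subgroup -/
structure Emb (n : ℕ) (S : Sylow 2 G) where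
  f : W n →* G
  inj : Function.Injective f
  range : f.range = S

namespace Emb
variable {S : Sylow 2 G} (E : Emb n S)

omit [Finite G] in
theorem mem (x : W n) : E.f x ∈ (S : Subgroup G) := E.range ▸ ⟨x, rfl⟩

omit [Finite G] in
theorem exists_eq {y : G} (hy : y ∈ (S : Subgroup G)) : ∃ x, E.f x = y := by
  rw [← E.range] at hy; exact hy

omit [Finite G] in
theorem conj {x y : W n} (h : IsConj x y) : IsConj (E.f x) (E.f y) := E.f.map_isConj h

omit [Finite G] in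
theorem orderOf_eq (x : W n) : orderOf (E.f x) = orderOf x := orderOf_injective E.f E.inj x

/-- the centralizer in `S` -/
def cent (x : W n) : Subgroup G := (Subgroup.centralizer ({x} : Set (W n))).map E.f

omit [Finite G] in
theorem cent_p (x : W n) : IsPGroup 2 (E.cent x) := ((IsPGroup.of_card card_W).to_subgroup _).map _

omit [Finite G] in
theorem cent_comm (x : W n) : ∀ p ∈ E.cent x, p * E.f x = E.f x * p := by
  rintro _ ⟨y, hy, rfl⟩
  rw [← map_mul, ← map_mul, Subgroup.mem_centralizer_singleton_iff.1 hy]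

omit [Finite G] in
theorem mem_cent {x y : W n} (h : y * x = x * y) : E.f y ∈ E.cent x :=
  ⟨y, Subgroup.mem_centralizer_singleton_iff.2 h, rfl⟩

/-- extremal conjugation onto `z` -/
theorem ext_z (hn : 1 ≤ n) {x : W n} (hx : IsConj (E.f x) (E.f (z n))) :
    ∃ g : G, g * E.f x * g⁻¹ = E.f (z n) ∧ ∀ y : W n, y * x = x * y → ∃ y', E.f y' = g * E.f y * g⁻¹ := by
  have hS : (S : Subgroup G) ≤ Subgroup.centralizer {E.f (z n)} := fun y hy => by
    obtain ⟨y, rfl⟩ := E.exists_eq hy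
    rw [Subgroup.mem_centralizer_singleton_iff, ← map_mul, ← map_mul, z_comm hn]
  obtain ⟨g, hg, hg'⟩ := exists_conj_cent hx (S.subtype hS) (E.cent x) (E.cent_p x) (E.cent_comm x)
  refine ⟨g, hg, fun y hy => E.exists_eq ?_⟩
  obtain ⟨c, hc, e⟩ := hg' _ (E.mem_cent hy)
  rw [← e]; exact hc

omit [Finite G] in
theorem pull_mul {g : G} {x y x' y' : W n} (hx : E.f x' = g * E.f x * g⁻¹) (hy : E.f y' = g * E.f y * g⁻¹) :
    E.f (x' * y') = g * E.f (x * y) * g⁻¹ := by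
  rw [map_mul, map_mul, hx, hy]; group

omit [Finite G] in
theorem pull_eq {g : G} {x y x' y' : W n} (hx : E.f x' = g * E.f x * g⁻¹) (hy : E.f y' = g * E.f y * g⁻¹) :
    x' = y' ↔ x = y := by
  rw [← E.inj.eq_iff, hx, hy, mul_left_inj, mul_right_inj, E.inj.eq_iff]

omit [Finite G] in
theorem pull_one (g : G) : E.f 1 = g * E.f 1 * g⁻¹ := by simp

omit [Finite G] in
theorem pull_conj {g : G} {x x' : W n} (hx : E.f x' = g * E.f x * g⁻¹) : IsConj (E.f x) (E.f x') :=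
  isConj_iff.2 ⟨g, hx.symm⟩

/-- an involution fused to `z` which centralizes a square root of `z` forces `z ~ z'` -/
theorem fuse_of_sqrt (hn : 1 ≤ n) {x ρ : W n} (hx : IsConj (E.f x) (E.f (z n))) (hxz : x ≠ z n)
    (hρ : ρ * x = x * ρ) (hρ2 : ρ * ρ = z n) : IsConj (E.f (z' n)) (E.f (z n)) := by
  obtain ⟨g, hg, hg'⟩ := E.ext_z hn hx
  obtain ⟨ρ', hρ'⟩ := hg' ρ hρ
  have h1 := E.pull_mul hρ' hρ'
  rw [hρ2] at h1
  have h2 : ρ' * ρ' * (ρ' * ρ') = 1 := (E.pull_eq (E.pull_mul h1 h1) (E.pull_one g)).2 (z_mul_z hn)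
  have h3 : ρ' * ρ' ≠ 1 := fun e0 => z_ne_one hn ((E.pull_eq h1 (E.pull_one g)).1 e0)
  have h4 : ρ' * ρ' ≠ z n := fun e0 => hxz ((E.pull_eq h1 hg.symm).1 e0).symm
  rcases invol_cases hn h2 h3 with h | h | h | h | h
  · exact absurd h h4
  · exact (E.conj h.1).trans (E.pull_conj h1).symm
  · have := h.2.1; rw [sq_σ] at this; cases this
  · have := h.2.1; rw [sq_σ] at this; cases this
  · have := h.2; rw [sq_δ] at this; cases this

/-- if `z` is not isolated then `z ~ z'` -/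
theorem fuse_z (hn : 2 ≤ n) (hZ : ∃ g : G, g * E.f (z n) * g⁻¹ ∈ (S : Subgroup G) ∧ g * E.f (z n) * g⁻¹ ≠ E.f (z n)) :
    IsConj (E.f (z' n)) (E.f (z n)) := by
  have h1n : 1 ≤ n := by omega
  by_contra hne
  -- every conjugate of `z` other than `z` is an odd inverting involution
  have key : ∀ x : W n, IsConj (E.f x) (E.f (z n)) → x ≠ z n →
      x.σ = false ∧ x.δ = true ∧ par h1n (x.i + x.j) ≠ 0 := by
    intro x hx hxz
    obtain ⟨g, hg⟩ := isConj_iff.1 hx.symm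
    have hx2 : x * x = 1 := (E.pull_eq (E.pull_mul hg.symm hg.symm) (E.pull_one g)).2 (z_mul_z h1n)
    have hx1 : x ≠ 1 := fun e0 => z_ne_one h1n ((E.pull_eq hg.symm (E.pull_one g)).1 e0)
    have hsq : ∀ ρ : W n, ρ * x = x * ρ → ρ * ρ ≠ z n := fun ρ h1 h2 => hne (E.fuse_of_sqrt h1n hx hxz h1 h2)
    rcases invol_cases h1n hx2 hx1 with h | h | h | h | h
    · exact absurd h hxz
    · exact absurd ((E.conj h.1).trans hx) hne
    · obtain ⟨ρ, h1, h2⟩ := exists_sqrt_z hn hx2 (Or.inl h.2.1) (fun e0 => by rw [h.2.1] at e0; cases e0)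
      exact absurd h2 (hsq ρ h1)
    · obtain ⟨ρ, h1, h2⟩ := exists_sqrt_z hn hx2 (Or.inl h.2.1) (fun e0 => by rw [h.2.1] at e0; cases e0)
      exact absurd h2 (hsq ρ h1)
    · refine ⟨h.1, h.2, fun hp => ?_⟩
      obtain ⟨ρ, h1, h2⟩ := exists_sqrt_z hn hx2 (Or.inr h.2) (fun _ => hp)
      exact absurd h2 (hsq ρ h1)
  obtain ⟨g0, hg0, hg0z⟩ := hZ
  obtain ⟨x, hx⟩ := E.exists_eq hg0
  have hxc : IsConj (E.f x) (E.f (z n)) := (E.pull_conj hx).symm
  have hxz : x ≠ z n := fun e0 => hg0z (by rw [← hx, e0])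
  obtain ⟨hσ, hδ, -⟩ := key x hxc hxz
  obtain ⟨g, hg, hg'⟩ := E.ext_z h1n hxc
  have hzx : z n * x = x * z n := (z_comm h1n x).symm
  have hz'x : z' n * x = x * z' n := by
    obtain ⟨i, j, σ, δ⟩ := x
    dsimp only at hσ hδ; subst hσ hδ
    simp [z']; linear_combination two_h h1n
  obtain ⟨ζ1, h1⟩ := hg' _ hzx
  obtain ⟨ζ2, h2⟩ := hg' _ hz'x
  have hζ1 : ζ1 ≠ z n := fun e0 => hxz ((E.pull_eq h1 hg.symm).1 e0).symm
  obtain ⟨hσ1, hδ1, hp1⟩ := key ζ1 (E.pull_conj h1).symm hζ1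
  have hcomm : ζ2 * ζ1 = ζ1 * ζ2 := (E.pull_eq (E.pull_mul h2 h1) (E.pull_mul h1 h2)).2 (z_comm h1n _)
  cases hδ2 : ζ2.δ
  · have hc := conj_of_comm_v hn hσ1 hδ1 hp1 (y := ζ2 * ζ1) (by rw [← mul_assoc, ← hcomm])
      (by simp [mul_def, hδ1, hδ2])
    have h3 : IsConj (z' n) (z' n * z n) := isConj_iff.2 ⟨s n, by
      simp [s, z', z]; linear_combination -two_h h1n⟩
    exact hne ((E.conj h3).trans ((E.pull_conj (E.pull_mul h2 h1)).trans
      ((E.conj hc).symm.trans (E.pull_conj h1).symm)))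
  · have hc := conj_of_comm_v hn hσ1 hδ1 hp1 hcomm hδ2
    exact hne ((E.pull_conj h2).trans ((E.conj hc).symm.trans (E.pull_conj h1).symm))

/-- Thompson transfer -/
theorem conj_into (hG : ∀ M : Subgroup G, M.Normal → M.index ≠ 2) (M : Subgroup (W n)) (hM : M.index = 2)
    {y : G} (hy : orderOf y = 2) : ∃ x ∈ M, IsConj y (E.f x) := by
  obtain ⟨g, hg⟩ := exists_conj_le_sylow S (Subgroup.zpowers y)
    (IsPGroup.of_card (n := 1) (by rw [Nat.card_zpowers, hy, pow_one]))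
  obtain ⟨x, hx⟩ := E.exists_eq (hg y (Subgroup.mem_zpowers y))
  have hyx : IsConj y (E.f x) := isConj_iff.2 ⟨g, hx.symm⟩
  by_cases hxM : x ∈ M
  · exact ⟨x, hxM, hyx⟩
  have hi : (M.map E.f).relIndex (S : Subgroup G) = 2 := by
    rw [← E.range, MonoidHom.range_eq_map, Subgroup.relIndex_map_map_of_injective _ _ E.inj,
      Subgroup.relIndex_top_right, hM]
  rcases Cfsg.Agent.S0111.result S (M.map E.f) (by rintro _ ⟨u, -, rfl⟩; exact E.mem u) hi (E.f x)
    (by rw [← orderOf_of_isConj hyx, hy]) (E.mem x)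
    (by rintro ⟨u, hu, e⟩; exact hxM (E.inj e ▸ hu)) with ⟨K, hK, hK2, -⟩ | ⟨c, u, hu, e⟩
  · exact absurd hK2 (hG K hK)
  · exact ⟨u, hu, hyx.trans (isConj_iff.2 ⟨c, e.symm⟩)⟩

omit [Finite G] in
theorem invol_of_conj {y : G} (hy : orderOf y = 2) {x : W n} (h : IsConj y (E.f x)) : x * x = 1 ∧ x ≠ 1 := by
  have ho : orderOf x = 2 := by rw [← E.orderOf_eq, ← orderOf_of_isConj h, hy]
  exact ⟨by rw [← sq, ← ho, pow_orderOf_eq_one], fun e0 => by rw [e0, orderOf_one] at ho; cases ho⟩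

theorem conj_z_or_s (hn : 1 ≤ n) (hG : ∀ M : Subgroup G, M.Normal → M.index ≠ 2)
    (hz : IsConj (E.f (z' n)) (E.f (z n))) {y : G} (hy : orderOf y = 2) :
    IsConj y (E.f (z n)) ∨ IsConj y (E.f (s n)) := by
  obtain ⟨x, hxM, hx⟩ := E.conj_into hG _ index_M1 hy
  obtain ⟨h2, h1⟩ := E.invol_of_conj hy hx
  have hδ : x.δ = false := hxM
  rcases invol_cases hn h2 h1 with h | h | h | h | h
  · exact Or.inl (h ▸ hx)
  · exact Or.inl (hx.trans ((E.conj h.1).symm.trans hz))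
  · exact Or.inr (hx.trans (E.conj h.1).symm)
  · rw [h.2.2.1] at hδ; cases hδ
  · rw [h.2] at hδ; cases hδ

theorem conj_z_or_t (hn : 1 ≤ n) (hG : ∀ M : Subgroup G, M.Normal → M.index ≠ 2)
    (hz : IsConj (E.f (z' n)) (E.f (z n))) {y : G} (hy : orderOf y = 2) :
    IsConj y (E.f (z n)) ∨ IsConj y (E.f (t n)) := by
  obtain ⟨x, hxM, hx⟩ := E.conj_into hG _ index_M2 hy
  obtain ⟨h2, h1⟩ := E.invol_of_conj hy hx
  have hδ : x.δ = x.σ := hxM
  rcases invol_cases hn h2 h1 with h | h | h | h | h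
  · exact Or.inl (h ▸ hx)
  · exact Or.inl (hx.trans ((E.conj h.1).symm.trans hz))
  · rw [h.2.1, h.2.2.1] at hδ; cases hδ
  · exact Or.inr (hx.trans (E.conj h.1).symm)
  · rw [h.1, h.2] at hδ; cases hδ

/-- the subgroups `⟨a0⟩` and `⟨b0⟩` are not fused, for `n ≥ 3` -/
theorem not_conj_a0_b0 (hn : 3 ≤ n) : ¬ IsConj (E.f (b0 n)) (E.f (a0 n)) := by
  have hn2 : 2 ≤ n := by omega
  have h1n : 1 ≤ n := by omega
  intro hc
  obtain ⟨g, hg⟩ := isConj_iff.1 hc
  set a := E.f (a0 n) with ha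
  set b := E.f (b0 n) with hb
  -- `N = N(⟨a⟩)` as the set of elements mapping `a` to `a^{±1}`
  let N : Subgroup G :=
    { carrier := {x | x * a * x⁻¹ = a ∨ x * a * x⁻¹ = a⁻¹}
      mul_mem' := by
        rintro x y (hx | hx) (hy | hy)
        · left; rw [mul_inv_rev, ← mul_assoc, mul_assoc x y a, mul_assoc x, hy, hx]
        · right
          rw [mul_inv_rev, ← mul_assoc, mul_assoc x y a, mul_assoc x, hy]
          calc x * a⁻¹ * x⁻¹ = (x * a * x⁻¹)⁻¹ := by group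
            _ = a⁻¹ := by rw [hx]
        · right; rw [mul_inv_rev, ← mul_assoc, mul_assoc x y a, mul_assoc x, hy, hx]
        · left
          rw [mul_inv_rev, ← mul_assoc, mul_assoc x y a, mul_assoc x, hy]
          calc x * a⁻¹ * x⁻¹ = (x * a * x⁻¹)⁻¹ := by group
            _ = a := by rw [hx, inv_inv]
      one_mem' := Or.inl (by simp)
      inv_mem' := by
        rintro x (hx | hx)
        · left; calc x⁻¹ * a * x⁻¹⁻¹ = x⁻¹ * (x * a * x⁻¹) * x := by rw [hx, inv_inv]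
            _ = a := by group
        · right; calc x⁻¹ * a * x⁻¹⁻¹ = x⁻¹ * (x * a * x⁻¹)⁻¹ * x := by rw [hx, inv_inv, inv_inv]
            _ = a⁻¹ := by group }
  have hSa : ∀ y ∈ (S : Subgroup G), y * a * y⁻¹ = a ∨ y * a * y⁻¹ = a⁻¹ := fun y hy => by
    obtain ⟨y, rfl⟩ := E.exists_eq hy
    rw [ha, ← map_inv, ← map_mul, ← map_mul, ← map_inv]
    exact (conj_a0 y).imp (congrArg _) (congrArg _)
  have hSb : ∀ y ∈ (S : Subgroup G), y * b * y⁻¹ = b ∨ y * b * y⁻¹ = b⁻¹ := fun y hy => by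
    obtain ⟨y, rfl⟩ := E.exists_eq hy
    rw [hb, ← map_inv, ← map_mul, ← map_mul, ← map_inv]
    exact (conj_b0 y).imp (congrArg _) (congrArg _)
  have hSN : (S : Subgroup G) ≤ N := hSa
  have hSg : ∀ y ∈ (S : Subgroup G), g * y * g⁻¹ ∈ N := fun y hy => by
    show _ ∨ _
    rw [← hg]
    rcases hSb y hy with h | h
    · left; calc g * y * g⁻¹ * (g * b * g⁻¹) * (g * y * g⁻¹)⁻¹ = g * (y * b * y⁻¹) * g⁻¹ := by group
        _ = _ := by rw [h]
    · right; calc g * y * g⁻¹ * (g * b * g⁻¹) * (g * y * g⁻¹)⁻¹ = g * (y * b * y⁻¹) * g⁻¹ := by group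
        _ = _ := by rw [h]; group
  obtain ⟨c, hc⟩ := exists_conj_le_sylow (S.subtype hSN)
    (((S : Subgroup G).map (MulAut.conj g).toMonoidHom).subgroupOf N) (S.isPGroup'.map _).comap_subtype
  set u : G := c * g with hu
  have huS : ∀ y ∈ (S : Subgroup G), u * y * u⁻¹ ∈ (S : Subgroup G) := fun y hy => by
    have := hc ⟨_, hSg y hy⟩ ⟨y, hy, rfl⟩
    have h2 : (c : G) * (g * y * g⁻¹) * (c : G)⁻¹ ∈ (S : Subgroup G) := this
    convert h2 using 1; rw [hu]; group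
  have hub : u * b * u⁻¹ = a ∨ u * b * u⁻¹ = a⁻¹ := by
    have : u * b * u⁻¹ = c * a * (c : G)⁻¹ := by rw [hu, ← hg]; group
    rw [this]; exact c.2
  have huN : u ∈ Subgroup.normalizer ((S : Subgroup G) : Set G) := Subgroup.mem_normalizer_fintype huS
  -- `u` fixes `z`
  have huz : u * E.f (z n) * u⁻¹ = E.f (z n) := by
    obtain ⟨ζ, hζ⟩ := E.exists_eq (huS _ (E.mem (z n)))
    rw [← hζ]
    congr 1
    refine center_eq hn2 (fun y => ?_) (fun e0 => z_ne_one h1n ((E.pull_eq hζ (E.pull_one u)).1 e0))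
    obtain ⟨y', hy'⟩ := E.exists_eq (((Subgroup.mem_normalizer_iff.1 (inv_mem huN)) _).1 (E.mem y))
    have hy'' : E.f y = u * E.f y' * u⁻¹ := by rw [hy']; group
    exact (E.pull_eq (E.pull_mul hy'' hζ) (E.pull_mul hζ hy'')).2 (z_comm h1n _)
  have hab : a ≠ b ∧ a ≠ b⁻¹ := ⟨fun e0 => a0_ne_b0 hn2 (E.inj e0),
    fun e0 => a0_ne_b0_inv hn2 (E.inj (by rw [map_inv]; exact e0))⟩
  have hua : u * a * u⁻¹ = b ∨ u * a * u⁻¹ = b⁻¹ := by
    obtain ⟨m, hm⟩ := exists_half_k hn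
    have hρ : (⟨m, -m, false, false⟩ : W n) * ⟨m, -m, false, false⟩ = a0 n := by
      simp [a0]; constructor <;> [linear_combination -hm; linear_combination hm]
    obtain ⟨ρ, hρ'⟩ := E.exists_eq (huS _ (E.mem ⟨m, -m, false, false⟩))
    have h1 := E.pull_mul hρ' hρ'
    rw [hρ] at h1
    have h2 := E.pull_mul h1 h1
    rw [a0_sq hn2, huz] at h2
    have inj : ∀ x y : G, u * x * u⁻¹ = u * y * u⁻¹ → x = y := fun x y e0 => by simpa using e0
    rcases sq_sqrt_z hn2 (E.inj h2) with h | h | h | h <;> rw [h] at h1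
    · exact Or.inl h1.symm
    · right; rw [← h1, map_inv]
    · exfalso
      rcases hub with h3 | h3
      · exact hab.1 (inj _ _ (h1.symm.trans h3.symm))
      · refine hab.2 (inj _ _ ?_)
        calc u * a * u⁻¹ = a := h1.symm
          _ = (u * b * u⁻¹)⁻¹ := by rw [h3, inv_inv]
          _ = _ := by group
    · exfalso
      rw [map_inv] at h1
      rcases hub with h3 | h3
      · refine hab.2 (inj _ _ ?_)
        calc u * a * u⁻¹ = a⁻¹ := h1.symm
          _ = (u * b * u⁻¹)⁻¹ := by rw [h3]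
          _ = _ := by group
      · exact hab.1 (inj _ _ (h1.symm.trans h3.symm))
  have step : ∀ x p q : G, (u * p * u⁻¹ = q ∨ u * p * u⁻¹ = q⁻¹) → (x = p ∨ x = p⁻¹) →
      (u * x * u⁻¹ = q ∨ u * x * u⁻¹ = q⁻¹) := by
    rintro x p q h (rfl | rfl)
    · exact h
    · have e1 : u * p⁻¹ * u⁻¹ = (u * p * u⁻¹)⁻¹ := by group
      rw [e1]
      rcases h with h | h <;> rw [h] <;> simp
  have hodd : ∀ m : ℕ, u ^ (2 * m + 1) * b * (u ^ (2 * m + 1))⁻¹ = a ∨
      u ^ (2 * m + 1) * b * (u ^ (2 * m + 1))⁻¹ = a⁻¹ := by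
    intro m
    induction m with
    | zero => simpa using hub
    | succ m ih =>
      have e1 : u ^ (2 * (m + 1) + 1) * b * (u ^ (2 * (m + 1) + 1))⁻¹ =
          u * (u * (u ^ (2 * m + 1) * b * (u ^ (2 * m + 1))⁻¹) * u⁻¹) * u⁻¹ := by
        rw [show 2 * (m + 1) + 1 = 1 + (1 + (2 * m + 1)) by ring, pow_add, pow_add, pow_one]; group
      rw [e1]
      exact step _ b a hub (step _ a b hua ih)
  obtain ⟨k, r, hr, hkr⟩ := Nat.exists_eq_two_pow_mul_odd (orderOf_pos u).ne'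
  obtain ⟨m, rfl⟩ := hr
  have hP : IsPGroup 2 (Subgroup.zpowers (u ^ (2 * m + 1))) := by
    refine IsPGroup.of_card (n := k) ?_
    rw [Nat.card_zpowers, orderOf_pow' _ (by omega), hkr, Nat.gcd_mul_left_left,
      Nat.mul_div_cancel _ (by omega)]
  have hmem : u ^ (2 * m + 1) ∈ (S : Subgroup G) := by
    have h1 := IsPGroup.inf_normalizer_sylow hP S
    have h2 : u ^ (2 * m + 1) ∈ Subgroup.zpowers (u ^ (2 * m + 1)) ⊓
      Subgroup.normalizer ((S : Subgroup G) : Set G) := ⟨Subgroup.mem_zpowers _, pow_mem huN _⟩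
    exact (h1.le h2).2
  rcases hSb _ hmem with h1 | h1 <;> rcases hodd m with h2 | h2 <;> rw [h1] at h2
  · exact hab.1 h2.symm
  · exact hab.2 (by rw [h2, inv_inv])
  · exact hab.2 h2.symm
  · exact hab.1 (inv_injective h2).symm

/-- for `n ≥ 3` there is one class of involutions -/
theorem conj_s_z (hn : 3 ≤ n) (hG : ∀ M : Subgroup G, M.Normal → M.index ≠ 2)
    (hz : IsConj (E.f (z' n)) (E.f (z n))) : IsConj (E.f (s n)) (E.f (z n)) := by
  have hn2 : 2 ≤ n := by omega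
  have h1n : 1 ≤ n := by omega
  by_contra hne
  have hs2 : s n * s n = 1 := by simp [s, mk_eq_one]
  have hs1 : s n ≠ 1 := by simp [s, mk_eq_one]
  have hso : orderOf (E.f (s n)) = 2 := by
    rw [E.orderOf_eq]; exact orderOf_eq_prime (by rw [sq, hs2]) hs1
  have hst : IsConj (E.f (s n)) (E.f (t n)) := (E.conj_z_or_t h1n hG hz hso).resolve_left hne
  obtain ⟨R⟩ : Nonempty (Sylow 2 (Subgroup.centralizer ({E.f (s n)} : Set G))) := inferInstance
  obtain ⟨g1, hg1, hg1'⟩ := exists_conj_cent (IsConj.refl _) R _ (E.cent_p (s n)) (E.cent_comm _)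
  obtain ⟨g2, hg2, hg2'⟩ := exists_conj_cent hst.symm R _ (E.cent_p (t n)) (E.cent_comm _)
  obtain ⟨g, hg⟩ := exists_conj_le_sylow S _ (R.isPGroup'.map (Subgroup.centralizer ({E.f (s n)} : Set G)).subtype)
  have p1 : ∀ y : W n, y * s n = s n * y → ∃ y', E.f y' = (g * g1) * E.f y * (g * g1)⁻¹ := fun y hy => by
    obtain ⟨y', h⟩ := E.exists_eq (hg _ (hg1' _ (E.mem_cent hy)))
    exact ⟨y', by rw [h]; group⟩
  have p2 : ∀ y : W n, y * t n = t n * y → ∃ y', E.f y' = (g * g2) * E.f y * (g * g2)⁻¹ := fun y hy => by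
    obtain ⟨y', h⟩ := E.exists_eq (hg _ (hg2' _ (E.mem_cent hy)))
    exact ⟨y', by rw [h]; group⟩
  obtain ⟨η, hη⟩ := p1 (s n) rfl
  have hη2 : E.f η = (g * g2) * E.f (t n) * (g * g2)⁻¹ := by
    rw [hη]
    calc g * g1 * E.f (s n) * (g * g1)⁻¹ = g * (g1 * E.f (s n) * g1⁻¹) * g⁻¹ := by group
      _ = g * (g2 * E.f (t n) * g2⁻¹) * g⁻¹ := by rw [hg1, hg2]
      _ = _ := by group
  obtain ⟨hη0, hη1⟩ := E.invol_of_conj hso (E.pull_conj hη)
  have hA : η.σ = true ∨ η.δ = true := by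
    rcases invol_cases h1n hη0 hη1 with h | h | h | h | h
    · exact absurd (h ▸ E.pull_conj hη) hne
    · exact absurd ((E.pull_conj hη).trans ((E.conj h.1).symm.trans hz)) hne
    · exact Or.inl h.2.1
    · exact Or.inl h.2.1
    · exact Or.inr h.2
  obtain ⟨c, hc⟩ := sq_cases hn2 hη0 hA
  obtain ⟨m, hm⟩ := exists_half_k hn
  have hρ1 : (⟨m, m, false, false⟩ : W n) * ⟨m, m, false, false⟩ = b0 n := by
    simp [b0]; linear_combination -hm
  have hρ2 : (⟨m, -m, false, false⟩ : W n) * ⟨m, -m, false, false⟩ = a0 n := by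
    simp [a0]; constructor <;> [linear_combination -hm; linear_combination hm]
  have gen : ∀ (γ : G) (x ρ ρ' d : W n), E.f η = γ * E.f x * γ⁻¹ → E.f ρ' = γ * E.f ρ * γ⁻¹ → ρ * x = x * ρ →
      ρ * ρ = d → d * d = z n → IsConj (E.f d) (E.f c) ∨ IsConj (E.f d) (E.f c⁻¹) := by
    intro γ x ρ ρ' d h1 h2 h3 h4 h5
    have e1 := E.pull_mul h2 h2
    rw [h4] at e1
    have e2 := E.pull_mul e1 e1
    rw [h5] at e2
    have e3 := E.pull_mul e2 e2
    rw [z_mul_z h1n] at e3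
    rcases hc ρ' ((E.pull_eq (E.pull_mul h2 h1) (E.pull_mul h1 h2)).2 h3)
      (fun e0 => z_ne_one h1n ((E.pull_eq e2 (E.pull_one γ)).1 e0))
      ((E.pull_eq e3 (E.pull_one γ)).2 rfl) with h | h <;> rw [h] at e1
    · exact Or.inl (E.pull_conj e1)
    · exact Or.inr (E.pull_conj e1)
  obtain ⟨ρ1, h1⟩ := p1 ⟨m, m, false, false⟩ (by simp [s])
  obtain ⟨ρ2, h2⟩ := p2 ⟨m, -m, false, false⟩ (by simp [t])
  have hbinv : IsConj (E.f (b0 n)) (E.f (b0 n)⁻¹) := E.conj (isConj_iff.2 ⟨w n, by simp [w, b0]⟩)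
  have cinv : ∀ x y : W n, IsConj (E.f x) (E.f y) → IsConj (E.f x⁻¹) (E.f y⁻¹) := fun x y h => by
    obtain ⟨γ, hγ⟩ := isConj_iff.1 h
    exact isConj_iff.2 ⟨γ, by rw [map_inv, map_inv, ← hγ]; group⟩
  have hbc : IsConj (E.f (b0 n)) (E.f c) ∧ IsConj (E.f (b0 n)) (E.f c⁻¹) := by
    rcases gen _ _ _ _ _ hη h1 (by simp [s]) hρ1 (b0_sq hn2) with h | h
    · exact ⟨h, hbinv.trans (cinv _ _ h)⟩
    · exact ⟨hbinv.trans (by simpa using cinv _ _ h), h⟩
  apply E.not_conj_a0_b0 hn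
  rcases gen _ _ _ _ _ hη2 h2 (by simp [t]) hρ2 (a0_sq hn2) with h | h
  · exact hbc.1.trans h.symm
  · exact hbc.2.trans h.symm

/-- in a simple group `z` is not isolated, and there is no subgroup of index 2 -/
theorem simple_hyp [IsSimpleGroup G] (hn : 2 ≤ n) : (∀ M : Subgroup G, M.Normal → M.index ≠ 2) ∧
    ∃ g : G, g * E.f (z n) * g⁻¹ ∈ (S : Subgroup G) ∧ g * E.f (z n) * g⁻¹ ≠ E.f (z n) := by
  have h1n : 1 ≤ n := by omega
  have hdvd : 2 ^ (2 * n + 2) ∣ Nat.card G := card_W (n := n) ▸ Subgroup.card_dvd_of_injective E.f E.inj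
  have h4 : 4 ∣ Nat.card G := (show 4 ∣ 2 ^ (2 * n + 2) from ⟨2 ^ (2 * n), by ring⟩).trans hdvd
  refine ⟨fun M hM h2 => ?_, ?_⟩
  · rcases hM.eq_bot_or_eq_top with rfl | rfl
    · rw [Subgroup.index_bot] at h2; rw [h2] at h4; omega
    · rw [Subgroup.index_top] at h2; cases h2
  · by_contra hno
    push Not at hno
    have hzo : orderOf (E.f (z n)) = 2 := by
      rw [E.orderOf_eq]; exact orderOf_eq_prime (by rw [sq, z_mul_z h1n]) (z_ne_one h1n)
    obtain ⟨N, hN, hodd, hc⟩ := Cfsg.Agent.S0215.result S _ hzo (E.mem _) hno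
    rcases hN.eq_bot_or_eq_top with rfl | rfl
    · have hZ : E.f (z n) ∈ Subgroup.center G := Subgroup.mem_center_iff.2 fun g => by
        have := Subgroup.mem_bot.1 (hc g)
        rw [mul_inv_eq_one, mul_inv_eq_iff_eq_mul] at this
        exact this.symm
      rcases (inferInstance : (Subgroup.center G).Normal).eq_bot_or_eq_top with h | h
      · rw [h, Subgroup.mem_bot] at hZ
        rw [hZ, orderOf_one] at hzo; cases hzo
      · have : E.f (s n) * E.f (z' n) = E.f (z' n) * E.f (s n) :=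
          Subgroup.mem_center_iff.1 (h ▸ Subgroup.mem_top _) _
        rw [← map_mul, ← map_mul] at this
        have := E.inj this
        simp [s, z'] at this
        exact h_ne h1n this.2
    · rw [Subgroup.card_top] at hodd
      obtain ⟨c, hc⟩ := h4
      rw [hc] at hodd
      exact absurd (Nat.odd_mul.1 hodd).1 (by decide)

include E in
/-- the classes of involutions -/
theorem classes [IsSimpleGroup G] (hn : 2 ≤ n) :
    (∀ x y : G, orderOf x = 2 → orderOf y = 2 → IsConj x y) ∨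
      (Nat.card ↥(S : Subgroup G) = 64 ∧ ∃ x y : G, orderOf x = 2 ∧ orderOf y = 2 ∧ ¬ IsConj x y ∧
        ∀ z : G, orderOf z = 2 → IsConj z x ∨ IsConj z y) := by
  have h1n : 1 ≤ n := by omega
  obtain ⟨hG, hZ⟩ := E.simple_hyp hn
  have hz := E.fuse_z hn hZ
  by_cases hs : IsConj (E.f (s n)) (E.f (z n))
  · left
    have : ∀ x : G, orderOf x = 2 → IsConj x (E.f (z n)) := fun x hx =>
      (E.conj_z_or_s h1n hG hz hx).elim id fun h => h.trans hs
    exact fun x y hx hy => (this x hx).trans (this y hy).symm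
  · right
    obtain rfl : n = 2 := by
      by_contra h
      exact hs (E.conj_s_z (by omega) hG hz)
    refine ⟨?_, E.f (z 2), E.f (s 2), ?_, ?_, fun h => hs h.symm, fun y hy => E.conj_z_or_s h1n hG hz hy⟩
    · rw [← E.range, ← Nat.card_congr (MonoidHom.ofInjective E.inj).toEquiv, card_W]; norm_num
    · rw [E.orderOf_eq]; exact orderOf_eq_prime (by rw [sq, z_mul_z h1n]) (z_ne_one h1n)
    · rw [E.orderOf_eq]; exact orderOf_eq_prime (by simp [sq, s, mk_eq_one]) (by simp [s, mk_eq_one])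

end Emb

end H24.G2S
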