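import Mathlib
import Cfsg.Agent.H24.G2Fus
import Cfsg.Agent.H22.Wr

/-! Fusion in the centralizer of the central involution of a Sylow 2-subgroup of type `G₂(q)`: the two quaternion
factors are strongly closed. -/

set_option autoImplicit false

namespace H24.G2S

variable {n : ℕ}

/-- the abelian subgroup of index 4 -/
def Asub (n : ℕ) : Subgroup (W n) where
  carrier := {x | x.σ = false ∧ x.δ = false}
  mul_mem' {x y} hx hy := by
    have h1 := hx.1; have h2 := hx.2; have h3 := hy.1; have h4 := hy.2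
    constructor <;> simp [mul_def, h1, h2, h3, h4]
  one_mem' := ⟨rfl, rfl⟩
  inv_mem' hx := hx

theorem mem_Asub {x : W n} : x ∈ Asub n ↔ x.σ = false ∧ x.δ = false := Iff.rfl

theorem Asub_comm {x y : W n} (hx : x ∈ Asub n) (hy : y ∈ Asub n) : x * y = y * x := by
  obtain ⟨i, j, σ, δ⟩ := x
  obtain ⟨i', j', σ', δ'⟩ := y
  obtain ⟨rfl, rfl⟩ : σ = false ∧ δ = false := hx
  obtain ⟨rfl, rfl⟩ : σ' = false ∧ δ' = false := hy
  simp [add_comm]

theorem Asub_conj (u : W n) {x : W n} (hx : x ∈ Asub n) : u * x * u⁻¹ ∈ Asub n := by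
  have h1 := hx.1; have h2 := hx.2
  constructor <;> simp [mul_def, inv_def, h1, h2]

/-- the first quaternion subgroup -/
def Q1 (hn : 1 ≤ n) : Subgroup (W n) where
  carrier := {x | x.δ = false ∧ x.i + x.j = if x.σ then h n else 0}
  mul_mem' := by
    rintro ⟨i, j, σ, δ⟩ ⟨i', j', σ', δ'⟩ ⟨h1, h2⟩ ⟨h3, h4⟩
    dsimp only at h1 h2 h3 h4
    subst h1 h3
    have := two_h hn
    cases σ <;> cases σ' <;> simp at h2 h4 ⊢ <;>
      first | linear_combination h2 + h4 | linear_combination h2 + h4 + this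
  one_mem' := by simp [one_def]
  inv_mem' := by
    rintro ⟨i, j, σ, δ⟩ ⟨h1, h2⟩
    dsimp only at h1 h2
    subst h1
    have := two_h hn
    cases σ <;> simp at h2 ⊢ <;> first | linear_combination -h2 | linear_combination -h2 - this

theorem mem_Q1 (hn : 1 ≤ n) {x : W n} : x ∈ Q1 hn ↔ x.δ = false ∧ x.i + x.j = if x.σ then h n else 0 := Iff.rfl

/-- the automorphism exchanging the two quaternion subgroups -/
def κ : W n →* W n := MonoidHom.mk' (fun x => ⟨x.i, -x.j, x.σ, xor x.δ x.σ⟩) (by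
  rintro ⟨i, j, σ, δ⟩ ⟨i', j', σ', δ'⟩
  cases σ <;> cases δ <;> cases σ' <;> cases δ' <;> simp [add_comm])

@[simp] theorem κ_mk (i j : ZMod (2 ^ n)) (σ δ : Bool) : κ (⟨i, j, σ, δ⟩ : W n) = ⟨i, -j, σ, xor δ σ⟩ := rfl

theorem κ_κ (x : W n) : κ (κ x) = x := by
  obtain ⟨i, j, σ, δ⟩ := x
  cases σ <;> cases δ <;> simp

theorem κ_inj : Function.Injective (κ : W n → W n) := Function.LeftInverse.injective κ_κ

/-- the second quaternion subgroup -/
def Q2 (hn : 1 ≤ n) : Subgroup (W n) := (Q1 hn).comap κ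

theorem mem_Q2 (hn : 1 ≤ n) {x : W n} : x ∈ Q2 hn ↔ x.δ = x.σ ∧ x.i - x.j = if x.σ then h n else 0 := by
  obtain ⟨i, j, σ, δ⟩ := x
  change κ _ ∈ Q1 hn ↔ _
  rw [mem_Q1]
  cases σ <;> cases δ <;> simp [sub_eq_add_neg]

theorem κ_z (hn : 1 ≤ n) : κ (z n) = z n := by simp [z, neg_h hn]
theorem κ_z' : κ (z' n) = z' n := by simp [z']
theorem κ_s : κ (s n) = t n := by simp [s, t]
theorem κ_t : κ (t n) = s n := by simp [s, t]
theorem κ_a0 : κ (a0 n) = b0 n := by simp [a0, b0]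
theorem κ_b0 : κ (b0 n) = a0 n := by simp [a0, b0]

theorem map_κ_Q1 (hn : 1 ≤ n) : (Q1 hn).map κ = Q2 hn := by
  ext x
  exact ⟨by rintro ⟨y, hy, rfl⟩; change κ (κ y) ∈ Q1 hn; rwa [κ_κ], fun hx => ⟨κ x, hx, κ_κ x⟩⟩

theorem map_κ_Q2 (hn : 1 ≤ n) : (Q2 hn).map κ = Q1 hn := by
  ext x
  exact ⟨by rintro ⟨y, hy, rfl⟩; exact hy, fun hx => ⟨κ x, show κ (κ x) ∈ Q1 hn by rwa [κ_κ], κ_κ x⟩⟩

theorem Q1_conj (hn : 1 ≤ n) (u : W n) {x : W n} (hx : x ∈ Q1 hn) : u * x * u⁻¹ ∈ Q1 hn := by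
  obtain ⟨i, j, σ, δ⟩ := x
  obtain ⟨a, b, σ', δ'⟩ := u
  obtain ⟨h1, h2⟩ := hx
  dsimp only at h1 h2
  subst h1
  have := two_h hn
  rw [mem_Q1]
  cases σ <;> cases σ' <;> cases δ' <;> simp at h2 ⊢ <;>
    first | linear_combination h2 | linear_combination -h2 | linear_combination -h2 - this

theorem z_mem_Q1 (hn : 1 ≤ n) : z n ∈ Q1 hn := by
  simp [mem_Q1, z]; linear_combination two_h hn

theorem z_mem_Q2 (hn : 1 ≤ n) : z n ∈ Q2 hn := by simp [mem_Q2, z]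

theorem a0_mem_Q1 (hn : 1 ≤ n) : a0 n ∈ Q1 hn := by simp [mem_Q1, a0]
theorem b0_mem_Q2 (hn : 1 ≤ n) : b0 n ∈ Q2 hn := by simp [mem_Q2, b0]

theorem Q1_Q2_comm (hn : 1 ≤ n) {x y : W n} (hx : x ∈ Q1 hn) (hy : y ∈ Q2 hn) : x * y = y * x := by
  rw [mem_Q2] at hy
  obtain ⟨i, j, σ, δ⟩ := x
  obtain ⟨a, b, σ', δ'⟩ := y
  obtain ⟨h1, h2⟩ := hx
  obtain ⟨h3, h4⟩ := hy
  dsimp only at h1 h2 h3 h4
  subst h1 h3
  have := two_h hn
  cases σ <;> cases δ' <;> simp at h2 h4 ⊢ <;> constructor <;>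
    first | ring1 | linear_combination h2 | linear_combination h4 | linear_combination -h4 |
      linear_combination h2 - h4 | linear_combination h2 + h4 + this

theorem Q1_inf_Q2 (hn : 1 ≤ n) {x : W n} (hx : x ∈ Q1 hn) (hy : x ∈ Q2 hn) : x = 1 ∨ x = z n := by
  rw [mem_Q2] at hy
  obtain ⟨i, j, σ, δ⟩ := x
  obtain ⟨h1, h2⟩ := hx
  obtain ⟨h3, h4⟩ := hy
  dsimp only at h1 h2 h3 h4
  subst h1 h3
  simp at h2 h4
  obtain rfl : i = j := by linear_combination h4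
  rcases two_mul_eq_zero hn (x := i) (by linear_combination h2) with rfl | rfl
  · exact Or.inl rfl
  · exact Or.inr rfl

theorem Q1_invol (hn : 1 ≤ n) {x : W n} (hx : x ∈ Q1 hn) (h2 : x * x = 1) : x = 1 ∨ x = z n := by
  obtain ⟨i, j, σ, δ⟩ := x
  obtain ⟨h1, h3⟩ := hx
  dsimp only at h1 h3
  subst h1
  cases σ <;> simp [mk_eq_one] at h2 h3
  · obtain rfl : j = -i := by linear_combination h3
    rcases two_mul_eq_zero hn (x := i) (by linear_combination h2.1) with rfl | rfl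
    · left; simp [mk_eq_one]
    · right; simp [z, neg_h hn]
  · exact absurd (h3.symm.trans h2.1) (h_ne hn)

/-- the square roots of `z` -/
theorem sqrt_z_cases (hn : 2 ≤ n) {x : W n} (hx : x * x = z n) :
    x ∈ Q1 (by omega : 1 ≤ n) ∨ x ∈ Q2 (by omega : 1 ≤ n) := by
  obtain ⟨i, j, σ, δ⟩ := x
  have h1n : 1 ≤ n := by omega
  rw [mem_Q2, mem_Q1]
  cases σ <;> cases δ <;> simp [z] at hx ⊢
  · rcases two_mul_eq_h hn (x := i) (by linear_combination hx.1) with rfl | rfl <;>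
      rcases two_mul_eq_h hn (x := j) (by linear_combination hx.2) with rfl | rfl <;> simp
  · exact h_ne h1n hx.symm
  · exact hx.1
  · linear_combination hx.1

/-- a noncentral element of order 4 of `Q1` -/
def α0 (n : ℕ) : W n := ⟨-k n, -k n, true, false⟩

theorem Q1_sqrt_z (hn : 2 ≤ n) {x : W n} (hx : x ∈ Q1 (by omega : 1 ≤ n)) (h2 : x * x = z n) :
    IsConj (a0 n) x ∨ IsConj (α0 n) x := by
  obtain ⟨i, j, σ, δ⟩ := x
  obtain ⟨h1, h3⟩ := hx
  dsimp only at h1 h3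
  subst h1
  have h1n : 1 ≤ n := by omega
  cases σ <;> simp [z] at h2 h3
  · obtain rfl : j = -i := by linear_combination h3
    left
    rcases two_mul_eq_h hn (x := i) (by linear_combination h2.1) with rfl | rfl
    · exact IsConj.refl _
    · exact isConj_iff.2 ⟨w n, by simp [w, a0]⟩
  · right
    refine isConj_iff.2 ⟨⟨i + k n, 0, false, false⟩, ?_⟩
    simp [α0]
    linear_combination -h3 - two_k hn - two_h h1n

variable {G : Type*} [Group G] [Finite G]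

namespace Emb
variable {S : Sylow 2 G} (E : Emb n S)

/-- the twisted embedding -/
def tw : Emb n S where
  f := E.f.comp κ
  inj := E.inj.comp κ_inj
  range := by
    rw [MonoidHom.range_comp, MonoidHom.range_eq_top.2 (fun x => ⟨κ x, κ_κ x⟩), ← MonoidHom.range_eq_map, E.range]

omit [Finite G] in
theorem tw_f (x : W n) : E.tw.f x = E.f (κ x) := rfl

/-- a pair `(x, z)` of commuting involutions with a square root of `z` in `C(x)` is conjugate to `(z, z')` -/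
theorem fuse_pair (hn : 1 ≤ n) {x ρ : W n} (hx : IsConj (E.f x) (E.f (z n))) (hxz : x ≠ z n)
    (hρ : ρ * x = x * ρ) (hρ2 : ρ * ρ = z n) :
    ∃ g : G, g * E.f x * g⁻¹ = E.f (z n) ∧ g * E.f (z n) * g⁻¹ = E.f (z' n) := by
  obtain ⟨g, hg, hg'⟩ := E.ext_z hn hx
  obtain ⟨ρ', hρ'⟩ := hg' ρ hρ
  have h1 := E.pull_mul hρ' hρ'
  rw [hρ2] at h1
  have h2 : ρ' * ρ' * (ρ' * ρ') = 1 := (E.pull_eq (E.pull_mul h1 h1) (E.pull_one g)).2 (z_mul_z hn)
  have h3 : ρ' * ρ' ≠ 1 := fun e0 => z_ne_one hn ((E.pull_eq h1 (E.pull_one g)).1 e0)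
  have h4 : ρ' * ρ' ≠ z n := fun e0 => hxz ((E.pull_eq h1 hg.symm).1 e0).symm
  rcases invol_cases hn h2 h3 with h | h | h | h | h
  · exact absurd h h4
  · obtain ⟨u, hu⟩ := isConj_iff.1 h.1.symm
    refine ⟨E.f u * g, ?_, ?_⟩
    · calc E.f u * g * E.f x * (E.f u * g)⁻¹ = E.f u * (g * E.f x * g⁻¹) * (E.f u)⁻¹ := by group
        _ = _ := by rw [hg, ← map_inv, ← map_mul, ← map_mul, z_comm hn, mul_inv_cancel_right]
    · calc E.f u * g * E.f (z n) * (E.f u * g)⁻¹ = E.f u * (g * E.f (z n) * g⁻¹) * (E.f u)⁻¹ := by group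
        _ = _ := by rw [← h1, ← map_inv, ← map_mul, ← map_mul, hu]
  · have := h.2.1; rw [sq_σ] at this; cases this
  · have := h.2.1; rw [sq_σ] at this; cases this
  · have := h.2; rw [sq_δ] at this; cases this

/-- with one class of involutions, `x` is conjugate to `z'` in `C(z)` -/
theorem fuse_in_cent (hn : 2 ≤ n) (hz : IsConj (E.f (z' n)) (E.f (z n))) {x ρ : W n}
    (hx : IsConj (E.f x) (E.f (z n))) (hxz : x ≠ z n) (hρ : ρ * x = x * ρ) (hρ2 : ρ * ρ = z n) :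
    ∃ g : G, g * E.f (z n) = E.f (z n) * g ∧ g * E.f x * g⁻¹ = E.f (z' n) := by
  have h1n : 1 ≤ n := by omega
  obtain ⟨g, h1, h2⟩ := E.fuse_pair h1n hx hxz hρ hρ2
  obtain ⟨g', h3, h4⟩ := E.fuse_pair h1n hz (ρ := b0 n)
    (fun e0 => h_ne h1n (by simp [z, z'] at e0; exact e0.symm)) (by simp [b0, z', add_comm]) (b0_sq hn)
  refine ⟨g' * g, ?_, ?_⟩
  · rw [← mul_inv_eq_iff_eq_mul]
    calc g' * g * E.f (z n) * (g' * g)⁻¹ = g' * (g * E.f (z n) * g⁻¹) * g'⁻¹ := by group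
      _ = _ := by rw [h2, h3]
  · calc g' * g * E.f x * (g' * g)⁻¹ = g' * (g * E.f x * g⁻¹) * g'⁻¹ := by group
      _ = _ := by rw [h1, h4]

omit [Finite G] in
/-- `A` is weakly closed -/
theorem weak_A (hn : 2 ≤ n) {g : G} (hg : ∀ x ∈ Asub n, g * E.f x * g⁻¹ ∈ (S : Subgroup G)) :
    ∀ x ∈ Asub n, ∃ y ∈ Asub n, E.f y = g * E.f x * g⁻¹ := by
  have h1n : 1 ≤ n := by omega
  have sq4 : ∀ ρ ∈ Asub n, ∃ y ∈ Asub n, E.f y = g * E.f (ρ * ρ) * g⁻¹ := fun ρ hρ => by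
    obtain ⟨ρ', h⟩ := E.exists_eq (hg ρ hρ)
    exact ⟨ρ' * ρ', ⟨sq_σ _, sq_δ _⟩, E.pull_mul h h⟩
  obtain ⟨y1, hy1, e1⟩ := sq4 ⟨k n, 0, false, false⟩ ⟨rfl, rfl⟩
  obtain ⟨y2, hy2, e2⟩ := sq4 ⟨0, k n, false, false⟩ ⟨rfl, rfl⟩
  have hk : k n + k n = h n := by linear_combination two_k hn
  have hh : h n + h n = 0 := by linear_combination two_h h1n
  simp only [mk_mul, e_false, one_mul, Bool.false_eq_true, if_false, add_zero, Bool.xor_false, hk] at e1 e2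
  have s1 : y1 * y1 = 1 := (E.pull_eq (E.pull_mul e1 e1) (E.pull_one g)).2 (by simp [mk_eq_one, hh])
  have s2 : y2 * y2 = 1 := (E.pull_eq (E.pull_mul e2 e2) (E.pull_one g)).2 (by simp [mk_eq_one, hh])
  have n1 : y1 ≠ 1 := fun e0 => h_ne h1n (mk_eq_one.1 ((E.pull_eq e1 (E.pull_one g)).1 e0)).1
  have n2 : y2 ≠ 1 := fun e0 => h_ne h1n (mk_eq_one.1 ((E.pull_eq e2 (E.pull_one g)).1 e0)).2.1
  have n12 : y1 ≠ y2 := fun e0 => h_ne h1n (congrArg W.i ((E.pull_eq e1 e2).1 e0))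
  -- the images of elements of `A` have `σ = false`
  have hσ : ∀ x ∈ Asub n, ∀ y, E.f y = g * E.f x * g⁻¹ → y.σ = false := by
    intro x hx y hy
    have c1 : y * y1 = y1 * y := (E.pull_eq (E.pull_mul hy e1) (E.pull_mul e1 hy)).2 (Asub_comm hx ⟨rfl, rfl⟩)
    have c2 : y * y2 = y2 * y := (E.pull_eq (E.pull_mul hy e2) (E.pull_mul e2 hy)).2 (Asub_comm hx ⟨rfl, rfl⟩)
    by_contra hs
    have key : ∀ u ∈ Asub n, u * u = 1 → u ≠ 1 → y * u = u * y → u = z n := by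
      rintro ⟨a, b, σ', δ'⟩ ⟨rfl, rfl⟩ hu2 hu1 hc
      obtain ⟨i, j, σ, δ⟩ := y
      obtain rfl : σ = true := by simpa using hs
      simp [mk_eq_one] at hu2 hu1
      have hab : a = b := by
        cases δ <;> simp at hc
        · linear_combination -hc.1
        · linear_combination -hc.1 - hu2.2
      subst hab
      rcases two_mul_eq_zero h1n (x := a) (by linear_combination hu2.1) with rfl | rfl
      · exact absurd rfl (hu1 rfl)
      · rfl
    exact n12 ((key y1 hy1 s1 n1 c1).trans (key y2 hy2 s2 n2 c2).symm)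
  have h20 : (2 : ZMod (2 ^ n)) ≠ 0 := fun e0 => h_ne h1n (by rw [← two_k hn, e0, zero_mul])
  have gen : ∀ x ∈ Asub n, x * x ≠ 1 → ∃ y ∈ Asub n, E.f y = g * E.f x * g⁻¹ := fun x hx h2 => by
    obtain ⟨y, hy⟩ := E.exists_eq (hg x hx)
    refine ⟨y, ⟨hσ x hx y hy, ?_⟩, hy⟩
    by_contra hδ
    apply h2
    refine (E.pull_eq (E.pull_mul hy hy) (E.pull_one g)).1 ?_
    have := hσ x hx y hy
    obtain ⟨i, j, σ, δ⟩ := y
    obtain rfl : δ = true := by simpa using hδ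
    obtain rfl : σ = false := this
    simp [mk_eq_one]
  intro x hx
  by_cases h2 : x * x = 1
  · let u : W n := ⟨1, 0, false, false⟩
    have hu : u ∈ Asub n := ⟨rfl, rfl⟩
    have hu2 : u * u ≠ 1 := fun e0 => h20 (by simp [u, mk_eq_one] at e0; linear_combination e0)
    obtain ⟨y, hy, ey⟩ := gen u hu hu2
    obtain ⟨y', hy', ey'⟩ := gen (x * u) (mul_mem hx hu) (by
      rw [mul_assoc, ← mul_assoc u x, ← Asub_comm hx hu, mul_assoc, ← mul_assoc, h2, one_mul]; exact hu2)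
    refine ⟨y' * y⁻¹, mul_mem hy' (inv_mem hy), ?_⟩
    rw [map_mul, map_inv, ey, ey', map_mul]; group
  · exact gen x hx h2

/-- if `z` is central, `N(A)` acts on `A` as `S` does -/
theorem act_A (hn : 2 ≤ n) (hz : ∀ g : G, g * E.f (z n) = E.f (z n) * g) {g : G}
    (hg : ∀ x ∈ Asub n, g * E.f x * g⁻¹ ∈ (S : Subgroup G)) :
    ∃ u : W n, ∀ x ∈ Asub n, g * E.f x * g⁻¹ = E.f (u * x * u⁻¹) := by
  have h1n : 1 ≤ n := by omega
  set X := (Asub n).map E.f with hX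
  have norm : ∀ g : G, (∀ x ∈ Asub n, g * E.f x * g⁻¹ ∈ (S : Subgroup G)) → g ∈ Subgroup.normalizer (X : Set G) :=
    fun g hg => Subgroup.mem_normalizer_fintype (by
      rintro _ ⟨x, hx, rfl⟩
      obtain ⟨y, hy, e⟩ := E.weak_A hn hg x hx
      exact ⟨y, hy, e⟩)
  have hS : (S : Subgroup G) ≤ Subgroup.normalizer (X : Set G) := fun y hy =>
    norm y fun x _ => mul_mem (mul_mem hy (E.mem x)) (inv_mem hy)
  have hodd : ¬ H22.HasOdd X := by
    rintro ⟨g, hg, ho, hc⟩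
    have ho' := Nat.coprime_two_right.1 ho
    have φ := H22.oddAut_conj hg ho'
    refine hc (H22.mem_centralizer_of_forall_conj_eq (φ.fix_of_omega (((IsPGroup.of_card card_W).to_subgroup _).map _)
      ?_ ?_))
    · rintro _ ⟨x, hx, rfl⟩ _ ⟨y, hy, rfl⟩
      rw [← map_mul, ← map_mul, Asub_comm hx hy]
    · rintro _ ⟨x, hx, rfl⟩ h2
      have hx2 : x * x = 1 := E.inj (by rw [map_mul, h2, map_one])
      have gz : g * E.f (z n) * g⁻¹ = E.f (z n) := by rw [hz, mul_inv_cancel_right]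
      -- `g` maps `x` to `x` or `x z`
      have key : ∀ x ∈ Asub n, x * x = 1 → g * E.f x * g⁻¹ = E.f x ∨ g * E.f x * g⁻¹ = E.f x * E.f (z n) := by
        intro x hx hx2
        obtain ⟨y, hy, e⟩ := (Subgroup.mem_normalizer_iff.1 hg (E.f x)).1 ⟨x, hx, rfl⟩
        have hy2 : y * y = 1 := (E.pull_eq (E.pull_mul e e) (E.pull_one g)).2 hx2
        have i1 : y = 1 ↔ x = 1 := E.pull_eq e (E.pull_one g)
        have i2 : y = z n ↔ x = z n := E.pull_eq e gz.symm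
        rw [← e, ← map_mul, E.inj.eq_iff, E.inj.eq_iff]
        obtain ⟨a, b, σ, δ⟩ := x
        obtain ⟨a', b', σ', δ'⟩ := y
        obtain ⟨rfl, rfl⟩ : σ = false ∧ δ = false := hx
        obtain ⟨rfl, rfl⟩ : σ' = false ∧ δ' = false := hy
        have hh : h n + h n = 0 := by linear_combination two_h h1n
        have hne := h_ne h1n
        simp [mk_eq_one, z] at hx2 hy2 i1 i2 ⊢
        rcases two_mul_eq_zero h1n (x := a) (by linear_combination hx2.1) with rfl | rfl <;>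
          rcases two_mul_eq_zero h1n (x := b) (by linear_combination hx2.2) with rfl | rfl <;>
          rcases two_mul_eq_zero h1n (x := a') (by linear_combination hy2.1) with rfl | rfl <;>
          rcases two_mul_eq_zero h1n (x := b') (by linear_combination hy2.2) with rfl | rfl <;>
          simp [hh, hne, hne.symm] at i1 i2 ⊢
      rcases key x hx hx2 with h | h
      · exact h
      · have h3 : g ^ 2 * E.f x = E.f x * g ^ 2 := by
          rw [← mul_inv_eq_iff_eq_mul]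
          calc g ^ 2 * E.f x * (g ^ 2)⁻¹ = g * (g * E.f x * g⁻¹) * g⁻¹ := by rw [sq]; group
            _ = g * E.f x * g⁻¹ * (g * E.f (z n) * g⁻¹) := by rw [h]; nth_rw 2 [← h]; group
            _ = E.f x := by rw [h, gz, mul_assoc, ← map_mul, z_mul_z h1n, map_one, mul_one]
        obtain ⟨m, hm⟩ := ho'
        have h4 : g = (g ^ 2) ^ (m + 1) := by
          rw [← pow_mul, show 2 * (m + 1) = orderOf g + 1 by omega, pow_succ, pow_orderOf_eq_one, one_mul]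
        rw [mul_inv_eq_iff_eq_mul, h4]
        exact ((show Commute (g ^ 2) (E.f x) from h3).pow_left _).eq
  obtain ⟨s', hs', hs⟩ := H22.exists_conj_of_not_hasOdd hodd (H22.sylIn_of_sylow_le S hS) (norm g hg)
  obtain ⟨u, rfl⟩ := E.exists_eq hs'
  exact ⟨u, fun x hx => by rw [← hs _ ⟨x, hx, rfl⟩, map_mul, map_mul, map_inv]⟩

/-- elements of `A` are extremal -/
theorem ext_A (hn : 2 ≤ n) (hz : ∀ g : G, g * E.f (z n) = E.f (z n) * g) {x y : W n} (hx : x ∈ Asub n)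
    (hxy : IsConj (E.f y) (E.f x)) :
    ∃ c : G, c * E.f y * c⁻¹ = E.f x ∧ ∀ ρ : W n, ρ * y = y * ρ → ∃ ρ', E.f ρ' = c * E.f ρ * c⁻¹ := by
  obtain ⟨R⟩ : Nonempty (Sylow 2 (Subgroup.centralizer ({E.f x} : Set G))) := inferInstance
  obtain ⟨g1, hg1, hg1'⟩ := exists_conj_cent (IsConj.refl _) R _ (E.cent_p x) (E.cent_comm _)
  obtain ⟨g2, hg2, hg2'⟩ := exists_conj_cent hxy R _ (E.cent_p y) (E.cent_comm _)
  obtain ⟨g, hg⟩ := exists_conj_le_sylow S _ (R.isPGroup'.map (Subgroup.centralizer ({E.f x} : Set G)).subtype)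
  obtain ⟨u, hu⟩ := E.act_A hn hz (g := g * g1) fun ρ hρ => by
    have := hg _ (hg1' _ (E.mem_cent (Asub_comm hρ hx)))
    convert this using 1; group
  have h1 := hu x hx
  rw [map_mul, map_mul, map_inv] at h1
  refine ⟨(E.f u)⁻¹ * g * g2, ?_, fun ρ hρ => E.exists_eq ?_⟩
  · calc (E.f u)⁻¹ * g * g2 * E.f y * ((E.f u)⁻¹ * g * g2)⁻¹
        = (E.f u)⁻¹ * (g * (g2 * E.f y * g2⁻¹) * g⁻¹) * E.f u := by group
      _ = (E.f u)⁻¹ * (g * g1 * E.f x * (g * g1)⁻¹) * E.f u := by rw [hg2]; nth_rw 1 [← hg1]; group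
      _ = _ := by rw [h1]; group
  · have := mul_mem (mul_mem (inv_mem (E.mem u)) (hg _ (hg2' _ (E.mem_cent hρ)))) (E.mem u)
    convert this using 1; group

/-- fusion in `A` -/
theorem fus_A (hn : 2 ≤ n) (hz : ∀ g : G, g * E.f (z n) = E.f (z n) * g) {x y : W n} (hx : x ∈ Asub n)
    (hy : y ∈ Asub n) (hxy : IsConj (E.f y) (E.f x)) : IsConj y x := by
  obtain ⟨c, hc, hc'⟩ := E.ext_A hn hz hx hxy
  obtain ⟨u, hu⟩ := E.act_A hn hz (g := c) fun ρ hρ => by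
    obtain ⟨ρ', e⟩ := hc' ρ (Asub_comm hρ hy)
    exact e ▸ E.mem ρ'
  exact isConj_iff.2 ⟨u, E.inj ((hu y hy).symm.trans hc)⟩

/-- the situation in `C(z)` when all involutions are conjugate -/
structure Cz : Prop where
  hn : 2 ≤ n
  hz : ∀ g : G, g * E.f (z n) = E.f (z n) * g
  hs : IsConj (E.f (s n)) (E.f (z' n))
  ht : IsConj (E.f (t n)) (E.f (z' n))

namespace Cz
variable {E} (H : E.Cz)
include H

omit [Finite G] in
theorem h1 : 1 ≤ n := by have := H.hn; omega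

omit [Finite G] in
theorem tw : E.tw.Cz :=
  ⟨H.hn, by rw [tw_f, κ_z H.h1]; exact H.hz, by rw [tw_f, tw_f, κ_s, κ_z']; exact H.ht,
    by rw [tw_f, tw_f, κ_t, κ_z']; exact H.hs⟩

omit [Finite G] in
theorem pull_z (g : G) : E.f (z n) = g * E.f (z n) * g⁻¹ := by rw [H.hz, mul_inv_cancel_right]

/-- an element fixing `⟨b0⟩` and mapping `α0` into `⟨a0⟩` -/
theorem exists_c : ∃ c : G, (c * E.f (b0 n) * c⁻¹ = E.f (b0 n) ∨ c * E.f (b0 n) * c⁻¹ = E.f (b0 n)⁻¹) ∧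
    (c * E.f (α0 n) * c⁻¹ = E.f (a0 n) ∨ c * E.f (α0 n) * c⁻¹ = E.f (a0 n)⁻¹) := by
  have hn := H.hn
  have hk := two_k hn
  have hh := two_h H.h1
  obtain ⟨c, hc, hc'⟩ := E.ext_A hn H.hz (x := z' n) ⟨rfl, rfl⟩ H.hs
  obtain ⟨b, hb⟩ := hc' (b0 n) (by simp [b0, s])
  have h1 : b * b = z n := (E.pull_eq (E.pull_mul hb hb) (H.pull_z c)).2 (b0_sq hn)
  have h2 : b * z' n = z' n * b := (E.pull_eq (E.pull_mul hb hc.symm) (E.pull_mul hc.symm hb)).2 (by simp [b0, s])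
  have h3 : b ∈ Asub n := by
    obtain ⟨i, j, σ, δ⟩ := b
    cases σ <;> cases δ <;> simp [z, z', mem_Asub] at h1 h2 ⊢
    · exact h_ne H.h1 h1.symm
    · exact h_ne H.h1 h2
    · exact h_ne H.h1 h2
  obtain ⟨u, hu⟩ := isConj_iff.1 (E.fus_A hn H.hz h3 (y := b0 n) ⟨rfl, rfl⟩ (E.pull_conj hb))
  have e1 : α0 n = s n * (b0 n)⁻¹ := by simp [α0, s, b0]
  have e2 : c * E.f (α0 n) * c⁻¹ = E.f (z' n * b⁻¹) := by
    rw [e1, map_mul, map_mul, map_inv, map_inv, ← hc, hb]; group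
  refine ⟨c, ?_, ?_⟩
  · rw [← hb, ← hu]; exact (conj_b0 u).imp (congrArg _) (congrArg _)
  · rw [e2, ← hu]
    rcases conj_b0 u with h | h <;> rw [h]
    · left; congr 1; simp [z', b0, a0]; linear_combination -hk
    · right; congr 1; simp [z', b0, a0]; linear_combination hk + hh

theorem conj_α0 : IsConj (E.f (α0 n)) (E.f (a0 n)) := by
  obtain ⟨c, -, h | h⟩ := H.exists_c
  · exact isConj_iff.2 ⟨c, h⟩
  · exact (isConj_iff.2 ⟨c, h⟩).trans (E.conj (isConj_iff.2 ⟨w n, by simp [w, a0]⟩))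

theorem conj_a0_of {x : W n} (hx : x ∈ Q1 H.h1) (h2 : x * x = z n) : IsConj (E.f x) (E.f (a0 n)) :=
  (Q1_sqrt_z H.hn hx h2).elim (fun h => (E.conj h).symm) fun h => (E.conj h).symm.trans H.conj_α0

theorem conj_b0_of {x : W n} (hx : x ∈ Q2 H.h1) (h2 : x * x = z n) : IsConj (E.f x) (E.f (b0 n)) := by
  have := H.tw.conj_a0_of (x := κ x) hx (by rw [← map_mul, h2, κ_z H.h1])
  rwa [tw_f, tw_f, κ_κ, κ_a0] at this

/-- `Q1` is strongly closed -/
theorem closed1 {x y : W n} (hx : x ∈ Q1 H.h1) (hxy : IsConj (E.f x) (E.f y)) : y ∈ Q1 H.h1 := by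
  have hn := H.hn
  have h1n := H.h1
  have hA : ∀ {x y : W n}, x ∈ Q1 h1n → x ∈ Asub n → y ∈ Asub n → IsConj (E.f x) (E.f y) → y ∈ Q1 h1n :=
    fun hx hxA hyA h => by
      obtain ⟨u, rfl⟩ := isConj_iff.1 (E.fus_A hn H.hz hyA hxA h)
      exact Q1_conj h1n u hx
  obtain ⟨g, hg⟩ := isConj_iff.1 hxy
  have hsq := E.pull_mul hg.symm hg.symm
  by_cases h2 : x * x = z n
  · have h3 : y * y = z n := (E.pull_eq hsq (H.pull_z g)).2 h2
    refine (sqrt_z_cases hn h3).resolve_right fun hy => ?_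
    have h4 : IsConj (E.f (a0 n)) (E.f (b0 n)) := (H.conj_a0_of hx h2).symm.trans (hxy.trans (H.conj_b0_of hy h3))
    have h5 := Q1_inf_Q2 h1n (hA (a0_mem_Q1 h1n) ⟨rfl, rfl⟩ ⟨rfl, rfl⟩ h4) (b0_mem_Q2 h1n)
    rcases h5 with h | h
    · exact k_ne_zero hn (congrArg W.i h)
    · exact k_ne_h hn (congrArg W.i h)
  by_cases h1 : x * x = 1
  · rcases Q1_invol h1n hx h1 with rfl | rfl
    · rw [(E.pull_eq hg.symm (E.pull_one g)).2 rfl]; exact one_mem _
    · rw [(E.pull_eq hg.symm (H.pull_z g)).2 rfl]; exact hx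
  have hxA : x ∈ Asub n := by
    obtain ⟨i, j, σ, δ⟩ := x
    obtain ⟨e1, e2⟩ := hx
    dsimp only at e1 e2
    subst e1
    cases σ
    · exact ⟨rfl, rfl⟩
    · exfalso; apply h2
      simp at e2
      simp [z]; constructor <;> linear_combination e2
  by_cases hyA : y ∈ Asub n
  · exact hA hx hxA hyA hxy
  have hy1 : y * y ≠ 1 := fun e0 => h1 ((E.pull_eq hsq (E.pull_one g)).1 e0)
  have hy2 : y * y ≠ z n := fun e0 => h2 ((E.pull_eq hsq (H.pull_z g)).1 e0)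
  have hyy : IsConj (x * x) (y * y) :=
    E.fus_A hn H.hz ⟨sq_σ _, sq_δ _⟩ ⟨sq_σ _, sq_δ _⟩ (E.pull_conj hsq)
  have hyQ : y * y ∈ Q1 h1n := by
    obtain ⟨u, hu⟩ := isConj_iff.1 hyy
    exact hu ▸ Q1_conj h1n u (mul_mem hx hx)
  exfalso
  obtain ⟨i, j, σ, δ⟩ := x
  obtain ⟨rfl, rfl⟩ : σ = false ∧ δ = false := hxA
  obtain rfl : j = -i := by
    have := hx.2
    simp at this
    linear_combination this
  obtain ⟨p, q, σ, δ⟩ := y
  cases σ <;> cases δ
  · exact hyA ⟨rfl, rfl⟩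
  · exact hy1 (by simp [mk_eq_one])
  · have := hyQ.2
    simp at this
    rcases two_mul_eq_zero h1n (x := p + q) (by linear_combination this) with e0 | e0
    · exact hy1 (by simp [mk_eq_one]; constructor <;> linear_combination e0)
    · exact hy2 (by simp [z]; constructor <;> linear_combination e0)
  · -- `y` is conjugate to `t x^{±1}`
    obtain ⟨i', hi', hpq⟩ : ∃ i', IsConj (⟨i, -i, false, false⟩ : W n) ⟨i', -i', false, false⟩ ∧ p - q = 2 * i' := by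
      obtain ⟨⟨a, b, σ, δ⟩, hu⟩ := isConj_iff.1 hyy
      cases σ <;> cases δ <;> simp at hu
      · exact ⟨i, IsConj.refl _, by linear_combination -hu.1⟩
      · exact ⟨-i, isConj_iff.2 ⟨w n, by simp [w]⟩, by linear_combination -hu.1⟩
      · exact ⟨-i, isConj_iff.2 ⟨w n, by simp [w]⟩, by linear_combination -hu.1⟩
      · exact ⟨i, IsConj.refl _, by linear_combination -hu.1⟩
    set x' : W n := ⟨i', -i', false, false⟩ with hx'
    have hx'Q : x' ∈ Q1 h1n := by simp [hx', mem_Q1]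
    have e1 : IsConj (t n * x') ⟨p, q, true, true⟩ := isConj_iff.2 ⟨⟨p - i', 0, false, false⟩, by
      simp [t, hx']; linear_combination hpq⟩
    obtain ⟨c, hc, hc'⟩ := E.ext_A hn H.hz (x := z' n) ⟨rfl, rfl⟩ H.ht
    obtain ⟨x'', hx''⟩ := hc' x' (by simp [t, hx'])
    have e2 : x'' * z' n = z' n * x'' :=
      (E.pull_eq (E.pull_mul hx'' hc.symm) (E.pull_mul hc.symm hx'')).2 (by simp [t, hx'])
    have e3 : x'' * x'' ≠ 1 := fun e0 => by
      have := (E.pull_eq (E.pull_mul hx'' hx'') (E.pull_one c)).1 e0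
      obtain ⟨u, hu⟩ := isConj_iff.1 hi'
      rw [← hu, conj_mul, conj_eq_one_iff] at this
      exact h1 this
    have e4 : x'' ∈ Asub n := by
      obtain ⟨a, b, σ, δ⟩ := x''
      cases σ <;> cases δ <;> simp [z', mem_Asub, mk_eq_one] at e2 e3 ⊢
      · exact h_ne h1n e2
      · exact h_ne h1n e2
    have e5 : x'' ∈ Q1 h1n := hA hx'Q ⟨rfl, rfl⟩ e4 (E.pull_conj hx'')
    have e6 : z' n * x'' ∈ Q1 h1n := hA hx ⟨rfl, rfl⟩ (mul_mem (show z' n ∈ Asub n from ⟨rfl, rfl⟩) e4)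
      (hxy.trans ((E.conj e1).symm.trans (E.pull_conj (E.pull_mul hc.symm hx''))))
    have e7 := ((mul_mem_cancel_right e5).1 e6).2
    simp [z'] at e7
    exact h_ne h1n e7

/-- `Q2` is strongly closed -/
theorem closed2 {x y : W n} (hx : x ∈ Q2 H.h1) (hxy : IsConj (E.f x) (E.f y)) : y ∈ Q2 H.h1 :=
  H.tw.closed1 (x := κ x) (y := κ y) hx (by rwa [tw_f, tw_f, κ_κ, κ_κ])

end Cz

end Emb

end H24.G2S
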