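import Mathlib
import Cfsg.Agent.H24.G2C1
import Cfsg.Agent.H22.Cov5

/-! The centralizer of the central involution modulo its core, for Sylow 2-subgroups of type `G₂(q)`: the normal
closures of the two quaternion factors commute. -/

set_option autoImplicit false

namespace H24.G2S

open Subgroup Cfsg
open scoped commutatorElement

universe u

variable {n : ℕ}

/-- a generator of the cyclic subgroup of `Q1` -/
def y0 (n : ℕ) : W n := ⟨1, -1, false, false⟩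
/-- an element outside `Q1 Q2` -/
def u0 (n : ℕ) : W n := ⟨1, 0, false, false⟩

theorem y0_pow (m : ℕ) : y0 n ^ m = ⟨m, -m, false, false⟩ := by
  induction m with
  | zero => simp [one_def]
  | succ m ih => rw [pow_succ, ih]; simp [y0, add_comm]

theorem α0_mem_Q1 (hn : 2 ≤ n) : α0 n ∈ Q1 (by omega : 1 ≤ n) := by
  simp [mem_Q1, α0]; linear_combination -two_k hn - two_h (n := n) (by omega)

theorem y0_mem_Q1 (hn : 1 ≤ n) : y0 n ∈ Q1 hn := by simp [mem_Q1, y0]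

theorem sq_of_σ (hn : 1 ≤ n) {x : W n} (hx : x ∈ Q1 hn) (hσ : x.σ = true) : x * x = z n := by
  obtain ⟨i, j, σ, δ⟩ := x
  obtain ⟨e1, e2⟩ := hx
  dsimp only at e1 e2 hσ
  subst e1 hσ
  simp at e2
  simp [z]; constructor <;> linear_combination e2

theorem α0_sq (hn : 2 ≤ n) : α0 n * α0 n = z n := sq_of_σ _ (α0_mem_Q1 hn) rfl

theorem u0_α0 : u0 n * α0 n * (u0 n)⁻¹ = y0 n * α0 n := by simp [u0, y0, α0, add_comm]

theorem u0_comm {x : W n} (hx : x ∈ Asub n) : u0 n * x * (u0 n)⁻¹ = x := by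
  rw [Asub_comm (show u0 n ∈ Asub n from ⟨rfl, rfl⟩) hx, mul_inv_cancel_right]

theorem Q1_equiv (m : ℕ) : Nonempty (Q1 (by omega : 1 ≤ m + 2) ≃* QuaternionGroup (2 ^ (m + 1))) := by
  have h1 : 1 ≤ m + 2 := by omega
  have h2 : 2 ≤ m + 2 := by omega
  have hh : ((2 ^ (m + 1) : ℕ) : ZMod (2 ^ (m + 2))) = h (m + 2) := by simp [h]
  refine H7.nonempty_equiv_quaternion _ ⟨y0 _, y0_mem_Q1 h1⟩ ⟨α0 _, α0_mem_Q1 h2⟩ ?_ ?_ ?_ ?_ ?_
  · rw [← orderOf_coe, ← pow_succ']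
    refine orderOf_eq_prime_pow ?_ ?_
    · rw [y0_pow, hh]; exact fun e0 => h_ne h1 (mk_eq_one.1 e0).1
    · rw [y0_pow, ZMod.natCast_self]; simp [mk_eq_one]
  · refine Subtype.ext ?_
    simp only [coe_mul, SubgroupClass.coe_pow]
    rw [α0_sq h2, y0_pow, hh, neg_h h1]; rfl
  · exact Subtype.ext (by simp [α0, y0])
  · rintro ⟨m, hm⟩
    have h3 : y0 _ ^ m = α0 _ := congrArg Subtype.val hm
    have h4 : α0 _ ∈ Asub _ := h3 ▸ zpow_mem (show y0 _ ∈ Asub _ from ⟨rfl, rfl⟩) m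
    cases h4.1
  · have key : ∀ x : Q1 h1, x.1.σ = false → x ∈ zpowers (⟨y0 _, y0_mem_Q1 h1⟩ : Q1 h1) := by
      rintro ⟨⟨i, j, σ, δ⟩, e1, e2⟩ e3
      dsimp only at e1 e2 e3
      subst e1 e3
      refine ⟨i.val, Subtype.ext ?_⟩
      simp only [zpow_natCast, SubgroupClass.coe_pow]
      rw [y0_pow, ZMod.natCast_zmod_val]
      simp at e2
      congr 1; linear_combination -e2
    intro g
    by_cases hg : g.1.σ = false
    · exact Or.inl (key g hg)
    · refine Or.inr (key _ ?_)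
      have : g.1.σ = true := by simpa using hg
      simp [mul_def, inv_def, α0, this]

theorem cent_Q2 (hn : 2 ≤ n) {x : W n} (hx : ∀ y ∈ Q2 (by omega : 1 ≤ n), x * y = y * x) :
    x ∈ Q1 (by omega : 1 ≤ n) := by
  have h1n : 1 ≤ n := by omega
  have h20 : (2 : ZMod (2 ^ n)) ≠ 0 := fun e0 => h_ne h1n (by rw [← two_k hn, e0, zero_mul])
  have e1 := hx ⟨1, 1, false, false⟩ (by simp [mem_Q2])
  have e2 := hx ⟨h n, 0, true, true⟩ (by simp [mem_Q2])
  obtain ⟨i, j, σ, δ⟩ := x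
  rw [mem_Q1]
  cases σ <;> cases δ <;> simp at e1 e2 ⊢
  · linear_combination e2.1
  · exact h20 (by linear_combination -e1.1)
  · linear_combination e2.1
  · exact h20 (by linear_combination -e1.1)

theorem Q1_exists_sqrt (hn : 1 ≤ n) {x : W n} (hx : x ∈ Q1 hn) (h1 : x ≠ 1) (hz : x ≠ z n) :
    ∃ j : ℕ, x ^ j * x ^ j = z n := by
  obtain ⟨m, hm⟩ := (IsPGroup.iff_orderOf.1 (IsPGroup.of_card (card_W (n := n)))) x
  have h2 : x * x ≠ 1 := fun e0 => (Q1_invol hn hx e0).elim h1 hz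
  obtain ⟨m, rfl⟩ : ∃ m', m = m' + 2 := by
    rcases m with _ | _ | m
    · exact absurd (orderOf_eq_one_iff.1 hm) h1
    · exact absurd ((pow_two x).symm.trans (by rw [← pow_orderOf_eq_one x, hm]; rfl)) h2
    · exact ⟨m, rfl⟩
  refine ⟨2 ^ m, (Q1_invol hn (mul_mem (pow_mem hx _) (pow_mem hx _)) ?_).resolve_left ?_⟩
  · rw [← pow_add, ← pow_add, ← pow_orderOf_eq_one x, hm]; congr 1; ring
  · rw [← pow_add, ← orderOf_dvd_iff_pow_eq_one, hm]
    intro hd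
    have := Nat.le_of_dvd (by positivity) hd
    have h3 : 0 < 2 ^ m := by positivity
    rw [pow_succ, pow_succ] at this
    omega

/-- Goldschmidt's product theorem -/
def PCH : Prop := ∀ {G : Type u} [Group G] [Finite G] (S : Sylow 2 G) {T U : Subgroup G},
  IsStronglyClosed T (S : Subgroup G) → IsStronglyClosed U (S : Subgroup G) → (∀ a ∈ T, ∀ b ∈ U, a * b = b * a) →
  T ⊓ U = ⊥ → ⁅normalClosure (T : Set G), normalClosure (U : Set G)⁆ ≤ oddCore G

variable {G : Type u} [Group G] [Finite G]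

/-- a 2-element of a normal subgroup is conjugate in it into the Sylow 2-subgroup -/
theorem exists_conj_normal (S : Sylow 2 G) (M : Subgroup G) [M.Normal] {x : G} (hx : x ∈ M) {j : ℕ}
    (h2 : x ^ 2 ^ j = 1) : ∃ m ∈ M, m * x * m⁻¹ ∈ (S : Subgroup G) := by
  have hs : H22.SylIn 2 ((S : Subgroup G) ⊓ M) M := (H22.sylIn_top S).inf_normal le_top le_normalizer_of_normal
  obtain ⟨m, hm⟩ := H22.sylow_exists_conj_mem hs.toSylow (a := ⟨x, hx⟩) (k := j) (Subtype.ext h2)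
  exact ⟨m, m.2, hm.1⟩

namespace Emb
variable {S : Sylow 2 G} (E : Emb n S)

/-- the first quaternion factor -/
def T (hn : 1 ≤ n) : Subgroup G := (Q1 hn).map E.f
/-- its normal closure -/
def N (hn : 1 ≤ n) : Subgroup G := normalClosure (E.T hn : Set G)
/-- the centralizer of the normal closure of the second factor -/
def D (hn : 1 ≤ n) : Subgroup G := centralizer (E.tw.N hn : Set G)

instance (hn : 1 ≤ n) : (E.N hn).Normal := normalClosure_normal
instance (hn : 1 ≤ n) : (E.D hn).Normal := normal_centralizer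

omit [Finite G] in
theorem tw_tw : E.tw.tw = E := by
  obtain ⟨f, h1, h2⟩ := E
  simp only [tw, mk.injEq]
  ext x
  simp [κ_κ]

omit [Finite G] in
theorem mem_T (hn : 1 ≤ n) {x : W n} : E.f x ∈ E.T hn ↔ x ∈ Q1 hn := mem_map_iff_mem E.inj

omit [Finite G] in
theorem mem_T2 (hn : 1 ≤ n) {x : W n} : E.f x ∈ E.tw.T hn ↔ x ∈ Q2 hn := by
  rw [← κ_κ x, ← tw_f, mem_T, κ_κ]; rfl

omit [Finite G] in
theorem T_le_S (hn : 1 ≤ n) : E.T hn ≤ S := by rintro _ ⟨x, -, rfl⟩; exact E.mem x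

omit [Finite G] in
theorem T_le_N (hn : 1 ≤ n) : E.T hn ≤ E.N hn := le_normalClosure

omit [Finite G] in
theorem T_comm (hn : 1 ≤ n) : ∀ a ∈ E.T hn, ∀ b ∈ E.tw.T hn, a * b = b * a := by
  rintro _ ⟨x, hx, rfl⟩ b hb
  obtain ⟨y, rfl⟩ := E.exists_eq (E.tw.T_le_S hn hb)
  rw [← map_mul, ← map_mul, Q1_Q2_comm hn hx ((E.mem_T2 hn).1 hb)]

omit [Finite G] in
theorem pow_eq_one {g : G} (hg : g ∈ (S : Subgroup G)) : ∃ j, g ^ 2 ^ j = 1 := by
  obtain ⟨j, hj⟩ := S.isPGroup' ⟨g, hg⟩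
  exact ⟨j, congrArg Subtype.val hj⟩

namespace Cz
variable {E} (H : E.Cz)
include H

omit [Finite G] in
theorem tw_z : E.tw.f (z n) = E.f (z n) := by rw [tw_f, κ_z H.h1]

theorem closedT : IsStronglyClosed (E.T H.h1) S := by
  refine ⟨E.T_le_S _, ?_⟩
  rintro _ ⟨x, hx, rfl⟩ g hg
  obtain ⟨y, hy⟩ := E.exists_eq hg
  exact ⟨y, H.closed1 hx (E.pull_conj hy), hy⟩

/-- a normal subgroup meeting `S` in `⟨z⟩` lies in `⟨z⟩` -/
theorem le_Z (hO : pPrimeCore 2 G = ⊥) (M : Subgroup G) [M.Normal] (hM : ∀ x, E.f x ∈ M → x = 1 ∨ x = z n) :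
    ∀ g ∈ M, g = 1 ∨ g = E.f (z n) := by
  obtain ⟨P⟩ : Nonempty (Sylow 2 M) := inferInstance
  have hP : ∀ y ∈ (P : Subgroup M), (y : G) = 1 ∨ (y : G) = E.f (z n) := fun y hy => by
    obtain ⟨g, hg⟩ := exists_conj_le_sylow S _ (P.isPGroup'.map M.subtype)
    obtain ⟨x, hx⟩ := E.exists_eq (hg _ ⟨y, hy, rfl⟩)
    rcases hM x (hx ▸ Normal.conj_mem inferInstance _ y.2 g) with rfl | rfl
    · left; simpa using hx.symm
    · right
      rw [H.pull_z g] at hx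
      simpa using hx.symm
  have hc : normalizer P ≤ centralizer ((P : Subgroup M) : Set M) := fun g _ => mem_centralizer_iff.2 fun y hy =>
    Subtype.ext (by
      rcases hP y hy with e | e
      · simp [e]
      · simp only [coe_mul, e]; exact (H.hz g).symm)
  have h1 := MonoidHom.ker_transferSylow_isComplement' P hc
  have h2 : (MonoidHom.transferSylow P hc).ker ≤ pPrimeCore 2 M := H2.le_pPrimeCore inferInstance
    ((Nat.Prime.coprime_iff_not_dvd Nat.prime_two).2 (MonoidHom.not_dvd_card_ker_transferSylow P hc)).symm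
  rw [H22.pPrimeCore_eq_bot_of_normal hO M, le_bot_iff] at h2
  have h3 := h1.sup_eq_top
  rw [h2, bot_sup_eq] at h3
  exact fun g hg => hP ⟨g, hg⟩ (h3.ge (mem_top _))

/-- the normal closures commute modulo `z` -/
theorem comm_Z (hPC : PCH.{u}) (hO : pPrimeCore 2 G = ⊥) :
    ∀ g ∈ ⁅E.N H.h1, E.tw.N H.h1⁆, g = 1 ∨ g = E.f (z n) := by
  have h1n := H.h1
  let Z := zpowers (E.f (z n))
  have hzz : E.f (z n) * E.f (z n) = 1 := by rw [← map_mul, z_mul_z h1n, map_one]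
  have hZ : ∀ g ∈ Z, g = 1 ∨ g = E.f (z n) := by
    rintro _ ⟨m, rfl⟩
    rcases Int.even_or_odd' m with ⟨m, rfl | rfl⟩
    · left; simp only [zpow_mul, zpow_ofNat, pow_two, hzz, one_zpow]
    · right; simp only [zpow_add, zpow_mul, zpow_ofNat, pow_two, hzz, one_zpow, one_mul, pow_one]
  haveI : Z.Normal := ⟨fun y hy g => by
    rcases hZ y hy with rfl | rfl
    · simp
    · rw [← H.pull_z]; exact hy⟩
  let π := QuotientGroup.mk' Z
  have hπ : Function.Surjective π := QuotientGroup.mk'_surjective Z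
  have hker : ∀ {U : Subgroup G}, E.f (z n) ∈ U → ∀ g, π g ∈ U.map π → g ∈ U := fun {U} hU g hg => by
    have : (U.map π).comap π = U := comap_map_eq_self (by rw [QuotientGroup.ker_mk']; exact zpowers_le.2 hU)
    exact this.le hg
  have hcl : ∀ {U : Subgroup G}, E.f (z n) ∈ U → IsStronglyClosed U S →
      IsStronglyClosed (U.map π) (S.mapSurjective hπ) := fun {U} hU hc => by
    refine ⟨map_mono hc.1, ?_⟩
    rintro _ ⟨x, hx, rfl⟩ g hg
    obtain ⟨g, rfl⟩ := hπ g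
    rw [← map_inv, ← map_mul, ← map_mul] at hg ⊢
    exact mem_map_of_mem π (hc.2 x hx g (hker (E.mem _) _ hg))
  have hz1 : E.f (z n) ∈ E.T h1n := (E.mem_T h1n).2 (z_mem_Q1 h1n)
  have hz2 : E.f (z n) ∈ E.tw.T h1n := (E.mem_T2 h1n).2 (z_mem_Q2 h1n)
  have key := hPC (S.mapSurjective hπ) (hcl hz1 H.closedT) (hcl hz2 H.tw.closedT) (by
    rintro _ ⟨a, ha, rfl⟩ _ ⟨b, hb, rfl⟩
    rw [← map_mul, ← map_mul, E.T_comm h1n a ha b hb]) (by
    refine eq_bot_iff.2 ?_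
    rintro _ ⟨⟨_, ⟨x, hx, rfl⟩, rfl⟩, h2⟩
    rcases Q1_inf_Q2 h1n hx ((E.mem_T2 h1n).1 (hker hz2 _ h2)) with rfl | rfl
    · simp
    · exact (QuotientGroup.eq_one_iff _).2 (mem_zpowers _))
  rw [coe_map, coe_map, ← map_normalClosure _ _ hπ, ← map_normalClosure _ _ hπ, ← map_commutator,
    map_le_iff_le_comap] at key
  intro g hg
  refine H.le_Z hO ((oddCore (G ⧸ Z)).comap π) (fun x hx => ?_) g (key hg)
  have h3 : π (E.f x) = 1 := H3.eq_one_of_mem_of_coprime (S.mapSurjective hπ).isPGroup' (mem_map_of_mem π (E.mem x))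
    (H3.orderOf_coprime_of_mem (H2.pPrimeCore_coprime 2 _) hx)
  exact (hZ _ ((QuotientGroup.eq_one_iff _).1 h3)).imp (fun e => E.inj (e.trans (map_one _).symm)) fun e => E.inj e

theorem N_le : E.N H.h1 ≤ ⁅E.N H.h1, E.N H.h1⁆ ⊔ E.T H.h1 := by
  refine (closure_le _).2 fun y hy => ?_
  obtain ⟨x, hx, hxy⟩ := Group.mem_conjugatesOfSet_iff.1 hy
  obtain ⟨g, rfl⟩ := isConj_iff.1 hxy
  have h1 : g * x * g⁻¹ ∈ E.N H.h1 := Normal.conj_mem inferInstance _ (E.T_le_N _ hx) g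
  obtain ⟨j, hj⟩ := pow_eq_one (E.T_le_S _ hx)
  obtain ⟨m, hm, h2⟩ := exists_conj_normal S _ h1 (j := j) (by rw [conj_pow, hj]; simp)
  have h3 : m * (g * x * g⁻¹) * m⁻¹ ∈ E.T H.h1 := by
    have := H.closedT.2 x hx (m * g) (by convert h2 using 1; group)
    convert this using 1; group
  have h4 : g * x * g⁻¹ = ⁅g * x * g⁻¹, m⁆ * (m * (g * x * g⁻¹) * m⁻¹) := by rw [commutatorElement_def]; group
  rw [SetLike.mem_coe, h4]
  exact mul_mem (mem_sup_left (commutator_mem_commutator h1 hm)) (mem_sup_right h3)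

theorem N_le_D (hPC : PCH.{u}) (hO : pPrimeCore 2 G = ⊥) : E.N H.h1 ≤ E.D H.h1 := by
  have h1 : ⁅⁅E.N H.h1, E.tw.N H.h1⁆, E.tw.N H.h1⁆ = ⊥ :=
    commutator_eq_bot_iff_le_centralizer.2 fun g hg => mem_centralizer_iff.2 fun y _ => by
      rcases H.comm_Z hPC hO g hg with rfl | rfl
      · simp
      · exact H.hz y
  have h2 := commutator_commutator_eq_bot_of_rotate (H₁ := E.tw.N H.h1) (by rwa [commutator_comm (E.tw.N H.h1)]) h1
  rw [commutator_eq_bot_iff_le_centralizer] at h2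
  refine normalClosure_le_normal fun x hx => mem_centralizer_iff.2 fun y hy => ?_
  have h3 : ⁅E.tw.N H.h1, E.tw.N H.h1⁆ ⊔ E.tw.T H.h1 ≤ centralizer {x} := sup_le
    (fun g hg => mem_centralizer_singleton_iff.2 (mem_centralizer_iff.1 (h2 hg) x (E.T_le_N _ hx)).symm)
    fun g hg => mem_centralizer_singleton_iff.2 (E.T_comm _ x hx g hg).symm
  exact mem_centralizer_singleton_iff.1 (h3 (H.tw.N_le hy))

omit [Finite G] in
theorem mem_Q1_of_D {x : W n} (hx : E.f x ∈ E.D H.h1) : x ∈ Q1 H.h1 :=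
  cent_Q2 H.hn fun y hy => E.inj (by
    rw [map_mul, map_mul]
    exact (mem_centralizer_iff.1 hx _ (E.tw.T_le_N _ ((E.mem_T2 _).2 hy))).symm)

theorem D_inf_D (hO : pPrimeCore 2 G = ⊥) {g : G} (h1 : g ∈ E.D H.h1) (h2 : g ∈ E.tw.D H.h1) :
    g = 1 ∨ g = E.f (z n) :=
  H.le_Z hO (E.D H.h1 ⊓ E.tw.D H.h1) (fun x hx => Q1_inf_Q2 H.h1 (H.mem_Q1_of_D hx.1)
    (H.tw.mem_Q1_of_D (x := κ x) (by rw [tw_f, κ_κ]; exact hx.2))) g ⟨h1, h2⟩

theorem D_invol {g : G} (h1 : g ∈ E.D H.h1) (h2 : g * g = 1) : g = 1 ∨ g = E.f (z n) := by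
  obtain ⟨m, -, hm⟩ := exists_conj_normal S _ h1 (j := 1) (by rw [pow_one, pow_two, h2])
  obtain ⟨x, hx⟩ := E.exists_eq hm
  rcases Q1_invol H.h1 (H.mem_Q1_of_D (hx ▸ Normal.conj_mem inferInstance _ h1 m))
    (E.inj (by rw [map_mul, hx, conj_mul, h2, map_one, mul_one, mul_inv_cancel])) with rfl | rfl
  · left; simpa using hx.symm
  · right
    rw [H.pull_z m] at hx
    simpa using hx.symm

/-- normal subgroups inside `D` -/
theorem normal_cases (hO : pPrimeCore 2 G = ⊥) (M : Subgroup G) [M.Normal] (hM : M ≤ E.D H.h1) :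
    (∀ g ∈ M, g = 1 ∨ g = E.f (z n)) ∨ E.T H.h1 ≤ M := by
  refine or_iff_not_imp_left.2 fun h1 => ?_
  obtain ⟨x, hx, h2⟩ : ∃ x, E.f x ∈ M ∧ ¬ (x = 1 ∨ x = z n) := by
    by_contra! h2
    exact h1 (H.le_Z hO M h2)
  rw [not_or] at h2
  have hxQ := H.mem_Q1_of_D (hM hx)
  obtain ⟨j, hj⟩ := Q1_exists_sqrt H.h1 hxQ h2.1 h2.2
  have key : ∀ y ∈ Q1 H.h1, y * y = z n → E.f y ∈ M := fun y hy h3 => by
    obtain ⟨g, hg⟩ := isConj_iff.1 ((H.conj_a0_of (pow_mem hxQ j) hj).trans (H.conj_a0_of hy h3).symm)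
    rw [← hg, map_pow]
    exact Normal.conj_mem inferInstance _ (pow_mem hx j) g
  rintro _ ⟨y, hy, rfl⟩
  by_cases hσ : y.σ = true
  · exact key y hy (sq_of_σ _ hy hσ)
  · have hα := α0_mem_Q1 H.hn
    have h3 := mul_mem hy hα
    have h4 := mul_mem (key _ h3 (sq_of_σ _ h3 (by simpa [mul_def, α0] using hσ))) (inv_mem (key _ hα (α0_sq H.hn)))
    rwa [map_mul, mul_inv_cancel_right] at h4

omit [Finite G] in
theorem inf_S {M : Subgroup G} (h1 : E.T H.h1 ≤ M) (h2 : M ≤ E.D H.h1) : M ⊓ S = E.T H.h1 := by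
  refine le_antisymm (fun g hg => ?_) (le_inf h1 (E.T_le_S _))
  obtain ⟨x, rfl⟩ := E.exists_eq hg.2
  exact (E.mem_T _).2 (H.mem_Q1_of_D (h2 hg.1))

end Cz

end Emb

end H24.G2S
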