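import Mathlib
import Cfsg.Agent.H24.G2C2

/-! The centralizer of the central involution modulo its core, for Sylow 2-subgroups of type `G₂(q)` and one class
of involutions: the two `SL₂` factors. -/

set_option autoImplicit false

namespace H24.G2S

open Subgroup Cfsg
open scoped commutatorElement MatrixGroups

universe u

variable {n : ℕ} {G : Type u} [Group G] [Finite G]

theorem sl2_sq_gen {F : Type*} [Field F] [Fintype F] (hF : Odd (Fintype.card F)) (M : Subgroup SL(2, F))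
    (hM : ∀ g, g * g ∈ M) (g : SL(2, F)) : g ∈ M := by
  have h2 := H7.two_ne_zero_of_odd_card hF
  exact Matrix.SL2.transvection_induction (· ∈ M) (fun i j hij c => by
    rw [show c = c / 2 + c / 2 by field_simp; ring, Matrix.SpecialLinearGroup.transvection_add]
    exact hM _) (fun _ _ => mul_mem) g

omit [Finite G] in
/-- the outer automorphism group of `SL₂(q)` is abelian -/
theorem commutator_le_sup {L : Subgroup G} [L.Normal] {F : Type*} [Field F] [Fintype F] (hF : Odd (Fintype.card F))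
    (g : L ≃* SL(2, F)) : commutator G ≤ L ⊔ centralizer (L : Set G) := by
  refine commutator_le.mpr fun x _ y _ => ?_
  let A : G →* MulAut SL(2, F) := (MulAut.congr g).toMonoidHom.comp MulAut.conjNormal
  obtain ⟨k, hk⟩ := H22.SL2Aut.exists_conj_eq (H7.two_ne_zero_of_odd_card hF) (A x) (A y)
  obtain ⟨k, rfl⟩ := g.surjective k
  have h5 : A (⁅x, y⁆ * (k : G)⁻¹) = 1 := by
    rw [commutatorElement_def]
    simp only [map_mul, map_inv, hk, mul_inv_eq_one]
    ext1 w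
    obtain ⟨w, rfl⟩ := g.surjective w
    rw [MulAut.conj_apply, ← map_inv, ← map_mul, ← map_mul]
    exact congrArg g (Subtype.ext (by simp))
  have h6 : ⁅x, y⁆ * (k : G)⁻¹ ∈ centralizer (L : Set G) := mem_centralizer_iff.mpr fun w hw => by
    have h7 : MulAut.conjNormal (H := L) (⁅x, y⁆ * (k : G)⁻¹) = 1 :=
      (map_eq_one_iff _ (MulAut.congr g).injective).mp h5
    have h8 := congrArg (fun φ : MulAut L => (φ ⟨w, hw⟩ : G)) h7
    exact (mul_inv_eq_iff_eq_mul.mp h8).symm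
  simpa using mul_mem (mem_sup_right h6) (mem_sup_left k.2 : (k : G) ∈ L ⊔ centralizer (L : Set G))

theorem exists_perfect_core' (D : Subgroup G) [D.Normal] :
    ∃ X : Subgroup G, X.Normal ∧ X ≤ D ∧ ⁅X, X⁆ = X ∧ (X = ⊥ → Group.IsSolvable D) := by
  obtain ⟨m, hm⟩ := WellFoundedLT.antitone_chain_condition (derivedSeries_antitone D)
  refine ⟨(derivedSeries D m).map D.subtype, ConjAct.normal_of_characteristic_of_normal, map_subtype_le _, ?_,
    fun h => ⟨m, (map_eq_bot_iff_of_injective _ D.subtype_injective).1 h⟩⟩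
  rw [← map_commutator]
  exact congrArg _ (hm (m + 1) (by omega)).symm

namespace Emb
variable {S : Sylow 2 G} {E : Emb n S}

namespace Cz
variable (H : E.Cz)
include H

theorem sylow_equiv {M : Subgroup G} [M.Normal] (h1 : E.T H.h1 ≤ M) (h2 : M ≤ E.D H.h1) (P : Sylow 2 M) :
    ∃ m, n = m + 2 ∧ Nonempty ((P : Subgroup M) ≃* QuaternionGroup (2 ^ (m + 1))) := by
  obtain ⟨m, rfl⟩ : ∃ m, n = m + 2 := ⟨n - 2, by have := H.hn; omega⟩
  obtain ⟨e⟩ := H22.sylow_normal_equiv S M P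
  obtain ⟨e'⟩ := Q1_equiv m
  exact ⟨m, rfl, ⟨(e.trans (MulEquiv.subgroupCongr (H.inf_S h1 h2))).trans
    (((Q1 H.h1).equivMapOfInjective E.f E.inj).symm.trans e')⟩⟩

theorem uInv {M : Subgroup G} (h1 : E.T H.h1 ≤ M) (h2 : M ≤ E.D H.h1) :
    H22.UInv (⟨E.f (z n), h1 ((E.mem_T _).2 (z_mem_Q1 H.h1))⟩ : M) :=
  ⟨fun e => z_ne_one H.h1 (E.inj ((congrArg Subtype.val e).trans (map_one _).symm)),
    Subtype.ext (show E.f _ * E.f _ = 1 by rw [← map_mul, z_mul_z H.h1, map_one]),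
    fun g hg => (H.D_invol (h2 g.2) (congrArg Subtype.val hg)).imp Subtype.ext Subtype.ext⟩

theorem not_a7 {X : Subgroup G} [X.Normal] (h1 : E.T H.h1 ≤ X) (h2 : X ≤ E.D H.h1)
    {π : X →* alternatingGroup (Fin 7)} {v : X} (d : H22.DCover π v) : False := by
  obtain ⟨P⟩ : Nonempty (Sylow 2 X) := inferInstance
  obtain ⟨m, rfl, ⟨e⟩⟩ := H.sylow_equiv h1 h2 P
  obtain ⟨f⟩ := d.nonempty_dihedral P (Nat.le_self_pow (by omega) 2) e
  obtain rfl : m = 1 := by
    have h1 := card_mul_index (P.mapSurjective d.surj : Subgroup (alternatingGroup (Fin 7)))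
    have h2 := (P.mapSurjective d.surj).not_dvd_index
    rw [Nat.card_congr f.toEquiv, DihedralGroup.nat_card, nat_card_alternatingGroup] at h1
    simp only [Nat.card_eq_fintype_card, Fintype.card_fin, Nat.factorial] at h1
    rcases m with _ | _ | m
    · omega
    · rfl
    · rw [show 2 * 2 ^ (m + 1 + 1 + 1) = 16 * 2 ^ m by ring, mul_assoc] at h1
      omega
  let a : X := ⟨E.f (y0 _), h1 ((E.mem_T _).2 (y0_mem_Q1 H.h1))⟩
  let q : X := ⟨E.f (α0 _), h1 ((E.mem_T _).2 (α0_mem_Q1 H.hn))⟩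
  have key : ∀ g : X, π g = 1 ↔ (g : G) * g = 1 := fun g =>
    ⟨fun e => congrArg Subtype.val (d.sq_eq_one e), fun e => by
      rcases d.uniq g (Subtype.ext e) with e' | e'
      · rw [e', map_one]
      · rw [e', d.map]⟩
  have hzz : E.f (z _) * E.f (z _) = 1 := by rw [← map_mul, z_mul_z H.h1, map_one]
  obtain ⟨β, hβ⟩ := d.exists_aut (MulAut.conjNormal (E.f (u0 _)))
  refine H22.A7.no_swap β (a := π a) (q := π q) ?_ ?_ ?_ ?_ ?_ ?_
  · rw [← map_pow, key]
    change E.f _ ^ 4 * E.f _ ^ 4 = 1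
    rw [← pow_add, ← map_pow, map_eq_one_iff _ E.inj, y0_pow, mk_eq_one]
    decide
  · rw [← map_pow, Ne, key]
    change ¬ E.f _ ^ 2 * E.f _ ^ 2 = 1
    rw [← pow_add, ← map_pow, map_eq_one_iff _ E.inj, y0_pow, mk_eq_one]
    decide
  · rw [← map_mul, key]
    change E.f _ * E.f _ * (E.f _ * E.f _) = 1
    rw [← map_mul, α0_sq H.hn, hzz]
  · rw [eq_inv_iff_mul_eq_one, ← map_mul, ← map_mul, ← map_mul, key]
    change E.f _ * E.f _ * E.f _ * E.f _ * (E.f _ * E.f _ * E.f _ * E.f _) = 1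
    rw [← map_mul, ← map_mul, ← map_mul, mul_assoc (α0 _ * y0 _),
      sq_of_σ H.h1 (mul_mem (α0_mem_Q1 H.hn) (y0_mem_Q1 H.h1)) rfl, hzz]
  · rw [hβ]
    refine congrArg π (Subtype.ext ?_)
    change E.f _ * E.f _ * (E.f _)⁻¹ = E.f _
    rw [← map_inv, ← map_mul, ← map_mul, u0_comm ⟨rfl, rfl⟩]
  · rw [hβ, ← map_mul]
    refine congrArg π (Subtype.ext ?_)
    change E.f _ * E.f _ * (E.f _)⁻¹ = E.f _ * E.f _
    rw [← map_inv, ← map_mul, ← map_mul, u0_α0, map_mul]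

/-- the `SL₂` factor -/
theorem exists_L (hGW : H22.GW.{u}) (hO : pPrimeCore 2 G = ⊥) (hT : E.T H.h1 ≤ E.D H.h1)
    (hD : ¬ E.D H.h1 ≤ E.T H.h1) :
    ∃ L : Subgroup G, L.Normal ∧ E.T H.h1 ≤ L ∧ L ≤ E.D H.h1 ∧ L ≤ commutator G ∧
      ∃ (F : Type) (_ : Field F) (_ : Fintype F), Odd (Fintype.card F) ∧ Nonempty (L ≃* SL(2, F)) := by
  have h1n := H.h1
  obtain ⟨X, _, hXD, hX, hXs⟩ := exists_perfect_core' (E.D h1n)
  by_cases hX1 : X = ⊥
  · have := hXs hX1
    set K := E.D h1n with hK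
    obtain ⟨P⟩ : Nonempty (Sylow 2 K) := inferInstance
    obtain ⟨m, hm, ⟨e⟩⟩ := H.sylow_equiv hT le_rfl P
    have hz := H.uInv hT le_rfl
    have hOK := H22.pPrimeCore_eq_bot_of_normal hO K
    have hK2 : ∀ M : Subgroup K, M.index ≠ 2 := by
      rw [← H22.pResidual_two_eq_top_iff]
      haveI : ((pResidual 2 K).map K.subtype).Normal := ConjAct.normal_of_characteristic_of_normal
      have hs : H22.SylIn 2 ((S : Subgroup G) ⊓ K) K := (H22.sylIn_top S).inf_normal le_top le_normalizer_of_normal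
      have h3 := H3.pResidual_sup_sylow hs.toSylow
      have h4 : ∀ g ∈ (hs.toSylow : Subgroup K), (g : G) ∈ E.T h1n := fun g hg =>
        (H.inf_S hT le_rfl).le ⟨g.2, hg.1⟩
      rcases H.normal_cases hO ((pResidual 2 K).map K.subtype) (map_subtype_le _) with h5 | h5
      · refine absurd (fun g hg => ?_) hD
        have h6 : pResidual 2 K ⊔ hs.toSylow ≤ (E.T h1n).subgroupOf K := sup_le (fun y hy => by
          rw [mem_subgroupOf]
          rcases h5 _ ⟨y, hy, rfl⟩ with e | e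
          · exact (show (y : G) = 1 from e) ▸ one_mem _
          · exact (show (y : G) = _ from e) ▸ (E.mem_T _).2 (z_mem_Q1 h1n)) h4
        exact h6 (h3.ge (mem_top ⟨g, hg⟩))
      · rw [← h3, left_eq_sup]
        exact fun g hg => (mem_map_iff_mem K.subtype_injective).1 (h5 (h4 g hg))
    obtain ⟨g⟩ := H22.equiv_sl23 hz hOK hK2 P e
    have h24 : Nat.card K = 24 := (Nat.card_congr g.toEquiv).trans (H7.card_sl_two (q := 3) (by simp))
    have hP : Nat.card P = 8 * 2 ^ m := by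
      rw [Nat.card_congr e.toEquiv, Nat.card_eq_fintype_card, QuaternionGroup.card]; ring
    obtain rfl : m = 0 := by
      have h3 := card_subgroup_dvd_card (P : Subgroup K)
      rw [hP, h24] at h3
      rcases m with _ | m
      · rfl
      · rw [show 8 * 2 ^ (m + 1) = 16 * 2 ^ m by ring] at h3
        have := (Dvd.intro _ rfl).trans h3
        omega
    subst hm
    let b : K := ⟨E.f (y0 _), hT ((E.mem_T _).2 (y0_mem_Q1 h1n))⟩
    let q : K := ⟨E.f (α0 _), hT ((E.mem_T _).2 (α0_mem_Q1 H.hn))⟩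
    have e1 : b * b = ⟨_, hT ((E.mem_T _).2 (z_mem_Q1 h1n))⟩ :=
      Subtype.ext (show E.f _ * E.f _ = E.f _ by rw [← map_mul]; rfl)
    have e2 : q * q = ⟨_, hT ((E.mem_T _).2 (z_mem_Q1 h1n))⟩ :=
      Subtype.ext (show E.f _ * E.f _ = E.f _ by rw [← map_mul, α0_sq H.hn])
    have e3 : b * q * (b * q) = ⟨_, hT ((E.mem_T _).2 (z_mem_Q1 h1n))⟩ :=
      Subtype.ext (show E.f _ * E.f _ * (E.f _ * E.f _) = E.f _ by
        rw [← map_mul, ← map_mul, sq_of_σ h1n (mul_mem (y0_mem_Q1 h1n) (α0_mem_Q1 H.hn)) rfl])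
    obtain ⟨⟨x, hx⟩, hw⟩ := H22.sl23_fact (g b) (g q)
      (by rw [← map_mul, e1, Ne, map_eq_one_iff g g.injective]; exact hz.ne)
      (by rw [← map_mul, ← map_mul, e1, e2]) (by simp only [← map_mul, e1, e3])
      (by rw [← map_mul, e1, ← map_mul, hz.sq, map_one])
    obtain ⟨y, rfl⟩ := g.surjective x
    have hy : (y : G) * b = q * y := by
      rw [← map_mul, ← map_mul] at hx
      exact congrArg Subtype.val (g.injective hx)
    set u := E.f (u0 _) with hu
    have hu1 : u * b * u⁻¹ = b := by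
      change E.f _ * E.f _ * (E.f _)⁻¹ = E.f _
      rw [← map_inv, ← map_mul, ← map_mul, u0_comm ⟨rfl, rfl⟩]
    have hu2 : u * q * u⁻¹ = b * q := by
      change E.f _ * E.f _ * (E.f _)⁻¹ = E.f _ * E.f _
      rw [← map_inv, ← map_mul, ← map_mul, u0_α0, map_mul]
    have hw1 : ⁅u, (y : G)⁆ ∈ commutator G := commutator_mem_commutator (mem_top _) (mem_top _)
    have hw0 : ⁅u, (y : G)⁆ ∈ K := mul_mem (Normal.conj_mem inferInstance _ y.2 u) (inv_mem y.2)
    have hw2 := hw (g ⟨_, hw0⟩) (by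
      simp only [← map_mul]
      refine congrArg g (Subtype.ext ?_)
      change ⁅u, (y : G)⁆ * q = b * q * ⁅u, (y : G)⁆
      rw [← hu2, ← mul_inv_eq_iff_eq_mul.mpr hy]
      nth_rw 1 [← hu1]
      rw [commutatorElement_def]
      group)
    have h6 : (P : Subgroup K) ≤ (commutator G).subgroupOf K :=
      (H22.sylow_le_commutator_of_no_index_two P hK2).trans (commutator_le.mpr fun x _ y _ =>
        commutator_mem_commutator (mem_top (x : G)) (mem_top (y : G)))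
    have h7 := card_dvd_of_le h6
    have h8 := card_subgroup_dvd_card ((commutator G).subgroupOf K)
    have h9 : Nat.card ((commutator G).subgroupOf K) ≠ 8 := fun h => hw2 (by
      rw [← map_pow, ← h, map_eq_one_iff g g.injective]
      exact congrArg Subtype.val (pow_card_eq_one' (G := (commutator G).subgroupOf K) (x := ⟨⟨_, hw0⟩, hw1⟩)))
    refine ⟨K, inferInstance, hT, le_rfl, subgroupOf_eq_top.mp (eq_top_of_card_eq _ ?_), ZMod 3, inferInstance,
      inferInstance, by decide, ⟨g⟩⟩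
    rw [hP] at h7
    obtain ⟨c, hc⟩ := (Dvd.intro _ rfl).trans h7
    rw [h24, hc] at h8 ⊢
    rw [hc] at h9
    have := Nat.le_of_dvd (by norm_num) h8
    have : c ≠ 0 := by rintro rfl; simp at h8
    have : c ≠ 2 := by rintro rfl; simp at h8
    omega
  have hTX : E.T h1n ≤ X := (H.normal_cases hO X hXD).resolve_left fun h3 => hX1 (by
    rw [← hX, commutator_eq_bot_iff_le_centralizer]
    intro g hg
    refine mem_centralizer_iff.2 fun y _ => ?_
    rcases h3 g hg with rfl | rfl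
    · simp
    · exact H.hz y)
  obtain ⟨P⟩ : Nonempty (Sylow 2 X) := inferInstance
  obtain ⟨m, -, ⟨e⟩⟩ := H.sylow_equiv hTX hXD P
  obtain ⟨F, _, _, hF1, -, hg, -⟩ := (H22.perfect_cases hGW (isPerfect_iff.mpr hX).commutator_eq_top (H.uInv hTX hXD)
    (H22.pPrimeCore_eq_bot_of_normal hO X) P e).resolve_right fun ⟨π, d⟩ => H.not_a7 hTX hXD d
  exact ⟨X, inferInstance, hTX, hXD, hX.ge.trans (commutator_mono le_top le_top), F, _, _, hF1, hg⟩

omit [Finite G] in
theorem cent_le {L : Subgroup G} [L.Normal] (h : E.T H.h1 ≤ L) : centralizer (L : Set G) ≤ E.tw.D H.h1 := by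
  rw [D, tw_tw]
  exact centralizer_le (normalClosure_le_normal h)

omit [Finite G] in
theorem D2_comm {g : G} (hg : g ∈ E.tw.D H.h1) {x : W n} (hx : x ∈ Q1 H.h1) : g * E.f x * g⁻¹ = E.f x := by
  rw [D, tw_tw] at hg
  rw [← mem_centralizer_iff.1 hg _ (E.T_le_N _ ((E.mem_T _).2 hx)), mul_inv_cancel_right]

theorem not_D_le (hGW : H22.GW.{u}) (hPC : PCH.{u}) (hO : pPrimeCore 2 G = ⊥) : ¬ E.D H.h1 ≤ E.T H.h1 := by
  intro hD
  have h1n := H.h1
  have hn := H.hn
  have hT : E.T h1n ≤ E.D h1n := (E.T_le_N _).trans (H.N_le_D hPC hO)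
  have hT2 : E.tw.T h1n ≤ E.tw.D h1n := (E.tw.T_le_N _).trans (H.tw.N_le_D hPC hO)
  obtain ⟨c, hc1, hc2⟩ := H.exists_c
  obtain ⟨a, ha, hc2⟩ : ∃ a, (a = a0 n ∨ a = (a0 n)⁻¹) ∧ E.f a = c * E.f (α0 n) * c⁻¹ :=
    hc2.elim (fun h => ⟨_, Or.inl rfl, h.symm⟩) fun h => ⟨_, Or.inr rfl, h.symm⟩
  have haA : a ∈ Asub n := by rcases ha with rfl | rfl <;> exact ⟨rfl, rfl⟩
  have haQ : a ∈ Q1 h1n := by
    rcases ha with rfl | rfl
    exacts [a0_mem_Q1 h1n, inv_mem (a0_mem_Q1 h1n)]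
  have hc3 : E.f (α0 n) = c⁻¹ * E.f a * c⁻¹⁻¹ := by rw [hc2]; group
  by_cases hD2 : E.tw.D h1n ≤ E.tw.T h1n
  swap
  · obtain ⟨L, _, h1, h2, -, F, _, _, hF, ⟨g⟩⟩ := H.tw.exists_L hGW hO hT2 hD2
    have h3 := commutator_le_sup hF g (commutator_mem_commutator (mem_top (E.f (u0 n))⁻¹) (mem_top c))
    obtain ⟨l, hl, d, hd, h4⟩ := mem_sup_of_normal_left.1 h3
    have h5 := H.tw.cent_le h1 hd
    rw [tw_tw] at h5
    obtain ⟨τ, hτ, rfl⟩ := hD h5
    have h6 : ⁅(E.f (u0 n))⁻¹, c⁆ * E.f a * ⁅(E.f (u0 n))⁻¹, c⁆⁻¹ = E.f (τ * a * τ⁻¹) := by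
      rw [← h4, ← H.D2_comm (h2 hl) (Q1_conj h1n τ haQ), map_mul, map_mul, map_inv]; group
    have h7 : E.f (u0 n * (τ * a * τ⁻¹) * (u0 n)⁻¹) = c * E.f (u0 n * α0 n * (u0 n)⁻¹) * c⁻¹ := by
      rw [map_mul, map_mul, ← h6, map_mul, map_mul, map_inv, hc2, commutatorElement_def]; group
    have h8 : τ * a * τ⁻¹ = a ∨ τ * a * τ⁻¹ = a⁻¹ := by
      rcases ha with rfl | rfl
      · exact conj_a0 τ
      · rw [← conj_inv]; exact (conj_a0 τ).imp (congrArg _) (congrArg _)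
    have h10 : (1 : ZMod (2 ^ n)) ≠ 0 := fun e => h_ne h1n (by rw [← mul_one (h n), e, mul_zero])
    rw [u0_α0] at h7
    rcases h8 with h8 | h8 <;> rw [h8] at h7
    · rw [u0_comm haA] at h7
      have := congrArg W.i ((E.pull_eq h7 hc2).1 rfl)
      simp [y0, α0] at this
      exact h10 this
    · rw [u0_comm (inv_mem haA)] at h7
      have h9 : E.f a⁻¹ = c * E.f (α0 n)⁻¹ * c⁻¹ := by rw [map_inv, hc2, map_inv]; group
      have := congrArg W.i ((E.pull_eq h7 h9).1 rfl)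
      simp [y0, α0] at this
      have h11 := par_two_mul h1n (k n)
      rw [show 2 * k n = 1 by linear_combination -this, map_one] at h11
      exact absurd h11 (by decide)
  by_cases h3 : 3 ≤ n
  · obtain ⟨m, hm⟩ := exists_half_k h3
    obtain ⟨y, hy, hy2⟩ : ∃ y ∈ Q1 h1n, y * y = a := by
      rcases ha with rfl | rfl
      · exact ⟨⟨m, -m, false, false⟩, by simp [mem_Q1], by simp [a0, hm]; constructor <;> ring⟩
      · exact ⟨⟨-m, m, false, false⟩, by simp [mem_Q1], by simp [a0, hm]; constructor <;> ring⟩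
    obtain ⟨y', -, hy'⟩ := hD (Normal.conj_mem inferInstance _ (hT ((E.mem_T _).2 hy)) c⁻¹)
    have h4 := E.pull_mul hy' hy'
    rw [hy2] at h4
    have h5 := sq_σ y'
    rw [(E.pull_eq h4 hc3).2 rfl] at h5
    cases h5
  obtain rfl : n = 2 := by omega
  let β : W 2 := ⟨h 2, 0, true, true⟩
  have hβ : β ∈ Q2 h1n := by simp [mem_Q2, β]
  obtain ⟨b, hb, hc1⟩ : ∃ b, (b = b0 2 ∨ b = (b0 2)⁻¹) ∧ E.f b = c * E.f (b0 2) * c⁻¹ :=
    hc1.elim (fun h => ⟨_, Or.inl rfl, h.symm⟩) fun h => ⟨_, Or.inr rfl, h.symm⟩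
  have h4 := hD2 (Normal.conj_mem inferInstance _ (hT2 ((E.mem_T2 _).2 hβ)) c)
  obtain ⟨β', hβ'⟩ := E.exists_eq (E.tw.T_le_S _ h4)
  rw [← hβ', E.mem_T2] at h4
  have h5 : β' * b ≠ b * β' := fun e =>
    absurd (congrArg W.i ((E.pull_eq (E.pull_mul hβ' hc1) (E.pull_mul hc1 hβ')).1 e)) (by decide)
  obtain ⟨v, hv1, hv2⟩ : ∃ v, v * b0 2 * v⁻¹ = b ∧ v * β * v⁻¹ = β' := by
    obtain ⟨p, q, σ, δ⟩ := β'
    obtain ⟨e1, e2⟩ := (mem_Q2 h1n).1 h4
    dsimp only at e1 e2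
    subst e1
    cases δ
    · exact absurd (Asub_comm ⟨rfl, rfl⟩ (by rcases hb with rfl | rfl <;> exact ⟨rfl, rfl⟩)) h5
    simp at e2
    obtain rfl : p = q + h 2 := by linear_combination e2
    rcases hb with rfl | rfl
    · exact ⟨⟨q, 0, false, false⟩, by simp [b0], by simp [β]⟩
    · exact ⟨⟨q, 0, false, false⟩ * β, by simp [b0, β]; ring, by simp [β]⟩
  have h6 : (E.f v)⁻¹ * c ∈ E.D h1n := mem_centralizer_iff.2 fun y hy => by
    haveI : (E.tw.T h1n).Normal := le_antisymm hD2 hT2 ▸ inferInstance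
    have hy' : y ∈ E.tw.T h1n := normalClosure_le_normal le_rfl hy
    obtain ⟨x, rfl⟩ := E.exists_eq (E.tw.T_le_S _ hy')
    rw [E.mem_T2] at hy'
    let C := (centralizer {(E.f v)⁻¹ * c}).comap E.f
    have key : ∀ x, E.f (v * x * v⁻¹) = c * E.f x * c⁻¹ → x ∈ C := fun x hx => by
      refine mem_centralizer_singleton_iff.2 ?_
      rw [map_mul, map_mul, map_inv] at hx
      calc E.f x * ((E.f v)⁻¹ * c) = (E.f v)⁻¹ * (E.f v * E.f x * (E.f v)⁻¹) * c := by group
        _ = _ := by rw [hx]; group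
    have k1 := key _ (hv1 ▸ hc1)
    have k2 := key _ (hv2 ▸ hβ')
    have k3 : ∀ i : ZMod (2 ^ 2), (⟨i, i, false, false⟩ : W 2) ∈ C := fun i => by
      have : ∀ i : ZMod (2 ^ 2), i = 0 ∨ i = k 2 ∨ i = k 2 + k 2 ∨ i = -k 2 := by decide
      rcases this i with rfl | rfl | rfl | rfl
      · exact one_mem _
      · exact k1
      · simpa [b0] using mul_mem k1 k1
      · simpa [b0] using inv_mem k1
    refine mem_centralizer_singleton_iff.1 (show x ∈ C from ?_)
    obtain ⟨p, q, σ, δ⟩ := x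
    obtain ⟨e1, e2⟩ := (mem_Q2 h1n).1 hy'
    dsimp only at e1 e2
    subst e1
    cases δ <;> simp at e2
    · obtain rfl : p = q := by linear_combination e2
      exact k3 p
    · obtain rfl : p = q + h 2 := by linear_combination e2
      simpa [β] using mul_mem (k3 q) k2
  obtain ⟨c', hc'⟩ := E.exists_eq ((mul_mem_cancel_left (inv_mem (E.mem v))).1 (E.T_le_S _ (hD h6)))
  rw [← hc', ← map_inv, ← map_mul, ← map_mul, E.inj.eq_iff] at hc2
  have h7 := haA.1
  rw [hc2] at h7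
  simp [mul_def, inv_def, α0] at h7

theorem main (hGW : H22.GW.{u}) (hPC : PCH.{u}) (hO : pPrimeCore 2 G = ⊥) :
    ∃ L₁ L₂ : Subgroup G, L₁.Normal ∧ L₂.Normal ∧
      (∃ (F₁ : Type) (_ : Field F₁) (_ : Fintype F₁), Odd (Fintype.card F₁) ∧ Nonempty (L₁ ≃* SL(2, F₁))) ∧
      (∃ (F₂ : Type) (_ : Field F₂) (_ : Fintype F₂), Odd (Fintype.card F₂) ∧ Nonempty (L₂ ≃* SL(2, F₂))) ∧
      ⁅L₁, L₂⁆ = ⊥ ∧ L₁ ⊔ L₂ = commutator G := by
  have h1n := H.h1
  obtain ⟨L₁, _, h1, h2, h3, F₁, _, _, hF₁, ⟨g₁⟩⟩ :=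
    H.exists_L hGW hO ((E.T_le_N _).trans (H.N_le_D hPC hO)) (H.not_D_le hGW hPC hO)
  obtain ⟨L₂, _, h4, h5, h6, F₂, _, _, hF₂, ⟨g₂⟩⟩ :=
    H.tw.exists_L hGW hO ((E.tw.T_le_N _).trans (H.tw.N_le_D hPC hO)) (H.tw.not_D_le hGW hPC hO)
  have hzz : E.f (z n) * E.f (z n) = 1 := by rw [← map_mul, z_mul_z h1n, map_one]
  refine ⟨L₁, L₂, inferInstance, inferInstance, ⟨F₁, _, _, hF₁, ⟨g₁⟩⟩, ⟨F₂, _, _, hF₂, ⟨g₂⟩⟩, ?_,
    le_antisymm (sup_le h3 h6) fun x hx => ?_⟩
  · refine commutator_eq_bot_iff_le_centralizer.2 fun x hx => mem_centralizer_iff.2 fun y hy => ?_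
    have key := sl2_sq_gen hF₁ (((centralizer {y}).subgroupOf L₁).comap g₁.symm.toMonoidHom) (fun s => by
      obtain ⟨x, rfl⟩ := g₁.surjective s
      simp only [mem_comap, MulEquiv.coe_toMonoidHom, map_mul, MulEquiv.symm_apply_apply, mem_subgroupOf, coe_mul,
        mem_centralizer_singleton_iff]
      have h7 := commutator_le_inf L₁ L₂ (commutator_mem_commutator x.2 hy)
      have h8 : (x : G) * y = ⁅(x : G), y⁆ * (y * x) := by rw [commutatorElement_def]; group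
      rcases H.D_inf_D hO (h2 h7.1) (h5 h7.2) with e | e <;> rw [e] at h8
      · rw [one_mul] at h8
        rw [mul_assoc, h8, ← mul_assoc, h8, mul_assoc]
      · calc (x : G) * x * y = x * (E.f (z n) * (y * x)) := by rw [mul_assoc, h8]
          _ = E.f (z n) * (x * y) * x := by rw [← mul_assoc, H.hz]; group
          _ = _ := by rw [h8, ← mul_assoc, hzz]; group) (g₁ ⟨x, hx⟩)
    simp only [mem_comap, MulEquiv.coe_toMonoidHom, MulEquiv.symm_apply_apply, mem_subgroupOf,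
      mem_centralizer_singleton_iff] at key
    exact key.symm
  · obtain ⟨l, hl, d, hd, e⟩ := mem_sup_of_normal_left.1 (commutator_le_sup hF₁ g₁ hx)
    obtain ⟨d', hd', l', hl', e'⟩ := mem_sup_of_normal_left.1 (((commutator_le_sup hF₂ g₂).trans (sup_comm _ _).le) hx)
    have h7 := H.cent_le h1 hd
    have h8 := H.tw.cent_le h4 hd'
    rw [tw_tw] at h8
    have h9 : d'⁻¹ * l = l' * d⁻¹ := by
      rw [inv_mul_eq_iff_eq_mul, ← mul_assoc, e', ← e, mul_inv_cancel_right]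
    have h10 : l' * d⁻¹ ∈ L₂ := by
      rcases H.D_inf_D hO (h9 ▸ mul_mem (inv_mem h8) (h2 hl)) (mul_mem (h5 hl') (inv_mem h7)) with e | e <;> rw [e]
      · exact one_mem _
      · exact h4 ((E.mem_T2 _).2 (z_mem_Q2 h1n))
    rw [← e]
    exact mul_mem (mem_sup_left hl) (mem_sup_right (inv_mem_iff.1 ((mul_mem_cancel_left hl').1 h10)))

end Cz

/-- passing to `C(z)/O(C(z))` -/
theorem exists_quot (E : Emb n S) (hn : 2 ≤ n) (h1 : ∀ x y : G, orderOf x = 2 → orderOf y = 2 → IsConj x y) :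
    ∃ (S' : Sylow 2 (centralizer ({E.f (z n)} : Set G) ⧸ oddCore (centralizer ({E.f (z n)} : Set G))))
      (E' : Emb n S'), E'.Cz := by
  have h1n : 1 ≤ n := by omega
  set C := centralizer ({E.f (z n)} : Set G) with hC
  have hm : ∀ x, E.f x ∈ C := fun x => mem_centralizer_singleton_iff.2 (by rw [← map_mul, ← map_mul, z_comm h1n])
  have hS : (S : Subgroup G) ≤ C := fun y hy => by obtain ⟨x, rfl⟩ := E.exists_eq hy; exact hm x
  let π := QuotientGroup.mk' (oddCore C)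
  have hπ : Function.Surjective π := QuotientGroup.mk'_surjective _
  let f : W n →* C := E.f.codRestrict C hm
  have hord : ∀ x : W n, x * x = 1 → x ≠ 1 → IsConj (E.f x) (E.f (z n)) := fun x hx hx1 =>
    h1 _ _ (by rw [E.orderOf_eq]; exact orderOf_eq_prime ((pow_two _).trans hx) hx1)
      (by rw [E.orderOf_eq]; exact orderOf_eq_prime ((pow_two _).trans (z_mul_z h1n)) (z_ne_one h1n))
  have hz' := hord (z' n) (by simp [z', mk_eq_one]; linear_combination two_h h1n)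
    fun e => h_ne h1n (mk_eq_one.1 e).1
  have key : ∀ x ρ : W n, x * x = 1 → x.σ = true → ρ * x = x * ρ → ρ * ρ = z n → IsConj (π (f x)) (π (f (z' n))) :=
    fun x ρ hx hσ h2 h3 => by
      obtain ⟨g, hg, hg'⟩ := E.fuse_in_cent hn hz' (hord x hx (by rintro rfl; cases hσ)) (by rintro rfl; cases hσ) h2 h3
      exact π.map_isConj (isConj_iff.2 ⟨⟨g, mem_centralizer_singleton_iff.2 hg⟩, Subtype.ext hg'⟩)
  refine ⟨(S.subtype hS).mapSurjective hπ, ⟨π.comp f, (injective_iff_map_eq_one _).2 fun x hx => ?_, ?_⟩, hn,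
    fun g => ?_, key _ (b0 n) (by simp [s, mk_eq_one]) rfl (by simp [s, b0]) (b0_sq hn),
    key _ (a0 n) (by simp [t, mk_eq_one]) rfl (by simp [t, a0]) (a0_sq hn)⟩
  · have h2 : f x = 1 := H3.eq_one_of_mem_of_coprime (S.subtype hS).isPGroup' (E.mem x)
      (H3.orderOf_coprime_of_mem (H2.pPrimeCore_coprime 2 _) ((QuotientGroup.eq_one_iff _).1 hx))
    exact E.inj ((congrArg Subtype.val h2).trans (map_one _).symm)
  · rw [MonoidHom.range_comp]
    congr 1
    ext y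
    exact ⟨by rintro ⟨x, rfl⟩; exact E.mem x, fun hy => (E.exists_eq hy).imp fun x hx => Subtype.ext hx⟩
  · obtain ⟨g, rfl⟩ := hπ g
    change π g * π _ = π _ * π g
    rw [← map_mul, ← map_mul]
    exact congrArg π (Subtype.ext (mem_centralizer_singleton_iff.1 g.2))

end Emb

end H24.G2S
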