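import Mathlib
import Cfsg.Agent.H24.G2Fus
import Cfsg.Agent.H22.Cov2
import Cfsg.Agent.H19.SL2
import Cfsg.Agent.S1059

/-! The Sylow 2-subgroups of `G₂(q)`, `q` odd, are isomorphic to `W n`. -/

set_option autoImplicit false

namespace H24.G2S

open Matrix H22.SL2Aut
open scoped MatrixGroups

variable {F : Type*} [Field F]

/-- `diag(λ, 1)` -/
def dG (l : Fˣ) : GL (Fin 2) F :=
  ⟨!![(l : F), 0; 0, 1], !![((l⁻¹ : Fˣ) : F), 0; 0, 1],
    by ext i j; fin_cases i <;> fin_cases j <;> simp [Matrix.mul_apply],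
    by ext i j; fin_cases i <;> fin_cases j <;> simp [Matrix.mul_apply]⟩

theorem dG_val (l : Fˣ) : (dG l : Matrix (Fin 2) (Fin 2) F) = !![(l : F), 0; 0, 1] := rfl

theorem dG_mul (a b : Fˣ) : dG (a * b) = dG a * dG b := by
  ext i j; fin_cases i <;> fin_cases j <;> simp [dG_val, Matrix.mul_apply]

theorem det_dG (l : Fˣ) : GeneralLinearGroup.det (dG l) = l := by
  ext; simp [dG_val]

/-- a matrix of determinant 1 as an element of `SL₂` -/
def toSL (g : GL (Fin 2) F) (hg : GeneralLinearGroup.det g = 1) : SL(2, F) :=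
  ⟨g, by have := congrArg Units.val hg; simpa using this⟩

/-- `g ↦ g diag(det g, 1)⁻¹` -/
def sl (g : GL (Fin 2) F) : SL(2, F) :=
  toSL (g * (dG (GeneralLinearGroup.det g))⁻¹) (by rw [map_mul, map_inv, det_dG, mul_inv_cancel])

/-- conjugation by `diag(λ, 1)` -/
def cD (l : Fˣ) : SL(2, F) →* SL(2, F) where
  toFun g := toSL (dG l * g * (dG l)⁻¹) (by
    rw [map_mul, map_mul, map_inv, mul_inv_cancel_comm]; ext; simp)
  map_one' := by ext1; simp [toSL]
  map_mul' a b := by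
    apply Subtype.ext
    change Units.val (dG l * (a * b : SL(2, F)) * (dG l)⁻¹ : GL (Fin 2) F) =
      Units.val (dG l * a * (dG l)⁻¹ : GL (Fin 2) F) * Units.val (dG l * b * (dG l)⁻¹ : GL (Fin 2) F)
    rw [← Units.val_mul]
    congr 1
    rw [map_mul]; group

theorem sl_mul (g g' : GL (Fin 2) F) : sl (g * g') = sl g * cD (GeneralLinearGroup.det g) (sl g') := by
  apply Subtype.ext
  change Units.val (g * g' * (dG (GeneralLinearGroup.det (g * g')))⁻¹ : GL (Fin 2) F) =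
    Units.val (g * (dG (GeneralLinearGroup.det g))⁻¹ : GL (Fin 2) F) *
      Units.val (dG (GeneralLinearGroup.det g) * (g' * (dG (GeneralLinearGroup.det g'))⁻¹) *
        (dG (GeneralLinearGroup.det g))⁻¹ : GL (Fin 2) F)
  rw [← Units.val_mul]
  congr 1
  rw [map_mul, dG_mul]; group

theorem cD_uu (l : Fˣ) (x : F) : cD l (uu x) = uu (l * x) := by
  apply Subtype.ext
  change (dG l : Matrix _ _ F) * (uu x).1 * !![((l⁻¹ : Fˣ) : F), 0; 0, 1] = _
  ext i j; fin_cases i <;> fin_cases j <;> simp [dG_val, uu_val, Matrix.mul_apply]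

theorem cD_ll (l : Fˣ) (x : F) : cD l (ll x) = ll ((l : F)⁻¹ * x) := by
  apply Subtype.ext
  change (dG l : Matrix _ _ F) * (ll x).1 * !![((l⁻¹ : Fˣ) : F), 0; 0, 1] = _
  ext i j; fin_cases i <;> fin_cases j <;> simp [dG_val, ll_val, Matrix.mul_apply, mul_comm]

/-- pairs of matrices with the same determinant -/
def G0 (F : Type*) [Field F] : Subgroup (GL (Fin 2) F × GL (Fin 2) F) :=
  ((GeneralLinearGroup.det).comp (MonoidHom.fst _ _)).eqLocus ((GeneralLinearGroup.det).comp (MonoidHom.snd _ _))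

/-- the data of a homomorphism from `SO₄⁺(F)` -/
structure SO4 (F : Type*) [Field F] (Γ : Type*) [Group Γ] where
  φ1 : SL(2, F) →* Γ
  φ2 : SL(2, F) →* Γ
  hh : Fˣ →* Γ
  comm : ∀ a b, φ1 a * φ2 b = φ2 b * φ1 a
  c1 : ∀ l a, hh l * φ1 a = φ1 (cD l a) * hh l
  c2 : ∀ l a, hh l * φ2 a = φ2 (cD l a) * hh l
  sq : ∀ l : Fˣ, φ1 (dd l l.ne_zero) * φ2 (dd l l.ne_zero) = hh (l * l)
  ne : φ2 (-1) ≠ 1

namespace SO4
variable {Γ : Type*} [Group Γ] (D : SO4 F Γ)

/-- the homomorphism -/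
def Φ : G0 F →* Γ := MonoidHom.mk'
  (fun x => D.φ1 (sl x.1.1) * D.φ2 (sl x.1.2) * D.hh (GeneralLinearGroup.det x.1.1)) (by
    rintro ⟨⟨a, b⟩, hab⟩ ⟨⟨c, d⟩, hcd⟩
    have h1 : GeneralLinearGroup.det a = GeneralLinearGroup.det b := hab
    change D.φ1 (sl (a * c)) * D.φ2 (sl (b * d)) * D.hh (GeneralLinearGroup.det (a * c)) =
      D.φ1 (sl a) * D.φ2 (sl b) * D.hh (GeneralLinearGroup.det a) *
        (D.φ1 (sl c) * D.φ2 (sl d) * D.hh (GeneralLinearGroup.det c))
    rw [sl_mul, sl_mul, ← h1, map_mul, map_mul, map_mul, map_mul]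
    simp only [mul_assoc]
    rw [← mul_assoc (D.hh _) (D.φ1 _), D.c1, mul_assoc, ← mul_assoc (D.hh _) (D.φ2 _), D.c2,
      ← mul_assoc (D.φ2 (sl b)) (D.φ1 _), ← D.comm]
    simp only [mul_assoc])

theorem Φ_scalar (μ : Fˣ) (x : G0 F) (h1 : x.1.1 = GeneralLinearGroup.scalar _ μ)
    (h2 : x.1.2 = GeneralLinearGroup.scalar _ μ) : D.Φ x = 1 := by
  have hd : GeneralLinearGroup.det (GeneralLinearGroup.scalar (Fin 2) μ) = μ * μ := by
    ext; simp [GeneralLinearGroup.scalar, _root_.sq]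
  have hs : sl (GeneralLinearGroup.scalar (Fin 2) μ) = dd ((μ⁻¹ : Fˣ) : F) (μ⁻¹).ne_zero := by
    apply Subtype.ext
    change (GeneralLinearGroup.scalar (Fin 2) μ : Matrix _ _ F) *
      !![(((GeneralLinearGroup.det (GeneralLinearGroup.scalar (Fin 2) μ))⁻¹ : Fˣ) : F), 0; 0, 1] = _
    rw [hd]
    ext i j; fin_cases i <;> fin_cases j <;> simp [GeneralLinearGroup.scalar, dd_val, Matrix.mul_apply]
  change D.φ1 (sl x.1.1) * D.φ2 (sl x.1.2) * D.hh (GeneralLinearGroup.det x.1.1) = 1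
  rw [h1, h2, hs, D.sq, hd, ← map_mul]
  simp

theorem Φ_neg (x : G0 F) (h1 : x.1.1 = 1) (h2 : x.1.2 = -1) : D.Φ x ≠ 1 := by
  have hs : sl (1 : GL (Fin 2) F) = 1 := by
    apply Subtype.ext
    change ((1 : GL (Fin 2) F) : Matrix _ _ F) *
      !![(((GeneralLinearGroup.det (1 : GL (Fin 2) F))⁻¹ : Fˣ) : F), 0; 0, 1] = _
    ext i j; fin_cases i <;> fin_cases j <;> simp
  have hs' : sl (-1 : GL (Fin 2) F) = -1 := by
    apply Subtype.ext
    change ((-1 : GL (Fin 2) F) : Matrix _ _ F) *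
      !![(((GeneralLinearGroup.det (-1 : GL (Fin 2) F))⁻¹ : Fˣ) : F), 0; 0, 1] = _
    ext i j; fin_cases i <;> fin_cases j <;> simp [Matrix.det_neg]
  change D.φ1 (sl x.1.1) * D.φ2 (sl x.1.2) * D.hh (GeneralLinearGroup.det x.1.1) ≠ 1
  rw [h1, h2, hs, hs']
  simpa using D.ne

theorem Φ_eq (μ : Fˣ) (x y : G0 F) (h1 : x.1.1 = GeneralLinearGroup.scalar _ μ * y.1.1)
    (h2 : x.1.2 = GeneralLinearGroup.scalar _ μ * y.1.2) : D.Φ x = D.Φ y := by
  rw [← mul_inv_eq_one, ← map_inv, ← map_mul]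
  exact D.Φ_scalar μ _ (by simp [h1]) (by simp [h2])

include D in
/-- the generators of `W n` -/
theorem exists_hom {n : ℕ} (hn : 2 ≤ n) (c u j : GL (Fin 2) F) (hu : GeneralLinearGroup.det u = 1)
    (hj : GeneralLinearGroup.det j = 1) (hu2 : u * u = -1) (hj2 : j * j = -1) (huj : u * j = -(j * u))
    (hcj : c * j = j * c) (hcu : c * (u * c * u⁻¹) = GeneralLinearGroup.scalar _ (GeneralLinearGroup.det c))
    (hc : c ^ 2 ^ n = -(GeneralLinearGroup.scalar (Fin 2) (GeneralLinearGroup.det c ^ 2 ^ (n - 1) : Fˣ) : GL (Fin 2) F)) :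
    ∃ f : W n →* Γ, Function.Injective f := by
  have sneg : ∀ μ : Fˣ, GeneralLinearGroup.scalar (Fin 2) (-μ) = -GeneralLinearGroup.scalar (Fin 2) μ := fun μ => by
    ext i j; fin_cases i <;> fin_cases j <;> simp [GeneralLinearGroup.scalar]
  have sc : ∀ (μ : Fˣ) (g : GL (Fin 2) F), g * GeneralLinearGroup.scalar _ μ = GeneralLinearGroup.scalar _ μ * g :=
    fun μ g => Subgroup.mem_center_iff.1 (GeneralLinearGroup.center_eq_range_scalar (n := Fin 2) (R := F) ▸ ⟨μ, rfl⟩) g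
  have m1 : GeneralLinearGroup.scalar (Fin 2) (-1 : Fˣ) = -1 := by rw [sneg, map_one]
  let A : G0 F := ⟨(c, c), rfl⟩
  let U : G0 F := ⟨(u, j), hu.trans hj.symm⟩
  let V : G0 F := ⟨(u * j, j * u), show GeneralLinearGroup.det (u * j) = GeneralLinearGroup.det (j * u) by
    rw [map_mul, map_mul, mul_comm]⟩
  have hjc : j * c * j⁻¹ = c := by rw [← hcj, mul_inv_cancel_right]
  have hcu' : u * c * u⁻¹ = GeneralLinearGroup.scalar _ (GeneralLinearGroup.det c) * c⁻¹ := by
    rw [← sc, ← hcu, inv_mul_cancel_left]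
  have hcc : c * (u * c * u⁻¹) = u * c * u⁻¹ * c := by rw [hcu, hcu', inv_mul_cancel_right]
  have R : Rel n (D.Φ A) (D.Φ U) (D.Φ V) :=
    { ha := by
        rw [← map_pow]
        exact D.Φ_scalar (-(GeneralLinearGroup.det c ^ 2 ^ (n - 1))) _ (by rw [sneg]; exact hc) (by rw [sneg]; exact hc)
      comm := by
        rw [← map_inv, ← map_mul, ← map_mul]
        refine Commute.map (Subtype.ext (Prod.ext hcc ?_)) _
        change c * (j * c * j⁻¹) = j * c * j⁻¹ * c
        rw [hjc]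
      hu := by rw [← map_mul]; exact D.Φ_scalar (-1) _ (by rw [m1]; exact hu2) (by rw [m1]; exact hj2)
      hv := by
        rw [← map_mul]
        refine D.Φ_scalar (-1) _ ?_ ?_ <;> rw [m1]
        · change u * j * (u * j) = -1
          rw [mul_assoc, ← mul_assoc j, ← neg_neg (j * u), ← huj, neg_mul, mul_assoc u j j, hj2]
          simp [hu2]
        · change j * u * (j * u) = -1
          rw [mul_assoc, ← mul_assoc u, huj, neg_mul, mul_assoc j u u, hu2]
          simp [hj2]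
      huv := by
        rw [← map_mul, ← map_mul]
        refine D.Φ_eq (-1) _ _ ?_ ?_ <;> rw [m1]
        · change u * (u * j) = -1 * (u * j * u)
          rw [mul_assoc u j u, ← neg_neg (j * u), ← huj]; simp
        · change j * (j * u) = -1 * (j * u * j)
          rw [mul_assoc j u j, huj]; simp
      hva := by
        rw [← map_inv, ← map_mul, ← map_mul, ← map_inv]
        refine D.Φ_eq (GeneralLinearGroup.det c) _ _ ?_ ?_
        · change u * j * c * (u * j)⁻¹ = _ * c⁻¹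
          rw [← hcu', ← hjc]; nth_rw 2 [← hjc]; group
        · change j * u * c * (j * u)⁻¹ = _ * c⁻¹
          have : j * c⁻¹ * j⁻¹ = c⁻¹ := by nth_rw 2 [← hjc]; group
          calc j * u * c * (j * u)⁻¹ = j * (u * c * u⁻¹) * j⁻¹ := by group
            _ = _ := by rw [hcu', ← mul_assoc, sc, mul_assoc _ j, mul_assoc, this] }
  refine ⟨R.lift, R.lift_injective hn ?_⟩
  rw [← map_inv, ← map_mul, ← map_mul, ← map_mul, ← map_pow,
    D.Φ_eq (GeneralLinearGroup.det c ^ 2 ^ (n - 1)) _ ⟨(1, -1), by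
      change GeneralLinearGroup.det 1 = GeneralLinearGroup.det (-1 : GL (Fin 2) F)
      ext; simp [Matrix.det_neg]⟩]
  · exact D.Φ_neg _ rfl rfl
  · change (c * (u * c * u⁻¹)) ^ 2 ^ (n - 1) = _ * 1
    rw [hcu, mul_one, map_pow]
  · change (c * (j * c * j⁻¹)) ^ 2 ^ (n - 1) = _ * -1
    rw [hjc, ← _root_.sq, ← pow_mul, ← pow_succ', Nat.sub_add_cancel (by omega), hc]; simp

end SO4

/-- the matrices generating a Sylow 2-subgroup of `PGL₂(q)` -/
theorem exists_mats [Fintype F] (hF : Odd (Fintype.card F)) : ∃ n m : ℕ, 2 ≤ n ∧ Odd m ∧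
    Fintype.card F ^ 2 - 1 = 2 ^ (n + 1) * m ∧ ∃ c u j : Matrix (Fin 2) (Fin 2) F, c.det ≠ 0 ∧ u.det = 1 ∧ j.det = 1 ∧
      u * u = -1 ∧ j * j = -1 ∧ u * j = -(j * u) ∧ c * j = j * c ∧ c * u * c = c.det • u ∧
      c ^ 2 ^ n = -(c.det ^ 2 ^ (n - 1)) • (1 : Matrix (Fin 2) (Fin 2) F) := by
  classical
  set q := Fintype.card F with hq
  have hq1 : 1 < q := Fintype.one_lt_card
  have hsq : q ^ 2 - 1 = (q + 1) * (q - 1) := by simpa using Nat.sq_sub_sq q 1
  have hcu : Nat.card Fˣ = q - 1 := by rw [Nat.card_units, Nat.card_eq_fintype_card]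
  rcases Nat.odd_mod_four_iff.1 (Nat.odd_iff.1 hF) with h4 | h4
  · obtain ⟨n, m, hm, hnm⟩ := Nat.exists_eq_two_pow_mul_odd (show q - 1 ≠ 0 by omega)
    have hn : 2 ≤ n := by
      by_contra hlt
      obtain ⟨r, rfl⟩ := hm
      interval_cases n <;> omega
    obtain ⟨g, hg⟩ := IsCyclic.exists_ofOrder_eq_natCard (α := Fˣ)
    have hl : orderOf (g ^ m) = 2 ^ n := by
      rw [orderOf_pow' _ hm.pos.ne', hg, hcu, hnm, Nat.gcd_mul_left_left, Nat.mul_div_cancel _ hm.pos]
    set l : F := ((g ^ m : Fˣ) : F) with hldef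
    have hl1 : l ^ 2 ^ n = 1 := by rw [hldef, ← Units.val_pow_eq_pow_val, ← hl, pow_orderOf_eq_one, Units.val_one]
    have hl2 : l ^ 2 ^ (n - 1) = -1 := by
      have h1 : l ^ 2 ^ (n - 1) * l ^ 2 ^ (n - 1) = 1 := by
        rw [← pow_add, ← two_mul, ← pow_succ', Nat.sub_add_cancel (by omega), hl1]
      rcases mul_self_eq_one_iff.1 h1 with h | h
      · exfalso
        have : (g ^ m) ^ 2 ^ (n - 1) = 1 := Units.ext (by rw [Units.val_pow_eq_pow_val]; exact h)
        have := Nat.le_of_dvd (by positivity) (hl ▸ orderOf_dvd_of_pow_eq_one this)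
        have h2 : 2 ^ (n - 1) < 2 ^ n := Nat.pow_lt_pow_right (by norm_num) (by omega)
        omega
      · exact h
    set i : F := l ^ 2 ^ (n - 2) with hi
    have hi2 : i * i = -1 := by
      rw [hi, ← pow_add, ← two_mul, ← pow_succ', show n - 2 + 1 = n - 1 by omega, hl2]
    have hpow : ∀ k : ℕ, (!![l, 0; 0, 1] : Matrix (Fin 2) (Fin 2) F) ^ k = !![l ^ k, 0; 0, 1] := by
      intro k
      induction k with
      | zero => simp [Matrix.one_fin_two]
      | succ k ih => rw [pow_succ, ih]; simp [pow_succ]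
    refine ⟨n, (q + 1) / 2 * m, hn, Odd.mul (Nat.odd_iff.2 (by omega)) hm, ?_, !![l, 0; 0, 1], !![0, 1; -1, 0],
      !![i, 0; 0, -i], by simp [hldef], by simp, by simp [hi2], ?_, ?_, ?_, ?_, ?_, ?_⟩
    · rw [hsq, hnm]
      have : q + 1 = 2 * ((q + 1) / 2) := by omega
      nth_rw 1 [this]; ring
    · ext a b; fin_cases a <;> fin_cases b <;> simp
    · ext a b; fin_cases a <;> fin_cases b <;> simp [hi2]
    · ext a b; fin_cases a <;> fin_cases b <;> simp
    · ext a b; fin_cases a <;> fin_cases b <;> simp [mul_comm]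
    · ext a b; fin_cases a <;> fin_cases b <;> simp
    · rw [hpow, hl1]
      ext a b; fin_cases a <;> fin_cases b <;> simp [hl2]
  · obtain ⟨n, m, hm, hnm⟩ := Nat.exists_eq_two_pow_mul_odd (show q + 1 ≠ 0 by omega)
    have hn : 2 ≤ n := by
      by_contra hlt
      obtain ⟨r, rfl⟩ := hm
      interval_cases n <;> omega
    have hns : ¬ IsSquare (-1 : F) := by rw [FiniteField.isSquare_neg_one_iff]; simpa using h4
    haveI : Fact (∀ r : F, r ^ 2 ≠ -1 + 0 * r) := ⟨fun r hr => hns ⟨r, by linear_combination -hr⟩⟩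
    let K := QuadraticAlgebra F (-1) 0
    haveI : Finite K := Finite.of_equiv _ (QuadraticAlgebra.equivProd (-1 : F) 0).symm
    have hK : Nat.card Kˣ = 2 ^ (n + 1) * (m * ((q - 1) / 2)) := by
      rw [Nat.card_units, Nat.card_congr (QuadraticAlgebra.equivProd (-1 : F) 0), Nat.card_prod,
        Nat.card_eq_fintype_card, ← hq, ← _root_.sq, hsq, hnm]
      have : q - 1 = 2 * ((q - 1) / 2) := by omega
      nth_rw 1 [this]; ring
    have hm' : Odd (m * ((q - 1) / 2)) := hm.mul (Nat.odd_iff.2 (by omega))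
    obtain ⟨g, hg⟩ := IsCyclic.exists_ofOrder_eq_natCard (α := Kˣ)
    have hl : orderOf (g ^ (m * ((q - 1) / 2))) = 2 ^ (n + 1) := by
      rw [orderOf_pow' _ hm'.pos.ne', hg, hK, Nat.gcd_mul_left_left, Nat.mul_div_cancel _ hm'.pos]
    set κ : K := ((g ^ (m * ((q - 1) / 2)) : Kˣ) : K) with hκ
    have hl1 : κ ^ 2 ^ (n + 1) = 1 := by
      rw [hκ, ← Units.val_pow_eq_pow_val, ← hl, pow_orderOf_eq_one, Units.val_one]
    have hl2 : κ ^ 2 ^ n = -1 := by
      have h1 : κ ^ 2 ^ n * κ ^ 2 ^ n = 1 := by rw [← pow_add, ← two_mul, ← pow_succ', hl1]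
      rcases mul_self_eq_one_iff.1 h1 with h | h
      · exfalso
        have : (g ^ (m * ((q - 1) / 2))) ^ 2 ^ n = 1 := Units.ext (by rw [Units.val_pow_eq_pow_val]; exact h)
        have := Nat.le_of_dvd (by positivity) (hl ▸ orderOf_dvd_of_pow_eq_one this)
        have h2 : 2 ^ n < 2 ^ (n + 1) := Nat.pow_lt_pow_right (by norm_num) (by omega)
        omega
      · exact h
    have hN1 : QuadraticAlgebra.norm κ ^ 2 ^ (n + 1) = 1 := by rw [← map_pow, hl1, map_one]
    have hN0 : QuadraticAlgebra.norm κ ≠ 0 := fun e => by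
      rw [e, zero_pow (by positivity)] at hN1; exact zero_ne_one hN1
    have hN2 : QuadraticAlgebra.norm κ ^ 2 = 1 := by
      have h1 := orderOf_dvd_of_pow_eq_one hN1
      have h2 := orderOf_dvd_of_pow_eq_one (FiniteField.pow_card_sub_one_eq_one _ hN0)
      obtain ⟨a, ha, e⟩ := (Nat.dvd_prime_pow Nat.prime_two).1 h1
      rw [← orderOf_dvd_iff_pow_eq_one, e]
      rw [e, ← hq] at h2
      have : a ≤ 1 := by
        by_contra hh
        have : 2 ^ 2 ∣ q - 1 := (pow_dvd_pow 2 (by omega)).trans h2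
        omega
      simpa using pow_dvd_pow 2 this
    haveI : NeZero (ringChar F) := ⟨CharP.ringChar_ne_zero_of_finite F⟩
    obtain ⟨r, s, hrs⟩ := CharP.sq_add_sq F (ringChar F) (-1)
    push_cast at hrs
    let ψ : K →ₐ[F] Matrix (Fin 2) (Fin 2) F := QuadraticAlgebra.lift ⟨!![0, 1; -1, 0], by
      ext a b; fin_cases a <;> fin_cases b <;> simp⟩
    have hψ : ψ κ = !![κ.re, κ.im; -κ.im, κ.re] := by
      ext a b; fin_cases a <;> fin_cases b <;> simp [ψ, QuadraticAlgebra.lift]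
    have hdet : (ψ κ).det = QuadraticAlgebra.norm κ := by
      rw [hψ, QuadraticAlgebra.norm_def]; simp
    refine ⟨n, m * ((q - 1) / 2), hn, hm', ?_, ψ κ, !![(r : F), s; s, -r], !![0, 1; -1, 0], hdet ▸ hN0, ?_,
      by simp, ?_, ?_, ?_, ?_, ?_, ?_⟩
    · rw [hsq, hnm]
      have : q - 1 = 2 * ((q - 1) / 2) := by omega
      nth_rw 1 [this]; ring
    · simp; linear_combination -hrs
    · ext a b; fin_cases a <;> fin_cases b <;> simp <;> first | ring1 | linear_combination hrs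
    · ext a b; fin_cases a <;> fin_cases b <;> simp
    · ext a b; fin_cases a <;> fin_cases b <;> simp
    · rw [hψ]; ext a b; fin_cases a <;> fin_cases b <;> simp
    · rw [hψ]; ext a b; fin_cases a <;> fin_cases b <;> simp <;> ring
    · rw [← map_pow, hl2, hdet, show 2 ^ (n - 1) = 2 * 2 ^ (n - 2) by
        rw [← pow_succ']; congr 1; omega, pow_mul, hN2]
      simp

theorem SO4.exists_hom' [Fintype F] (hF : Odd (Fintype.card F)) {Γ : Type*} [Group Γ] (D : SO4 F Γ) :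
    ∃ n m : ℕ, 2 ≤ n ∧ Odd m ∧ Fintype.card F ^ 2 - 1 = 2 ^ (n + 1) * m ∧ ∃ f : W n →* Γ, Function.Injective f := by
  obtain ⟨n, m, hn, hm, hq, c, u, j, h0, h1, h2, h3, h4, h5, h6, h7, h8⟩ := exists_mats hF
  refine ⟨n, m, hn, hm, hq, D.exists_hom hn (GeneralLinearGroup.mkOfDetNeZero c h0)
    (GeneralLinearGroup.mkOfDetNeZero u (by simp [h1])) (GeneralLinearGroup.mkOfDetNeZero j (by simp [h2]))
    (Units.ext h1) (Units.ext h2) (Units.ext h3) (Units.ext h4) (Units.ext h5) (Units.ext h6) ?_ (Units.ext ?_)⟩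
  · rw [← mul_assoc, ← mul_assoc, mul_inv_eq_iff_eq_mul]
    refine Units.ext (h7.trans ?_)
    simp [GeneralLinearGroup.scalar, Matrix.smul_eq_diagonal_mul]
  · rw [Units.val_pow_eq_pow_val]
    refine h8.trans ?_
    simp [GeneralLinearGroup.scalar, Matrix.smul_one_eq_diagonal, Matrix.diagonal_pow, Matrix.diagonal_neg]

open Cfsg Cfsg.Lie in
/-- the subgroup `SO₄⁺(F)` of `G₂(F)` -/
theorem nonempty_SO4 (h2 : (2 : F) ≠ 0) : Nonempty (SO4 F (chevG2.group F)) := by
  have T := H19.tabG2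
  obtain ⟨φ1, hr1, h1⟩ := H19.asm1030 T H20.goodG2 F 7 (by decide)
  obtain ⟨φ2, hr2, h2'⟩ := H19.asm1030 T H20.goodG2 F 11 (by decide)
  have n7 : chevG2.neg 7 = 4 := rfl
  have n11 : chevG2.neg 11 = 0 := rfl
  rw [n7] at hr1 h1
  rw [n11] at hr2 h2'
  have hle : ∀ r < chevG2.nroots, chevG2.rootSubgroup F r ≤ chevG2.group F := fun r hr =>
    Subgroup.closure_mono fun g ⟨t, ht⟩ => ⟨⟨r, hr⟩, t, by rw [ht, ChevalleyDatum.x, dif_pos hr]⟩
  have m1 : ∀ a, φ1 a ∈ chevG2.group F := fun a =>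
    (sup_le (hle 7 (by decide)) (hle 4 (by decide))) (hr1 ▸ ⟨a, rfl⟩)
  have m2 : ∀ a, φ2 a ∈ chevG2.group F := fun a =>
    (sup_le (hle 11 (by decide)) (hle 0 (by decide))) (hr2 ▸ ⟨a, rfl⟩)
  have u1 : ∀ t, (φ1 (uu t) : Matrix _ _ F) = chevG2.x F 7 t := fun t => (h1 _ t).1 rfl
  have l1 : ∀ t, (φ1 (ll t) : Matrix _ _ F) = chevG2.x F 4 t := fun t => (h1 _ t).2 rfl
  have u2 : ∀ t, (φ2 (uu t) : Matrix _ _ F) = chevG2.x F 11 t := fun t => (h2' _ t).1 rfl
  have l2 : ∀ t, (φ2 (ll t) : Matrix _ _ F) = chevG2.x F 0 t := fun t => (h2' _ t).2 rfl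
  have ddw : ∀ (c : F) (hc : c ≠ 0), dd c hc = uu c * ll (-c⁻¹) * uu c * (uu (-1) * ll (-(-1)⁻¹) * uu (-1)) := by
    intro c hc
    ext i j; fin_cases i <;> fin_cases j <;> simp [ent, uu_val, ll_val, dd_val, hc]
  have d1 : ∀ (c : F) (hc : c ≠ 0), (φ1 (dd c hc) : Matrix _ _ F) = H19.diagM chevG2 fun s => c ^ H19.pair chevG2 7 s := by
    intro c hc
    rw [← T.hMat_diag (by decide) hc, H19.hMat_eq, H19.nMat_eq, H19.nMat_eq, ddw, n7]
    simp only [map_mul, Units.val_mul, u1, l1]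
  have d2 : ∀ (c : F) (hc : c ≠ 0), (φ2 (dd c hc) : Matrix _ _ F) = H19.diagM chevG2 fun s => c ^ H19.pair chevG2 11 s := by
    intro c hc
    rw [← T.hMat_diag (by decide) hc, H19.hMat_eq, H19.nMat_eq, H19.nMat_eq, ddw, n11]
    simp only [map_mul, Units.val_mul, u2, l2]
  obtain ⟨φ3, hr3, h3⟩ := H19.asm1030 T H20.goodG2 F 6 (by decide)
  have n6 : chevG2.neg 6 = 5 := rfl
  rw [n6] at hr3 h3
  have m3 : ∀ a, φ3 a ∈ chevG2.group F := fun a =>
    (sup_le (hle 6 (by decide)) (hle 5 (by decide))) (hr3 ▸ ⟨a, rfl⟩)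
  have u3 : ∀ t, (φ3 (uu t) : Matrix _ _ F) = chevG2.x F 6 t := fun t => (h3 _ t).1 rfl
  have l3 : ∀ t, (φ3 (ll t) : Matrix _ _ F) = chevG2.x F 5 t := fun t => (h3 _ t).2 rfl
  have d3 : ∀ (c : F) (hc : c ≠ 0), (φ3 (dd c hc) : Matrix _ _ F) = H19.diagM chevG2 fun s => c ^ H19.pair chevG2 6 s := by
    intro c hc
    rw [← T.hMat_diag (by decide) hc, H19.hMat_eq, H19.nMat_eq, H19.nMat_eq, ddw, n6]
    simp only [map_mul, Units.val_mul, u3, l3]
  -- the torus element with `a ↦ l`, `b ↦ l⁻¹`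
  let f : ℕ → ℤ := fun s => H19.pair chevG2 7 s + H19.pair chevG2 6 s
  have hf : ∀ l : F, l ≠ 0 → H19.IsChar chevG2 fun s => l ^ f s := fun l hl => by
    have := ((T.isAdd_pair 7).isChar hl).mul ((T.isAdd_pair 6).isChar hl)
    simpa only [f, zpow_add₀ hl] using this
  let hh0 : Fˣ → chevG2.group F := fun l => ⟨φ1 (dd l l.ne_zero) * φ3 (dd l l.ne_zero), mul_mem (m1 _) (m3 _)⟩
  have hv : ∀ l : Fˣ, Units.val (hh0 l : GL chevG2.Idx F) = H19.diagM chevG2 fun s => (l : F) ^ f s := fun l => by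
    change Units.val (φ1 (dd l l.ne_zero) * φ3 (dd l l.ne_zero)) = _
    rw [Units.val_mul, d1, d3, H19.diagM_mul]
    exact H19.diagM_congr fun s _ => (zpow_add₀ l.ne_zero _ _).symm
  clear_value hh0
  let hh : Fˣ →* chevG2.group F := MonoidHom.mk' hh0 fun a b => Subtype.ext (Units.ext (by
    change _ = Units.val (hh0 a : GL chevG2.Idx F) * Units.val (hh0 b : GL chevG2.Idx F)
    rw [hv, hv, hv, H19.diagM_mul]
    exact H19.diagM_congr fun s _ => by rw [Units.val_mul, mul_zpow]))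
  have xc : ∀ r s, r < chevG2.nroots → s < chevG2.nroots → s ≠ r → s ≠ chevG2.neg r → chevG2.commTerms r s = [] →
      ∀ t u : F, chevG2.x F s u * chevG2.x F r t = chevG2.x F r t * chevG2.x F s u := by
    intro r s hr hs e1 e2 e3 t u
    rw [T.x_comm hr hs e1 e2, ChevalleyDatum.commWord, e3, List.map_nil, H19.wordMat_nil, mul_one]
  have conjx : ∀ (φ : SL(2, F) →* GL chevG2.Idx F) (γ : GL chevG2.Idx F) (ψ : SL(2, F) →* GL chevG2.Idx F),
      (∀ t, γ * φ (uu t) = ψ (uu t) * γ) → (∀ t, γ * φ (ll t) = ψ (ll t) * γ) → ∀ a, γ * φ a = ψ a * γ := by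
    intro φ γ ψ e1 e2 a
    have := hom_ext (f := (MulAut.conj γ).toMonoidHom.comp φ) (g := ψ)
      (fun t => by simp [e1]) (fun t => by simp [e2])
    have := DFunLike.congr_fun this a
    simp only [MulEquiv.toMonoidHom_eq_coe, MonoidHom.coe_comp, MonoidHom.coe_coe, Function.comp_apply,
      MulAut.conj_apply] at this
    rw [← this, inv_mul_cancel_right]
  have cm : ∀ a b, φ1 a * φ2 b = φ2 b * φ1 a := by
    intro a b
    refine (conjx φ1 (φ2 b) φ1 (fun t => ?_) (fun t => ?_) a).symm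
    · refine (conjx φ2 (φ1 (uu t)) φ2 (fun u => Units.ext ?_) (fun u => Units.ext ?_) b).symm
      · simp only [Units.val_mul, u1, u2]
        exact xc 11 7 (by decide) (by decide) (by decide) (by decide) (by decide) _ _
      · simp only [Units.val_mul, u1, l2]
        exact xc 0 7 (by decide) (by decide) (by decide) (by decide) (by decide) _ _
    · refine (conjx φ2 (φ1 (ll t)) φ2 (fun u => Units.ext ?_) (fun u => Units.ext ?_) b).symm
      · simp only [Units.val_mul, l1, u2]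
        exact xc 11 4 (by decide) (by decide) (by decide) (by decide) (by decide) _ _
      · simp only [Units.val_mul, l1, l2]
        exact xc 0 4 (by decide) (by decide) (by decide) (by decide) (by decide) _ _
  have f7 : f 7 = 1 := by decide
  have f4 : f 4 = -1 := by decide
  have f11 : f 11 = 1 := by decide
  have f0 : f 0 = -1 := by decide
  have c1 : ∀ l a, (hh0 l : GL chevG2.Idx F) * φ1 a = φ1 (cD l a) * hh0 l := fun l =>
    conjx φ1 _ (φ1.comp (cD l)) (fun t => Units.ext (by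
      rw [MonoidHom.comp_apply, cD_uu, Units.val_mul, Units.val_mul, hv, u1, u1,
        H19.diag_x T.toTab0 (hf _ l.ne_zero) (by decide), f7, zpow_one])) (fun t => Units.ext (by
      rw [MonoidHom.comp_apply, cD_ll, Units.val_mul, Units.val_mul, hv, l1, l1,
        H19.diag_x T.toTab0 (hf _ l.ne_zero) (by decide), f4, _root_.zpow_neg_one]))
  have c2 : ∀ l a, (hh0 l : GL chevG2.Idx F) * φ2 a = φ2 (cD l a) * hh0 l := fun l =>
    conjx φ2 _ (φ2.comp (cD l)) (fun t => Units.ext (by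
      rw [MonoidHom.comp_apply, cD_uu, Units.val_mul, Units.val_mul, hv, u2, u2,
        H19.diag_x T.toTab0 (hf _ l.ne_zero) (by decide), f11, zpow_one])) (fun t => Units.ext (by
      rw [MonoidHom.comp_apply, cD_ll, Units.val_mul, Units.val_mul, hv, l2, l2,
        H19.diag_x T.toTab0 (hf _ l.ne_zero) (by decide), f0, _root_.zpow_neg_one]))
  have hpair : ∀ s < chevG2.nroots, H19.pair chevG2 7 s + H19.pair chevG2 11 s = f s + f s := by decide
  refine ⟨⟨φ1.codRestrict _ m1, φ2.codRestrict _ m2, hh, fun a b => Subtype.ext (cm a b),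
    fun l a => Subtype.ext (c1 l a), fun l a => Subtype.ext (c2 l a), fun l => Subtype.ext (Units.ext ?_), ?_⟩⟩
  · change Units.val (φ1 (dd l l.ne_zero) * φ2 (dd l l.ne_zero)) = Units.val (hh0 (l * l) : GL chevG2.Idx F)
    rw [hv, Units.val_mul, d1, d2, H19.diagM_mul]
    refine H19.diagM_congr fun s hs => ?_
    rw [← zpow_add₀ l.ne_zero, hpair s hs, zpow_add₀ l.ne_zero, Units.val_mul, mul_zpow]
  · intro e
    have e1 : Units.val (φ2 (-1)) = 1 := congrArg (fun g : chevG2.group F => Units.val (g : GL chevG2.Idx F)) e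
    have e2 : (-1 : SL(2, F)) = dd (-1) (neg_ne_zero.2 one_ne_zero) := by
      ext i j; fin_cases i <;> fin_cases j <;> simp [dd_val]
    rw [e2, d2, ← H19.diagM_one] at e1
    have := H19.diagM_inj e1 6 (by decide)
    rw [show H19.pair chevG2 11 6 = 1 by decide, zpow_one] at this
    exact h2 (by linear_combination -this)

theorem exists_emb_of_card {G : Type*} [Group G] [Finite G] {n m : ℕ} (f : W n →* G) (hf : Function.Injective f)
    (hc : Nat.card G = 2 ^ (2 * n + 2) * m) (hm : Odd m) (P : Sylow 2 G) : Nonempty (Emb n P) := by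
  have hr : Nat.card f.range = 2 ^ (Nat.card G).factorization 2 := by
    rw [← Nat.card_congr (MonoidHom.ofInjective hf).toEquiv, card_W, hc,
      Nat.factorization_mul (by positivity) hm.pos.ne', Nat.prime_two.factorization_pow, Finsupp.add_apply,
      Finsupp.single_eq_same, Nat.factorization_eq_zero_of_not_dvd hm.not_two_dvd_nat, add_zero]
  obtain ⟨g, rfl⟩ := MulAction.exists_smul_eq G (Sylow.ofCard _ hr) P
  refine ⟨⟨(MulAut.conj g).toMonoidHom.comp f, (MulAut.conj g).injective.comp hf, ?_⟩⟩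
  rw [MonoidHom.range_comp]
  rfl

/-- the Sylow 2-subgroups of a group of type `G₂(q)` -/
theorem exists_emb {G : Type*} [Group G] [Finite G] [Fintype F] (hF : Odd (Fintype.card F)) (S : Sylow 2 G)
    (P : Sylow 2 ↥(Cfsg.Lie.chevG2.group F))
    (hS : Nonempty (↥(S : Subgroup G) ≃* ↥(P : Subgroup ↥(Cfsg.Lie.chevG2.group F)))) :
    ∃ n, 2 ≤ n ∧ Nonempty (Emb n S) := by
  have h2 : (2 : F) ≠ 0 := by
    refine Ring.two_ne_zero fun e => ?_
    have := FiniteField.even_card_of_char_two e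
    rw [Nat.odd_iff] at hF
    omega
  obtain ⟨D⟩ := nonempty_SO4 h2
  obtain ⟨n, m, hn, hm, hq, f, hf⟩ := D.exists_hom' hF
  have hc := Cfsg.Agent.S1059.result (F := F) rfl
  set q := Fintype.card F
  have h6 : q ^ 6 - 1 = (q ^ 2 - 1) * (q ^ 4 + q ^ 2 + 1) := by
    have h1 : ∀ k, 1 ≤ q ^ k := fun k => Nat.one_le_pow _ _ hF.pos
    zify [h1]; ring
  obtain ⟨E⟩ := exists_emb_of_card (m := q ^ 6 * m * m * (q ^ 4 + q ^ 2 + 1)) f hf
    (by rw [hc, h6, hq]; ring)
    (((hF.pow.mul hm).mul hm).mul ((hF.pow.add_odd hF.pow).add_one)) P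
  obtain ⟨e⟩ := hS
  let f' : W n →* P := E.f.codRestrict _ E.mem
  refine ⟨n, hn, ⟨⟨(S : Subgroup G).subtype.comp (e.symm.toMonoidHom.comp f'), ?_, ?_⟩⟩⟩
  · exact Subtype.val_injective.comp (e.symm.injective.comp fun a b h => E.inj (congrArg Subtype.val h))
  · apply le_antisymm
    · rintro _ ⟨x, rfl⟩; exact (e.symm (f' x)).2
    · intro y hy
      obtain ⟨x, hx⟩ := E.exists_eq (e ⟨y, hy⟩).2
      refine ⟨x, ?_⟩
      have : f' x = e ⟨y, hy⟩ := Subtype.ext hx
      simp [this]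

end H24.G2S
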