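import Mathlib
import Cfsg.Agent.H24.Gw0
import Cfsg.Agent.H19.AllRG
import Cfsg.Agent.H20.StApp
import Cfsg.Agent.H10.ChevCongr
import Cfsg.Agent.S1055
import Cfsg.Agent.S1059

/-! The frame in `G₂(4)`. -/

set_option autoImplicit false
set_option linter.unusedSectionVars false
set_option synthInstance.maxSize 4000

namespace H24.G4

open H26 H26.Gold Subgroup
open H9 (F4)
open H7.SJ (p2)
open H24.Sz (om f4_add_self)
open H20 Cfsg.Lie

theorem simple_nml {G : Type*} [Group G] (L : Subgroup G) [IsSimpleGroup L] (M : Subgroup G)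
    (hM : M ⊴ L) : M = ⊥ ∨ M = L :=
  hM.normal.eq_bot_or_eq_top.imp (fun k => (subgroupOf_eq_bot.1 k).eq_bot_of_le hM.le)
    fun k => le_antisymm hM.le (subgroupOf_eq_top.1 k)

theorem Dat.Fr.transfer {A G : Type*} [Group A] [Group G] [Finite A] [Finite G] {X : Dat A} (h : X.Fr)
    (L : Subgroup G) [IsSimpleGroup L] (e : X.L ≃* L) : ∃ Y : Dat G, Y.L = L ∧ Y.Fr := by
  let ψ : X.L →* G := L.subtype.comp e.toMonoidHom
  have m : ∀ a, ψ a ∈ L := fun a => (e a).2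
  have inj : Function.Injective ψ := Subtype.val_injective.comp e.injective
  have sj : ∀ l ∈ L, ∃ a, ψ a = l := fun l hl => ⟨e.symm ⟨l, hl⟩, by simp [ψ]⟩
  have t : ∀ {a b : X.L}, (a : A) = b → ψ a = ψ b := fun e => congrArg ψ (Subtype.ext e)
  have pb : ∀ (M : Subgroup G) (a : A) (ha : a ∈ X.L), a ∈ (M.comap ψ).map X.L.subtype ↔ ψ ⟨a, ha⟩ ∈ M :=
    fun M a ha => ⟨fun ⟨b, hb, e⟩ => by rw [← t (a := b) (b := ⟨a, ha⟩) e]; exact hb,
      fun k => ⟨⟨a, ha⟩, k, rfl⟩⟩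
  refine ⟨⟨L, fun x => ψ ⟨X.xa x, h.aL x⟩, fun x => ψ ⟨X.xb x, h.bL x⟩, fun x => ψ ⟨X.x1 x, h.x1L x⟩,
    fun x => ψ ⟨X.x2 x, h.x2L x⟩, fun x => ψ ⟨X.xc x, h.cL x⟩, fun x => ψ ⟨X.z x, h.zL x⟩,
    ψ ⟨X.h, h.hL⟩, ψ ⟨X.k, h.kL⟩, ψ ⟨X.wa, h.waL⟩, ψ ⟨X.wb, h.wbL⟩⟩, rfl, fun _ => m _, fun _ => m _,
    m _, m _, m _, m _, ?_, ?_, ?_, ?_, ?_, ?_, ?_, ?_, ?_,
    ?_, ?_, ?_, ?_, ?_, ?_, ?_, ?_, ?_, ?_, ?_, ?_, ?_, ?_, ?_, ?_, ?_, ?_, ?_, ?_, ?_, ?_, ?_, ?_,
    fun c e => h.z_inj c (congrArg Subtype.val (inj (e.trans (map_one ψ).symm))),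
    fun M h1 h2 h3 h4 l hl => ?_, (Nat.card_congr e.toEquiv).symm.trans h.card, fun l hl k => ?_,
    simple_nml L⟩
  iterate 33
    intros
    rw [← mul_inv_eq_one]
    simp only [← map_mul, ← map_inv, ← map_one ψ]
    refine t ?_
    simp only [coe_mul, coe_inv, coe_one, h.a_add, h.b_add, h.wa_b, h.wa_1, h.wa_z, h.wb_a,
      h.wb_2, h.wb_c, h.waa, h.wbb, h.bra, h.brb, h.ba, h.a1, h.a2, h.cb, h.ca, h.za, h.zb, h.c2, h.ha,
      h.hb, h.h1, h.hz, h.ka, h.kb, h.hhh, h.kkk, h.hk, h.wah, h.wak, h.wbh, h.wbk, mul_inv_cancel]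
  · obtain ⟨a, rfl⟩ := sj l hl
    exact (pb M a a.2).1 (h.gen _ (fun x => (pb _ _ _).2 (h1 x)) (fun x => (pb _ _ _).2 (h2 x))
      ((pb _ _ _).2 h3) ((pb _ _ _).2 h4) a.2)
  · obtain ⟨a, rfl⟩ := sj l hl
    simp only [← map_mul] at k
    exact (pb _ a a.2).1 (Dat.P_le (Dat.S_le (fun x => (pb _ _ _).2 (Dat.S_P (Dat.a_S x)))
      (Dat.Q_le (fun x => (pb _ _ _).2 (Dat.S_P (Dat.b_S x)))
        (Dat.Z3_le (fun x => (pb _ _ _).2 (Dat.S_P (Dat.x1_S x)))
          (fun x => (pb _ _ _).2 (Dat.S_P (Dat.x2_S x))) (fun x => (pb _ _ _).2 (Dat.S_P (Dat.c_S x)))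
          fun x => (pb _ _ _).2 (Dat.S_P (Dat.z_S x))))) ((pb _ _ _).2 Dat.k_P) ((pb _ _ _).2 Dat.wa_P)
      (h.cz a a.2 (congrArg Subtype.val (inj k))))

/-- root indices. -/
def ix (n : Fin 12) : Fin chevG2.nroots := n
/-- simple root indices. -/
def si (n : Fin 2) : Fin chevG2.rank := n
/-- `ω` as a unit. -/
def omU : F4ˣ := ⟨om, om * om, by decide, by decide⟩

theorem fr_rg {A : Type*} [Group A] [Finite A] (X : RG goodG2.rs F4 A) (Y : Rel chevG2 F4 A)
    (eq : X.toWRG = Y.toWRG goodG2) [IsSimpleGroup X.grp] (hc : ♯X.grp = 251596800) :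
    (⟨X.grp, X.x (ix 7), X.x (ix 6), X.x (ix 8), X.x (ix 9), X.x (ix 10), X.x (ix 11),
      X.h (ix 11) (om * om), X.h (ix 7) om, X.n (ix 7) 1, X.n (ix 6) 1⟩ : Dat A).Fr := by
  have ng : ∀ t : F4, -t = t := by decide
  have xi : ∀ r t, (X.x r t)⁻¹ = X.x r t := fun r t => by rw [X.x_inv, ng]
  have xx : ∀ r t, X.x r t * X.x r t = 1 := fun r t => by rw [← X.x_add, f4_add_self, X.x_zero]
  have ni : ∀ r, (X.n r 1)⁻¹ = X.n r 1 := fun r => by rw [X.n_inv, ng]
  have nn : ∀ r, X.n r 1 * X.n r 1 = 1 := fun r => by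
    conv_lhs => lhs; rw [← ni]
    rw [inv_mul_cancel]
  have cn : ∀ r s u, X.n r 1 * X.x s u * (X.n r 1)⁻¹ = X.x (goodG2.rs.rf r s) u := fun r s u => by
    rw [X.conj_n r s 1 u one_ne_zero, (by decide : ∀ a : F4, a * a = 1 → a = 1) _ (X.η_sq r s), one_zpow,
      one_mul, one_mul]
  have r0 : goodG2.rs.rf (ix 7) = goodG2.rs.s (si 0) := goodG2.rs.rf_sim (si 0)
  have r1 : goodG2.rs.rf (ix 6) = goodG2.rs.s (si 1) := goodG2.rs.rf_sim (si 1)
  have ca : ∀ s s' u, goodG2.rs.sr (si 0) (ix s) = ix s' →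
      X.n (ix 7) 1 * X.x (ix s) u * (X.n (ix 7) 1)⁻¹ = X.x (ix s') u := fun s s' u e => by
    rw [cn, r0, RS.s_apply, e]
  have cb : ∀ s s' u, goodG2.rs.sr (si 1) (ix s) = ix s' →
      X.n (ix 6) 1 * X.x (ix s) u * (X.n (ix 6) 1)⁻¹ = X.x (ix s') u := fun s s' u e => by
    rw [cn, r1, RS.s_apply, e]
  have br : ∀ r, X.n r 1 * X.x r 1 * X.n r 1 = X.x r 1 * X.n r 1 * X.x r 1 := fun r => by
    conv_lhs => rhs; rw [← ni]
    rw [cn, RS.rf_self, WRG.n, ← mul_assoc, ← mul_assoc, xx, one_mul, mul_assoc, xx, mul_one, inv_one, ng]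
  have cm : ∀ (r s : Fin 12) (l : List (Fin 12 × ℤ × ℕ × ℕ)), s ≠ r → (s : ℕ) ≠ chevG2.neg r →
      chevG2.commTerms r s = l.map (fun c => (c.1.1, c.2)) → ∀ t u, X.x (ix s) u * X.x (ix r) t =
        X.x (ix r) t * X.x (ix s) u *
          (l.map fun c => X.x (ix c.1) (c.2.1 * t ^ c.2.2.1 * u ^ c.2.2.2)).prod := fun r s l h1 h2 e t u => by
    have := Y.comm r s r.2 s.2 (fun k => h1 (Fin.ext k)) h2 t u
    rw [ChevalleyDatum.commWord, e, ng] at this
    simp only [List.map_map] at this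
    rw [eq]
    exact this
  have c0 : ∀ (r s : Fin 12), s ≠ r → (s : ℕ) ≠ chevG2.neg r → chevG2.commTerms r s = [] →
      ∀ t u, X.x (ix s) u * X.x (ix r) t = X.x (ix r) t * X.x (ix s) u := fun r s h1 h2 e t u => by
    simpa using cm r s [] h1 h2 e t u
  have hx : ∀ (r s : Fin 12) (t c : F4) (a : ℤ), t ≠ 0 → goodG2.rs.A (ix r) (ix s) = a → t ^ a = c → ∀ u,
      X.h (ix r) t * X.x (ix s) u * (X.h (ix r) t)⁻¹ = X.x (ix s) (c * u) := fun r s t c a ht e1 e2 u => by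
    rw [X.h_conj_x _ _ ht, e1, e2]
  have o1 : om ≠ 0 := by decide
  have o2 : om * om ≠ 0 := by decide
  have hm : ∀ r, X.h r om = X.hmap fun i => omU ^ goodG2.rs.co r i := fun r => X.h_eq_hmap r omU
  have hm2 : ∀ r, X.h r (om * om) = X.hmap fun i => (omU * omU) ^ goodG2.rs.co r i := fun r =>
    X.h_eq_hmap r (omU * omU)
  have i1 : ((1 : ℤ) : F4) = 1 := by decide
  have i2 : ((-1 : ℤ) : F4) = 1 := by decide
  have i3 : ((3 : ℤ) : F4) = 1 := by decide
  have i4 : ((-2 : ℤ) : F4) = 0 := by decide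
  have i5 : ((-3 : ℤ) : F4) = 1 := by decide
  have hi : ∀ i, i = si 0 ∨ i = si 1 := by decide
  have an := fun r => X.acts_n r (t := 1) one_ne_zero
  refine ⟨fun _ => X.x_mem_grp _ _, fun _ => X.x_mem_grp _ _, X.H_le_grp (X.h_mem_H _ o2),
    X.H_le_grp (X.h_mem_H _ o1), X.N_le_grp (X.n_mem_N _ one_ne_zero), X.N_le_grp (X.n_mem_N _ one_ne_zero),
    X.x_add _, X.x_add _, fun _ => ca 6 10 _ (by decide), fun _ => ca 8 9 _ (by decide),
    fun _ => ca 11 11 _ (by decide), fun _ => cb 7 8 _ (by decide), fun _ => cb 9 9 _ (by decide),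
    fun _ => cb 10 11 _ (by decide), nn _, nn _, br _, br _, fun u r => ?_, fun r y => ?_, fun r y => ?_,
    fun u y => ?_, c0 7 10 (by decide) (by decide) (by decide), c0 7 11 (by decide) (by decide) (by decide),
    c0 6 11 (by decide) (by decide) (by decide), c0 9 10 (by decide) (by decide) (by decide),
    fun x => (hx 11 7 _ 1 0 o2 (by decide) (zpow_zero _) x).trans (by rw [one_mul]),
    hx 11 6 _ _ 1 o2 (by decide) (zpow_one _), hx 11 8 _ _ 1 o2 (by decide) (zpow_one _),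
    hx 11 11 _ _ 2 o2 (by decide) (by rw [zpow_two]; decide),
    hx 7 7 _ _ 2 o1 (by decide) (zpow_two _),
    fun x => (hx 7 6 _ 1 (-3) o1 (by decide) ?_ x).trans (by rw [one_mul]),
    ?_, ?_, X.h_comm _ _ o2 o1, ?_, ?_, ?_, ?_, fun c e => X.x_eq_one e,
    fun M h1 h2 h3 h4 => X.grp_le_of (fun i => ?_) fun i => ?_, hc, fun l hl e => ?_, simple_nml _⟩
  · have := cm 6 7 [(8, 1, 1, 1), (9, 1, 1, 2), (10, -1, 1, 3), (11, -2, 2, 3)] (by decide) (by decide)
      (by decide) u r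
    simp only [List.map_cons, List.map_nil, List.prod_cons, List.prod_nil, i1, i2, i4, one_mul, zero_mul,
      X.x_zero, mul_one] at this
    dsimp only
    rw [xi, mul_assoc, this]
    simp only [← mul_assoc]
    rw [xx, one_mul]
    congr 1
    · congr 1
      · congr 2; ring
      · congr 1; ring
    · congr 1; ring
  · have := cm 7 8 [(9, -2, 1, 1), (10, -3, 2, 1), (11, 3, 1, 2)] (by decide) (by decide) (by decide) r y
    simp only [List.map_cons, List.map_nil, List.prod_cons, List.prod_nil, i3, i5, i4, one_mul, zero_mul,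
      X.x_zero, mul_one] at this
    dsimp only
    rw [xi, mul_assoc, this]
    simp only [← mul_assoc]
    rw [xx, one_mul]
    congr 2
    · congr 1; ring
    · ring
  · have := cm 7 9 [(10, 3, 1, 1)] (by decide) (by decide) (by decide) r y
    simp only [List.map_cons, List.map_nil, List.prod_cons, List.prod_nil, i3, one_mul, mul_one,
      pow_one] at this
    dsimp only
    rw [xi, mul_assoc, this]
    simp only [← mul_assoc]
    rw [xx, one_mul]
  · have := cm 6 10 [(11, 1, 1, 1)] (by decide) (by decide) (by decide) u y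
    simp only [List.map_cons, List.map_nil, List.prod_cons, List.prod_nil, i1, one_mul, mul_one,
      pow_one] at this
    dsimp only
    rw [this, mul_comm u]
  · rw [zpow_neg, inv_eq_one, show (3 : ℤ) = (3 : ℕ) from rfl, zpow_natCast]; decide
  · rw [X.h_mul _ _ _ o2 o2, X.h_mul _ _ _ (by decide) o2, ← X.h_one (ix 11)]; rfl
  · rw [X.h_mul _ _ _ o1 o1, X.h_mul _ _ _ (by decide) o1, ← X.h_one (ix 7)]; rfl
  · rw [SRG.Acts_conj_h (an _) _ o2, r0]; rfl
  · rw [SRG.Acts_conj_h (an _) _ o1, RS.rf_self, X.h_neg _ o1, X.h_inv _ o1]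
  · rw [SRG.Acts_conj_h (an _) _ o2, r1, hm2, hm2, hm, ← map_inv, ← map_mul]
    exact congrArg _ (by decide +kernel)
  · rw [SRG.Acts_conj_h (an _) _ o1, r1, hm, hm]
    exact congrArg _ (by decide +kernel)
  · rcases hi i with rfl | rfl
    exacts [h1, h2]
  · rcases hi i with rfl | rfl
    exacts [h3, h4]
  · set D : Dat A := ⟨X.grp, X.x (ix 7), X.x (ix 6), X.x (ix 8), X.x (ix 9), X.x (ix 10), X.x (ix 11),
      X.h (ix 11) (om * om), X.h (ix 7) om, X.n (ix 7) 1, X.n (ix 6) 1⟩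
    have hU : X.U ≤ D.P ⊓ C{X.x (ix 11) 1} := X.XS_le_iff.2 fun r hr t => by
      have : ∀ r, goodG2.rs.Pos r → r ∈ [ix 6, ix 7, ix 8, ix 9, ix 10, ix 11] := by
        simp only [RS.Pos, Pi.le_def]; decide
      have := this r hr
      simp only [List.mem_cons, List.not_mem_nil, or_false] at this
      rcases this with rfl | rfl | rfl | rfl | rfl | rfl <;> refine ⟨?_, mem_C1.2 ?_⟩
      exacts [Dat.S_P (Dat.b_S (X := D) t), c0 11 6 (by decide) (by decide) (by decide) _ _,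
        Dat.S_P (Dat.a_S (X := D) t), c0 11 7 (by decide) (by decide) (by decide) _ _,
        Dat.S_P (Dat.x1_S (X := D) t), c0 11 8 (by decide) (by decide) (by decide) _ _,
        Dat.S_P (Dat.x2_S (X := D) t), c0 11 9 (by decide) (by decide) (by decide) _ _,
        Dat.S_P (Dat.c_S (X := D) t), c0 11 10 (by decide) (by decide) (by decide) _ _,
        Dat.S_P (Dat.z_S (X := D) t), by rw [← X.x_add, add_comm, X.x_add]]
    obtain ⟨w, a, ha, n, hn, b, hb, hw, rfl⟩ := SRG.exists_bruhat hl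
    replace ha := hU ha
    replace hb := hU (SRG.XS_inv_le_U w hb)
    have hnz : n ∈ C{X.x (ix 11) 1} := by
      simpa [mul_assoc] using mul_mem (mul_mem (inv_mem (mem_inf.1 ha).2) (mem_C1.2 e)) (inv_mem (mem_inf.1 hb).2)
    refine mul_mem (mul_mem ha.1 ?_) hb.1
    obtain ⟨c, -, hc⟩ := hw.conj_x (ix 11)
    have w11 : ix 11 = w (ix 11) := X.root_eq_of_x_eq one_ne_zero
      (by rw [← hc 1, mem_C1.1 hnz, mul_inv_cancel_right])
    have hJ : w ∈ goodG2.rs.WJ {si 0} := RS.mem_WJ_of_inv_subset hw.mem fun r hr => by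
      have k1 : ∀ r, goodG2.rs.Pos r → goodG2.rs.rt r (si 1) = 0 ∨ 0 < goodG2.rs.A (ix 11) r := by
        simp only [RS.Pos, Pi.le_def]; decide
      have k2 : ∀ r, 0 < goodG2.rs.A (ix 11) r → goodG2.rs.Pos r := by
        simp only [RS.Pos, Pi.le_def]; decide
      rw [RS.mem_inv] at hr
      intro i hi'
      rcases hi i with rfl | rfl
      · exact absurd rfl hi'
      · refine (k1 r hr.1).resolve_right fun k => hr.2 (k2 _ ?_)
        rwa [w11, RS.W_A hw.mem]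
    obtain ⟨l, hl', rfl⟩ := goodG2.rs.mem_WJ_iff.1 hJ
    have hnw : X.nw l ∈ D.P ⊓ C{X.x (ix 11) 1} := by
      clear hw hc w11 hJ hb
      induction l with
      | nil => exact one_mem _
      | cons i l ih =>
        rw [SRG.nw_cons, show i = si 0 from hl' i (by simp)]
        exact mul_mem ⟨Dat.wa_P (X := D), mem_C1.2 (mul_inv_eq_iff_eq_mul.1 (ca 11 11 1 (by decide)))⟩
          (ih fun j hj => hl' j (by simp [hj]))
    obtain ⟨d, hd⟩ := X.mem_H_iff.1 (X.inv_mul_mem_H (X.nw_mem_N l) hn (X.acts_nw l) hw)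
    have h1 := (X.actsBy_hmap d).conj (ix 11) 1
    rw [hd, mem_C1.1 (mul_mem (inv_mem (mem_inf.1 hnw).2) hnz), mul_inv_cancel_right, mul_one] at h1
    replace h1 := X.x_injective _ h1
    have k3 : ∀ a : F4ˣ, ∃ j : Fin 3, (a : F4) = om ^ j.1 := fun a =>
      (by decide : ∀ a : F4, a ≠ 0 → ∃ j : Fin 3, a = om ^ j.1) _ a.ne_zero
    obtain ⟨j, hj⟩ := k3 (d (si 0))
    have h2 : goodG2.rs.chi (ix 11) d = d (si 1) := by
      rw [RS.chi_apply, Finset.prod_eq_single (si 1) (fun i _ k => ?_) (by simp),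
        show goodG2.rs.ca (si 1) (ix 11) = 1 by decide, zpow_one]
      rw [(hi i).resolve_right k, show goodG2.rs.ca (si 0) (ix 11) = 0 by decide, zpow_zero]
    obtain rfl : d = (fun i => omU ^ goodG2.rs.co (ix 7) i) ^ j.1 := funext fun i => Units.ext (by
      rcases hi i with rfl | rfl
      · rw [hj, Pi.pow_apply, show goodG2.rs.co (ix 7) (si 0) = 1 by decide, zpow_one]; rfl
      · rw [← h2, ← h1, Pi.pow_apply, show goodG2.rs.co (ix 7) (si 1) = 0 by decide, zpow_zero, one_pow]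
        rfl)
    rw [← mul_inv_cancel_left (X.nw l) n, ← hd, map_pow, ← hm]
    exact mul_mem hnw.1 (pow_mem (Dat.k_P (X := D)) _)

theorem exists_fr {G : Type*} [Group G] [Finite G] (L : Subgroup G) {F : Type*} [Field F] [Fintype F]
    (hF : Fintype.card F = 4) (e : L ≃* Cfsg.Lie.chevG2.group F) :
    ∃ X : Dat G, X.L = L ∧ X.Fr := by
  obtain ⟨M⟩ := H19.exists_matRG (by simp) goodG2 F4
  obtain ⟨f⟩ := H10.chevCongr_card chevG2 (hF.trans F4.card.symm)
  have s := (Cfsg.Agent.S1055.result (F := F4) ⟨om, by decide, by decide⟩).1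
  have c := Cfsg.Agent.S1059.result F4.card
  have := (e.trans f).isSimpleGroup
  rw [M.isMat.grp_eq] at s c f
  exact (fr_rg M.X M.Y M.eq (by simpa using c)).transfer L (e.trans f).symm

end H24.G4
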