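import Mathlib
import Cfsg.Agent.H24.Gw2
import Cfsg.Agent.H24.GwB
import Cfsg.Agent.S1173
import Cfsg.Agent.H15.GC3

/-! The tight embedding of `K`. -/

set_option autoImplicit false
set_option linter.unusedSectionVars false
set_option synthInstance.maxSize 4000

namespace H24.G4

open H26 H26.Gold Subgroup
open H9 (F4)
open H7.SJ (p2)
open H24.Sz (om f4_add_self)

theorem Dat.St.exists_S2 {G : Type*} [Group G] [Finite G] {X : Dat G} (h : X.St)
    (hO : Cfsg.oddCore G = ⊥) (hN : N[X.L] ≠ ⊤) :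
    ∃ Y : Dx G, Y.S2 ∧ ∃ g, Y.L = H24.cj g X.L := H15.GC.main h hO hN

end H24.G4
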