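import Mathlib
import Cfsg.Agent.H24.Gw2
import Cfsg.Agent.H24.GwB
import Cfsg.Agent.H14.SuD2

/-! The translations. -/

set_option autoImplicit false
set_option linter.unusedSectionVars false
set_option synthInstance.maxSize 4000

namespace H24.G4

open H26 H26.Gold Subgroup Dat Dx
open H9 (F4)
open H7.SJ (p2)
open H24.Sz (om f4_add_self)
open H14.SuD (orb1 orb2 bi odd_one sq_mul sw sw3 cj3)

variable {G : Type*} [Group G] [Finite G] {X : Dx G} {g k e n : G} {x y c x' c' s s' κ γ : F4}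

theorem Dat.b_P {X : Dat G} (y : F4) : X.xb y ∈ X.P := S_P (b_S y)
theorem Dat.zP {X : Dat G} (y : F4) : X.z y ∈ X.P := S_P (z_S y)

theorem Dat.Fr.mul_A {X : Dat G} (h : X.Fr) (x c x' c' : F4) :
    X.xc x * X.z c * (X.xc x' * X.z c') = X.xc (x + x') * X.z (c + c') := by
  rw [h.c_add, h.z_add, mul_assoc, sw (h.zc _ _)]; simp only [mul_assoc]

theorem Dat.Fr.a_mem_Z {X : Dat G} (h : X.Fr) (e : X.xc x * X.z c ∈ X.Z) : x = 0 := by
  have := h.q_mem_Z (v := (0, 0, 0, x)) (c := c) (by rwa [h.qc])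
  exact congrArg (·.2.2.2) this

theorem Dat.Fr.R_L {X : Dat G} (h : X.Fr) : X.R ≤ X.L := R_S.trans h.S_L
theorem Dat.Fr.Z2_L {X : Dat G} (h : X.Fr) : X.Z2 ≤ X.L := Z2_S.trans h.S_L

namespace Dx.S1

variable (h : X.S1)
include h

theorem L_CT : X.L ≤ C[X.T] := cents_symm h.sylT.le

theorem eaE : EA (X.T ⊔ X.Z2) := by
  have hc : X.Z2 ≤ C[X.T] := h.Z2_L.trans h.L_CT
  refine ea_of_sq fun u hu => ?_
  obtain ⟨a, ha, b, hb, rfl⟩ := (mem_sup_of_norm (norm_of_cent hc)).1 hu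
  rw [mul_assoc, ← mul_assoc b, comm_of_cent hc hb ha, mul_assoc, h.eaZ2.sq hb, mul_one, h.eaT.sq ha]

theorem mem_E : e ∈ X.T ⊔ X.Z2 ↔ ∃ s ∈ X.Λ, ∃ m n, e = X.r s * X.xc m * X.z n := by
  refine ⟨fun he => ?_, fun ⟨s, hs, m, n, e⟩ => e ▸ mul_mem (mul_mem (mem_sup_left (r_T hs))
    (mem_sup_right (c_Z2 m))) (mem_sup_right (z_Z2 n))⟩
  obtain ⟨a, ha, b, hb, rfl⟩ := (mem_sup_of_norm (norm_of_cent (h.Z2_L.trans h.L_CT))).1 he
  obtain ⟨s, hs, rfl⟩ := h.mem_T.1 ha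
  obtain ⟨m, n, rfl⟩ := h.mem_Z2.1 hb
  exact ⟨s, hs, m, n, (mul_assoc _ _ _).symm⟩

theorem CT_N (h2 : g ∈ C[X.T]) : g ∈ N[X.L] :=
  h.C_r h.one one_ne_zero (mem_C1_iff_conj.2 (conj_eq_of_mem_C h2 (r_T h.one)))

theorem CE (h1 : g ∈ C[X.R]) (h2 : g ∈ C[X.T]) : ∃ e ∈ X.T ⊔ X.Z2, ∃ o ∈ X.O, g = e * o := by
  obtain ⟨x, hx, m, hm, o, ho, e⟩ := h.CX h.Z2_L (h.cent_R (h.CT_N h2) h1) h2
  exact ⟨_, mul_mem (mem_sup_left (r_T hx)) (mem_sup_right hm), o, ho, e⟩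

theorem CP (h1 : g ∈ C[X.P]) (h2 : g ∈ C[X.T]) : ∃ e ∈ X.T ⊔ X.Z, ∃ o ∈ X.O, g = e * o := by
  obtain ⟨x, hx, m, hm, o, ho, e⟩ := h.CX (Z_S.trans h.S_L) (h.cent_P (h.CT_N h2) h1) h2
  exact ⟨_, mul_mem (mem_sup_left (r_T hx)) (mem_sup_right hm), o, ho, e⟩

end Dx.S1

namespace TD

/-- `g` translates `R` by the vector `(x, c)`. -/
structure Act (X : Dx G) (g : G) (x c : F4) : Prop where
  cR : g ∈ C[X.R]
  cO : g ∈ C[X.O]
  tr : ∀ y ∈ X.Λ, g * X.r y * g⁻¹ = X.r y * (X.xc (y * x) * X.z (y * c))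

/-- `g` is a `2`-element that translates `R` by the vector `(x, c)`. -/
structure Qa (X : Dx G) (g : G) (x c : F4) : Prop extends Act X g x c where
  sq : g * g ∈ X.T ⊔ X.Z2

theorem Act.cA (p : Act X g x c) : g ∈ C[X.Z2] := C_anti Z2_R p.cR

theorem az_A (X : Dx G) (x c : F4) : X.xc x * X.z c ∈ X.Z2 := mul_mem (c_Z2 x) (z_Z2 c)

section
variable (h : X.S1)
include h

theorem L_CO : X.L ≤ C[X.O] := cents_symm O_K
theorem L_CR : X.L ≤ C[X.T] := cents_symm h.sylT.le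
theorem A_L : X.Z2 ≤ X.L := Z2_S.trans h.S_L
theorem E_CO : X.T ⊔ X.Z2 ≤ C[X.O] := sup_le (cents_symm O_T) ((A_L h).trans (L_CO h))
theorem E_CA : X.T ⊔ X.Z2 ≤ C[X.Z2] := h.eaE.le_C.trans (C_anti le_sup_right)

theorem Act.mul (p : Act X g x c) (q : Act X k x' c') : Act X (g * k) (x + x') (c + c') :=
  ⟨mul_mem p.cR q.cR, mul_mem p.cO q.cO, fun y hy => by
    rw [show g * k * X.r y * (g * k)⁻¹ = g * (k * X.r y * k⁻¹) * g⁻¹ by group, q.tr y hy, ← conj_mul,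
      p.tr y hy, conj_eq_of_mem_C p.cA (az_A X _ _), mul_assoc, h.mul_A, mul_add, mul_add]⟩

theorem Act.inv (p : Act X g x c) : Act X g⁻¹ x c :=
  ⟨inv_mem p.cR, inv_mem p.cO, fun y hy => by
    have e := az_A X (y * x) (y * c)
    have : g * (X.r y * (X.xc (y * x) * X.z (y * c))) * g⁻¹ = X.r y := by
      rw [← conj_mul, p.tr y hy, conj_eq_of_mem_C p.cA e, mul_assoc, h.eaZ2.sq e, mul_one]
    conv_lhs => rw [← this]
    group⟩

theorem act_E (he : e ∈ X.T ⊔ X.Z2) : Act X e 0 0 :=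
  ⟨sup_le (h.sylT.le.trans (C_anti h.R_L)) (cents_symm h.R_CZ2) he, E_CO h he, fun y hy => by
    rw [mul_zero, h.c0, h.z0, mul_one, mul_one,
      conj_eq_of_mem_C (h.eaE.le_C he) (mem_sup_left (r_T hy))]⟩

theorem Act.rA (p : Act X g x c) (he : e ∈ X.T ⊔ X.Z2) : g * e * g⁻¹ * e ∈ X.Z2 := by
  obtain ⟨s, hs, m, n, rfl⟩ := h.mem_E.1 he
  have e := az_A X m n
  have k := comm_of_cent ((A_L h).trans (L_CR h)) (mul_mem (az_A X (s * x) (s * c)) e) (r_T hs)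
  rw [mul_assoc (X.r s), ← conj_mul, p.tr s hs, conj_eq_of_mem_C p.cA e, mul_assoc (X.r s),
    mul_assoc (X.r s), ← mul_assoc _ (X.r s), k, mul_assoc (X.r s), ← mul_assoc (X.r s), h.rr hs,
    one_mul]
  exact mul_mem (mul_mem (az_A X _ _) e) e

theorem Act.NE (p : Act X g x c) : g ∈ N[X.T ⊔ X.Z2] := mem_N_of_finite fun _ he =>
  (mul_mem_cancel_right he).1 (mem_sup_right (p.rA h he))

theorem Act.ker (p : Act X g 0 0) : ∃ e ∈ X.T ⊔ X.Z2, ∃ o ∈ X.O, g = e * o :=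
  h.CE p.cR (mem_C'.2 fun u hu => by
    obtain ⟨y, hy, rfl⟩ := h.mem_T.1 hu
    have := p.tr y hy
    rwa [mul_zero, h.c0, h.z0, mul_one, mul_one, mul_inv_eq_iff_eq_mul] at this)

theorem Qa.ker (p : Qa X g 0 0) : g ∈ X.T ⊔ X.Z2 := by
  obtain ⟨e, he, o, ho, rfl⟩ := p.toAct.ker h
  have := p.sq
  rw [mul_assoc, ← mul_assoc o, ← comm_of_cent (E_CO h) he ho, mul_assoc, ← mul_assoc,
    h.eaE.sq he, one_mul] at this
  rwa [odd_one h.eaE O_odd ho this, mul_one]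

theorem Qa.mul (p : Qa X g x c) (q : Qa X k x' c') : Qa X (g * k) (x + x') (c + c') := by
  have m := p.toAct.mul h q.toAct
  have m2 := m.mul h m
  rw [f4_add_self, f4_add_self] at m2
  obtain ⟨e, he, o, ho, e1⟩ := m2.ker h
  exact ⟨m, sq_mul h.eaE O_odd (E_CO h) (p.NE h) (q.NE h) p.cO p.sq q.sq he ho e1⟩

theorem Qa.inv (p : Qa X g x c) : Qa X g⁻¹ x c :=
  ⟨p.toAct.inv h, by rw [← mul_inv_rev]; exact inv_mem p.sq⟩

theorem qa_E (he : e ∈ X.T ⊔ X.Z2) : Qa X e 0 0 := ⟨act_E h he, mul_mem he he⟩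

theorem Qa.eq (p : Qa X g x c) (q : Qa X k x c) : ∃ e ∈ X.T ⊔ X.Z2, k = g * e := by
  have := (p.inv h).mul h q
  rw [f4_add_self, f4_add_self] at this
  exact ⟨_, this.ker h, (mul_inv_cancel_left _ _).symm⟩

theorem NE_of (n1 : n ∈ X.L) (n2 : n ∈ N[X.Z2]) : n ∈ N[X.T ⊔ X.Z2] :=
  norm_sup (X := X.L ⊓ N[X.Z2]) (norm_of_cent (inf_le_left.trans (L_CR h))) inf_le_right ⟨n1, n2⟩

theorem Qa.cj (p : Qa X g x c) (n1 : n ∈ X.L) (n2 : n ∈ N[X.Z2]) (n4 : n ∈ N[X.R])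
    (n3 : ∀ y, n * (X.xc (y * x) * X.z (y * c)) * n⁻¹ = X.xc (y * x') * X.z (y * c')) :
    Qa X (n * g * n⁻¹) x' c' :=
  ⟨⟨conj_mem (N_le_NC _ n4) p.cR, conj_mem (norm_self _ (L_CO h n1)) p.cO, fun y hy => by
    have e := conj_eq_of_mem_C (L_CR h n1) (r_T hy)
    calc _ = n * g * n⁻¹ * (n * X.r y * n⁻¹) * (n * g * n⁻¹)⁻¹ := by rw [e]
      _ = n * (g * X.r y * g⁻¹) * n⁻¹ := by group
      _ = _ := by rw [p.tr y hy, ← conj_mul, e, n3]⟩, by rw [conj_mul]; exact conj_mem (NE_of h n1 n2) p.sq⟩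

theorem h_az (x c : F4) : X.h * (X.xc x * X.z c) * X.h⁻¹ = X.xc (om * om * x) * X.z (om * c) := by
  rw [← conj_mul, h.hc, h.hz]
theorem w_az (x c : F4) : X.wb * (X.xc x * X.z c) * X.wb⁻¹ = X.xc c * X.z x := by
  rw [← conj_mul, h.wb_c, h.wb_z, h.zc]
theorem b_az (y x c : F4) : X.xb y * (X.xc x * X.z c) * (X.xb y)⁻¹ = X.xc x * X.z (x * y + c) := by
  exact h.b_c y x c

theorem h_NA : X.h ∈ N[X.Z2] := h.h_NZ2
theorem w_NA : X.wb ∈ N[X.Z2] := h.wb_NZ2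
theorem b_NA (y : F4) : X.xb y ∈ N[X.Z2] := h.S_NZ2 (b_S y)

theorem Qa.cjh (p : Qa X g x c) : Qa X (X.h * g * X.h⁻¹) (om * om * x) (om * c) :=
  p.cj h h.hL (h_NA h) h.h_NR fun y => by rw [h_az h, mul_left_comm, mul_left_comm om y]
theorem Qa.cjw (p : Qa X g x c) : Qa X (X.wb * g * X.wb⁻¹) c x :=
  p.cj h h.wbL (w_NA h) h.wb_NR fun _ => w_az h _ _
theorem Qa.cjb (p : Qa X g x c) (y : F4) : Qa X (X.xb y * g * (X.xb y)⁻¹) x (x * y + c) :=
  p.cj h (h.bL y) (b_NA h y) (h.S_NR (b_S y)) fun _ => by rw [b_az h, mul_add, mul_assoc]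

theorem mem_TZ (he : e ∈ X.T ⊔ X.Z2) (hS : e ∈ C[X.P]) : ∃ s ∈ X.Λ, ∃ c, e = X.r s * X.z c := by
  obtain ⟨s, hs, m, c, rfl⟩ := h.mem_E.1 he
  have k := conj_eq_of_mem_C (cents_symm (le_refl C[X.P]) (b_P 1)) hS
  rw [mul_assoc (X.r s), ← conj_mul, b_az h, conj_eq_of_mem_C (L_CR h (h.bL 1)) (r_T hs)] at k
  have := (h.inj_Z2 (mul_left_cancel k)).2
  rw [mul_one, add_eq_right] at this
  exact ⟨s, hs, c, by rw [this, h.c0, mul_one]⟩

end

/-- the elements `d x` before their relations are known. -/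
structure D0 (X : Dx G) : Prop extends X.S1 where
  d0 : X.d 0 = 1
  dP : ∀ x, X.d x ∈ C[X.P]
  hd : ∀ x, X.h * X.d x * X.h⁻¹ = X.d (om * x)
  dr : ∀ x, ∀ y ∈ X.Λ, X.d x * X.r y * (X.d x)⁻¹ = X.r y * X.z (y * x)
  dO : ∀ x, X.d x ∈ C[X.O]
  sq : ∀ x, X.d x * X.d x ∈ X.T ⊔ X.Z
  d3 : X.d 1 * X.d om * X.d (om * om) = 1

theorem exists_d (h : X.S2) : ∃ d, D0 { X with d := d } := by
  have h1 := h.toS1
  obtain ⟨g, g1, g2⟩ := h.d1
  have hS := N_le_NC _ h.h_NP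
  have hr : ∀ y ∈ X.Λ, X.h * X.r y * X.h⁻¹ = X.r y := fun y hy =>
    conj_eq_of_mem_C (L_CR h1 h.hL) (r_T hy)
  have gi : ∀ y ∈ X.Λ, g⁻¹ * X.r y * g = X.r y * X.z y := fun y hy => by
    have : g * (X.r y * X.z y) * g⁻¹ = X.r y := by
      rw [← conj_mul, g2 y hy, conj_eq_of_mem_C g1 (zP y), mul_assoc, h.zz, mul_one]
    conv_lhs => rw [← this]
    group
  have gO : g ∈ N[X.O] := mem_N_of_finite fun o ho => by
    have oS : o ∈ C[X.P] := C_anti h.P_L (O_K ho)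
    obtain ⟨e, he, o', ho', e1⟩ := h1.CP (conj_mem (norm_self _ g1) oS) (mem_C'.2 fun u hu => by
      obtain ⟨y, hy, rfl⟩ := h1.mem_T.1 hu
      have : o * (g⁻¹ * X.r y * g) = g⁻¹ * X.r y * g * o := by
        rw [gi y hy, ← mul_assoc, mem_C'.1 (O_T ho) _ (r_T hy), mul_assoc,
          mem_C'.1 oS _ (zP y), mul_assoc]
      calc _ = g * (o * (g⁻¹ * X.r y * g)) * g⁻¹ := by group
        _ = _ := by rw [this]; group)
    have he' := sup_le_sup_left Z_Z2 _ he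
    refine H7.SJ.mem_of_odd ((O_odd.piElt ho).conj g) ?_
    rw [e1, mul_assoc, ← mul_assoc o', ← comm_of_cent (E_CO h1) he' ho', mul_assoc, ← mul_assoc,
      h1.eaE.sq he', one_mul]
    exact mul_mem ho' ho'
  have a1 : Act X (g * X.h * g⁻¹ * X.h⁻¹) 0 (om * om) :=
    ⟨C_anti (R_S.trans S_P) (by
      rw [mul_assoc g, mul_assoc g]; exact mul_mem g1 (conj_mem hS (inv_mem g1))),
    mul_mem (conj_mem (N_le_NC _ gO) (L_CO h1 h.hL)) (inv_mem (L_CO h1 h.hL)), fun y hy => by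
      calc _ = g * (X.h * (g⁻¹ * (X.h⁻¹ * (X.h * X.r y * X.h⁻¹) * X.h) * g) * X.h⁻¹) * g⁻¹ := by
            rw [hr y hy]; group
        _ = g * (X.h * (g⁻¹ * X.r y * g) * X.h⁻¹) * g⁻¹ := by group
        _ = _ := by
          rw [gi y hy, ← conj_mul (b := X.h), hr y hy, h.hz, ← conj_mul, g2 y hy,
            conj_eq_of_mem_C g1 (zP _), mul_zero, h.c0, one_mul, mul_assoc, ← h.z_add,
            (by decide : ∀ y : F4, y + om * y = y * (om * om))]⟩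
  have s1 : g * X.h * g⁻¹ * X.h⁻¹ ∈ C[X.P] := by
    rw [mul_assoc g, mul_assoc g]; exact mul_mem g1 (conj_mem hS (inv_mem g1))
  generalize g * X.h * g⁻¹ * X.h⁻¹ = k at a1 s1
  obtain ⟨j, hj⟩ := oddG_iff.1 (O_odd (X := X))
  have m2 := a1.mul h1 a1
  rw [f4_add_self, f4_add_self] at m2
  have pw : ∀ i : ℕ, Act X (k * (k * k) ^ i) 0 (om * om) := fun i => by
    induction i with
    | zero => simpa using a1
    | succ i ih => simpa [pow_succ, mul_assoc] using ih.mul h1 m2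
  obtain ⟨e, he, o, ho, e1⟩ := m2.ker h1
  have q1 : Qa X (k * (k * k) ^ j) 0 (om * om) := ⟨pw j, by
    rw [← sq k, ← pow_mul, ← pow_succ', ← hj, ← sq, ← pow_mul, mul_comm, pow_mul, sq, e1,
      Commute.mul_pow (comm_of_cent (E_CO h1) he ho), 
      show o ^ ♯X.O = 1 from congrArg Subtype.val (pow_card_eq_one' (x := (⟨o, ho⟩ : X.O))), mul_one]
    exact pow_mem he _⟩
  have s2 : k * (k * k) ^ j ∈ C[X.P] := mul_mem s1 (pow_mem (mul_mem s1 s1) j)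
  generalize k * (k * k) ^ j = k at q1 s2
  have st : ∀ k c, Qa X k 0 c ∧ k ∈ C[X.P] → Qa X (k * (X.h * k⁻¹ * X.h⁻¹)) 0 (om * om * c) ∧
      k * (X.h * k⁻¹ * X.h⁻¹) ∈ C[X.P] := fun k c p => ⟨by
    have := p.1.mul h1 ((p.1.inv h1).cjh h1)
    rwa [mul_zero, add_zero, (by decide : ∀ c : F4, c + om * c = om * om * c)] at this,
    mul_mem p.2 (conj_mem hS (inv_mem p.2))⟩
  have p := st _ _ ⟨q1, s2⟩
  generalize k * (X.h * k⁻¹ * X.h⁻¹) = k at p
  replace p := st _ _ p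
  rw [(by decide : om * om * (om * om * (om * om)) = 1)] at p
  have h3 : X.h * (X.h * X.h) = 1 := (mul_assoc _ _ _).symm.trans h.hhh
  let d1 := k * (X.h * k⁻¹ * X.h⁻¹)
  let d : F4 → G := fun x => if x = 0 then 1 else if x = 1 then d1 else
    if x = om then X.h * d1 * X.h⁻¹ else X.h * (X.h * d1 * X.h⁻¹) * X.h⁻¹
  have v0 : d 0 = 1 := rfl
  have v1 : d 1 = d1 := rfl
  have v2 : d om = X.h * d1 * X.h⁻¹ := rfl
  have v3 : d (om * om) = X.h * (X.h * d1 * X.h⁻¹) * X.h⁻¹ := rfl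
  have hd : ∀ x, X.h * d x * X.h⁻¹ = d (om * x) := fun x => by
    rcases (by decide : ∀ x : F4, x = 0 ∨ x = 1 ∨ x = om ∨ x = om * om) x with rfl | rfl | rfl | rfl
    · rw [mul_zero, v0, mul_one, mul_inv_cancel]
    · rfl
    · rfl
    · rw [(by decide : om * (om * om) = 1), v1, v3]
      calc _ = X.h * (X.h * X.h) * d1 * (X.h * (X.h * X.h))⁻¹ := by group
        _ = _ := by rw [h3]; group
  have P : ∀ x, Qa X (d x) 0 x ∧ d x ∈ C[X.P] := orb1 ⟨qa_E h1 (one_mem _), one_mem _⟩ p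
    fun x p => hd x ▸ ⟨by simpa using p.1.cjh h1, conj_mem hS p.2⟩
  refine ⟨d, ⟨⟨⟨?_, h.tight, h.nc, h.ev⟩, h.one, h.r_add, h.rK, h.r_inj, h.sylT, h.IL⟩, v0,
    fun x => (P x).2, hd, fun x y hy => by simpa [h.c0] using (P x).1.tr y hy, fun x => (P x).1.cO,
    fun x => ?_, ?_⟩⟩
  · exact { h.toFr with }
  · obtain ⟨s, hs, c, e⟩ := mem_TZ h1 (P x).1.sq (mul_mem (P x).2 (P x).2)
    exact (e : d x * d x = _) ▸ mul_mem (mem_sup_left (r_T hs)) (mem_sup_right (z_Z c))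
  · change d 1 * d om * d (om * om) = 1
    rw [v1, v2, v3]
    calc _ = k * (X.h * (X.h * X.h)) * k⁻¹ * (X.h * (X.h * X.h))⁻¹ := by simp only [d1]; group
      _ = _ := by rw [h3]; group

/-- normal forms in `Q₁`. -/
def nf (X : Dx G) (x y s m n : F4) : G := X.e x * X.d y * X.r s * X.xc m * X.z n

namespace D0

variable (h : D0 X)
include h

theorem qd (y : F4) : Qa X (X.d y) 0 y :=
  ⟨⟨C_anti (R_S.trans S_P) (h.dP y), h.dO y, fun s hs => by rw [h.dr y s hs, mul_zero, h.c0, one_mul]⟩,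
    sup_le_sup_left Z_Z2 _ (h.sq y)⟩

theorem qq (x : F4) : Qa X (X.e x) x 0 := (h.qd x).cjw h.toS1

theorem qqd (x y : F4) : Qa X (X.e x * X.d y) x y := by
  simpa using (h.qq x).mul h.toS1 (h.qd y)

theorem q0 : X.e 0 = 1 := by rw [Dx.e, h.d0, mul_one, mul_inv_cancel]

theorem hq (x : F4) : X.h * X.e x * X.h⁻¹ = X.e (om * om * x) := by
  have e : X.h * X.wb = X.wb * (X.h * X.h * X.k) := by
    rw [eq_inv_of_mul_eq_one_left h.hhh, ← h.wbh, h.wbi]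
    simp only [← mul_assoc, h.wbb, one_mul]
  have k := conj_eq_of_mem_C (cents_symm (le_refl C[X.P]) k_P) (h.dP x)
  calc _ = X.h * X.wb * X.d x * (X.h * X.wb)⁻¹ := by rw [Dx.e]; group
    _ = X.wb * (X.h * (X.h * (X.k * X.d x * X.k⁻¹) * X.h⁻¹) * X.h⁻¹) * X.wb⁻¹ := by rw [e]; group
    _ = _ := by rw [k, h.hd, h.hd, ← mul_assoc om]; rfl

theorem wq (x : F4) : X.wb * X.e x * X.wb⁻¹ = X.d x := by
  rw [Dx.e, h.wbi]; simp only [← mul_assoc, h.wbb, one_mul]; rw [mul_assoc, h.wbb, mul_one]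

theorem sqA (p : Qa X g x c) : g * g ∈ X.Z2 := by
  have h1 := h.toS1
  obtain ⟨s, hs, κ, e0⟩ := mem_TZ h1 (h.qd 1).sq (mul_mem (h.dP 1) (h.dP 1))
  have cj : ∀ n ∈ X.L, n ∈ N[X.Z2] → ∀ g, g * g * X.r s ∈ X.Z2 →
      n * g * n⁻¹ * (n * g * n⁻¹) * X.r s ∈ X.Z2 := fun n n1 n2 g p => by
    rw [← conj_eq_of_mem_C (L_CR h1 n1) (r_T hs), conj_mul, conj_mul]; exact conj_mem n2 p
  have tr : ∀ {g k x c}, Qa X g x c → Qa X k x c → g * g * X.r s ∈ X.Z2 → k * k * X.r s ∈ X.Z2 :=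
    fun {g k x c} p q m => by
      obtain ⟨e, he, rfl⟩ := p.eq h1 q
      have a := (p.toAct.inv h1).rA h1 he
      rw [show g * e * (g * e) * X.r s = g * g * (g⁻¹ * e * g⁻¹⁻¹ * e * X.r s) by group,
        comm_of_cent ((A_L h1).trans (L_CR h1)) a (r_T hs), ← mul_assoc]
      exact mul_mem m a
  have pd : ∀ y, y ≠ 0 → X.d y * X.d y * X.r s ∈ X.Z2 :=
    orb1 (P := fun y => y ≠ 0 → X.d y * X.d y * X.r s ∈ X.Z2) (fun e => absurd rfl e)
      (fun _ => by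
        rw [e0, mul_assoc, ← mem_C.1 (L_CR h1 (h.zL κ)) _ (r_T hs), ← mul_assoc, h1.rr hs, one_mul]
        exact z_Z2 κ)
      fun y p e => h.hd y ▸ cj _ h.hL (h_NA h1) _ (p (right_ne_zero_of_mul e))
  have all : ∀ {g x c}, Qa X g x c → (x ≠ 0 ∨ c ≠ 0) → g * g * X.r s ∈ X.Z2 := fun {g x c} p e => by
    by_cases hx : x = 0
    · subst hx; exact tr (h.qd c) p (pd c (e.resolve_left fun e => e rfl))
    · have := (h.qq x).cjb h1 (x⁻¹ * c)
      rw [mul_inv_cancel_left₀ hx, add_zero] at this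
      exact tr this p (cj _ (h.bL _) (b_NA h1 _) _ (cj _ h.wbL (w_NA h1) _ (pd x hx)))
  have N : ∀ {g x c}, Qa X g x c → g ∈ N[X.Z2] := fun p => C_le_N _ p.cA
  have rN : X.r s ∈ N[X.Z2] := C_le_N _ (E_CA h1 (mem_sup_left (r_T hs)))
  have π : ∀ {g x c}, Qa X g x c → (x ≠ 0 ∨ c ≠ 0) →
      cs X.Z2 g * cs X.Z2 g = (cs X.Z2 (X.r s))⁻¹ := fun p e => by
    rw [← mul_eq_one_iff_eq_inv, ← ap_mul _ (N p) (N p), ← ap_mul _ (mul_mem (N p) (N p)) rN]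
    exact cs_of_mem (all p e)
  have iv : ∀ y, y ≠ 0 → cs X.Z2 (X.e 1) * cs X.Z2 (X.d y) * (cs X.Z2 (X.e 1))⁻¹ =
      (cs X.Z2 (X.d y))⁻¹ := fun y hy => by
    have := (π (h.qqd 1 y) (.inr hy)).trans (π (h.qq 1) (.inl one_ne_zero)).symm
    rw [cs, ap_mul _ (N (h.qq 1)) (N (h.qd y)), mul_assoc, mul_right_inj] at this
    have e := π (h.qq 1) (.inl one_ne_zero)
    calc _ = (cs X.Z2 (X.d y))⁻¹ * (cs X.Z2 (X.d y) * (cs X.Z2 (X.e 1) * cs X.Z2 (X.d y))) *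
          (cs X.Z2 (X.e 1))⁻¹ := by group
      _ = _ := by rw [this]; group
  have d3 : cs X.Z2 (X.d 1) * cs X.Z2 (X.d om) * cs X.Z2 (X.d (om * om)) = 1 := by
    rw [← ap_mul _ (N (h.qd _)) (N (h.qd _)), ← ap_mul _ (mul_mem (N (h.qd _)) (N (h.qd _)))
      (N (h.qd _)), h.d3, ap_one]
  have d4 := congrArg (fun t => cs X.Z2 (X.e 1) * t * (cs X.Z2 (X.e 1))⁻¹) d3
  simp only [← conj_mul] at d4
  rw [iv 1 (by decide), iv om (by decide), iv _ (by decide), mul_one, mul_inv_cancel] at d4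
  have p1 := π (h.qd 1) (.inr (by decide))
  have p2 := π (h.qd om) (.inr (by decide))
  have p3 := π (h.qd (om * om)) (.inr (by decide))
  have r2 : cs X.Z2 (X.r s) * cs X.Z2 (X.r s) = 1 := by rw [← ap_mul _ rN rN, h1.rr hs, ap_one]
  have r1 : cs X.Z2 (X.r s) = 1 := by
    generalize cs X.Z2 (X.d 1) = u, cs X.Z2 (X.d om) = v, cs X.Z2 (X.d (om * om)) = w,
      cs X.Z2 (X.r s) = ρ at *
    obtain rfl : w = (u * v)⁻¹ := eq_inv_of_mul_eq_one_right d3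
    have c : u * v = v * u := by
      rw [inv_inv, mul_assoc, inv_mul_eq_one] at d4
      rw [← mul_right_inj v⁻¹, ← d4]; group
    rw [← mul_inv_rev, mul_assoc, sw c.symm, ← mul_assoc, p1, p2, inv_inj, ← mul_inv_rev, r2,
      inv_one] at p3
    exact p3.symm
  have hr := (cs_eq_one rN).1 r1
  by_cases e : x ≠ 0 ∨ c ≠ 0
  · exact (mul_mem_cancel_right hr).1 (all p e)
  · obtain ⟨rfl, rfl⟩ : x = 0 ∧ c = 0 := by simpa using e
    rw [h1.eaE.sq (p.ker h1)]; exact one_mem _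

theorem ex_κ : ∃ κ, ∀ y y', X.d y * X.d y' = X.d (y + y') * X.z (κ * (y * y) * (y' * y')) := by
  have h1 := h.toS1
  obtain ⟨m, κ, e0⟩ := h.mem_Z2.1 (h.sqA (h.qd 1))
  have k := conj_eq_of_mem_C (cents_symm (le_refl C[X.P]) (b_P 1)) (mul_mem (h.dP 1) (h.dP 1))
  rw [e0, b_az h1] at k
  obtain rfl : m = 0 := by simpa using (h.inj_Z2 k).2
  rw [h.c0, one_mul] at e0
  have sq : ∀ y, X.d y * X.d y = X.z (κ * y) :=
    orb1 (by rw [h.d0, mul_zero, h.z0, mul_one]) (by rw [e0, mul_one]) fun y p => by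
      rw [← h.hd, conj_mul, p, h.hz, mul_left_comm]
  have iv : ∀ y, (X.d y)⁻¹ = X.d y * X.z (κ * y) := fun y =>
    inv_eq_of_mul_eq_one_right (by rw [← mul_assoc, sq, h.zz])
  have dz : ∀ y c, X.z c * X.d y = X.d y * X.z c := fun y c => mem_C.1 (h.dP y) _ (zP c)
  refine ⟨κ, orb2 (fun y => by simp [h.d0, h.z0]) (fun y => ?_) fun y y' p => ?_⟩
  · rcases (by decide : ∀ x : F4, x = 0 ∨ x = 1 ∨ x = om ∨ x = om * om) y with rfl | rfl | rfl | rfl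
    · simp [h.d0, h.z0]
    · simp [h.d0, e0]
    · rw [eq_inv_of_mul_eq_one_left h.d3, iv, (by decide : 1 + om = om * om), mul_one, mul_one]
    · have e : X.d om = (X.d 1)⁻¹ * (X.d (om * om))⁻¹ := by
        rw [← eq_inv_of_mul_eq_one_left h.d3, inv_mul_cancel_left]
      rw [(by decide : 1 + om * om = om), e, iv, iv, mul_assoc (X.d 1), sw (dz _ _), mul_assoc,
        mul_assoc, ← h.z_add, ← h.z_add,
        (by decide : ∀ κ : F4, κ * 1 + κ * (om * om) + κ * (1 * 1) * (om * om * (om * om)) = 0),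
        h.z0, mul_one]
  · rw [← mul_add, ← h.hd, ← h.hd, ← h.hd, conj_mul, p, ← conj_mul, h.hz]
    congr 2
    exact (by decide : ∀ κ y y' : F4, om * (κ * (y * y) * (y' * y')) =
      κ * (om * y * (om * y)) * (om * y' * (om * y'))) κ y y'

theorem ex_γ (dd : ∀ y y', X.d y * X.d y' = X.d (y + y') * X.z (κ * (y * y) * (y' * y'))) :
    ∃ γ, ∀ x y, X.e x * X.d y * (X.e x)⁻¹ =
      X.d y * X.xc (γ * (x * x) * y) * X.z (γ * x * (y * y)) := by
  have h1 := h.toS1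
  have : ∀ x y, ∃ m n, X.e x * X.d y * (X.e x)⁻¹ = X.d y * (X.xc m * X.z n) := fun x y => by
    obtain ⟨m, n, e⟩ := h.mem_Z2.1 (mul_mem (mul_mem (h.sqA ((h.qd y).inv h1))
      (h.sqA ((h.qd y).mul h1 (h.qq x)))) (h.sqA ((h.qq x).inv h1)))
    exact ⟨m, n, by rw [← e]; group⟩
  choose m n e using this
  have dA : ∀ y x c, X.xc x * X.z c * X.d y = X.d y * (X.xc x * X.z c) := fun y x c =>
    mem_C.1 (h.qd y).cA _ (az_A X x c)
  have ad : ∀ x y y', m x (y + y') = m x y + m x y' ∧ n x (y + y') = n x y + n x y' := by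
    intro x y y'
    have := congrArg (fun t => X.e x * t * (X.e x)⁻¹) (dd y y')
    beta_reduce at this
    rw [← conj_mul, ← conj_mul, e, e, e, conj_eq_of_mem_C (h.qq x).cA (z_Z2 _), mul_assoc (X.d y),
      sw (dA _ _ _), ← mul_assoc (X.d y), dd, h.mul_A, mul_assoc (X.d _), mul_assoc (X.d _),
      mul_right_inj, mul_assoc (X.xc _), ← h.z_add, ← one_mul (X.z (_ * _)), ← h.c0, h.mul_A] at this
    have := h.inj_Z2 this
    rw [zero_add, add_comm (κ * _ * _), add_left_inj] at this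
    exact ⟨this.1.symm, this.2.symm⟩
  have sy : ∀ x y, n x y = m y x := fun x y => by
    have k := cj3 X.wb (e x y)
    rw [h.wq, ← conj_mul (c := X.xc _ * X.z _), w_az h1] at k
    have k2 := e y x
    rw [mul_inv_eq_iff_eq_mul, mul_assoc, ← mem_C'.1 (h.qq y).cA _ (az_A X _ _)] at k2
    change X.d x * X.e y * _ = X.e y * _ at k
    rw [mul_inv_eq_iff_eq_mul, mul_assoc, dA, ← mul_assoc, k2, mul_assoc, mul_assoc, h.mul_A,
      mul_right_inj, left_eq_mul] at k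
    exact (by decide : ∀ a b : F4, a + b = 0 → b = a) _ _ (h.a_mem_Z (k ▸ one_mem _))
  have wt : ∀ x y, m (om * om * x) (om * y) = om * om * m x y := fun x y => by
    have k := cj3 X.h (e x y)
    rw [h.hq, h.hd, e, ← conj_mul, h.hd, h_az h1, mul_right_inj] at k
    exact (h.inj_Z2 k).1
  have f := bi (fun x y y' => (ad x y y').1) (fun x x' y => by rw [← sy, ← sy, ← sy, (ad _ _ _).2]) wt
  exact ⟨m 1 1, fun x y => by
    rw [e, sy, f x y, f y x, mul_assoc (X.d y), mul_right_comm (m 1 1) x]⟩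

section
variable (dd : ∀ y y', X.d y * X.d y' = X.d (y + y') * X.z (κ * (y * y) * (y' * y')))
  (ee : ∀ x y, X.e x * X.d y * (X.e x)⁻¹ = X.d y * X.xc (γ * (x * x) * y) * X.z (γ * x * (y * y)))
include dd ee

theorem mul_nf (hs : s ∈ X.Λ) (hs' : s' ∈ X.Λ) (x y m n x' y' m' n' : F4) :
    nf X x y s m n * nf X x' y' s' m' n' = nf X (x + x') (y + y') (s + s')
      (κ * (x * x) * (x' * x') + (γ * (x' * x') * y + (s * x' + (m + m'))))
      (κ * (y * y) * (y' * y') + (γ * x' * (y * y) + (s * y' + (n + n')))) := by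
  have h1 := h.toS1
  have c : ∀ {g x c}, Qa X g x c → (∀ m t, X.xc m * (g * t) = g * (X.xc m * t)) ∧
      ∀ m t, X.z m * (g * t) = g * (X.z m * t) := fun p =>
    ⟨fun m => sw (mem_C.1 p.cA _ (c_Z2 m)), fun m => sw (mem_C.1 p.cA _ (z_Z2 m))⟩
  have r := c (qa_E h1 (mem_sup_left (r_T hs)))
  have r' := c (qa_E h1 (mem_sup_left (r_T hs')))
  have qq : X.e x * X.e x' = X.e (x + x') * X.xc (κ * (x * x) * (x' * x')) := by
    rw [Dx.e, Dx.e, conj_mul, dd, ← conj_mul, h.wb_z]; rfl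
  have dq : X.d y * X.e x' = X.e x' * (X.d y * (X.xc (γ * (x' * x') * y) * X.z (γ * x' * (y * y)))) := by
    have k := az_A X (γ * (x' * x') * y) (γ * x' * (y * y))
    rw [← mul_assoc, mul_inv_eq_iff_eq_mul.1 (ee x' y), mul_assoc (X.d y), mul_assoc (X.d y),
      mul_assoc (X.d y), mul_assoc, ← mem_C.1 (h.qq x').cA _ k, ← mul_assoc (_ * _), h.eaZ2.sq k,
      one_mul]
  have rq : X.r s * X.e x' = X.e x' * (X.r s * X.xc (s * x')) := by
    have := ((h.qq x').inv h1).tr s hs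
    rw [mul_zero, h.z0, mul_one] at this
    rw [← this]; group
  have rd : X.r s * X.d y' = X.d y' * (X.r s * X.z (s * y')) := by
    have := ((h.qd y').inv h1).tr s hs
    rw [mul_zero, h.c0, one_mul] at this
    rw [← this]; group
  simp only [nf, mul_assoc, h.c_add, h.z_add, h.r_add s hs s' hs', (c (h.qq _)).1, (c (h.qq _)).2,
    (c (h.qd _)).1, (c (h.qd _)).2, r.1, r.2, r'.1, r'.2, sw3 rq, sw3 rd, sw3 dq, sw3 qq, sw3 (dd y y'),
    sw (h.zc _ _)]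

omit dd ee in
theorem inj_nf (hs : s ∈ X.Λ) (hs' : s' ∈ X.Λ) {x y m n m' n' : F4}
    (k : nf X x y s m n = nf X x y s' m' n') : s = s' ∧ m = m' ∧ n = n' := by
  simp only [nf, mul_assoc, mul_right_inj] at k
  have h1 := h.toS1
  have : s + s' = 0 := h.r_inj _ (add_mem hs hs') (mem_bot.1 (h.LK.le ⟨by
    rw [h.r_add s hs s' hs', show X.r s' = X.r s * (X.xc m * X.z n) * (X.xc m' * X.z n')⁻¹ by
      rw [k, mul_inv_cancel_right], ← mul_assoc, ← mul_assoc, h1.rr hs, one_mul]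
    exact A_L h1 (mul_mem (az_A X _ _) (inv_mem (az_A X _ _))), h.rK _ (add_mem hs hs')⟩))
  obtain rfl := (by decide : ∀ a b : F4, a + b = 0 → a = b) _ _ this
  exact ⟨rfl, h.inj_Z2 (mul_left_cancel k)⟩

theorem main : κ = 0 ∧ (∀ y x, γ * y * (x * x) ∈ X.Λ) ∧ ∀ y x, X.xb y * X.e x * (X.xb y)⁻¹ =
    X.e x * X.d (y * x) * X.r (γ * y * (x * x)) * X.xc (γ * y * (x * x * x)) := by
  have h1 := h.toS1
  have z := zero_mem X.Λ
  have : ∀ y x, ∃ s ∈ X.Λ, ∃ m n, X.xb y * X.e x * (X.xb y)⁻¹ = nf X x (y * x) s m n := fun y x => by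
    have p := (h.qq x).cjb h1 y
    rw [add_zero, mul_comm x] at p
    obtain ⟨e, he, e1⟩ := (h.qqd x (y * x)).eq h1 p
    obtain ⟨s, hs, m, n, rfl⟩ := h1.mem_E.1 he
    exact ⟨s, hs, m, n, by rw [e1, nf, ← mul_assoc, ← mul_assoc]⟩
  choose s hs M F b using this
  have cb : ∀ y x c s m n, s ∈ X.Λ → X.xb y * nf X x c s m n * (X.xb y)⁻¹ =
      X.xb y * X.e x * (X.xb y)⁻¹ * nf X 0 c s m (m * y + n) := fun y x c s m n hs => by
    rw [nf, nf, mul_assoc _ (X.xc m), mul_assoc _ (X.xc m), ← conj_mul, ← conj_mul, ← conj_mul, b_az h1,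
      conj_eq_of_mem_C (L_CR h1 (h.bL y)) (r_T hs),
      conj_eq_of_mem_C (cents_symm (le_refl C[X.P]) (b_P y)) (h.dP c), h.q0, one_mul]
    simp only [mul_assoc]
  have nq : ∀ x, X.e x = nf X x 0 0 0 0 := fun x => by simp [nf, h.d0, h1.r0, h.c0, h.z0]
  have nd : ∀ x, X.d x = nf X 0 x 0 0 0 := fun x => by simp [nf, h.q0, h1.r0, h.c0, h.z0]
  have g : ∀ y x, s y x = γ * y * (x * x) := fun y x => by
    have k : X.xb y * (X.d 1 * X.e x) * (X.xb y)⁻¹ = X.d 1 * (X.xb y * X.e x * (X.xb y)⁻¹) := by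
      rw [← conj_mul, conj_eq_of_mem_C (cents_symm (le_refl C[X.P]) (b_P y)) (h.dP 1)]
    rw [b, nd 1, h.mul_nf dd ee z (hs y x), nq x, h.mul_nf dd ee z z, cb _ _ _ _ _ _ (add_mem z z), b,
      h.mul_nf dd ee (hs _ _) (add_mem z z)] at k
    simp only [add_zero, zero_add, mul_zero, zero_mul, mul_one, add_comm 1 (y * x)] at k
    have k3 := (h.inj_nf (hs _ _) (hs _ _) k).2.2
    generalize s y x = S, F y x = F, κ * (y * x * (y * x)) = κ at k3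
    clear * - k3
    revert γ S F x y κ
    decide +kernel
  have I : ∀ x y y', F (y + y') x = κ * (y' * x * (y' * x)) * (y * x * (y * x)) +
      (0 + (γ * y' * (x * x) * (y * x) + (F y' x + (M y x * y' + F y x)))) := fun x y y' => by
    have k : X.xb (y + y') * X.e x * (X.xb (y + y'))⁻¹ =
      X.xb y' * (X.xb y * X.e x * (X.xb y)⁻¹) * (X.xb y')⁻¹ := by rw [add_comm, h.b_add]; group
    rw [b, b, cb _ _ _ _ _ _ (hs _ _), b, h.mul_nf dd ee (hs _ _) (hs _ _), add_zero, ← add_mul,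
      add_comm y' y] at k
    rw [(h.inj_nf (hs _ _) (add_mem (hs _ _) (hs _ _)) k).2.2, g, mul_zero, zero_mul]
  have F0 : ∀ x, F 0 x = 0 := fun x => by simpa using I x 0 0
  have k0 : κ = 0 := by
    have k1 := I 1 1 1
    have k2 := I 1 om om
    have k3 := (I 1 1 om).symm.trans ((congrArg (F · 1) (add_comm _ _)).trans (I 1 om 1))
    rw [f4_add_self, F0] at k1 k2
    generalize M 1 1 = A, M om 1 = B, F 1 1 = C, F om 1 = D at k1 k2 k3
    clear * - k1 k2 k3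
    revert κ γ A B C D
    decide
  have m : ∀ y x, M y x = γ * y * (x * x * x) := fun y x => by
    have k1 := I x y y
    have k2 := I x 0 1
    rw [f4_add_self, F0, k0] at k1
    rw [zero_add, F0, k0] at k2
    by_cases hy : y = 0
    · subst hy; simpa using k2
    generalize M y x = A, F y x = C at k1
    clear * - k1 hy
    revert γ A C x y
    decide
  have F1 : ∀ x, F 1 x = 0 := fun x => by
    have k : X.wb * (X.xb 1 * X.e x * (X.xb 1)⁻¹) * X.wb⁻¹ = X.xb 1 * X.e x * (X.xb 1)⁻¹ :=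
      calc _ = X.wb * X.xb 1 * X.wb * X.d x * (X.wb * X.xb 1 * X.wb)⁻¹ := by rw [Dx.e]; group
        _ = X.xb 1 * X.wb * (X.xb 1 * X.d x * (X.xb 1)⁻¹) * X.wb⁻¹ * (X.xb 1)⁻¹ := by rw [h.brb]; group
        _ = _ := by
          rw [conj_eq_of_mem_C (cents_symm (le_refl C[X.P]) (b_P 1)) (h.dP x), Dx.e]; group
    have w : ∀ x c s m n, s ∈ X.Λ → X.wb * nf X x c s m n * X.wb⁻¹ = X.d x * nf X c 0 s n m :=
      fun x c s m n hs => by
        rw [nf, nf, mul_assoc _ (X.xc m), ← conj_mul, ← conj_mul, ← conj_mul, w_az h1,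
          conj_eq_of_mem_C (L_CR h1 h.wbL) (r_T hs), h.wq, h.d0, mul_one, Dx.e]
        simp only [mul_assoc]
    rw [b, w _ _ _ _ _ (hs _ _), nd x, h.mul_nf dd ee z (hs _ _), one_mul, zero_add, add_zero] at k
    have := (h.inj_nf (add_mem z (hs _ _)) (hs _ _) k).2.1
    simpa [m, mul_assoc] using this
  have Fh : ∀ y x, F (om * om * y) (om * om * x) = om * F y x := fun y x => by
    have k := cj3 X.h (b y x)
    rw [h.hb, h.hq, b, nf.eq_1 X x, mul_assoc _ (X.xc _), ← conj_mul, ← conj_mul, ← conj_mul, h_az h1,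
      conj_eq_of_mem_C (L_CR h1 h.hL) (r_T (hs _ _)), h.hq, h.hd, ← mul_assoc _ (X.xc _),
      (by decide : ∀ y x : F4, om * (y * x) = om * om * y * (om * om * x))] at k
    exact (h.inj_nf (hs _ _) (hs _ _) k).2.2
  have f : ∀ y x, F y x = 0 := orb2 (P := fun y x => F y x = 0) F0 F1 fun y x p => by
    have := Fh (om * om * y) (om * om * x)
    rwa [Fh y, p, mul_zero, mul_zero, ← mul_assoc, ← mul_assoc _ _ x,
      (by decide : om * om * (om * om) = om)] at this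
  exact ⟨k0, fun y x => g y x ▸ hs y x, fun y x => by rw [b, g, m, f, nf, h.z0, mul_one]⟩

end

theorem s3 : ∃ γ, X.S3 γ := by
  obtain ⟨κ, dd⟩ := h.ex_κ
  obtain ⟨γ, e⟩ := h.ex_γ dd
  obtain ⟨rfl, f⟩ := h.main dd e
  exact ⟨γ, h.toS1, fun x y => by rw [dd, zero_mul, zero_mul, h.z0, mul_one], h.dP, h.hd, h.dr, h.dO,
    f.1, e, f.2⟩

end D0

end TD

theorem Dx.S2.exists_S3 {G : Type*} [Group G] [Finite G] {X : Dx G} (h : X.S2) :
    ∃ d γ, ({ X with d := d } : Dx G).S3 γ :=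
  let ⟨d, hd⟩ := TD.exists_d h
  ⟨d, hd.s3⟩

end H24.G4
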