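import Mathlib
import Cfsg.Agent.H25.SEc

/-! Heisenberg groups of rank four over a ring with `x ^ 16 = x`. -/

set_option autoImplicit false
set_option linter.unusedSectionVars false

namespace H24.G4.CE

open H26 H26.Gold Subgroup
open H9 (F4)
open H24.Sz (om)
open H25.SE (Hs Gam)
open H25.SE.Hs (ff)

variable {R G : Type*} [CommRing R] [Group G] [Finite G]

/-- the ordered product of the four root elements -/
def qq (A : F4 → R → G) (v : F4 → R) : G :=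
  A 0 (v 0) * A 1 (v 1) * A om (v om) * A (om + 1) (v (om + 1))
/-- the cocycle -/
def cb (v w : F4 → R) : R := v 1 * w 0 + v om * (w 0 + w 1) + v (om + 1) * (w 0 + w 1 + w om)
/-- the commutator form -/
def bf (v w : F4 → R) : R := cb v w + cb w v
/-- `u` lies over the vector `v` -/
def Rp (A : F4 → R → G) (Z : R → G) (u : G) (v : F4 → R) : Prop := ∃ c, u = qq A v * Z c

/-- four root groups with the same commutator relation -/
structure Hq (A : F4 → R → G) (Z : R → G) : Prop where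
  hs : ∀ i j, i ≠ j → Hs (A i) (A j) Z

theorem all4 (i : F4) : i = 0 ∨ i = 1 ∨ i = om ∨ i = om + 1 := by revert i; decide

theorem sing (v : F4 → R) : v = Pi.single 0 (v 0) + Pi.single 1 (v 1) + Pi.single om (v om) +
    Pi.single (om + 1) (v (om + 1)) := by
  funext i
  rcases all4 i with rfl | rfl | rfl | rfl <;> simp +decide [Pi.single_apply]

theorem bf_smul (a : R) (v w : F4 → R) : bf (a • v) w = a * bf v w := by
  simp only [bf, cb, Pi.smul_apply, smul_eq_mul]; ring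

theorem bf_add (v v' w : F4 → R) : bf (v + v') w = bf v w + bf v' w := by
  simp only [bf, cb, Pi.add_apply]; ring

theorem bf_one (v : F4 → R) (c : R) : bf v (Pi.single 1 c) = c * bf v (Pi.single 1 1) := by
  simp +decide [bf, cb, Pi.single_apply]; ring

theorem bf_01 (a c : R) : bf (Pi.single 0 a) (Pi.single 1 c) = a * c := by
  simp +decide [bf, cb, Pi.single_apply, mul_comm]

namespace Hq

variable {A : F4 → R → G} {Z : R → G} (h : Hq A Z) {m m' u u' x : G} {v v' w : F4 → R} {c : R}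
include h

theorem H : Hs (A 0) (A 1) Z := h.hs 0 1 zero_ne_one
theorem Hi (i : F4) : Hs (A i) (A (i + 1)) Z := h.hs i (i + 1) (by simp)
/-- the centre -/
def D : Subgroup G := h.H.D
theorem z_D (c : R) : Z c ∈ h.D := ⟨c, rfl⟩
theorem eaD : EA h.D := h.H.eaD

theorem zq (v : F4 → R) (c : R) : Z c * qq A v = qq A v * Z c :=
  (((Commute.mul_right ((h.Hi _).az _ c) ((h.Hi _).az _ c)).mul_right ((h.Hi _).az _ c)).mul_right
    ((h.Hi _).az _ c)).eq

theorem q_mul (v w : F4 → R) : qq A v * qq A w = qq A (v + w) * Z (cb v w) := by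
  have e : ∀ i j, i ≠ j → ∀ x y t, A j y * (A i x * t) = A i x * (A j y * (Z (x * y) * t)) :=
    fun i j k x y t => by rw [← mul_assoc, (h.hs i j k).ba]; simp only [mul_assoc]
  have z1 : ∀ i x c t, Z c * (A i x * t) = A i x * (Z c * t) := fun i x c t => by
    rw [← mul_assoc, (h.Hi i).az, mul_assoc]
  have z2 : ∀ i x c, Z c * A i x = A i x * Z c := fun i => (h.Hi i).az
  have a : ∀ i x y, A i (x + y) = A i x * A i y := fun i => (h.Hi i).a_add
  simp only [qq, Pi.add_apply, a, mul_assoc, e 0 1 (by decide), e 0 om (by decide),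
    e 0 (om + 1) (by decide), e 1 om (by decide), e 1 (om + 1) (by decide),
    e om (om + 1) (by decide), z1, z2, ← h.H.z_add, mul_right_inj]
  congr 1
  simp only [cb]; ring

theorem qz_mul (v w : F4 → R) (c d : R) :
    qq A v * Z c * (qq A w * Z d) = qq A (v + w) * Z (cb v w + (c + d)) := by
  rw [mul_assoc, ← mul_assoc (Z c), h.zq, mul_assoc, ← mul_assoc, h.q_mul, mul_assoc, ← h.H.z_add,
    ← h.H.z_add]

theorem q0 : qq A 0 = 1 := by simp [qq, (h.Hi _).a0]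
theorem rq (v : F4 → R) : Rp A Z (qq A v) v := ⟨0, by rw [h.H.z0, mul_one]⟩
theorem rz (c : R) : Rp A Z (Z c) 0 := ⟨c, by rw [h.q0, one_mul]⟩
theorem rD : Rp A Z u 0 ↔ u ∈ h.D := by simp only [Rp, h.q0, one_mul]; rfl
theorem ra (i : F4) (a : R) : Rp A Z (A i a) (Pi.single i a) := ⟨0, by
  rcases all4 i with rfl | rfl | rfl | rfl <;> simp +decide [qq, (h.Hi _).a0, h.H.z0]⟩

theorem rmul (p : Rp A Z u v) (q : Rp A Z u' v') : Rp A Z (u * u') (v + v') := by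
  obtain ⟨c, rfl⟩ := p
  obtain ⟨d, rfl⟩ := q
  exact ⟨_, h.qz_mul ..⟩

theorem vv (v : F4 → R) : v + v = 0 := funext fun _ => h.H.two _
theorem v_eq (e : v + w = 0) : v = w := funext fun i => h.H.eq_of (congrFun e i)

theorem rsq (p : Rp A Z u v) : u * u = Z (cb v v) := by
  obtain ⟨c, rfl⟩ := p
  rw [h.qz_mul, h.vv, h.q0, h.H.two, add_zero, one_mul]

theorem rinv (p : Rp A Z u v) : Rp A Z u⁻¹ v := by
  rw [inv_eq_of_mul_eq_one_right (a := u) (b := u * Z (cb v v))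
    (by rw [← mul_assoc, h.rsq p, h.H.zz])]
  simpa using h.rmul p (h.rz _)

theorem rcomm (p : Rp A Z u v) (q : Rp A Z u' v') : u * u' = u' * u * Z (bf v v') := by
  obtain ⟨c, rfl⟩ := p
  obtain ⟨d, rfl⟩ := q
  rw [h.qz_mul, h.qz_mul, add_comm v', mul_assoc, ← h.H.z_add]
  congr 2
  rw [bf]
  linear_combination -h.H.two (cb v' v)

theorem nd (e : ∀ w, bf v w = 0) : v = 0 := by
  have e0 := e (Pi.single 0 1)
  have e1 := e (Pi.single 1 1)
  have e2 := e (Pi.single om 1)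
  have e3 := e (Pi.single (om + 1) 1)
  simp +decide only [bf, cb, Pi.single_apply, if_true, if_false] at e0 e1 e2 e3
  funext i
  rcases all4 i with rfl | rfl | rfl | rfl <;> rw [Pi.zero_apply]
  · linear_combination e1 + e2 + e3 - h.H.two (v 0 + v 1 + v om + v (om + 1))
  · linear_combination e0 + e2 + e3 - h.H.two (v 0 + v 1 + v om + v (om + 1))
  · linear_combination e0 + e1 + e3 - h.H.two (v 0 + v 1 + v om + v (om + 1))
  · linear_combination e0 + e1 + e2 - h.H.two (v 0 + v 1 + v om + v (om + 1))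

theorem uniq (p : Rp A Z u v) (q : Rp A Z u v') : v = v' := h.v_eq (h.nd fun w => by
  have := (h.rcomm p (h.rq w)).symm.trans (h.rcomm q (h.rq w))
  rw [bf_add, h.H.z_eq (mul_left_cancel this), h.H.two])

/-- the group -/
def U : Subgroup G where
  carrier := {u | ∃ v, Rp A Z u v}
  mul_mem' := fun ⟨_, p⟩ ⟨_, q⟩ => ⟨_, h.rmul p q⟩
  one_mem' := ⟨0, h.H.z0 ▸ h.rz 0⟩
  inv_mem' := fun ⟨_, p⟩ => ⟨_, h.rinv p⟩

theorem a_U (i : F4) (a : R) : A i a ∈ h.U := ⟨_, h.ra i a⟩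
theorem q_U (v : F4 → R) : qq A v ∈ h.U := ⟨_, h.rq v⟩
theorem D_U : h.D ≤ h.U := fun _ hu => ⟨0, h.rD.2 hu⟩

theorem card_U : ♯h.U = Nat.card R ^ 4 * Nat.card R := by
  rw [show 4 = Nat.card F4 by rw [Nat.card_eq_fintype_card]; rfl, ← Nat.card_fun, ← Nat.card_prod]
  refine (Nat.card_eq_of_bijective
    (fun v : (F4 → R) × R => (⟨qq A v.1 * Z v.2, v.1, v.2, rfl⟩ : h.U))
    ⟨fun a b e => ?_, fun ⟨_, v, c, e⟩ => ⟨(v, c), Subtype.ext e.symm⟩⟩).symm
  have e' : qq A a.1 * Z a.2 = qq A b.1 * Z b.2 := congrArg Subtype.val e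
  have k := h.uniq ⟨a.2, rfl⟩ ⟨b.2, e'⟩
  rw [k] at e'
  exact Prod.ext k (h.H.z_eq (mul_left_cancel e'))

theorem U_CD : h.U ≤ C[h.D] := by
  rintro _ ⟨v, c, rfl⟩
  refine mem_C.2 ?_
  rintro _ ⟨k, rfl⟩
  rw [← mul_assoc, h.zq, mul_assoc, mul_assoc, ← h.H.z_add, ← h.H.z_add, add_comm]

theorem center : h.D = h.U ⊓ C[h.U] := le_antisymm (le_inf h.D_U (cents_symm h.U_CD)) (by
  rintro u ⟨⟨v, p⟩, k⟩
  obtain rfl : v = 0 := h.nd fun w => h.H.z_inj _ (by
    have := h.rcomm p (h.rq w)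
    rwa [mem_C'.1 k _ (h.q_U w), left_eq_mul] at this)
  exact h.rD.1 p)

theorem N_D : N[h.U] ≤ N[h.D] := h.center ▸ norm_inf le_rfl (norm_C le_rfl)

theorem sq_D (hu : u ∈ h.U) : u * u ∈ h.D := let ⟨_, p⟩ := hu; h.rsq p ▸ h.z_D _

theorem comm_D (hu : u ∈ h.U) (hv : u' ∈ h.U) : u * u' * u⁻¹ * u'⁻¹ ∈ h.D := by
  obtain ⟨v, p⟩ := hu
  obtain ⟨w, q⟩ := hv
  have := h.rmul (h.rmul (h.rmul p q) (h.rinv p)) (h.rinv q)
  rwa [add_right_comm v, h.vv, zero_add, h.vv, h.rD] at this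

theorem rcj (f : (F4 → R) → F4 → R) (hf : ∀ v w, f (v + w) = f v + f w) (hx : x ∈ N[h.D])
    (ha : ∀ i a, Rp A Z (x * A i a * x⁻¹) (f (Pi.single i a))) (p : Rp A Z u v) :
    Rp A Z (x * u * x⁻¹) (f v) := by
  obtain ⟨c, rfl⟩ := p
  have := h.rmul (h.rmul (h.rmul (h.rmul (ha 0 (v 0)) (ha 1 (v 1))) (ha om (v om)))
    (ha (om + 1) (v (om + 1)))) (h.rD.2 (conj_mem hx (h.z_D c)))
  rwa [conj_mul, conj_mul, conj_mul, conj_mul, ← hf, ← hf, ← hf, ← sing, add_zero] at this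

theorem f_bf (hm : m ∈ N[h.D]) {y y' : F4 → R} (p : Rp A Z u v) (q : Rp A Z u' y)
    (p' : Rp A Z (m * u * m⁻¹) v') (q' : Rp A Z (m * u' * m⁻¹) y') : ff Z m (bf v y) = bf v' y' := by
  have := h.rcomm p' q'
  rw [conj_mul, conj_mul, h.rcomm p q, ← conj_mul, mul_right_inj] at this
  exact h.H.ff_eq this

theorem gam (hm : m ∈ N[h.U]) : Gam (ff Z m) := by
  have H := h.H
  have hm' := h.N_D hm
  have l : ∀ c, ff Z m⁻¹ (ff Z m c) = c := fun c => by
    rw [← H.ff_mul (inv_mem hm') hm', inv_mul_cancel, H.ff_one]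
  have k : ∀ a, ∃ s, ∀ c, ff Z m (a * c) = ff Z m c * s := fun a => by
    have e : ∀ u, m * (m⁻¹ * u * m) * m⁻¹ = u := fun u => by group
    obtain ⟨v, p⟩ := conj_mem' hm (h.a_U 0 1)
    obtain ⟨w, q⟩ := conj_mem hm (h.q_U (a • v))
    refine ⟨bf w (Pi.single 1 1), fun c => ?_⟩
    obtain ⟨y, r⟩ := conj_mem' hm (h.a_U 1 (ff Z m c))
    have r' : Rp A Z (m * (m⁻¹ * A 1 (ff Z m c) * m) * m⁻¹) (Pi.single 1 (ff Z m c)) := by
      rw [e]; exact h.ra 1 _
    have k1 := h.f_bf hm' p r (by rw [e]; exact h.ra 0 1) r'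
    have k2 := h.f_bf hm' (h.rq _) r q r'
    have k3 := congrArg (ff Z m⁻¹) k1
    rw [bf_01, one_mul, l, l] at k3
    rwa [bf_smul, k3, bf_one] at k2
  refine ⟨fun a b => H.ff_eq ?_, Function.bijective_iff_has_inverse.2 ⟨ff Z m⁻¹, l, fun c => ?_⟩,
    fun a b => ?_⟩
  · rw [H.z_add, H.z_add, ← H.ff_spec hm', ← H.ff_spec hm']; group
  · rw [← H.ff_mul hm' (inv_mem hm'), mul_inv_cancel, H.ff_one]
  · obtain ⟨s, hs⟩ := k a
    have := hs 1
    rw [mul_one] at this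
    rw [hs, this]; ring

/-- the ring automorphism induced by an element of the normaliser -/
noncomputable def sg : N[h.U] →* RingAut R :=
  MonoidHom.mk' (fun m => (h.gam m.2).aut h.H.p16) fun a b =>
    Gam.aut_mul h.H.p16 _ _ _ (h.H.ff_mul (h.N_D a.2) (h.N_D b.2))

theorem sg_apply (m : N[h.U]) (c : R) : h.sg m c = ff Z m 1 ^ 14 * ff Z m c := rfl

theorem sg_eq {m m' : N[h.U]} (e : ∀ v ∈ h.D, (m : G) * v * (m : G)⁻¹ = m' * v * (m' : G)⁻¹) :
    h.sg m = h.sg m' := by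
  have : ∀ c, ff Z m c = ff Z m' c := fun c => by rw [ff, ff, e _ ⟨c, rfl⟩]
  ext c
  rw [h.sg_apply, h.sg_apply, this, this]

theorem inv_eq (hm : m ∈ N[h.U]) (hm' : m' ∈ N[h.U]) (h1 : m * m = 1) (h2 : m' * m' = 1)
    (e : ∀ v ∈ h.D, m * v * m⁻¹ = v ↔ m' * v * m'⁻¹ = v) :
    ∀ v ∈ h.D, m * v * m⁻¹ = m' * v * m'⁻¹ := by
  have H := h.H
  rintro _ ⟨c, rfl⟩
  have k : ∀ {m}, m ∈ N[h.U] → ∀ c, ff Z m c = c ↔ m * Z c * m⁻¹ = Z c := fun hm c =>
    ⟨fun e => by rw [H.ff_spec (h.N_D hm), e], H.ff_eq⟩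
  rw [H.ff_spec (h.N_D hm), H.ff_spec (h.N_D hm'), (h.gam hm).inv_eq H.p16 (h.gam hm')
    (fun v => by rw [← H.ff_mul (h.N_D hm) (h.N_D hm), h1, H.ff_one])
    (fun v => by rw [← H.ff_mul (h.N_D hm') (h.N_D hm'), h2, H.ff_one])
    fun v => by rw [k hm, k hm', e _ ⟨v, rfl⟩]]

theorem low {J : Subgroup G} {r : F4} (hr : r ≠ 0)
    (e : ∀ u ∈ J, ∀ v, Rp A Z u v → ∀ i, v (i + r) = v i) :
    Nat.card R * Nat.card R ≤ J.relIndex h.U := by
  obtain ⟨s, s0, s1, s2, s3⟩ :=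
    (by decide : ∀ r : F4, r ≠ 0 → ∃ s, s ≠ 0 ∧ r ≠ s ∧ s + r ≠ 0 ∧ s + r ≠ s) r hr
  rw [← Nat.card_prod]
  refine Nat.card_le_card_of_injective (fun p : R × R => (QuotientGroup.mk
    ⟨_, mul_mem (h.a_U 0 p.1) (h.a_U s p.2)⟩ : h.U ⧸ J.subgroupOf h.U)) fun p q k => ?_
  have k1 := e _ (mem_subgroupOf.1 (QuotientGroup.eq.1 k)) _
    (h.rmul (h.rinv (h.rmul (h.ra 0 p.1) (h.ra s p.2))) (h.rmul (h.ra 0 q.1) (h.ra s q.2)))
  have a := k1 0
  have b := k1 s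
  simp only [Pi.add_apply, Pi.single_apply, hr, s0, s0.symm, s1, s2, s3, if_true, if_false,
    add_zero, zero_add] at a b
  exact Prod.ext (h.H.eq_of a.symm) (h.H.eq_of b.symm)

end Hq

end H24.G4.CE
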