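import Mathlib
import Cfsg.Agent.H24.GwD
import Cfsg.Agent.H24.GwE1
import Cfsg.Agent.H25.SEd

/-! The cyclic case: the Heisenberg group of order `2 ^ 20`. -/

set_option autoImplicit false
set_option linter.unusedSectionVars false

namespace H24.G4.CE

open H26 H26.Gold Subgroup Dat Dx
open H9 (F4)
open H7.SJ (p2)
open H24.Sz (om f4_add_self)
open H24.Sz.Dat (add_sq)
open H25.SE (Hs QA add0 bil cj_sq four add_comm_rel p16)

local notation "κ" => H0.cj

variable {G : Type*} [Group G] [Finite G] {X : Dx G} {g u v : G}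

/-- the cyclic case -/
structure Cy (X : Dx G) : Prop extends X.S3 0 where
  cyc : ∀ x ∈ X.Λ, x = 0 ∨ x = 1

/-- translations by `xb` -/
def eb (X : Dx G) (x : F4) : G := κ X.wa (X.e x)

theorem c_R (x : F4) : X.xc x ∈ X.R := Z2_R (c_Z2 x)
theorem z_R (x : F4) : X.z x ∈ X.R := Z2_R (z_Z2 x)

section
variable (h : Cy X)
include h

theorem tK : X.r 1 ∈ X.K := h.rK 1 h.one
theorem tt : X.r 1 * X.r 1 = 1 := h.toS1.rr h.one
theorem t1 : X.r 1 ≠ 1 := fun e => one_ne_zero (h.r_inj 1 h.one e)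
theorem tI : X.I (X.r 1) := h.toS1.I_r h.one one_ne_zero
theorem tL (hu : u ∈ X.L) : Commute (X.r 1) u := (mem_C'.1 (tK h) u hu)
theorem tN : C{X.r 1} ≤ N[X.L] := h.toS1.C_r h.one one_ne_zero

theorem mem_T : u ∈ X.T ↔ u = 1 ∨ u = X.r 1 := by
  rw [h.toS1.mem_T]
  constructor
  · rintro ⟨x, hx, rfl⟩
    rcases h.cyc x hx with rfl | rfl
    exacts [Or.inl h.toS1.r0, Or.inr rfl]
  · rintro (rfl | rfl)
    exacts [⟨0, zero_mem _, h.toS1.r0.symm⟩, ⟨1, h.one, rfl⟩]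

theorem C_T (hu : u ∈ C{X.r 1}) : u ∈ C[X.T] := mem_C'.2 fun v hv => by
  rcases (mem_T h).1 hv with rfl | rfl
  exacts [by simp, mem_C1.1 hu]

theorem CQ (h1 : g ∈ C[X.Q]) (h2 : g ∈ C[X.T]) : ∃ e ∈ X.T ⊔ X.Z, ∃ o ∈ X.O, g = e * o := by
  have QL := Q_S.trans h.S_L
  obtain ⟨x, hx, m, hm, o, ho, rfl⟩ := h.toS1.CX QL (h.aut_Q (h.toS1.CT_N h2) (C_anti Z_Q h1) fun v => by
    rw [conj_eq_of_mem_C h1 (q_Q v), mul_inv_cancel]; exact one_mem _) h2
  exact ⟨_, mul_mem (mem_sup_left (r_T hx)) (mem_sup_right (h.CQZ (Q_P hm) ((mul_mem_cancel_left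
    (C_anti QL (h.rK x hx))).1 ((mul_mem_cancel_right (C_anti QL (O_K ho))).1 h1)))), o, ho, rfl⟩

theorem tO (hu : u ∈ X.O) : Commute (X.r 1) u := mem_C.1 (O_T hu) _ (r_T h.one)
theorem LO (hv : v ∈ X.L) (hu : u ∈ X.O) : Commute v u := mem_C.1 (O_K hu) _ hv
theorem ba (x y : F4) : X.xb y * X.xc x = X.xc x * X.xb y * X.z (x * y) := by
  rw [h.cb, mul_assoc, h.zz, mul_one]

theorem e_add (x y : F4) : X.e (x + y) = X.e x * X.e y := by rw [e, e, e, h.d_add, conj_mul]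
theorem eb_add (x y : F4) : eb X (x + y) = eb X x * eb X y := by rw [eb, e_add h, H0.cj_mul]; rfl
theorem dd (x : F4) : X.d x * X.d x = 1 := add_sq h.d_add x
theorem pp (x : F4) : X.e x * X.e x = 1 := add_sq (e_add h) x
theorem pp' (x : F4) : eb X x * eb X x = 1 := add_sq (eb_add h) x
theorem dS (x : F4) (hu : u ∈ X.S) : Commute (X.d x) u := mem_C'.1 (h.dP x) u (S_P hu)
theorem pR (x : F4) (hu : u ∈ X.R) : Commute (X.e x) u :=
  mem_C'.1 (conj_mem (N_le_NC _ h.wb_NR) (C_anti (R_S.trans S_P) (h.dP x))) u hu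
theorem eO (x : F4) : X.e x ∈ C[X.O] := conj_mem (norm_self _ (cents_symm O_K h.wbL)) (h.dO x)
theorem pd (x y : F4) : Commute (X.e x) (X.d y) := by
  have := h.ed x y
  simp only [zero_mul, h.c0, h.z0, mul_one] at this
  exact H0.cj_eq_self.1 this
theorem bp (x y : F4) : X.xb y * X.e x = X.e x * X.xb y * X.d (y * x) := by
  have := h.be y x
  simp only [zero_mul, h.c0, h.toS1.r0, mul_one] at this
  rw [mul_assoc, ← (dS h _ (b_S y)).eq, ← mul_assoc, ← this, inv_mul_cancel_right]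
theorem k_pb (x y : F4) : κ (X.e x) (X.xb y) = X.xb y * X.d (y * x) := by
  rw [H0.cj, inv_eq_of_mul_eq_one_right (pp h x), mul_assoc, bp h, mul_assoc, ← mul_assoc, pp h,
    one_mul]
theorem k_dt (x : F4) : κ (X.d x) (X.r 1) = X.r 1 * X.z x := by
  simpa [H0.cj] using h.dr x 1 h.one
theorem k_pt (x : F4) : κ (X.e x) (X.r 1) = X.r 1 * X.xc x := by
  have := congrArg (κ X.wb) (k_dt h x)
  rw [H0.cj_cj_conj, H0.cj_mul, H0.cj_of_commute (tL h h.wbL).symm] at this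
  exact this.trans (congrArg _ (h.wb_z x))
theorem k_tp (x : F4) : κ (X.r 1) (X.e x) = X.e x * X.xc x := by
  rw [(pR h x (c_R x)).eq, H0.cj, inv_eq_of_mul_eq_one_right (tt h), mul_assoc,
    cj_sq (k_pt h x), mul_assoc, ← mul_assoc, tt h, one_mul]
theorem k_td (x : F4) : κ (X.r 1) (X.d x) = X.d x * X.z x := by
  rw [(dS h x (z_S x)).eq, H0.cj, inv_eq_of_mul_eq_one_right (tt h), mul_assoc,
    cj_sq (k_dt h x), mul_assoc, ← mul_assoc, tt h, one_mul]

theorem wc (x : F4) : κ X.wa (X.xc x) = X.xb x := h.wa_c x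
theorem wd (x : F4) : κ X.wa (X.d x) = X.d x := H0.cj_of_commute (mem_C.1 (h.dP x) _ wa_P)
theorem sy (x : F4) (e : Commute (X.e x) u) (e' : X.wa * u * X.wa⁻¹ = v) : Commute (eb X x) v :=
  e' ▸ H0.commute_cj.2 e
theorem pd' (x y : F4) : Commute (eb X x) (X.d y) := sy h x (pd h x y) (wd h y)
theorem pb' (x y : F4) : Commute (eb X x) (X.xb y) := sy h x (pR h x (c_R y)) (h.wa_c y)
theorem pz' (x y : F4) : Commute (eb X x) (X.z y) := sy h x (pR h x (z_R y)) (h.wa_z y)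
theorem k_pb' (x y : F4) : κ (eb X x) (X.xc y) = X.xc y * X.d (y * x) := by
  have := congrArg (κ X.wa) (k_pb h x y)
  rwa [H0.cj_cj_conj, H0.cj_mul, wd h, show κ X.wa (X.xb y) = _ from h.wa_b y] at this
theorem k_pt' (x : F4) : κ (eb X x) (X.r 1) = X.r 1 * X.xb x := by
  have := congrArg (κ X.wa) (k_pt h x)
  rwa [H0.cj_cj_conj, H0.cj_mul, wc h, H0.cj_of_commute (tL h h.waL).symm] at this

theorem he (x : F4) : κ X.h (X.e x) = X.e (om * om * x) := by
  have e : X.h * X.wb = X.wb * (X.h * X.h * X.k) := by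
    rw [eq_inv_of_mul_eq_one_left h.hhh, ← h.wbh, h.wbi]
    simp only [← mul_assoc, h.wbb, one_mul]
  have k : κ X.k (X.d x) = X.d x := H0.cj_of_commute (mem_C.1 (h.dP x) _ k_P)
  have k' : ∀ x, κ X.h (X.d x) = X.d (om * x) := h.hd
  change κ _ (κ _ _) = κ _ _
  rw [H0.cj_cj, e, ← H0.cj_cj, ← H0.cj_cj, ← H0.cj_cj, k, k', k', mul_assoc]
theorem he' (x : F4) : κ X.h (eb X x) = eb X (om * om * x) := by
  rw [eb, eb, ← he h, H0.cj_cj, H0.cj_cj, mul_inv_eq_iff_eq_mul.1 h.wah]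

theorem dz_inj {c k : F4} (e : X.d c * X.z k ∈ C{X.r 1}) : c = 0 := by
  have := H0.cj_eq_self.2 (show Commute (X.r 1) _ from (mem_C1.1 e).symm)
  rw [H0.cj_mul, k_td h, H0.cj_of_commute (tL h (h.zL k))] at this
  exact h.z_inj c (by simpa using this)

theorem y_Q (x e : F4) : X.e x * eb X e * (X.e x * eb X e) ∈ C[X.Q] := by
  have k : ∀ u, Commute (X.e x) u → Commute (eb X e) u → u ∈ C{X.e x * eb X e * (X.e x * eb X e)} :=
    fun u a b => mem_C1.2 ((a.mul_left b).mul_left (a.mul_left b)).symm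
  refine mem_C_iff_le_C1.2 (Q_le (fun y => mem_C1_comm.1 (mem_C1.2 (H0.cj_eq_self.1 ?_))) (Z3_le
    (fun y => k _ (pR h x (Z3_R (x1_Z3 y))) (sy h e (pR h e (Z3_R (x2_Z3 y))) (h.wa_2 y)))
    (fun y => k _ (pR h x (Z3_R (x2_Z3 y))) (sy h e (pR h e (Z3_R (x1_Z3 y))) (h.wa_1 y)))
    (fun y => mem_C1_comm.1 (mem_C1.2 (H0.cj_eq_self.1 ?_))) fun y => k _ (pR h x (z_R y)) (pz' h e y)))
  · simp only [← H0.cj_cj, k_pb h, H0.cj_mul, H0.cj_of_commute (pb' h e _),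
      H0.cj_of_commute (pd h x _), H0.cj_of_commute (pd' h e _), mul_assoc, dd h, mul_one]
  · simp only [← H0.cj_cj, k_pb' h, H0.cj_mul, H0.cj_of_commute (pR h x (c_R _)),
      H0.cj_of_commute (pd h x _), H0.cj_of_commute (pd' h e _), mul_assoc, dd h, mul_one]

theorem y_eq (x e : F4) :
    ∃ c, X.e x * eb X e * (X.e x * eb X e) = X.d (x * e) * X.z c := by
  by_cases hx : x = 0
  · exact ⟨0, by rw [hx, add0 (e_add h), one_mul, pp' h, zero_mul, add0 h.d_add, h.z0,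
      one_mul]⟩
  set y := X.e x * eb X e * (X.e x * eb X e) with hy
  have yi : y⁻¹ = eb X e * X.e x * (eb X e * X.e x) := by
    simp only [hy, mul_inv_rev, inv_eq_of_mul_eq_one_right (pp h x),
      inv_eq_of_mul_eq_one_right (pp' h e), mul_assoc]
  have yS : y ∈ C[X.Q] := y_Q h x e
  have yt : κ y (X.r 1) = X.r 1 * X.z (x * e) := by
    have k : ∀ y, κ (eb X e) (X.xc y) = X.xc y * X.d (y * e) := k_pb' h e
    have k0 : κ (eb X e) (X.r 1) = X.r 1 * X.xb e := k_pt' h e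
    have k1 : ∀ y, κ (eb X e) (X.d y) = X.d y := fun y => H0.cj_of_commute (pd' h e y)
    have k2 : ∀ y, κ (eb X e) (X.xb y) = X.xb y := fun y =>
      H0.cj_of_commute (pb' h e y)
    have k3 : X.r 1 * X.xb e * (X.xc x * X.d (x * e)) * (X.xb e * X.d (e * x)) =
        X.r 1 * X.xc x * X.z (x * e) := by
      rw [mul_comm e x, ← (dS h _ (b_S e)).eq, mul_assoc _ (X.xc x * _), mul_assoc (X.xc x),
        ← mul_assoc (X.d _), dd h, one_mul, mul_assoc, ← mul_assoc (X.xb e), ba h, mul_assoc _ (X.z _),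
        h.zb, mul_assoc (X.xc x), ← mul_assoc (X.xb e), h.bb, one_mul, mul_assoc]
    rw [hy, ← H0.cj_cj, ← H0.cj_cj, ← H0.cj_cj, k0, H0.cj_mul, k_pt h, k_pb h,
      H0.cj_mul (eb X e), H0.cj_mul (eb X e), H0.cj_mul (eb X e), k0, k, k1, k2, k3,
      H0.cj_mul, H0.cj_mul, k_pt h,
      H0.cj_of_commute (pR h x (c_R _)), H0.cj_of_commute (pR h x (z_R _)), mul_assoc (X.r 1),
      h.cc, mul_one]
  obtain ⟨j, hj, o, ho, e1⟩ := CQ h (g := X.d (x * e) * y) (mul_mem (C_anti Q_P (h.dP _)) yS)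
    (C_T h (mem_C1.2 (H0.cj_eq_self.1 (by
      rw [← H0.cj_cj, yt, H0.cj_mul, k_dt h, H0.cj_of_commute (dS h _ (z_S _)), mul_assoc,
        h.zz, mul_one]))))
  obtain ⟨ρ, hρ, _, hz, rfl⟩ := (mem_sup_of_norm (norm_of_cent (Z_le fun c => C_T h
    (mem_C1.2 (tL h (h.zL c)).symm.eq)))).1 hj
  obtain ⟨c, rfl⟩ := h.mem_Z.1 hz
  have e2 : y = X.d (x * e) * ρ * (X.z c * o) := by
    rw [mul_assoc, ← mul_assoc ρ, ← e1, ← mul_assoc, dd h, one_mul]
  have e3 : κ (X.e x) y * y = 1 := by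
    rw [show κ (X.e x) y = y⁻¹ by
      rw [yi, hy, H0.cj, inv_eq_of_mul_eq_one_right (pp h x)]
      simp only [mul_assoc, ← mul_assoc (X.e x) (X.e x), pp h, one_mul], inv_mul_cancel]
  have c1 : Commute (X.z c * o) (X.d (x * e)) :=
    (dS h _ (z_S c)).symm.mul_left (mem_C.1 (h.dO _) o ho)
  have c2 : Commute (X.z c * o) (X.r 1) := (tL h (h.zL c)).symm.mul_left (tO h ho).symm
  have c3 : κ (X.e x) (X.z c * o) = X.z c * o :=
    H0.cj_of_commute ((pR h x (z_R c)).mul_right (mem_C'.1 (eO h x) o ho))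
  have c4 : X.z c * o * (X.z c * o) = o * o := by
    rw [mul_assoc, ← mul_assoc o, ← (LO h (h.zL c) ho).eq, mul_assoc, ← mul_assoc, h.zz,
      one_mul]
  rw [e2, H0.cj_mul, H0.cj_mul, c3, H0.cj_of_commute (pd h _ _)] at e3
  rcases (mem_T h).1 hρ with rfl | rfl
  · rw [show κ (X.e x) 1 = 1 by simp [H0.cj], mul_one, mul_assoc, ← mul_assoc (X.z c * o), c1.eq,
      mul_assoc (X.d _), c4, ← mul_assoc, dd h, one_mul] at e3
    exact ⟨c, by rw [e2, eq_one_of_odd_sq (O_odd.piElt ho) e3, mul_one, mul_one]⟩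
  · exfalso
    rw [k_pt h, mul_assoc, ← mul_assoc (X.z c * o), (c1.mul_right c2).eq, mul_assoc (X.d _ * X.r 1),
      c4, ← mul_assoc, (tL h (h.cL x)).eq, ← mul_assoc (X.d _), (dS h _ (c_S x)).eq,
      show X.xc x * X.d (x * e) * X.r 1 * (X.d (x * e) * X.r 1) =
        X.xc x * (κ (X.d (x * e)) (X.r 1) * (X.d (x * e) * X.d (x * e)) * X.r 1) by
          simp only [H0.cj]; group,
      dd h, mul_one, k_dt h, mul_assoc (X.r 1), ← (tL h (h.zL _)).eq, ← mul_assoc (X.r 1), tt h,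
      one_mul] at e3
    have m : X.xc x * X.z (x * e) ∈ X.K := by
      rw [eq_inv_of_mul_eq_one_left e3]
      exact inv_mem (O_K (mul_mem ho ho))
    have := h.LK.le ⟨mul_mem (h.cL x) (h.zL _), m⟩
    exact hx (h.a_mem_Z (mem_bot.1 this ▸ one_mem _))

end

/-- the commutator relation of the two groups of translations -/
def Cm (X : Dx G) (n : F4) : Prop :=
  ∀ x e, eb X e * X.e x = X.e x * eb X e * (X.d (x * e) * X.z (n * (x * e)))

theorem exists_cm (h : Cy X) : ∃ n, Cm X n := by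
  choose c hc using y_eq h
  have zz : ∀ a k, X.d a * X.z k * (X.d a * X.z k) = 1 := fun a k => by
    rw [mul_assoc, ← mul_assoc (X.z k), ← (dS h a (z_S k)).eq, mul_assoc, h.zz, mul_one, dd h]
  have k : ∀ x e, eb X e * X.e x = X.e x * eb X e * (X.d (x * e) * X.z (c x e)) := by
    intro x e
    rw [← inv_eq_of_mul_eq_one_right (zz _ _), ← hc, mul_inv_rev, ← mul_assoc, mul_inv_cancel,
      one_mul, mul_inv_rev, inv_eq_of_mul_eq_one_right (pp h x),
      inv_eq_of_mul_eq_one_right (pp' h e)]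
  have m : ∀ a b k l, X.d a * X.z k * (X.d b * X.z l) = X.d (a + b) * X.z (k + l) := by
    intro a b k l
    rw [h.d_add, h.z_add, mul_assoc, ← mul_assoc (X.z k), ← (dS h b (z_S k)).eq]; group
  have cp : ∀ a k x, Commute (X.d a * X.z k) (X.e x) := fun a k x =>
    (pd h x a).symm.mul_left (pR h x (z_R k)).symm
  have cq : ∀ a k x, Commute (X.d a * X.z k) (eb X x) := fun a k x =>
    (pd' h x a).symm.mul_left (pz' h x k).symm
  refine ⟨c 1 1, fun x e => ?_⟩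
  rw [← bil (fun x x' e => ?_) (fun x e e' => ?_) fun x e => ?_]
  · exact k x e
  · have := add_comm_rel (k x e) (k x' e) (cp _ _ _)
    rw [← (e_add h), k, m, add_comm (x' * e), ← add_mul] at this
    rw [add_comm (c x e)]
    exact h.z_eq (mul_left_cancel (mul_left_cancel this))
  · have k' : ∀ x e, X.e x * eb X e = eb X e * X.e x * (X.d (x * e) * X.z (c x e)) :=
      fun x e => by rw [k, mul_assoc, zz, mul_one]
    have := add_comm_rel (k' x e) (k' x e') (cq _ _ _)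
    rw [← (eb_add h), k', m, add_comm (x * e'), ← mul_add] at this
    rw [add_comm (c x e)]
    exact h.z_eq (mul_left_cancel (mul_left_cancel this))
  · have := congrArg (κ X.h) (k x e)
    have a1 : ∀ x, κ X.h (X.e x) = X.e (om * om * x) := he h
    have a2 : ∀ x, κ X.h (eb X x) = eb X (om * om * x) := he' h
    have a3 : ∀ x, κ X.h (X.d x) = X.d (om * x) := h.hd
    have a4 : ∀ x, κ X.h (X.z x) = X.z (om * x) := h.hz
    simp only [H0.cj_mul, a1, a2, a3, a4] at this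
    rw [k, (by decide : ∀ x e : F4, om * om * x * (om * om * e) = om * (x * e))] at this
    exact h.z_eq (mul_left_cancel (mul_left_cancel this))

/-- the first root group -/
def AA (X : Dx G) (n : F4) (α : QA n) : G := X.e α.im * X.xc α.re
/-- the centre -/
def ZZ (X : Dx G) (n : F4) (α : QA n) : G := X.d α.im * X.z α.re

theorem AA_add (h : Cy X) (n : F4) (x y : QA n) : AA X n (x + y) = AA X n x * AA X n y := by
  simp only [AA, QuadraticAlgebra.im_add, QuadraticAlgebra.re_add, (e_add h), h.c_add]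
  rw [mul_assoc, mul_assoc, ← mul_assoc (X.e y.im), (pR h _ (c_R _)).eq, mul_assoc]

theorem AZ (h : Cy X) (n : F4) (x c : QA n) : ZZ X n c * AA X n x = AA X n x * ZZ X n c :=
  (((pd h _ _).symm.mul_right (dS h _ (c_S _))).mul_left
    ((pR h _ (z_R _)).symm.mul_right (h.zc _ _))).eq

theorem ZZ_add (h : Cy X) (n : F4) (x y : QA n) : ZZ X n (x + y) = ZZ X n x * ZZ X n y := by
  simp only [ZZ, QuadraticAlgebra.im_add, QuadraticAlgebra.re_add, h.d_add, h.z_add]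
  rw [mul_assoc, mul_assoc, ← mul_assoc (X.d y.im), (dS h _ (z_S _)).eq, mul_assoc]

theorem ZZ_d (h : Cy X) (n c : F4) : ZZ X n ⟨0, c⟩ = X.d c := by rw [ZZ, h.z0, mul_one]
theorem ZZ_z (h : Cy X) (n c : F4) : ZZ X n ⟨c, 0⟩ = X.z c := by rw [ZZ, add0 h.d_add, one_mul]
theorem AA_a (h : Cy X) (n c : F4) : AA X n ⟨c, 0⟩ = X.xc c := by
  rw [AA, add0 (e_add h), one_mul]

/-- the second root group -/
def BB (X : Dx G) (n : F4) (α : QA n) : G := eb X α.im * X.xb α.re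

theorem w_A (h : Cy X) (n : F4) (x : QA n) : κ X.wa (AA X n x) = BB X n x := by
  rw [AA, H0.cj_mul, wc h]; rfl
theorem w_B (h : Cy X) (n : F4) (x : QA n) : κ X.wa (BB X n x) = AA X n x := by
  rw [← w_A h, H0.cj_cj, h.waa, H0.cj_one]
theorem P_Z (h : Cy X) (n : F4) (hu : u ∈ X.P) (x : QA n) : κ u (ZZ X n x) = ZZ X n x :=
  H0.cj_of_commute ((show Commute _ _ from mem_C.1 (h.dP _) _ hu).mul_right
    (mem_C'.1 (h.P_CZ hu) _ (z_Z _)))

theorem hs (h : Cy X) {n : F4} (hn : Cm X n) : Hs (AA X n) (BB X n) (ZZ X n) := by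
  refine ⟨p16 n, AA_add h n, fun x y => by rw [← w_A h, ← w_A h, ← w_A h, AA_add h, H0.cj_mul],
    ZZ_add h n, AZ h n, fun x c => by
      rw [← w_A h, ← P_Z h n wa_P, ← H0.cj_mul, ← H0.cj_mul, AZ h], fun x y => ?_, fun c e => ?_⟩
  · have k : eb X y.im * X.xc x.re = X.xc x.re * eb X y.im * X.d (x.re * y.im) := by
      rw [cj_sq (k_pb' h y.im x.re), mul_assoc, mul_assoc, (pd' h _ _).eq]
    refine (four (bp h x.im y.re) (hn x.im y.im) (ba h x.re y.re) k (dS h _ (c_S _))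
      ((dS h _ (c_S _)).mul_left (h.zc _ _)) ((dS h _ (b_S _)).mul_left (h.zb _ _))
      (dS h _ (b_S _))).trans ?_
    congr 1
    rw [show X.d (x.im * y.im) * X.z (n * (x.im * y.im)) = ZZ X n ⟨n * (x.im * y.im), x.im * y.im⟩
      from rfl, ← ZZ_d h n, ← ZZ_d h n, ← ZZ_z h n, ← ZZ_add h, ← ZZ_add h, ← ZZ_add h]
    congr 1
    ext <;> simp <;> ring
  · have : c.im = 0 := dz_inj h (k := c.re) (by rw [show X.d c.im * X.z c.re = 1 from e]; simp)
    rw [ZZ, this, add0 h.d_add, one_mul] at e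
    exact QuadraticAlgebra.ext (h.z_inj _ e) this

theorem k_tA (h : Cy X) (n : F4) (x : QA n) : κ (X.r 1) (AA X n x) = AA X n (star x) := by
  rw [AA, AA, H0.cj_mul, k_tp h, H0.cj_of_commute (tL h (h.cL _)), QuadraticAlgebra.re_star,
    QuadraticAlgebra.im_star, one_mul, add_comm, h.c_add, mul_assoc]
  rfl

theorem k_tZ (h : Cy X) (n : F4) (x : QA n) : κ (X.r 1) (ZZ X n x) = ZZ X n (star x) := by
  rw [ZZ, ZZ, H0.cj_mul, k_td h, H0.cj_of_commute (tL h (h.zL _)), QuadraticAlgebra.re_star,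
    QuadraticAlgebra.im_star, one_mul, add_comm, h.z_add, mul_assoc]
  rfl

theorem hs_cj {R : Type*} [CommRing R] {A B A' B' Z : R → G} (h : Hs A B Z) (g : G)
    (hA : ∀ x, κ g (A x) = A' x) (hB : ∀ x, κ g (B x) = B' x) (hZ : ∀ x, κ g (Z x) = Z x) :
    Hs A' B' Z :=
  ⟨h.p16, fun x y => by rw [← hA, ← hA, ← hA, h.a_add, H0.cj_mul],
    fun x y => by rw [← hB, ← hB, ← hB, h.b_add, H0.cj_mul], h.z_add,
    fun x c => by rw [← hA, ← hZ, ← H0.cj_mul, ← H0.cj_mul, h.az],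
    fun x c => by rw [← hB, ← hZ, ← H0.cj_mul, ← H0.cj_mul, h.bz],
    fun x y => by rw [← hA, ← hB, ← hZ, ← H0.cj_mul, ← H0.cj_mul, ← H0.cj_mul, h.ba], h.z_inj⟩

/-- the four root groups -/
def GG (X : Dx G) (n i : F4) (α : QA n) : G := κ (X.xa i) (BB X n α)

variable {n : F4} {w : F4 → QA n}

theorem a_G (h : Cy X) (r i : F4) (x : QA n) : κ (X.xa r) (GG X n i x) = GG X n (r + i) x := by
  rw [GG, H0.cj_cj, ← h.a_add, GG]

theorem hq (h : Cy X) (hn : Cm X n) : Hq (GG X n) (ZZ X n) := by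
  have a : ∀ x, κ X.wa (GG X n 1 x) = GG X n 1 x := fun x => by
    have e : κ (X.xa 1) (AA X n x) = AA X n x := H0.cj_of_commute
      ((pR h _ (a_R 1)).symm.mul_right (h.ca _ _).symm)
    rw [GG, ← w_A h, H0.cj_cj, H0.cj_cj, H0.cj_cj, h.bra, ← H0.cj_cj, e]
  have b : ∀ i x, κ X.k (GG X n i x) = GG X n (om * om * i) x := fun i x => by
    have e : κ X.k (AA X n x) = AA X n x := by
      rw [AA, H0.cj_mul, show κ X.k (X.xc _) = _ from h.kc _]
      congr 1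
      change κ _ (κ _ _) = κ _ _
      rw [H0.cj_cj, ← mul_inv_eq_iff_eq_mul.1 h.wbk, ← H0.cj_cj,
        H0.cj_of_commute (mem_C.1 (h.dP _) _ k_P)]
    have e' : κ X.k (BB X n x) = BB X n x := by
      rw [← w_A h, ← e, H0.cj_cj, H0.cj_cj, mul_assoc, mul_inv_eq_iff_eq_mul.1 h.wak,
        mul_inv_cancel_left, e]
    rw [GG, H0.cj_cj_conj, e', GG, ← h.ka]; rfl
  have h1 := hs_cj (hs_cj (hs h hn) (X.xa 1) (A' := AA X n) (B' := GG X n 1) (fun x => H0.cj_of_commute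
      ((pR h _ (a_R 1)).symm.mul_right (h.ca _ _).symm)) (fun _ => rfl) (P_Z h n (S_P (a_S 1)))) X.wa
    (A' := GG X n 0) (fun x => by rw [GG, h.a0, H0.cj_one, w_A h]) a (P_Z h n wa_P)
  have st : ∀ s, Hs (GG X n 0) (GG X n s) (ZZ X n) → Hs (GG X n 0) (GG X n (om * om * s)) (ZZ X n) :=
    fun s k => hs_cj k X.k (fun x => by rw [b, mul_zero]) (b s) (P_Z h n k_P)
  have h2 : ∀ s, s ≠ 0 → Hs (GG X n 0) (GG X n s) (ZZ X n) := fun s hs => by
    rcases (by decide : ∀ s : F4, s ≠ 0 → s = 1 ∨ s = om * om * 1 ∨ s = om * om * (om * om * 1)) s hs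
      with rfl | rfl | rfl
    exacts [h1, st _ h1, st _ (st _ h1)]
  exact ⟨fun i j k => hs_cj (h2 (i + j) fun e => k (f4_eq e)) (X.xa i) (fun x => by rw [a_G h, add_zero])
    (fun x => by rw [a_G h, ← add_assoc, f4_add_self, zero_add]) (P_Z h n (S_P (a_S i)))⟩

section
variable (h : Cy X) (hn : Cm X n)
include h hn

theorem P_CD : X.P ≤ C[(hq h hn).D] := fun _ hu => mem_C'.2 (by
  rintro _ ⟨c, rfl⟩; exact H0.cj_eq_self.1 (P_Z h n hu c))

theorem t_ND : X.r 1 ∈ N[(hq h hn).D] := mem_N_of_finite (by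
  rintro _ ⟨c, rfl⟩; exact ⟨_, k_tZ h n c⟩)

theorem rt (p : Rp (GG X n) (ZZ X n) u w) : Rp (GG X n) (ZZ X n) (κ (X.r 1) u) (star w) :=
  (hq h hn).rcj star star_add (t_ND h hn) (fun i a => by
    have : κ (X.r 1) (GG X n i a) = GG X n i (star a) := by
      rw [GG, GG, ← w_A h, ← w_A h, ← k_tA h, H0.cj_cj, H0.cj_cj, H0.cj_cj, H0.cj_cj, mul_assoc,
        (tL h (mul_mem (h.aL i) h.waL)).eq]
    rw [show X.r 1 * _ * _ = _ from this, ← Pi.single_star]
    exact (hq h hn).ra i _) p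

theorem rx (r : F4) (p : Rp (GG X n) (ZZ X n) u w) :
    Rp (GG X n) (ZZ X n) (X.xa r * u * (X.xa r)⁻¹) fun i => w (i + r) :=
  (hq h hn).rcj (fun v i => v (i + r)) (fun _ _ => rfl) (C_le_N _ (P_CD h hn (S_P (a_S r)))) (fun i a => by
    rw [show X.xa r * _ * _ = _ from a_G h r i a, show (fun j => (Pi.single i a : F4 → QA n) (j + r)) =
      Pi.single (r + i) a from funext fun j => by
        simp only [Pi.single_apply, (by decide : ∀ i j r : F4, j + r = i ↔ j = r + i)]]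
    exact (hq h hn).ra _ _) p

theorem t_NU : X.r 1 ∈ N[(hq h hn).U] := mem_N_of_finite fun _ ⟨_, p⟩ => ⟨_, rt h hn p⟩

theorem d_D (c : F4) : X.d c ∈ (hq h hn).D := ⟨_, (ZZ_d h n c).symm⟩
theorem z_D (c : F4) : X.z c ∈ (hq h hn).D := ⟨_, (ZZ_z h n c).symm⟩

theorem Q_U : X.Q ≤ (hq h hn).U := by
  have H := hq h hn
  have z : ∀ c, X.z c ∈ H.U := fun c => H.D_U (z_D h hn c)
  have a : ∀ {v w}, X.q v ∈ H.U → X.q w ∈ H.U → X.q (v + w) ∈ H.U := fun p q =>
    (mul_mem_cancel_right (z _)).1 (h.q_mul _ _ ▸ mul_mem p q)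
  have b : ∀ r y, X.q (Aa r (y, 0, 0, 0)) ∈ H.U := fun r y => (mul_mem_cancel_right (z _)).1 (by
    have := H.a_U r ⟨y, 0⟩
    rwa [GG, BB, add0 (eb_add h), one_mul, ← h.qb, H0.cj, h.a_q] at this)
  have c : ∀ v, X.q v ∈ H.U := fun v => by
    obtain ⟨x, y, s, t, rfl⟩ := (by decide +kernel : ∀ v : V, ∃ x y s t, v = Aa 0 (x, 0, 0, 0) +
      Aa 1 (y, 0, 0, 0) + Aa om (s, 0, 0, 0) + Aa (om + 1) (t, 0, 0, 0)) v
    exact a (a (a (b _ _) (b _ _)) (b _ _)) (b _ _)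
  intro u hu
  obtain ⟨v, k, rfl⟩ := h.mem_Q.1 hu
  exact mul_mem (c v) (z k)

theorem S_NU : X.S ≤ N[(hq h hn).U] :=
  S_le (fun r => mem_N_of_finite fun _ ⟨_, p⟩ => ⟨_, rx h hn r p⟩) ((Q_U h hn).trans (norm_self _))

theorem D_t (hu : u ∈ (hq h hn).D) (h1 : u ∈ C{X.r 1}) : u ∈ X.Z := by
  obtain ⟨c, rfl⟩ := hu
  rw [ZZ, dz_inj h (c := c.im) (k := c.re) h1, add0 h.d_add, one_mul]
  exact z_Z _

theorem inv_conj (hu : u ∈ (hq h hn).U) (e : X.r 1 * u * (X.r 1 * u) = 1) :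
    ∃ v ∈ (hq h hn).U, v * X.r 1 * v⁻¹ = X.r 1 * u := by
  have H := hq h hn
  obtain ⟨w, p⟩ := hu
  have ti := inv_eq_of_mul_eq_one_right (tt h)
  have k : ∀ w : G, X.r 1 * w * (X.r 1 * w) = κ (X.r 1) w * w := fun w => by
    rw [H0.cj, ti, mul_assoc, mul_assoc, mul_assoc]
  have k' : ∀ w : G, w * X.r 1 * w⁻¹ = X.r 1 * (κ (X.r 1) w * w⁻¹) := fun w => by
    rw [H0.cj, ti, ← mul_assoc, ← mul_assoc, ← mul_assoc, tt h, one_mul]
  have t : star (⟨0, 1⟩ : QA n) = ⟨0, 1⟩ + 1 := (by decide : ∀ n : F4,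
    star (⟨0, 1⟩ : QA n) = ⟨0, 1⟩ + 1) n
  generalize (⟨0, 1⟩ : QA n) = θ at t
  have a : star w = w := H.v_eq (H.uniq (H.rmul (rt h hn p) p) (k u ▸ e ▸ H.rD.2 (one_mem _)))
  have b := H.rmul (H.rinv p) (H.rmul (rt h hn (H.rq (θ • w))) (H.rinv (H.rq (θ • w))))
  rw [star_smul, a, t, add_smul, one_smul, add_right_comm, H.vv, zero_add, H.vv, H.rD] at b
  obtain ⟨c, b⟩ := b
  have b' : qq (GG X n) (θ • w) * X.r 1 * (qq (GG X n) (θ • w))⁻¹ = X.r 1 * u * ZZ X n c := by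
    rw [k', mul_assoc, ← b, mul_inv_cancel_left]
  have uz : ∀ c, ZZ X n c * u = u * ZZ X n c := fun c => mem_C.1 (H.U_CD ⟨w, p⟩) _ (H.z_D c)
  have zt : ∀ c, ZZ X n c * (X.r 1 * u) = X.r 1 * u * ZZ X n (star c) := fun c => by
    rw [mul_assoc, ← uz, ← k_tZ h, H0.cj, ti, ← mul_assoc, ← mul_assoc, ← mul_assoc, ← mul_assoc, tt h,
      one_mul]
  have sc : star c = c := by
    have := conj_sq (tt h) (qq (GG X n) (θ • w))
    rw [b', mul_assoc, ← mul_assoc (ZZ X n c), zt, ← mul_assoc, ← mul_assoc, e, one_mul,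
      ← H.H.z_add] at this
    exact H.H.eq_of (H.H.z_inj _ this)
  refine ⟨_, mul_mem (H.D_U (H.z_D (θ * c))) (H.q_U (θ • w)), ?_⟩
  rw [show ∀ a b : G, a * b * X.r 1 * (a * b)⁻¹ = a * (b * X.r 1 * b⁻¹) * a⁻¹ from fun a b => by group,
    b', ← mul_assoc, zt, H.eaD.inv (H.z_D _), mul_assoc, mul_assoc, ← H.H.z_add, ← H.H.z_add,
    star_mul', t, sc, show (θ + 1) * c + (c + θ * c) = 0 by
      linear_combination H.H.two (θ * c + c), H.H.z0, mul_one]

end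

end H24.G4.CE
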