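import Mathlib
import Cfsg.Agent.H24.GwE2

/-! The cyclic case: recognising the centre of the Heisenberg group. -/

set_option autoImplicit false
set_option linter.unusedSectionVars false

namespace H24.G4.CE

open H26 H26.Gold Subgroup Dat Dx
open H9 (F4)
open H7.SJ (p2)
open H24.Sz (om f4_add_self)
open H25.SE (Hs QA add0 cj_sq card_QA)

local notation "κ" => H0.cj

variable {G : Type*} [Group G] [Finite G] {X : Dx G} {g u v x : G} {T D M : Subgroup G} {n : F4}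

theorem cy_cj (h : Cy X) (g : G) : Cy (X.cj g) := ⟨h.toS3.cj g, h.cyc⟩

section
variable (h : Cy X)
include h

theorem coset_I (c : F4) (hu : u ∈ X.Q) (e : X.d c * X.r 1 * u * (X.d c * X.r 1 * u) = 1) :
    X.I (X.d c * X.r 1 * u) := by
  obtain ⟨n, hn⟩ := exists_cm h
  have k : X.d c * X.r 1 * u = X.r 1 * (κ (X.r 1) (X.d c) * u) := by
    rw [H0.cj, inv_eq_of_mul_eq_one_right (tt h), ← mul_assoc, ← mul_assoc, ← mul_assoc, tt h, one_mul]
  rw [k] at e ⊢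
  obtain ⟨v, -, hv⟩ := inv_conj h hn (mul_mem (conj_mem (t_NU h hn) ((hq h hn).D_U (d_D h hn c)))
    (Q_U h hn hu)) e
  exact hv ▸ (tI h).conj v

theorem T_K (hT : TwoG T) (ht : X.r 1 ∈ T) (hu : u ∈ T) (h1 : u ∈ X.K) : u = 1 ∨ u = X.r 1 :=
  (mem_T h).1 (h.sylT.eq_of_le (hT.of_le inf_le_left) (le_inf (fun v hv => by
    rcases (mem_T h).1 hv with rfl | rfl
    exacts [one_mem _, ht]) h.sylT.le) inf_le_right ▸ (⟨hu, h1⟩ : u ∈ T ⊓ X.K))

theorem T_L (hT : TwoG T) (hS : X.S ≤ T) (hu : u ∈ T) (h1 : u ∈ X.L) : u ∈ X.S :=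
  h.syl.eq_of_le (hT.of_le inf_le_left) (le_inf hS h.S_L) inf_le_right ▸
    (⟨hu, h1⟩ : u ∈ T ⊓ X.L)

theorem no_I (hE : TwoG M) (hc : 16384 < ♯M) (hv : M ≤ C{v}) : ¬ X.I v := by
  rintro ⟨h1, h2, g, hg⟩
  have a := h.card_two (hE.cj g) ((cj_mono g hv).trans
    (cj_C1 g v ▸ h.toSt.C_N hg (fun e => h1 (conj_eq_one_iff'.1 e)) (conj_sq h2 g)))
  have b := Nat.le_of_dvd (card_pos _) (h.sylT.card_dvd ((hE.cj g).of_le inf_le_left) inf_le_right)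
  have c : ♯X.T ≤ 2 := by
    refine (card_le (B := zpowers (X.r 1)) fun w hw => ?_).trans ?_
    · rcases (mem_T h).1 hw with rfl | rfl
      exacts [one_mem _, mem_zpowers _]
    · rw [card_zpowers']
      exact Nat.le_of_dvd two_pos (orderOf_dvd_of_pow_eq_one (by rw [pow_two, tt h]))
  rw [card_cj] at a
  omega

end

theorem inner {X : Dat G} (h : X.Fr) (hx : x ∈ N[X.L]) (h2 : x * x ∈ C[X.S]) (hS : x ∈ N[X.S])
    (e : ∀ s ∈ X.S, x * s * x⁻¹ * s⁻¹ ∈ X.Z2) : x ∈ X.S ⊔ X.K := by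
  obtain ⟨y, z, hy, hz, y1, z1, rfl⟩ := exists_piElt_decomp {2} x
  have zz : z ∈ zpowers (y * z * (y * z)) := H7.SJ.mem_of_odd hz (by
    obtain ⟨k, e⟩ := z1
    refine ⟨k, ?_⟩
    have e' : (y * z) ^ k = z := e
    change (y * z * (y * z)) ^ k = z * z
    rw [(Commute.refl (y * z)).mul_zpow, e'])
  have zc : z ∈ C[X.S] := zpowers_le.2 h2 zz
  refine mul_mem ?_ (sup_le_sup_right Z_S _ (h.cent_S (zpowers_le.2 hx z1) zc))
  by_contra k
  obtain ⟨-, -, c, hc⟩ := h.two_lin (zpowers_le.2 hx y1) (zpowers_le.2 hS y1) hy k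
  have := e _ (b_S c)
  rw [show y * z * X.xb c * (y * z)⁻¹ = y * (z * X.xb c * z⁻¹) * y⁻¹ by group,
    conj_eq_of_mem_C zc (b_S c), h.bi] at this
  exact hc (Z2_Z3 this)

theorem Q_of {X : Dat G} (h : X.Fr) (hu : u ∈ X.S) (e : u * X.xb 1 * u⁻¹ * (X.xb 1)⁻¹ ∈ X.Z2) :
    u ∈ X.Q := by
  obtain ⟨r, w, c, rfl⟩ := h.mem_S.1 hu
  rw [h.bi, ← h.qb, h.conj_q, ← mul_one (X.q (1, 0, 0, 0)), ← h.z0, h.qz_mul] at e
  obtain ⟨y, e⟩ := h.q_mem_Z2 e
  obtain rfl : r = 0 := by simpa [Aa] using congrArg (·.2.1) e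
  rw [h.sq]
  exact mul_mem (q_Q _) (z_Q _)

/-- the hypotheses on a normal subgroup of order sixteen -/
structure Hy (X : Dx G) (T D : Subgroup G) : Prop where
  cy : Cy X
  two : TwoG T
  t : X.r 1 ∈ T
  S : X.S ≤ T
  le : D ≤ T
  nrm : T ≤ N[D]
  ea : EA D
  card : ♯D = 16
  noI : ∀ v ∈ D, ¬ X.I v
  gam : ∀ m ∈ T, ∀ m' ∈ T, m * m = 1 → m' * m' = 1 →
    (∀ v ∈ D, m * v * m⁻¹ = v ↔ m' * v * m'⁻¹ = v) → ∀ v ∈ D, m * v * m⁻¹ = m' * v * m'⁻¹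

namespace Hy

variable (k : Hy X T D)
include k

theorem cm (hv : v ∈ D) {s : G} (hs : s ∈ T) : v * s * v⁻¹ * s⁻¹ ∈ D := by
  have := mul_mem hv (conj_mem (k.nrm hs) (inv_mem hv))
  simpa [mul_assoc] using this

theorem DS : D ⊓ X.S ≤ X.Z2 := by
  by_contra e
  have := k.cy.nml_Z2 (k.ea.of_le inf_le_left) inf_le_right (norm_inf (k.S.trans k.nrm) (norm_self _)) e
  exact e (inf_le_left.trans (eq_of_card_ge (this.trans inf_le_left) (k.card.trans k.cy.card_Z2.symm).le).ge)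

theorem b0 (hv : v ∈ D) (hc : v ∈ C{X.r 1}) : v ∈ X.Z2 := by
  have h := k.cy
  have hN := tN h hc
  have vS : v ∈ N[X.S] := mem_N_of_finite fun s hs => T_L h k.two k.S
    (mul_mem (mul_mem (k.le hv) (k.S hs)) (inv_mem (k.le hv))) (conj_mem hN (h.S_L hs))
  have e : ∀ s ∈ X.S, v * s * v⁻¹ * s⁻¹ ∈ X.Z2 := fun s hs =>
    k.DS ⟨k.cm hv (k.S hs), X.S.mul_mem (conj_mem vS hs) (X.S.inv_mem hs)⟩
  obtain ⟨s, hs, j, hj, rfl⟩ := (h.mem_MK h.S_L).1 (inner h.toFr hN (by rw [k.ea.sq hv]; exact one_mem _) vS e)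
  rcases T_K h k.two k.t ((mul_mem_cancel_left (k.S hs)).1 (k.le hv)) hj with rfl | rfl
  · exact k.DS ⟨hv, by simpa using hs⟩
  · have sQ : s ∈ X.Q := Q_of h.toFr hs (by
      have := e _ (b_S 1)
      rwa [show s * X.r 1 * X.xb 1 * (s * X.r 1)⁻¹ = s * κ (X.r 1) (X.xb 1) * s⁻¹ by
        rw [H0.cj]; group, H0.cj_of_commute (tL h (h.bL 1))] at this)
    have e : s * X.r 1 = X.d 0 * X.r 1 * s := by
      rw [add0 h.d_add, one_mul, (tL h (h.S_L hs)).eq]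
    exact absurd (e ▸ coset_I h 0 sQ (e ▸ k.ea.sq hv)) (k.noI _ hv)

/-- commutation with the involution -/
def ph : D →* G := MonoidHom.mk' (fun v => v * X.r 1 * (v : G)⁻¹ * (X.r 1)⁻¹) fun a b => by
  have := k.ea.comm a.2 (k.cm b.2 k.t)
  calc _ = (a : G) * (b * X.r 1 * (b : G)⁻¹ * (X.r 1)⁻¹) * (X.r 1 * (a : G)⁻¹ * (X.r 1)⁻¹) := by
        rw [coe_mul]; group
    _ = (b * X.r 1 * (b : G)⁻¹ * (X.r 1)⁻¹) * (a * X.r 1 * (a : G)⁻¹ * (X.r 1)⁻¹) := by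
        rw [this]; group
    _ = _ := k.ea.comm (k.cm b.2 k.t) (k.cm a.2 k.t)

theorem ph_apply (v : D) : k.ph v = v * X.r 1 * (v : G)⁻¹ * (X.r 1)⁻¹ := rfl

theorem ph_C (v : D) : k.ph v ∈ C{X.r 1} := by
  have := k.ea.comm v.2 (conj_mem (k.nrm k.t) v.2)
  have ti := inv_eq_of_mul_eq_one_right (tt k.cy)
  rw [mem_C1, ph_apply, k.ea.inv v.2, ti, mul_assoc, tt k.cy, mul_one]
  rw [ti] at this
  calc _ = (v : G) * (X.r 1 * v * X.r 1) * X.r 1 := by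
        simp only [mul_assoc, tt k.cy, mul_one]
    _ = X.r 1 * v * X.r 1 * v * X.r 1 := by rw [this]
    _ = _ := by group

theorem ph_one {v : D} (e : k.ph v = 1) : (v : G) ∈ C{X.r 1} := by
  rw [ph_apply, mul_inv_eq_one] at e
  exact mem_C1_iff_conj.2 e

theorem ph_cj (v : D) {s : G} (hs : s ∈ X.S) :
    k.ph ⟨s * v * s⁻¹, conj_mem (k.nrm (k.S hs)) v.2⟩ = s * k.ph v * s⁻¹ := by
  have := H0.cj_of_commute (tL k.cy (k.cy.S_L hs)).symm
  rw [ph_apply, ph_apply]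
  conv_lhs => rw [← this]
  simp only [H0.cj]
  group

theorem card_ph : ♯k.ph.range ≤ 4 := by
  have a := k.ph.ker.card_mul_index
  rw [index_ker, k.card] at a
  have b : ♯k.ph.range ≤ ♯k.ph.ker := by
    rw [← card_map_of_injective D.subtype_injective]
    refine card_le ?_
    rintro _ ⟨v, rfl⟩
    refine ⟨⟨_, k.cm v.2 k.t⟩, ?_, rfl⟩
    change k.ph _ = 1
    rw [ph_apply, mul_inv_eq_one]
    exact mem_C1_iff_conj.1 (k.ph_C v)
  nlinarith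

theorem ph_Z (v : D) : k.ph v ∈ X.Z := by
  have h := k.cy
  obtain ⟨x, c, e⟩ := h.mem_Z2.1 (k.b0 (k.cm v.2 k.t) (k.ph_C v))
  change k.ph v = _ at e
  by_cases hx : x = 0
  · rw [e, hx, h.c0, one_mul]; exact z_Z c
  have : X.Z ≤ k.ph.range := h.nml_c (fun s hs => mem_N_of_finite (by
    rintro _ ⟨v, rfl⟩; exact ⟨_, k.ph_cj v hs⟩)) hx ⟨v, e⟩
  rw [eq_of_card_ge this (h.card_Z ▸ k.card_ph)]
  exact ⟨v, rfl⟩

theorem form (hv : v ∈ D) : ∃ c, ∃ s ∈ X.S, v = X.d c * s := by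
  have h := k.cy
  obtain ⟨c, hc⟩ := h.mem_Z.1 (k.ph_Z ⟨v, hv⟩)
  have vt : κ v (X.r 1) = X.r 1 * X.z c := by
    rw [(tL h (h.zL c)).eq, ← hc, ph_apply, inv_mul_cancel_right]; rfl
  have yt : X.d c * v ∈ C{X.r 1} := mem_C1.2 (H0.cj_eq_self.1 (by
    rw [← H0.cj_cj, vt, H0.cj_mul, k_dt h, H0.cj_of_commute (dS h _ (z_S _)), mul_assoc, h.zz,
      mul_one]))
  have e1 : ∀ s ∈ X.S, v * s * v⁻¹ * s⁻¹ ∈ X.Z2 := fun s hs => k.b0 (k.cm hv (k.S hs))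
    (k.ph_one (v := ⟨_, k.cm hv (k.S hs)⟩) (by
      have : (⟨_, k.cm hv (k.S hs)⟩ : D) =
          ⟨v, hv⟩ * (⟨s * v * s⁻¹, conj_mem (k.nrm (k.S hs)) hv⟩ : D)⁻¹ := Subtype.ext (by
        change _ = v * (s * v * s⁻¹)⁻¹; group)
      rw [this, map_mul, map_inv, k.ph_cj ⟨v, hv⟩ hs, hc, h.S_z hs, mul_inv_cancel_right,
        mul_inv_cancel]))
  have e2 : ∀ s ∈ X.S, v * s * v⁻¹ ∈ X.S := fun s hs => by simpa using mul_mem (Z2_S (e1 s hs)) hs
  have e3 : ∀ s ∈ X.S, κ (X.d c * v) s = v * s * v⁻¹ := fun s hs => by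
    rw [← H0.cj_cj]; exact H0.cj_of_commute (dS h c (e2 s hs))
  obtain ⟨x, hx, s, hs, o, ho, e4⟩ := h.toS1.CX h.S_L (inner h.toFr (tN h yt) (mem_C'.2 fun s hs =>
      H0.cj_eq_self.1 (by
        rw [← H0.cj_cj, e3 s hs, e3 _ (e2 s hs), show v * (v * s * v⁻¹) * v⁻¹ = v * v * s * (v * v)⁻¹
          by group, k.ea.sq hv]; group))
    (mem_N_of_finite fun s hs => by
      rw [show X.d c * v * s * (X.d c * v)⁻¹ = _ from e3 s hs]; exact e2 s hs) fun s hs => by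
      rw [show X.d c * v * s * (X.d c * v)⁻¹ = _ from e3 s hs]; exact e1 s hs) (C_T h yt)
  have sQ : s ∈ X.Q := Q_of h.toFr hs (by
    have := e1 _ (b_S 1)
    rwa [← e3 _ (b_S 1), e4, ← H0.cj_cj, ← H0.cj_cj, H0.cj_of_commute (LO h (h.bL 1) ho).symm,
      H0.cj_of_commute (x := κ s _)
        (mem_C'.1 (h.rK x hx) _ (conj_mem (norm_self _ (h.S_L hs)) (h.bL 1)))] at this)
  have hρ := r_T hx
  generalize X.r x = ρ at e4 hρ
  have e5 : v = X.d c * ρ * s * o := by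
    rw [mul_assoc, mul_assoc, ← mul_assoc ρ, ← e4, ← mul_assoc, dd h, one_mul]
  have c1 : Commute (X.d c * ρ * s) o :=
    ((show Commute _ _ from mem_C'.1 (h.dO c) o ho).mul_left (mem_C.1 (O_T ho) _ hρ)).mul_left
      (LO h (h.S_L hs) ho)
  have c2 : X.d c * ρ * s * (X.d c * ρ * s) ∈ X.L := by
    have c3 : Commute s (X.d c * ρ) :=
      (dS h c hs).symm.mul_right (mem_C.1 (h.sylT.le hρ) s (h.S_L hs))
    rw [mul_assoc, ← mul_assoc s, c3.eq, mul_assoc _ s, ← mul_assoc]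
    refine mul_mem ?_ (h.S_L (mul_mem hs hs))
    rcases (mem_T h).1 hρ with rfl | rfl
    · rw [mul_one, dd h]; exact one_mem _
    · nth_rw 1 [cj_sq (k_dt h c)]
      rw [mul_assoc, ← mul_assoc (X.d c), dd h, one_mul, (tL h (h.zL c)).eq, mul_assoc,
        tt h, mul_one]
      exact h.zL c
  have c4 : o * o = 1 := by
    have := k.ea.sq hv
    rw [e5, c1.symm.mul_mul_mul_comm] at this
    exact h.LK.le ⟨eq_inv_of_mul_eq_one_right this ▸ X.L.inv_mem c2, O_K (mul_mem ho ho)⟩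
  rw [eq_one_of_odd_sq (O_odd.piElt ho) c4, mul_one] at e5
  rcases (mem_T h).1 hρ with rfl | rfl
  · exact ⟨c, s, hs, by rw [e5, mul_one]⟩
  · exact absurd (e5 ▸ coset_I h c sQ (e5 ▸ k.ea.sq hv)) (k.noI _ hv)

theorem fin1 (e : ∀ c, ∀ s ∈ X.S, X.d c * s ∈ D → s ∈ X.Z2) (hv : v ∈ D) :
    ∃ c j, v = X.d c * X.z j := by
  have h := k.cy
  have a : ∀ c x j y, X.xb y * (X.d c * (X.xc x * X.z j)) * (X.xb y)⁻¹ =
      X.d c * (X.xc x * X.z j) * X.z (x * y) := fun c x j y => by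
    rw [← conj_mul, h.b_c, conj_eq_of_mem_C (cents_symm (le_refl C[X.P]) (b_P y)) (h.dP c), add_comm,
      h.z_add]
    simp only [mul_assoc]
  have b := k.gam _ (k.S (b_S 1)) _ (k.S (b_S om)) (h.bb _) (h.bb _) (fun w hw => by
    obtain ⟨c, s, hs, rfl⟩ := k.form hw
    obtain ⟨x, j, rfl⟩ := h.mem_Z2.1 (e c s hs hw)
    rw [a, a, mul_eq_left, mul_eq_left]
    exact ⟨fun e => by rw [show x = 0 by simpa using h.z_inj _ e, zero_mul, h.z0], fun e => by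
      rw [(mul_eq_zero.1 (h.z_inj _ e)).resolve_right (by decide), zero_mul, h.z0]⟩) v hv
  obtain ⟨c, s, hs, rfl⟩ := k.form hv
  obtain ⟨x, j, rfl⟩ := h.mem_Z2.1 (e c s hs hv)
  rw [a, a] at b
  have : x = 0 := (by decide : ∀ x : F4, x * 1 = x * om → x = 0) x (h.z_eq (mul_left_cancel b))
  exact ⟨c, j, by rw [this, h.c0, one_mul]⟩

theorem fin (hv : v ∈ D) : ∃ c j, v = X.d c * X.z j := by
  have h := k.cy
  have m : ∀ c c' s s', s ∈ X.S → X.d c * s * (X.d c' * s') = X.d (c + c') * (s * s') :=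
    fun c c' s s' hs => by
      rw [h.d_add, mul_assoc, ← mul_assoc s, ← (dS h c' hs).eq]; group
  have sq : ∀ c s, s ∈ X.S → X.d c * s ∈ D → s * s = 1 := fun c s hs hc => by
    have := k.ea.sq hc
    rwa [m c c s s hs, f4_add_self, add0 h.d_add, one_mul] at this
  let M : Subgroup G :=
    { carrier := {s | s ∈ X.S ∧ ∃ c, X.d c * s ∈ D}
      mul_mem' := by
        rintro s s' ⟨hs, c, hc⟩ ⟨hs', c', hc'⟩
        exact ⟨mul_mem hs hs', _, m c c' s s' hs ▸ mul_mem hc hc'⟩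
      one_mem' := ⟨one_mem _, 0, by rw [add0 h.d_add, one_mul]; exact one_mem _⟩
      inv_mem' := by
        rintro s ⟨hs, c, hc⟩
        rw [inv_eq_of_mul_eq_one_right (sq c s hs hc)]
        exact ⟨hs, c, hc⟩ }
  have c : ♯M ≤ ♯X.Z2 := by
    choose f hf using fun s : M => s.2.2
    rw [h.card_Z2, ← k.card]
    refine Nat.card_le_card_of_injective (fun s : M => (⟨_, hf s⟩ : D)) fun s s' e => ?_
    have e' : X.d (f s) * s = X.d (f s') * s' := congrArg Subtype.val e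
    have : f s' + f s = 0 := dz_inj h (k := 0) (by
      rw [h.z0, mul_one, h.d_add, show X.d (f s) = X.d (f s') * s' * (s : G)⁻¹ by
        rw [← e', mul_inv_cancel_right], ← mul_assoc, ← mul_assoc, dd h, one_mul]
      exact mem_C1.2 (tL h (h.S_L (mul_mem s'.2.1 (inv_mem s.2.1)))).symm.eq)
    rw [f4_eq this] at e'
    exact Subtype.ext (mul_left_cancel e')
  suffices M ≤ X.Z2 from k.fin1 (fun c s hs hc => this ⟨hs, c, hc⟩) hv
  by_contra e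
  exact e (eq_of_card_ge (h.nml_Z2 (M := M) (ea_of_sq fun s ⟨hs, c, hc⟩ => sq c s hs hc) (fun s hs => hs.1)
    (fun u hu => mem_N_of_finite fun s ⟨hs, c, hc⟩ => ⟨conj_mem (norm_self _ hu) hs, c, by
      rw [← conj_eq_of_mem_C (cents_symm (le_refl C[X.P]) (S_P hu)) (h.dP c), conj_mul]
      exact conj_mem (k.nrm (k.S hu)) hc⟩) e) c).ge

end Hy

end H24.G4.CE
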