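import Mathlib
import Cfsg.Agent.H24.GwE3
import Cfsg.Agent.H25.SEb

/-! The cyclic case: the Sylow subgroup and the transfer. -/

set_option autoImplicit false
set_option linter.unusedSectionVars false

namespace H24.G4.CE

open H26 H26.Gold Subgroup Dat Dx
open H9 (F4)
open H7.SJ (p2)
open H24.Sz (om f4_add_self)
open H25.SE (Hs QA add0 cj_sq card_QA GT star_not)
open scoped commutatorElement

local notation "κ" => H0.cj

variable {G : Type*} [Group G] [Finite G] {X : Dx G} {g u v x : G} {T : Subgroup G} {n : F4}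

theorem rel_le {A B : Subgroup G} (f : B → F4) (hf : ∀ a b : B, f a = f b → (a : G)⁻¹ * b ∈ A) :
    A.relIndex B ≤ 4 :=
  (Nat.card_le_card_of_injective (fun c : B ⧸ A.subgroupOf B => f c.out) fun c c' e => by
    rw [← c.out_eq, ← c'.out_eq]
    exact QuotientGroup.eq.2 (hf _ _ e)).trans (by rw [Nat.card_eq_fintype_card]; rfl)

theorem rp_of {R : Type*} [CommRing R] {A : F4 → R → G} {Z : R → G} (H : Hq A Z) {w : F4 → R}
    (p : Rp A Z u w) (e : g * u * g⁻¹ * u⁻¹ ∈ H.D) : Rp A Z (g * u * g⁻¹) w := by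
  simpa using H.rmul (H.rD.2 e) p

theorem t_CD (h : Cy X) (hn : Cm X n) : X.r 1 ∉ C[(hq h hn).D] := fun k =>
  one_ne_zero (dz_inj h (c := 1) (k := 0) (by
    rw [h.z0, mul_one]; exact mem_C1.2 (mem_C.1 k _ (d_D h hn 1))))

theorem card_U (h : Cy X) (hn : Cm X n) : ♯(hq h hn).U = 2 ^ 20 := by
  rw [(hq h hn).card_U, card_QA]; rfl

theorem syl_sup {D : Subgroup G} (hT : Syl 2 ⊤ T) (hN : T ≤ N[D]) (hx : x ∈ T) :
    Syl 2 (C[D] ⊔ zpowers x) (T ⊓ (C[D] ⊔ zpowers x)) :=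
  syl_of_max p2 (hT.pi.of_le inf_le_left) inf_le_right fun Q hQ h1 h2 q hq => ⟨by
    obtain ⟨a, ha, b, hb, rfl⟩ := (mem_sup_of_norm (zpowers_le.2 (N_le_NC _ (hN hx)))).1 (h2 hq)
    have hb' := zpowers_le.2 hx hb
    have e := ((hT.of_le hN le_top).inf_nml (C_nml_N _)).eq_of_le (hQ.of_le inf_le_left)
      (le_inf ((inf_le_inf_left _ le_sup_left).trans h1) inf_le_right) inf_le_right
    exact mul_mem (e.le ⟨(mul_mem_cancel_right (h1 ⟨hb', mem_sup_right hb⟩)).1 hq, ha⟩).1 hb', h2 hq⟩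

variable (h : Cy X) (hn : Cm X n) (hT : TwoG T) (ht : X.r 1 ∈ T) (hS : X.S ≤ T) (hU : (hq h hn).U ≤ T)
  (hN : T ≤ N[(hq h hn).U])
include h hn hT ht hS hU hN

theorem fix (h1 : u ∈ T) (h2 : u ∈ C[(hq h hn).D])
    (h3 : X.r 1 * u * (X.r 1)⁻¹ * u⁻¹ ∈ (hq h hn).U) : ∃ r, X.xa r * u ∈ (hq h hn).U := by
  have H := hq h hn
  have ti := inv_eq_of_mul_eq_one_right (tt h)
  have a : X.r 1 * (X.r 1 * u * (X.r 1)⁻¹ * u⁻¹) = u * X.r 1 * u⁻¹ := by
    rw [ti, ← mul_assoc, ← mul_assoc, ← mul_assoc, tt h, one_mul]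
  obtain ⟨v, hv, c⟩ := inv_conj h hn h3 (a ▸ conj_sq (tt h) u)
  have y0 : v⁻¹ * u ∈ T := mul_mem (inv_mem (hU hv)) h1
  have y1 : v⁻¹ * u ∈ C[H.D] := mul_mem (inv_mem (H.U_CD hv)) h2
  have y2 : v⁻¹ * u ∈ N[X.L] := tN h (mem_C1_iff_conj.2 (by
    rw [show v⁻¹ * u * X.r 1 * (v⁻¹ * u)⁻¹ = v⁻¹ * (u * X.r 1 * u⁻¹) * v by group, ← a, ← c]; group))
  obtain ⟨s, hs, j, hj, e⟩ := (h.mem_MK h.S_L).1 (h.two_S y2 (mem_N_of_finite fun s hs => T_L h hT hS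
    (conj_mem (norm_self _ y0) (hS hs)) (conj_mem y2 (h.S_L hs))) (C_anti (Z_le (z_D h hn)) y1)
    (hT.piElt y0))
  rcases T_K h hT ht ((mul_mem_cancel_left (hS hs)).1 (e ▸ y0)) hj with rfl | rfl
  · obtain ⟨r, w, c, rfl⟩ := h.mem_S.1 hs
    refine ⟨r, ?_⟩
    have := mul_mem (mul_mem (conj_mem (hN (hS (a_S r))) hv) (Q_U h hn (q_Q w))) (Q_U h hn (z_Q c))
    rwa [h.ai, mul_assoc, mul_assoc, mul_assoc, ← mul_assoc (X.xa r) (X.q w), ← Dat.s, ← mul_one (X.s r w c),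
      ← e, mul_inv_cancel_left] at this
  · exact absurd ((mul_mem_cancel_left (P_CD h hn (S_P hs))).1 (e ▸ y1)) (t_CD h hn)

theorem weak_U (h1 : g ∈ N[(hq h hn).D]) (h2 : cj g (hq h hn).U ≤ T)
    (h3 : X.r 1 ∈ N[cj g (hq h hn).U]) : g ∈ N[(hq h hn).U] := by
  have H := hq h hn
  have ti := inv_eq_of_mul_eq_one_right (tt h)
  have hC : cj g H.U ≤ C[H.D] := cj_of_mem_N h1 ▸ cent_cj H.U_CD g
  have sq : ∀ u ∈ cj g H.U, u * u ∈ H.D := fun u hu => by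
    obtain ⟨w, hw, rfl⟩ := mem_cj'.1 hu
    rw [conj_mul]
    exact conj_mem h1 (H.sq_D hw)
  have cm : ∀ u ∈ cj g H.U, ∀ v ∈ cj g H.U, u * v * u⁻¹ * v⁻¹ ∈ H.D := fun u hu v hv => by
    obtain ⟨w, hw, rfl⟩ := mem_cj'.1 hu
    obtain ⟨w', hw', rfl⟩ := mem_cj'.1 hv
    rw [conj_inv, conj_inv, conj_mul, conj_mul, conj_mul]
    exact conj_mem h1 (H.comm_D hw hw')
  have hc : ♯(cj g H.U) = ♯H.U := card_cj _ _
  refine mem_N_of_cj_le ?_
  generalize cj g H.U = V at h2 h3 hC sq cm hc ⊢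
  let φ : G → G := fun u => X.r 1 * u * (X.r 1)⁻¹ * u⁻¹
  have fx : ∀ u ∈ V, φ u ∈ H.U → ∃ r, X.xa r * u ∈ H.U := fun u hu =>
    fix h hn hT ht hS hU hN (h2 hu) (hC hu)
  have p1 : ∀ u ∈ V, φ u ∈ V := fun u hu => mul_mem (conj_mem h3 hu) (inv_mem hu)
  have p2 : ∀ u ∈ V, φ (φ u) ∈ H.U := fun u hu => by
    have : X.r 1 * φ u * (X.r 1)⁻¹ = (φ u)⁻¹ := by
      simp only [φ, mul_inv_rev, inv_inv, ti, ← mul_assoc, tt h, one_mul]
    change X.r 1 * φ u * (X.r 1)⁻¹ * (φ u)⁻¹ ∈ _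
    rw [this]
    exact H.D_U (sq _ (inv_mem (p1 u hu)))
  have same : ∀ {r a b}, X.xa r * a ∈ H.U → X.xa r * b ∈ H.U → a⁻¹ * b ∈ H.U := fun ha hb => by
    simpa using mul_mem (inv_mem ha) hb
  let J : Subgroup G :=
    { carrier := {y | y ∈ V ∧ φ y ∈ H.U}
      mul_mem' := fun {a b} ha hb => ⟨mul_mem ha.1 hb.1, by
        have := mul_mem ha.2 (conj_mem (hN (h2 ha.1)) hb.2)
        rwa [show φ a * (a * φ b * a⁻¹) = φ (a * b) by simp only [φ]; group] at this⟩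
      one_mem' := ⟨one_mem _, by simp [φ]⟩
      inv_mem' := fun {a} ha => ⟨inv_mem ha.1, by
        have := conj_mem' (hN (h2 ha.1)) (inv_mem ha.2)
        rwa [show a⁻¹ * (φ a)⁻¹ * a = φ a⁻¹ by simp only [φ]; group] at this⟩ }
  have u1 : (V ⊓ H.U).relIndex J ≤ 4 := by
    choose f hf using fun u : J => fx u u.2.1 u.2.2
    exact rel_le f fun a b e => ⟨V.mul_mem (V.inv_mem a.2.1) b.2.1, same (hf a) (e ▸ hf b)⟩
  have u2 : J.relIndex V ≤ 4 := by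
    choose f hf using fun u : V => fx _ (p1 u u.2) (p2 u u.2)
    refine rel_le f fun a b e => ⟨mul_mem (inv_mem a.2) b.2, ?_⟩
    have := conj_mem' (hN (h2 a.2)) (same (hf a) (e ▸ hf b))
    rwa [show (a : G)⁻¹ * ((φ a)⁻¹ * φ b) * a = φ ((a : G)⁻¹ * b) by simp only [φ]; group] at this
  have u3 := relIndex_mul_relIndex (V ⊓ H.U) J V
    (fun u hu => ⟨hu.1, mul_mem (conj_mem (hN ht) hu.2) (inv_mem hu.2)⟩) fun u hu => hu.1
  have eq : (V ⊓ H.U).relIndex H.U = (V ⊓ H.U).relIndex V := by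
    have a := card_mul_relIndex (inf_le_right : V ⊓ H.U ≤ H.U)
    rw [← hc, ← card_mul_relIndex (inf_le_left : V ⊓ H.U ≤ V)] at a
    exact Nat.eq_of_mul_eq_mul_left (card_pos _) a
  by_contra k
  obtain ⟨y, y1, y2, y3⟩ : ∃ y ∈ V, φ y ∈ H.U ∧ y ∉ H.U := by
    obtain ⟨y, y1, y2⟩ := SetLike.not_le_iff_exists.1 k
    by_cases e : φ y ∈ H.U
    exacts [⟨y, y1, e, y2⟩, ⟨_, p1 y y1, p2 y y1, e⟩]
  obtain ⟨r, hr⟩ := fx y y1 y2
  have := H.low (J := V ⊓ H.U) (r := r) (fun e => y3 (by rwa [e, h.a0, one_mul] at hr)) fun u hu w p i => by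
    have a := rp_of H p (cm _ (inv_mem y1) u hu.1)
    have b := rp_of H a (H.comm_D hr ⟨_, a⟩)
    rw [show X.xa r * y * (y⁻¹ * u * y⁻¹⁻¹) * (X.xa r * y)⁻¹ = X.xa r * u * (X.xa r)⁻¹ by group] at b
    exact congrFun (H.uniq (rx h hn r p) b) i
  rw [eq, ← u3, card_QA] at this
  nlinarith

theorem weak_D (h1 : g * X.r 1 * g⁻¹ ∈ T) (h2 : cj g X.S ≤ T) : g ∈ N[(hq h hn).D] := by
  have H := hq h hn
  have k : Hy (X.cj g) T H.D := ⟨cy_cj h g, hT, h1, cj_S (X := X.toDat) ▸ h2, H.D_U.trans hU,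
    hN.trans H.N_D, H.eaD, H.H.card_D.trans (card_QA n), fun v hv e => no_I h (hT.of_le hU)
      (by rw [card_U h hn]; decide) (H.U_CD.trans (C_le_C1 hv)) (cj_I.1 e),
    fun m hm m' hm' => H.inv_eq (hN hm) (hN hm')⟩
  refine mem_N_of_le_cj fun v hv => ?_
  obtain ⟨c, j, rfl⟩ := k.fin hv
  change g * X.d c * g⁻¹ * (g * X.z j * g⁻¹) ∈ _
  rw [conj_mul]
  exact conj_mem_cj g ⟨⟨j, c⟩, rfl⟩

omit hn hT ht hS hU hN in
theorem elim [IsSimpleGroup G] : False := by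
  obtain ⟨n, hn⟩ := exists_cm h
  have H := hq h hn
  have tN := t_NU h hn
  have U2 : TwoG H.U := isPi_of_card p2 (card_U h hn)
  have tS : X.S ≤ C{X.r 1} := fun s hs => mem_C1.2 (tL h (h.S_L hs)).symm.eq
  have N1 : zpowers (X.r 1) ⊔ X.S ≤ N[H.U] := sup_le (zpowers_le.2 tN) (S_NU h hn)
  obtain ⟨T, hT, le⟩ := Sylow_superset p2
    (U2.sup ((H7.SJ.twoG_zp (tt h)).sup h.twoS (norm_zpowers_of_cent tS)) N1) (sup_le (norm_self _) N1)
  have hU : H.U ≤ T := le_sup_left.trans le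
  have ht : X.r 1 ∈ T := le (mem_sup_right (mem_sup_left (mem_zpowers _)))
  have hS : X.S ≤ T := (le_sup_right.trans le_sup_right).trans le
  have syl : Syl 2 ⊤ T := hT.of_norm_le' p2 le_top fun g ⟨_, hg⟩ =>
    weak_U h hn hT.pi ht hS hU hT.le
      (weak_D h hn hT.pi ht hS hU hT.le (conj_mem hg ht) (cj_le_of_mem_N hS hg)) (cj_le_of_mem_N hU hg)
      (norm_cj hT.le g ((cj_of_mem_N hg).ge ht))
  have odd : Odd T.index := by
    have := Syl.not_dvd p2 syl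
    rw [relIndex_top_right] at this
    exact Nat.not_even_iff_odd.1 fun e => this e.two_dvd
  have perf : commutator G = ⊤ :=
    (Normal.eq_bot_or_eq_top (H := commutator G) inferInstance).resolve_left fun e => by
    have : ⁅X.xc 1, X.xb 1⁆ ∈ commutator G := commutator_mem_commutator (mem_top _) (mem_top _)
    rw [e, mem_bot, commutatorElement_eq_one_iff_mul_comm, ba h, left_eq_mul, mul_one] at this
    exact h.z1 this
  have := GT perf odd (Abelianization.of.comp (H.sg.comp (inclusion hT.le))) ht (tt h)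
    (h.twoS.isPGroup p2) tS fun g hg hg' => by
      have a := weak_D h hn hT.pi ht hS hU hT.le hg hg'
      have TD := hT.le.trans H.N_D
      have t' : X.r 1 ∈ cj g⁻¹ T := mem_cj.2 (by rwa [inv_inv])
      have TD' : cj g⁻¹ T ≤ N[H.D] := cj_of_mem_N (inv_mem a) ▸ norm_cj TD g⁻¹
      obtain ⟨y, hy, b⟩ := Sylow_trans p2 (syl_sup (by simpa using syl.cj g⁻¹) TD' t') (syl_sup syl TD ht)
      have yD : y ∈ N[H.D] := sup_le (C_le_N _) (zpowers_le.2 (TD ht)) hy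
      have m := weak_U (g := y * g⁻¹) h hn hT.pi ht hS hU hT.le (mul_mem yD (inv_mem a))
        (cj_mul y g⁻¹ _ ▸ (cj_mono y (le_inf (cj_mono _ hU) (le_sup_left.trans'
          (cj_of_mem_N (inv_mem a) ▸ cent_cj H.U_CD g⁻¹)))).trans (b.ge.trans inf_le_left))
        (norm_cj hT.le _ (cj_mul y g⁻¹ T ▸ cj_mono y inf_le_left
          (b.le ⟨ht, mem_sup_right (mem_zpowers _)⟩)))
      obtain ⟨c, hc, j, hj, rfl⟩ := (mem_sup_of_norm (zpowers_le.2 (N_le_NC _ (TD ht)))).1 hy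
      have e : H.sg ⟨_, hT.le hg⟩ = H.sg (⟨_, m⟩⁻¹ * ⟨_, tN⟩ * ⟨_, m⟩) := H.sg_eq fun v hv => by
        have k := conj_mem (mul_mem yD (inv_mem a)) hv
        change _ = (c * j * g⁻¹)⁻¹ * X.r 1 * (c * j * g⁻¹) * v * ((c * j * g⁻¹)⁻¹ * X.r 1 * (c * j * g⁻¹))⁻¹
        rw [show g * X.r 1 * g⁻¹ * v * (g * X.r 1 * g⁻¹)⁻¹ = (c * j * g⁻¹)⁻¹ * (c * (j * X.r 1 * j⁻¹ *
          (c⁻¹ * (c * j * g⁻¹ * v * (c * j * g⁻¹)⁻¹) * c⁻¹⁻¹) * (j * X.r 1 * j⁻¹)⁻¹) * c⁻¹) * (c * j * g⁻¹)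
          by group, mem_C1_iff_conj.1 (zpowers_le_C1 _ hj), conj_eq_of_mem_C (inv_mem hc) k,
          conj_eq_of_mem_C hc (conj_mem (TD ht) k)]
        group
      change Abelianization.of (H.sg ⟨_, hT.le hg⟩) = Abelianization.of (H.sg ⟨_, tN⟩)
      rw [e, map_mul, map_mul, map_mul, map_mul, map_inv, map_inv, inv_mul_cancel_comm]
  have e : H.sg ⟨_, tN⟩ = starRingAut := by
    ext1 c
    have : ∀ c, Hs.ff (ZZ X n) (X.r 1) c = star c := fun c => H.H.ff_eq (k_tZ h n c)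
    rw [H.sg_apply, this, this, star_one, one_pow, one_mul]
    rfl
  change Abelianization.of (H.sg ⟨_, tN⟩) = 1 at this
  rw [e] at this
  exact star_not n ((QuotientGroup.eq_one_iff _).1 this)

end H24.G4.CE

namespace H24.G4

open H9 (F4)
open H24.Sz (om)

/-- in a simple group the Sylow subgroup of `K` has order four. -/
theorem Dx.S3.top {G : Type*} [Group G] [Finite G] [IsSimpleGroup G] {X : Dx G} {γ : F4}
    (h : X.S3 γ) : X.Λ = ⊤ := by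
  by_contra k
  have c : ∀ x ∈ X.Λ, x = 0 ∨ x = 1 := fun x hx => by
    by_contra e
    refine k (eq_top_iff.2 fun y _ => ?_)
    rcases (by decide : ∀ x y : F4, ¬ (x = 0 ∨ x = 1) → y = 0 ∨ y = 1 ∨ y = x ∨ y = x + 1) x y e with
      rfl | rfl | rfl | rfl
    exacts [zero_mem _, h.one, hx, add_mem hx h.one]
  obtain rfl : γ = 0 :=
    (by decide : ∀ γ : F4, (∀ y, γ * y * (1 * 1) = 0 ∨ γ * y * (1 * 1) = 1) → γ = 0) γ
      fun y => c _ (h.lam y 1)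
  exact CE.elim ⟨h, c⟩

end H24.G4
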