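import Mathlib
import Cfsg.Agent.H24.GwA
import Cfsg.Agent.H24.GwC
import Cfsg.Agent.H24.GwE4

/-! A standard subgroup of type `G₂(4)`: the translations exist. -/

set_option autoImplicit false
set_option linter.unusedSectionVars false

namespace H24.G4

open H26 H26.Gold Subgroup
open H9 (F4)
open H7.SJ (p2)

variable {G : Type*} [Group G] [Finite G] {L : Subgroup G} {F : Type*} [Field F] [Fintype F]

theorem exists_St (hL : Cfsg.IsStandardSubgroup L) (hF : Fintype.card F = 4)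
    (e : L ≃* Cfsg.Lie.chevG2.group F) : ∃ X : Dat G, X.L = L ∧ X.St := by
  obtain ⟨X, rfl, h⟩ := exists_fr L hF e
  obtain ⟨-, ⟨h1, h2⟩, h3, h4⟩ := hL
  refine ⟨X, rfl, h, fun g u hu u1 u2 k => h4 ▸ inv_mem_iff.1 (by_contra fun k1 => ?_), fun g k => ?_, ?_⟩
  · have k2 := orderOf_dvd_natCard (⟨u, hu, mem_cj.2 (by rwa [inv_inv])⟩ : ↥(X.K ⊓ H24.cj g⁻¹ X.K))
    rw [← orderOf_coe, H6.orderOf_eq_two_of u2 u1] at k2
    exact Nat.not_even_iff_odd.2 (h2 _ k1) (even_iff_two_dvd.2 k2)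
  · by_cases k1 : H24.cj g X.L = X.L
    · exact h.not_K (h.zL 1) h.z1 (k (k1.ge (h.zL 1)))
    · exact h3 g k1 (commutator_eq_bot_iff_le_centralizer.2 (cents_symm k))
  · have := Fact.mk p2
    obtain ⟨u, hu⟩ := exists_prime_orderOf_dvd_card' 2 (even_iff_two_dvd.1 h1)
    rw [← orderOf_coe] at hu
    exact ⟨u, u.2, fun e => by simp [e] at hu, by rw [← sq, ← hu, pow_orderOf_eq_one]⟩

theorem Dx.S1.top {X : Dx G} (h : X.S1) (hR : ¬ Cfsg.PRankLE 2 1 X.K) : X.Λ = ⊤ := by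
  by_contra k
  refine hR fun A _ hA => ?_
  have a : TwoG (A.map X.K.subtype) := (ea_of_sq (by
    rintro _ ⟨a, ha, rfl⟩
    exact congrArg Subtype.val ((sq a).symm.trans (hA a ha)))).two
  have b := Nat.le_of_dvd (card_pos _) (h.sylT.card_dvd a (map_subtype_le A))
  rw [card_map_of_injective X.K.subtype_injective] at b
  refine b.trans ((card_le (B := zpowers (X.r 1)) fun w hw => ?_).trans ?_)
  · obtain ⟨x, hx, rfl⟩ := h.mem_T.1 hw
    by_cases e : x = 0 ∨ x = 1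
    · rcases e with rfl | rfl
      exacts [h.r0 ▸ one_mem _, mem_zpowers _]
    refine absurd (eq_top_iff.2 fun y _ => ?_) k
    rcases (by decide : ∀ x y : F4, ¬ (x = 0 ∨ x = 1) → y = 0 ∨ y = 1 ∨ y = x ∨ y = x + 1) x y e with
      rfl | rfl | rfl | rfl
    exacts [zero_mem _, h.one, hx, add_mem hx h.one]
  · rw [card_zpowers']
    exact Nat.le_of_dvd two_pos (orderOf_dvd_of_pow_eq_one (by rw [pow_one, pow_two, h.rr h.one]))

/-- the frame for the subgroup `L` itself. -/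
theorem exists_S3 (hO : Cfsg.oddCore G = ⊥) (hL : Cfsg.IsStandardSubgroup L) (hF : Fintype.card F = 4)
    (e : L ≃* Cfsg.Lie.chevG2.group F) (hN : ¬ L.Normal) :
    ∃ (X : Dx G) (γ : F4), X.L = L ∧ X.S3 γ := by
  obtain ⟨X, rfl, h⟩ := exists_St hL hF e
  obtain ⟨Y, h1, g, e1⟩ := h.exists_S2 hO fun k => hN (normalizer_eq_top_iff.1 k)
  obtain ⟨d, γ, h2⟩ := h1.exists_S3
  exact ⟨_, γ, by simpa using congrArg (H24.cj g⁻¹) e1, h2.cj g⁻¹⟩

/-- the noncyclic case. -/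
theorem exists_top (hO : Cfsg.oddCore G = ⊥) (hL : Cfsg.IsStandardSubgroup L) (hF : Fintype.card F = 4)
    (e : L ≃* Cfsg.Lie.chevG2.group F) (hN : ¬ L.Normal) (hR : ¬ Cfsg.PRankLE 2 1 C[L]) :
    ∃ (X : Dx G) (γ : F4), X.L = L ∧ X.S3 γ ∧ X.Λ = ⊤ := by
  obtain ⟨X, γ, rfl, h⟩ := exists_S3 hO hL hF e hN
  exact ⟨X, γ, rfl, h, h.toS1.top hR⟩

/-- the simple case. -/
theorem exists_top' [IsSimpleGroup G] (hL : Cfsg.IsStandardSubgroup L) (hF : Fintype.card F = 4)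
    (e : L ≃* Cfsg.Lie.chevG2.group F) :
    Cfsg.oddCore G = ⊥ ∧ ¬ L.Normal ∧ ∃ (X : Dx G) (γ : F4), X.L = L ∧ X.S3 γ ∧ X.Λ = ⊤ := by
  obtain ⟨X, rfl, h⟩ := exists_St hL hF e
  obtain ⟨u, hu, u1, u2⟩ := h.ev
  have hN : ¬ X.L.Normal := fun k => by
    rcases k.eq_bot_or_eq_top with k | k
    · exact h.z1 (mem_bot.1 (k ▸ h.zL 1))
    · exact h.not_K (k ▸ mem_top u) u1 hu
  have hO : Cfsg.oddCore G = ⊥ := sSup_eq_bot.2 fun N ⟨k, c⟩ => k.eq_bot_or_eq_top.resolve_right fun e => by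
    have := orderOf_dvd_natCard u
    rw [e, card_top] at c
    rw [H6.orderOf_eq_two_of u2 u1] at this
    exact absurd (c.symm.eq_one_of_dvd this) (by decide)
  obtain ⟨Y, γ, e1, h1⟩ := exists_S3 hO hL hF e hN
  exact ⟨hO, hN, Y, γ, e1, h1, h1.top⟩

end H24.G4
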