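import Mathlib
import Cfsg.Agent.H14.OnAut

/-! Normal forms in a perfect central extension of `L₃(4)` by a four-group. -/

set_option autoImplicit false
set_option linter.unusedSectionVars false
set_option maxRecDepth 100000
set_option synthInstance.maxSize 4096

namespace H24.He

open H29 H7.Cay H22 H14.On Subgroup
open scoped MatrixGroups

variable {M : Type*} [Group M] {s x : M}

/-- what is used of the covering group. -/
structure Cv (M : Type*) [Group M] : Prop where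
  cz : Nat.card (center M) = 4
  z2 : ∀ z ∈ center M, z * z = 1
  cq : Nat.card (M ⧸ center M) = 20160
  inv : ∀ a b : M ⧸ center M, orderOf a = 2 → orderOf b = 2 → IsConj a b

theorem Cv.card (h : Cv M) : Nat.card M = 80640 := by
  rw [card_eq_card_quotient_mul_card_subgroup (center M), h.cq, h.cz]

theorem Cv.z4 (h : Cv M) : ∀ z ∈ center M, z ^ 4 = 1 := fun z hz => by
  rw [show 4 = 2 * 2 from rfl, pow_mul, sq z, h.z2 z hz, one_pow]

theorem cv_of_iso (hk : IsKleinFour (center M))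
    (hp : commutator M = ⊤) {F : Type*} [Field F] [Fintype F] (hF : Fintype.card F = 4)
    (e : M ⧸ center M ≃* PSL(3, F)) : Cv M ∧ ∃ s x : M, Gen s x := by
  obtain ⟨f⟩ := H9.m21_iso_psl F hF
  have hC : Cv M := ⟨hk.card_four, fun z hz => congrArg Subtype.val
      (IsKleinFour.mul_self (⟨z, hz⟩ : center M)),
    by rw [Nat.card_congr (e.trans f.symm).toEquiv, H9.card_s3],
    fun a b ha hb => by
      simpa using e.symm.toMonoidHom.map_isConj (Cfsg.Agent.S0820.result hF (e a) (e b)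
        (by rw [e.orderOf_eq, ha]) (by rw [e.orderOf_eq, hb]))⟩
  refine ⟨hC, ?_⟩
  obtain ⟨s1, x1, h1, h2⟩ := m21_gens
  let g := (f.trans e.symm).toMonoidHom
  have h3 : ∀ k, rv (g s1) (g x1) k = 1 := fun k => by rw [← map_rv, h1, map_one]
  have h5 : closure {g s1, g x1} = ⊤ := by
    rw [← Set.image_pair, ← MonoidHom.map_closure, h2]
    exact map_top_of_surjective _ (f.trans e.symm).surjective
  generalize g s1 = s2, g x1 = x2 at h3 h5
  obtain ⟨s0, rfl⟩ := QuotientGroup.mk'_surjective _ s2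
  obtain ⟨x0, rfl⟩ := QuotientGroup.mk'_surjective _ x2
  have h6 : ∀ (y z : M) (n k : ℕ), mq M y ^ n = 1 → 4 ∣ 1 + k * n →
      mq M (z * (y ^ n) ^ k) = mq M z ∧ (y * (y ^ n) ^ k) ^ n = 1 := fun y z n k hn hk => by
    refine ⟨by rw [map_mul, map_pow, map_pow, hn, one_pow, mul_one], ?_⟩
    obtain ⟨m, hm⟩ := hk
    rw [← map_pow, mq_eq_one] at hn
    rw [← pow_mul, ← pow_succ', ← pow_mul, show (n * k + 1) * n = n * (1 + k * n) by ring,
      pow_mul, hm, pow_mul, hC.z4 _ hn, one_pow]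
  have h7 := h3 3
  have h8 := h3 4
  simp only [rv, show nth [] RL 3 = [1, 1, 1, 1, 1, 1, 1] from rfl, gl, ev_cons, ev_nil,
    show nth [] RL 4 = [0, 1, 0, 1, 0, 1, 0, 1, 0, 1] from rfl] at h7 h8
  norm_num at h7 h8
  obtain ⟨h9, h10⟩ := h6 x0 x0 7 1 (by simpa [pow_succ, mul_assoc] using h7) (by norm_num)
  generalize x0 * (x0 ^ 7) ^ 1 = x at h9 h10
  have h11 : mq M (s0 * x) ^ 5 = 1 := by
    rw [map_mul, h9]; simpa [pow_succ, mul_assoc] using h8
  obtain ⟨h12, h13⟩ := h6 (s0 * x) s0 5 3 h11 (by norm_num)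
  rw [← map_pow, mq_eq_one] at h11
  rw [mul_assoc, mem_center_iff.1 (pow_mem h11 3) x, ← mul_assoc] at h13
  generalize s0 * ((s0 * x) ^ 5) ^ 3 = s at h12 h13
  change ∀ k, rv (mq M s0) (mq M x0) k = 1 at h3
  change closure {mq M s0, mq M x0} = ⊤ at h5
  rw [← h9, ← h12] at h3 h5
  refine ⟨s, x, ⟨h10, h13, fun k => by rw [← mq_eq_one, map_rv, h3], hC.z4⟩, ?_⟩
  have h14 : closure {s, x} ⊔ center M = ⊤ := by
    rw [← Set.image_pair, ← MonoidHom.map_closure] at h5
    rw [← QuotientGroup.ker_mk' (center M), ← comap_map_eq, h5, comap_top]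
  haveI : (closure {s, x} : Subgroup M).Normal := normalizer_eq_top_iff.1
    (top_le_iff.1 (h14 ▸ sup_le le_normalizer (center_le_normalizer _)))
  exact top_le_iff.1 (hp ▸ Normal.commutator_le_of_self_sup_commutative_eq_top h14 inferInstance)

theorem Cv.Ph_inj (hC : Cv M) (h : Gen s x) {n m : ℕ} (hn : V n) (hm : V m) :
    mq M (Ph s x n) = mq M (Ph s x m) ↔ n % 32768 = m % 32768 := by
  refine ⟨fun h1 => ?_, fun h1 => by rw [h.mq_Ph n, h1, ← h.mq_Ph m]⟩
  have h2 : ∀ n (hn : V n), n % 32768 = (⟨n % 4096, hn.1⟩ : Fin 2880) +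
    4096 * (⟨n / 4096 % 8, hn.2.1⟩ : Fin 7) := fun n _ => by simp only; omega
  have hb : Function.Bijective fun a : Fin 2880 × Fin 7 => mq M (Ph s x (a.1 + 4096 * a.2)) := by
    haveI : Finite (M ⧸ center M) := Nat.finite_of_card_ne_zero (by rw [hC.cq]; norm_num)
    rw [Nat.bijective_iff_surjective_and_card]
    refine ⟨fun g => ?_, by simp [hC.cq]⟩
    obtain ⟨g, rfl⟩ := QuotientGroup.mk'_surjective _ g
    obtain ⟨w, rfl⟩ := h.word g
    obtain ⟨h3, h4⟩ := h.run_zero w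
    exact ⟨(⟨_, h3.1⟩, ⟨_, h3.2.1⟩), by rw [← h4, h.mq_Ph (run w 0), h2 _ h3]⟩
  rw [h.mq_Ph n, h.mq_Ph m, h2 n hn, h2 m hm] at h1
  have := hb.1 (a₁ := (_, _)) (a₂ := (_, _)) h1
  simp only [Prod.mk.injEq, Fin.mk.injEq] at this
  omega

theorem Cv.rl_eq (hC : Cv M) (h : Gen s x) {u w : List ℕ} :
    mq M (ev (el s x) u) = mq M (ev (el s x) w) ↔ rl u = rl w := by
  rw [← (h.run_zero u).2, ← (h.run_zero w).2, hC.Ph_inj h (h.run_zero u).1 (h.run_zero w).1]
  rfl

theorem Cv.rl_zero (hC : Cv M) (h : Gen s x) {u : List ℕ} :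
    ev (el s x) u ∈ center M ↔ rl u = 0 := by
  rw [← mq_eq_one, show (0 : ℕ) = rl [] from rfl, ← hC.rl_eq h, ev_nil, map_one]

theorem Cv.center_eq (hC : Cv M) (h : Gen s x) {z : M} (hz : z ∈ center M) :
    ∃ a b : ℕ, z = rv s x 6 ^ a * rv s x 7 ^ b := by
  obtain ⟨w, rfl⟩ := h.word z
  rw [hC.rl_zero h] at hz
  refine ⟨_, _, Eq.trans ?_ (h.zT_eq (run w 0 / 32768))⟩
  rw [← (h.run_zero w).2, Ph_split' _ h.toRel, show run w 0 % 32768 = 0 from hz, Ph_zero, one_mul]

theorem Cv.conj_iw (hC : Cv M) (h : Gen s x) (g : M) {i : ℕ} (hi : i < 315) :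
    ∃ k < 315, mq M (g * ev (el s x) (iw i) * g⁻¹) = mq M (ev (el s x) (iw k)) := by
  obtain ⟨w, rfl⟩ := h.word g
  induction w with
  | nil => exact ⟨i, hi, by simp⟩
  | cons c w ih =>
    obtain ⟨k, hk, h1⟩ := ih
    have h2 : mq M (ev (el s x) (c :: w) * ev (el s x) (iw i) * (ev (el s x) (c :: w))⁻¹) =
        mq M (el s x c * ev (el s x) (iw k) * (el s x c)⁻¹) := by
      simp only [map_mul, map_inv, ev_cons] at h1 ⊢
      rw [← h1]; group
    rw [h2]
    by_cases hc : c < 3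
    · have h3 := allF_true.1 (and2_true.1 (chkI_nth hk)).1 c hc
      simp only [lit_eq, and2_true, lt_true, nbeq, ← hC.rl_eq h, ev_append, ev_cons, ev_nil,
        mul_one] at h3
      exact ⟨_, h3.1, by rw [map_mul, map_inv, mul_inv_eq_iff_eq_mul, ← map_mul]; exact h3.2⟩
    · exact ⟨k, hk, by rw [el, if_neg hc, ← h.zT_comm, mul_inv_cancel_right]⟩

theorem Cv.s_ne (hC : Cv M) (h : Gen s x) : s ∉ center M := by
  have := (hC.rl_zero h (u := [0])).not.2 (by decide +kernel)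
  rwa [ev_cons, ev_nil, mul_one] at this

theorem Cv.x_ne (hC : Cv M) (h : Gen s x) : x ∉ center M := by
  have := (hC.rl_zero h (u := [1])).not.2 (by decide +kernel)
  rwa [ev_cons, ev_nil, mul_one] at this

theorem Cv.aut_class (hC : Cv M) (h : Gen s x) {y z : M} (h' : Rel y z) (hy : y ∉ center M)
    (hz : z ≠ 1) : ∃ m : M, ∃ d < 12, m * y * m⁻¹ = sD s x d ∧ m * z * m⁻¹ = xD s x d := by
  classical
  haveI : Finite M := Nat.finite_of_card_ne_zero (by rw [hC.card]; norm_num)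
  haveI : Fact (Nat.Prime 7) := ⟨by norm_num⟩
  haveI : Fact (Nat.Prime 2) := ⟨by norm_num⟩
  have hx : orderOf x = 7 := orderOf_eq_prime h.x7 fun h1 => hC.x_ne h (h1 ▸ one_mem _)
  have hS : SylIn 7 (zpowers x) ⊤ := by
    refine sylIn_of_not_dvd le_top (isPGroup_zpowers (k := 1) h.x7) ?_
    have := (zpowers x).card_mul_index
    rw [Nat.card_zpowers, hx, hC.card] at this
    rw [relIndex_top_right]
    omega
  obtain ⟨m1, -, h1⟩ := hS.exists_cj_le (R := zpowers z) le_top (isPGroup_zpowers (k := 1) h'.x7)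
  obtain ⟨k, hk, h2⟩ := (mem_powers_iff_mem_range_orderOf (x := x)).1
    (mem_powers_iff_mem_zpowers.2 (h1 (conj_mem_cj (mem_zpowers z)))) |> Finset.mem_image.1
  rw [Finset.mem_range, hx] at hk
  have h3 := h'.conj (MulAut.conj m1)
  simp only [MulAut.conj_apply] at h3
  have h4 : orderOf (mq M (m1 * y * m1⁻¹)) = 2 := orderOf_eq_prime
    (by rw [← map_pow, sq, ← rv_zero _ (m1 * z * m1⁻¹), mq_eq_one]; exact h3.cen 0)
    fun h4 => hy (by
      have := (inferInstance : (center M).Normal).conj_mem _ (mq_eq_one.1 h4) m1⁻¹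
      simpa [mul_assoc] using this)
  obtain ⟨g, hg⟩ := isConj_iff.1 (hC.inv (mq M s) _ (orderOf_eq_prime
    (by rw [← map_pow, sq, ← rv_zero _ x, mq_eq_one]; exact h.cen 0)
    fun h4 => hC.s_ne h (mq_eq_one.1 h4)) h4)
  obtain ⟨g, rfl⟩ := QuotientGroup.mk'_surjective _ g
  obtain ⟨i, hi, h5⟩ := hC.conj_iw h g (i := 0) (by norm_num)
  rw [show iw 0 = [0] from rfl, ev_cons, ev_nil, mul_one, map_mul, map_mul, map_inv, el_zero] at h5
  replace h5 := hg.symm.trans h5
  have h6 := allF_true.1 (and2_true.1 (chkI_nth hi)).2 k hk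
  have h7 : ∀ l, Nat.mod (rsb (iw i) (List.replicate k 1) (List.replicate k 2) (nth [] RL l) 0)
      32768 = 0 := fun l => by
    have h8 := h.rsb_zero (a := iw i) (b := List.replicate k 1) (c := List.replicate k 2)
      (by rw [ev_replicate, ev_replicate, el_two, el_one, inv_pow]) (nth [] RL l)
    refine (hC.Ph_inj h h8.1 V_zero).1 ?_
    rw [h8.2, Ph_zero, map_one, ← rv, map_rv, ← h5, ev_replicate, el_one, h2, ← map_rv, mq_eq_one]
    exact h3.cen l
  simp only [lit_eq, and2_true, imp2_true, lt_true, nbeq, ← hC.rl_eq h] at h6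
  obtain ⟨h8, h9, h10⟩ := h6 (Nat.pos_of_ne_zero (by rintro rfl; exact hz (by simpa using h2.symm)))
    (h7 4) (h7 5)
  generalize Nat.mod (pk _ 9 _) 16 = d at h8 h9 h10
  generalize nth [] MW d ++ nth [] NW _ = w at h9 h10
  rw [ev_append, ev_append] at h9 h10
  generalize ev (el s x) w = n at h9 h10
  rw [ev_replicate, el_one, h2] at h10
  have h11 := h3.conj (MulAut.conj n)
  have h12 := h.relD h8
  simp only [MulAut.conj_apply] at h11
  have h13 : n * (m1 * z * m1⁻¹) * n⁻¹ = xD s x d := h.eq_of_mq (n := 7) (a := 1) rfl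
    (by rw [map_mul, h10, map_mul, map_inv, mul_inv_cancel_right]; rfl)
    (by rw [mul_one, h11.x7]) (by rw [mul_one, h12.x7])
  refine ⟨n * m1, d, h8, Eq.trans (by group) (h.eq_of_mq (u := n * (m1 * y * m1⁻¹) * n⁻¹) (n := 5)
    (a := xD s x d) rfl ?_ (h13 ▸ h11.sx5) h12.sx5), Eq.trans (by group) h13⟩
  rw [map_mul, map_mul, h5, ← map_mul]
  exact (congrArg (· * _) h9).trans (by rw [map_mul, map_inv, mul_inv_cancel_right]; rfl)

end H24.He
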