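import Mathlib
import Cfsg.Agent.H24.HeM
import Cfsg.Agent.H24.HeC
import Cfsg.Agent.H25.TwG

/-! The frame of a standard subgroup of type `2².L₃(4)`. -/

set_option autoImplicit false
set_option linter.unusedSectionVars false
set_option maxRecDepth 100000
set_option synthInstance.maxSize 4096

namespace H24.He

open H28 H28.Held H29 H26 H26.Gold Subgroup
open H14.On (Rel Gen Ph run rsb rd el gl rv zT mq mq_eq_one sD xD WS WX WY RL iw rl)
open H7.Cay (pk allF allF_true nbeq)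

/-- the normal forms of the elements of the Sylow subgroup. -/
def NT : ℕ := nat_lit 0x1067868190f9021f6a015481064542050fd0212688354740ad6e8156f102a12a055fa40ad688196ed02ad2a0537500849aa0d51d4191528143f0087da005521419e180643e00ab4a014dd402b5a0065bb00a84a0157e802b5b8055bc5087daa05520019e1a8643e50849a00d51c0191500143f50a84aa157e942b5ba855bc50ab4aa14dd542b5a2865bb4064548050fc42126a035474067862190f8421f688154810ad682196ec42ad288537510ad6e2156f042a128855fa006aee2060fd0131c282842504aec8060f902b1ca8257f1064fa818089032be2821f31084f88180fd032bda8212200ac722095fc412bb00183e004c7020a10901abba8183f00caf62084894213e00603f00caf82087cd4193e806022504c7080a10841abb80183f50ac728095fd012bb28183e50caf88087cc0193ea8602250caf68084880213e28603f004aec2060f842b1c80257f506aee8060fc4131c0028424084f82180fc432bd8021224064fa218088432be0021f350cb462045b1022ca28612a102b4420438501ac9a861c150add0a16be543437a858b650a844a16871433e32038b5006b2621870540a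d12810e1008b282184a8432d1a8116c10cf8c00e2d442a11085a1c10d0de2162d842b74085af9508b288184a9032d180116c506b2681870400ad10010e140d0de8162d902b74205af940cf8ca0e2d502a11205a1c402b4480438441ac98061c100cb468045b0422ca00612a00a844016870033e30838b500add0016be4034378058b650ca24006ba9012552828b3502a2280aba101165a048b45020602060b5428d22800005020a62060b94287b2800010045960122d040a88802ae800495420a2cc43289201aea10a1ec20000440829a8182e10a3482000004081828182d50495480a2cd03289081aea504596a122d100a88a82ae840a3488000010081800182d40a1ec8000050082980182e002a2220aba0411658848b400ca24a06ba8412550028b30020a68060b80287b0000010020608060b4028d2000000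

/-- the normal forms of the involutions. -/
def RI : ℕ := nat_lit 0x12c3d5836b343664ebd9d9ccb0e95b72cf8d9abaf8d6792cc1d825b3dd5b4ea6ad6938b755772b0356a4ab8b489ab0ad7cbb36548ceb42581cab935ad2b45d808b3a35d4eaead4f2abf9169ab5cd69d8b6b438eaf650cc77e8e7ce2d557428b394e6e729afdbac33578eb55d9dcb3f9582eccd56c4b3135eb17fe39ea991d5d3a519bfcb4a28c5116b5b9bc6d98d126875b4599778e20db5eca90ad96981a375d354a6bac4e2bdcbae982eabe75d32b8ec61cca2513fa1fc43b969c89df541aa5f489ca9c85b0f55b9cb778f01337348567e15e5d9ddd5bc2a2260b6b2914c9adb05a221f518dc2bd4994eafd6834a88316b1c6db3e16718954297cc4a14b7429d2b4ea6f95520d0e134565fc4dac9a6abfc569bcbd65c792203449a98e92a99dfe75e557d5442c16454214d899521d242b449905d71b00554f4b714dd6173e562a8c5909a9d5e393a58f4d1e09aa2cb45aa8dd9145246166e04f82aac14271320cd40af4082f12a2958caf486fe85b107b60d2c134cb518dcb25d646dc8958eb98f731a662bec4c8a46148d27b856a89b9944b0c3b99b7390151307da93f41fb879607740f0e06661f762178ba08ca51a425a447e090c929643e60b5c193e29704da0d3c15ee192c477025603a5120a1ed42bd84b306760eb424509120f9411f01c505702bc057c08f01a1408e03ec0b4415030900516087e839206f40d341c28342097607d00e80758125a0a541030516089605b40b902a20418058428c845304f20c10143030a02aa056c05b01fc01720a70033017e022601a40c0811805a009740150038018002580088018001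

/-- words of the generators. -/
noncomputable def gw : ℕ → List ℕ := nth [] [[1, 0, 2, 2, 0, 2, 0, 1, 0, 1, 1, 1, 0, 1, 0, 2, 2], [1, 1, 0, 1, 0, 2, 0, 2, 2, 0, 2, 2, 0, 2, 2, 0, 2, 2, 0, 2, 2, 2], [2, 0, 1, 1, 0, 1, 0, 2, 0, 2, 2, 2, 0, 2, 0, 1, 1], [2, 2, 0, 2, 0, 1, 0, 1, 1, 0, 1, 1, 0, 1, 1, 0, 1, 1, 0, 1, 1, 1], [0, 1, 0, 1, 0, 2, 0, 2, 2, 2, 0, 2, 0, 1, 0, 1], [0, 1, 0, 2, 0, 1, 0, 2, 2, 2, 0, 1, 1, 0, 2, 2, 0, 1, 1], [0, 1, 1, 0, 2, 2, 0, 1, 1, 0, 2, 2, 2, 0, 1, 0, 2, 0, 1], [0]]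

/-- the generators. -/
noncomputable def gh : ℕ → Hc := nth 1 [g1 true, g2 true, g1 false, g2 false, ⟪17043777⟫,
  ⟪17043529⟫, ⟪17044033⟫, ⟪17043537⟫]

/-- the normal form of an element of `R`. -/
noncomputable def nt (a : Hc) : ℕ := pk NT 23 (Nat.div (ixT a.1) 2)

/-- the reduced normal form. -/
noncomputable def nf2 (n : ℕ) : ℕ := lit n fun n =>
  Nat.add (Nat.mod n 32768) (Nat.mul 32768 (lit (lit (Nat.div n 32768) H14.On.cz) (Nat.land 80)))

instance (n : ℕ) : Decidable (H14.On.V n) := by unfold H14.On.V; infer_instance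

theorem chkN : ∀ a ∈ Rc, H14.On.V (nt a) ∧ (nt a % 32768 = 0 → a ∈ V0) ∧
    ∀ k ∈ [0, 1, 2, 3, 4, 5, 6, 7], nf2 (run (gw k) (nt a)) = nt (a * gh k) := by decide +kernel

theorem chkI : (allF 315 fun i => and2 (Nat.beq (rl (iw i)) (pk RI 15 i))
    (and2 (Nat.beq (rl (iw i ++ iw i)) 0) (lit (pk RI 15 i) fun a => and2 (H7.Cay.lt 0 a)
      (allF i fun j => Bool.not (Nat.beq (pk RI 15 j) a))))) = true := by decide +kernel

/-- the test of an action. -/
abbrev chA (w : List ℕ) (k : ℕ) (b : Hc) : Prop :=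
  b ∈ Rc ∧ nf2 (run (gw k) (run w 0)) = nf2 (run w (nt b))

/-- the unitary word. -/
def m3 : List ℕ := [1, 1, 0, 1, 0, 2, 0, 1, 0, 2, 2, 2, 0, 2, 0, 1]

/-- the test of the unitary action. -/
abbrev chU (k : ℕ) (b : Hc) : Prop := b ∈ Rc ∧ (∀ c ∈ gw k, c < 3) ∧
  nf2 (rsb (nth [] WS 3) (nth [] WX 3) (nth [] WY 3) (gw k) (run m3 0)) = nf2 (run m3 (nt b))

theorem chkD : ∀ d ∈ [1, 2, 4, 5, 6, 7, 8, 9, 10, 11], ∃ v ∈ V0,
    (v ≠ tB ∧ nf2 (rd d (nth [] RL 6)) = nt v) ∨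
      (v ≠ ⟪17043801⟫ ∧ nf2 (rd d (nth [] RL 7)) = nt v) := by decide +kernel

variable {M : Type*} [Group M] {s x : M}

theorem Ph_nf2 (hC : Cv M) (h : Rel s x) (n : ℕ) : Ph s x (nf2 n) = Ph s x n := by
  have e : ∀ u, H14.On.cz u < 256 := fun u => by
    have := H7.Cay.pk_lt u 2 3
    have h2 : H14.On.cz u = 16 * ((2 * pk u 2 0 + 2 * pk u 2 1 + pk u 2 2) % 4) + 64 * pk u 2 3 := rfl
    omega
  have h1 : ∀ u < 256, (2 * pk (Nat.land 80 u) 2 0 + 2 * pk (Nat.land 80 u) 2 1 +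
      pk (Nat.land 80 u) 2 2) % 2 = (2 * pk u 2 0 + 2 * pk u 2 1 + pk u 2 2) % 2 ∧
      pk (Nat.land 80 u) 2 3 % 2 = pk u 2 3 % 2 := by decide +kernel
  have h2 := fun k => (sq _).trans (hC.z2 _ (h.cen k))
  rw [show nf2 n = n % 32768 + 32768 * Nat.land 80 (H14.On.cz (n / 32768)) from rfl,
    H14.On.Ph_split (Nat.mod_lt _ (by norm_num)) h, H14.On.Ph_split' n h, ← h.zT_cz (n / 32768),
    h.zT_eq, h.zT_eq, pow_eq_pow_mod _ (h2 6), pow_eq_pow_mod _ (h2 7), (h1 _ (e _)).1,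
    (h1 _ (e _)).2, ← pow_eq_pow_mod _ (h2 6), ← pow_eq_pow_mod _ (h2 7)]

theorem Ph_eq2 (hC : Cv M) (h : Rel s x) {n m : ℕ} (e : nf2 n = nf2 m) : Ph s x n = Ph s x m := by
  rw [← Ph_nf2 hC h, e, Ph_nf2 hC h]

/-- the embedding. -/
noncomputable def FF (s x : M) (a : Hc) : M := Ph s x (nt a)

theorem FF_one : FF s x 1 = 1 := by
  rw [FF, show nt 1 = 0 by decide +kernel, H14.On.Ph_zero]

theorem FF_gh (hC : Cv M) (h : Rel s x) {a : Hc} (ha : a ∈ Rc) {k : ℕ} (hk : k < 8) :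
    FF s x (a * gh k) = FF s x a * ev (el s x) (gw k) := by
  rw [FF, ← (chkN a ha).2.2 k (by interval_cases k <;> decide), Ph_nf2 hC h,
    (h.run_spec _ (chkN a ha).1).2, FF]

theorem FF_gh1 (hC : Cv M) (h : Rel s x) {k : ℕ} (hk : k < 8) :
    FF s x (gh k) = ev (el s x) (gw k) := by
  simpa [FF_one] using FF_gh hC h (one_mem _) hk

theorem FF_mul (hC : Cv M) (h : Rel s x) : ∀ a ∈ Rc, ∀ b ∈ Rc,
    FF s x (a * b) = FF s x a * FF s x b := by
  have k : ∀ k < 8, gh k ∈ Rc ∧ gh k * gh k = 1 := by decide +kernel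
  have : Rc ≤ subOf (fun b => b ∈ Rc ∧ ∀ a ∈ Rc, FF s x (a * b) = FF s x a * FF s x b)
      ⟨one_mem _, by simp [FF_one]⟩ (fun b c h1 h2 => ⟨mul_mem h1.1 h2.1, fun a ha => by
        rw [← mul_assoc, h2.2 _ (mul_mem ha h1.1), h1.2 _ ha, h2.2 _ h1.1, mul_assoc]⟩) := by
    have k2 : ∀ j < 8, (gh j ∈ Rc ∧ ∀ a ∈ Rc, FF s x (a * gh j) = FF s x a * FF s x (gh j)) ∧
        gh j * gh j = 1 :=
      fun j hj => ⟨⟨(k j hj).1, fun a ha => by rw [FF_gh hC h ha hj, FF_gh1 hC h hj]⟩, (k j hj).2⟩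
    refine fun a ha => mem_of_sift ?_ (rem_R 1 1 1 1 a ha)
    simp only [glR, List.forall_mem_cons, List.not_mem_nil, IsEmpty.forall_iff, implies_true,
      and_true]
    exact ⟨k2 0 (by omega), k2 1 (by omega), k2 2 (by omega), k2 3 (by omega), k2 4 (by omega),
      k2 5 (by omega), k2 6 (by omega), k2 7 (by omega)⟩
  exact fun a ha b hb => (this hb).2 a ha

theorem FF_zc (hC : Cv M) (h : Rel s x) : FF s x zc = s := by
  exact (FF_gh1 hC h (k := 7) (by omega)).trans (mul_one s)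

theorem FF_tB (h : Rel s x) : FF s x tB = rv s x 6 := by
  rw [FF, h.Ph_cen (by decide +kernel), show nt tB / 32768 = 16 by decide +kernel, h.zT_eq]
  simp [H14.On.pk_eq]

theorem FF_v3 (h : Rel s x) : FF s x ⟪17043801⟫ = rv s x 7 := by
  rw [FF, h.Ph_cen (by decide +kernel), show nt ⟪17043801⟫ / 32768 = 64 by decide +kernel, h.zT_eq]
  simp [H14.On.pk_eq]

theorem FF_cen (h : Rel s x) {a : Hc} (ha : a ∈ V0) : FF s x a ∈ center M := by
  rw [FF, h.Ph_cen ((show ∀ a ∈ V0, nt a % 32768 = 0 by decide +kernel) a ha)]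
  exact h.zT_mem _

theorem FF_surj (hC : Cv M) (h : Gen s x) {z : M} (hz : z ∈ center M) : ∃ a ∈ V0, FF s x a = z := by
  obtain ⟨a, b, rfl⟩ := hC.center_eq h hz
  have k : ∀ v ∈ V0, ∀ n : ℕ, FF s x (v ^ n) = FF s x v ^ n := fun v hv n => by
    induction n with
    | zero => simp [FF_one]
    | succ n ih => rw [pow_succ, FF_mul hC h.toRel _ (V_R (pow_mem hv n)) _ (V_R hv), ih, pow_succ]
  have k3 : ⟪17043801⟫ ∈ V0 := by decide +kernel
  exact ⟨_, mul_mem (pow_mem tB_V a) (pow_mem k3 b), by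
    rw [FF_mul hC h.toRel _ (V_R (pow_mem tB_V a)) _ (V_R (pow_mem k3 b)), k _ tB_V, k _ k3,
      FF_tB h.toRel, FF_v3 h.toRel]⟩

theorem FF_V (hC : Cv M) (h : Gen s x) {a : Hc} (ha : a ∈ Rc) (h1 : FF s x a ∈ center M) :
    a ∈ V0 := (chkN a ha).2.1 ((hC.Ph_inj h (chkN a ha).1 H14.On.V_zero).1 (by
      rw [H14.On.Ph_zero, map_one, mq_eq_one]; exact h1))

theorem FF_emb (hC : Cv M) (h : Gen s x) : Emb Rc (FF s x) := by
  refine ⟨FF_mul hC h.toRel, fun a ha h1 => ?_⟩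
  have hb : Function.Bijective fun v : V0 => (⟨FF s x v, FF_cen h.toRel v.2⟩ : center M) := by
    rw [Nat.bijective_iff_surjective_and_card]
    refine ⟨fun z => ?_, by rw [hC.cz, card_V0]⟩
    obtain ⟨a, ha, e⟩ := FF_surj hC h z.2
    exact ⟨⟨a, ha⟩, Subtype.ext e⟩
  exact congrArg Subtype.val (hb.1 (a₁ := ⟨a, FF_V hC h ha (h1 ▸ one_mem _)⟩) (a₂ := 1)
    (Subtype.ext (h1.trans FF_one.symm)))

theorem FF_act (hC : Cv M) (h : Rel s x) {w : List ℕ} {k : ℕ} {b : Hc} (hk : k < 8)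
    (e : chA w k b) : ev (el s x) w * FF s x (gh k) * (ev (el s x) w)⁻¹ = FF s x b := by
  have := Ph_eq2 hC h e.2
  rw [(h.run_spec _ (h.run_zero w).1).2, (h.run_zero w).2, (h.run_spec _ (chkN b e.1).1).2,
    ← FF_gh1 hC h hk] at this
  rw [this, FF, mul_inv_cancel_right]

theorem ord2 (hC : Cv M) {l : M} (h1 : l * l ∈ center M) (h2 : l ∉ center M) :
    orderOf (mq M l) = 2 :=
  haveI : Fact (Nat.Prime 2) := ⟨by norm_num⟩
  orderOf_eq_prime (by rw [← map_pow, sq, mq_eq_one]; exact h1) fun e => h2 (mq_eq_one.1 e)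

theorem FF_inv (hC : Cv M) (h : Gen s x) {l : M} (h1 : l * l ∈ center M) (h2 : l ∉ center M) :
    ∃ m : M, ∃ v ∈ V0, m * l * m⁻¹ = FF s x (zc * v) := by
  obtain ⟨g, hg⟩ := isConj_iff.1 (hC.inv _ _ (ord2 hC h1 h2)
    (ord2 hC (H14.On.rv_zero s x ▸ h.cen 0) (hC.s_ne h)))
  obtain ⟨m, rfl⟩ := QuotientGroup.mk'_surjective _ g
  obtain ⟨v, hv, e⟩ := FF_surj hC h (z := s⁻¹ * (m * l * m⁻¹)) (by
    rw [← mq_eq_one, map_mul, map_mul, map_mul, map_inv, map_inv, inv_mul_eq_one]; exact hg.symm)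
  exact ⟨m, v, hv, by rw [FF_mul hC h.toRel _ (Z_R zc_Z) _ (V_R hv), e, FF_zc hC h.toRel]; group⟩

theorem FF_cz (hC : Cv M) (h : Gen s x) {l : M} (h1 : l * s * l⁻¹ * s⁻¹ ∈ center M) :
    l ∈ im (FF s x) Rc := by
  haveI : Finite M := Nat.finite_of_card_ne_zero (by rw [hC.card]; norm_num)
  have k := fun i (hi : i < 315) => allF_true.1 chkI i hi
  simp only [and2_true, nbeq, lit_eq, H7.Cay.lt_true, allF_true, Bool.not_eq_true',
    ← Bool.not_eq_true] at k
  have h2 : 315 ≤ (H25.Tw.cls ⊤ (mq M s)).ncard := by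
    have : Function.Injective fun i : Fin 315 => mq M (ev (el s x) (iw i)) := fun i j e => by
      have e1 := (hC.rl_eq h).1 e
      rw [(k i i.2).1, (k j j.2).1] at e1
      rcases lt_trichotomy i j with h | h | h
      exacts [absurd e1 ((k j j.2).2.2.2 i h), h, absurd e1.symm ((k i i.2).2.2.2 j h)]
    have h3 := Set.ncard_le_ncard (t := H25.Tw.cls ⊤ (mq M s)) (s := Set.range _) (by
      rintro _ ⟨i, rfl⟩
      obtain ⟨g, hg⟩ := isConj_iff.1 (hC.inv _ _ (ord2 hC (H14.On.rv_zero s x ▸ h.cen 0)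
        (hC.s_ne h)) (ord2 hC (l := ev (el s x) (iw (i : Fin 315)))
          (by rw [← ev_append, hC.rl_zero h]; exact (k i i.2).2.1)
          (by rw [hC.rl_zero h, (k i i.2).1]; exact (k i i.2).2.2.1.ne')))
      exact ⟨g, mem_top _, hg.symm⟩)
    rwa [Set.ncard_range_of_injective this, Nat.card_eq_fintype_card, Fintype.card_fin] at h3
  have h3 := H25.Tw.cls_card ⊤ (mq M s)
  rw [top_inf_eq, card_top, hC.cq] at h3
  have h4 : ♯((C{mq M s}).comap (mq M)) = ♯C{mq M s} * 4 := by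
    have := (C{mq M s}).index_comap_of_surjective (QuotientGroup.mk'_surjective (center M))
    have h5 := ((C{mq M s}).comap (mq M)).card_mul_index
    have h6 := (C{mq M s}).card_mul_index
    rw [this, hC.card] at h5
    rw [hC.cq] at h6
    refine Nat.eq_of_mul_eq_mul_right (Nat.pos_of_ne_zero (index_ne_zero_of_finite (H := C{mq M s})))
      ?_
    rw [h5, mul_right_comm, h6]
    norm_num
  have h5 : im (FF s x) Rc = (C{mq M s}).comap (mq M) := by
    refine eq_of_card_ge (im_le.2 fun a ha => mem_C1.2 ?_) ?_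
    · have := ((FF_emb hC h).comm ha (Z_R zc_Z)).2 (zc_comm a)
      rw [FF_zc hC h.toRel] at this
      rw [← map_mul, ← map_mul, this]
    · rw [(FF_emb hC h).card, card_Rc, h4]
      nlinarith
  rw [h5, mem_comap, mem_C1_iff_conj, ← mul_inv_eq_one, ← map_inv, ← map_inv, ← map_mul, ← map_mul,
    ← map_mul, mq_eq_one]
  exact h1

theorem FF_aut (hC : Cv M) (h : Gen s x) (α : M ≃* M) (hα : ∀ z ∈ center M, α z = z) :
    ∃ m : M, (∀ l, m * α l * m⁻¹ = l) ∨
      ∀ k < 8, ∀ b, chU k b → m * α (FF s x (gh k)) * m⁻¹ = FF s x b := by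
  obtain ⟨m, d, hd, h1, h2⟩ := hC.aut_class h (h.toRel.conj α)
    (fun e => hC.s_ne h (α.injective (hα _ e) ▸ e)) (fun e => hC.x_ne h (by
      rw [α.map_eq_one_iff.1 e]; exact one_mem _))
  let β : M →* M := (MulAut.conj m).toMonoidHom.comp α.toMonoidHom
  have hβ : ∀ l, β l = m * α l * m⁻¹ := fun _ => rfl
  have k1 : ∀ w, β (ev (gl s x) w) = ev (gl (sD s x d) (xD s x d)) w := fun w => by
    rw [map_ev, ← h1, ← h2]; simp only [H14.On.map_gl]; rfl
  have k2 : ∀ z ∈ center M, β z = z := fun z hz => by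
    rw [hβ, hα z hz, mem_center_iff.1 hz, mul_inv_cancel_right]
  by_cases d0 : d = 0
  · subst d0
    refine ⟨m, Or.inl fun l => ?_⟩
    have : β = MonoidHom.id M := MonoidHom.eq_of_eqOn_dense h.top (by
      rintro _ (rfl | rfl)
      exacts [h1.trans (mul_one _), h2.trans (mul_one _)])
    exact DFunLike.congr_fun this l
  by_cases d3 : d = 3
  · subst d3
    refine ⟨ev (el s x) m3 * m, Or.inr fun k hk b e => ?_⟩
    have e1 := h.ev_eq (and2_true.1 (allF_true.1 H14.On.chkD 3 hd)).1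
    rw [ev_append] at e1
    have e2 := (h.rsb_spec (a := nth [] WS 3) (eq_inv_of_mul_eq_one_left e1) (gw k)
      (h.run_zero m3).1).2
    rw [Ph_eq2 hC h.toRel e.2.2, (h.run_spec _ (chkN b e.1).1).2, (h.run_zero m3).2] at e2
    have e3 := k1 (gw k)
    rw [← ev_congr (e := el s x) (fun c hc => H14.On.el_lt (e.2.1 c hc)), ← FF_gh1 hC h.toRel hk,
      hβ] at e3
    rw [FF.eq_1 s x b, eq_mul_inv_of_mul_eq e2, ← sD, ← xD, ← e3]
    group
  obtain ⟨v, hv, e⟩ := chkD d (by interval_cases d <;> simp_all)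
  have k3 : ∀ j, Ph s x (rd d (nth [] RL j)) = rv s x j := fun j => by
    rw [(h.rd_spec hd _).2, ← k1, ← rv, k2 _ (h.cen j)]
  exfalso
  rcases e with e | e
  · refine e.1 ((FF_emb hC h).eq (V_R hv) (V_R tB_V) ?_)
    rw [FF_tB h.toRel, ← k3, ← Ph_nf2 hC h.toRel, e.2, FF]
  · refine e.1 ((FF_emb hC h).eq (V_R hv) (by decide +kernel) ?_)
    rw [FF_v3 h.toRel, ← k3, ← Ph_nf2 hC h.toRel, e.2, FF]

variable {G : Type*} [Group G] [Finite G] {L : Subgroup G}

theorem mem_cen {l : L} : l ∈ center L ↔ (l : G) ∈ C[L] := by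
  rw [mem_center_iff, mem_C]
  exact ⟨fun h g hg => congrArg Subtype.val (h ⟨g, hg⟩), fun h g => Subtype.ext (h g g.2)⟩

theorem exists_fr (hC : Cv L) {s x : L} (h : Gen s x) : ∃ f c y, Fr L f c y := by
  have he := FF_emb hC h
  have hf : Emb Rc fun a => (FF s x a).1 := ⟨fun a ha b hb => by rw [he.mul a ha b hb]; rfl,
    fun a ha e => he.inj a ha (Subtype.ext e)⟩
  have hm : im (fun a => (FF s x a).1) Rc ≤ L := im_le.2 fun a _ => (FF s x a).2
  have hc : L ⊓ C[L] = im (fun a => (FF s x a).1) V0 := le_antisymm (fun z hz => by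
    obtain ⟨a, ha, e⟩ := FF_surj hC h (z := ⟨z, hz.1⟩) (mem_cen.2 hz.2)
    exact (show (FF s x a).1 = z from congrArg Subtype.val e) ▸ mem_im (f := fun a => (FF s x a).1) ha)
    (im_le.2 fun a ha => ⟨(FF s x a).2, mem_cen.1 (FF_cen h.toRel ha)⟩)
  have ka : ∀ {w : List ℕ} {k : ℕ} {b : Hc}, k < 8 → chA w k b → (ev (el s x) w : L) *
      (FF s x (gh k)).1 * ((ev (el s x) w : L) : G)⁻¹ = (FF s x b).1 := fun hk e =>
    congrArg Subtype.val (FF_act hC h.toRel hk e)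
  refine ⟨_, (ev (el s x) [0, 1, 0, 2, 0, 2, 2, 0, 2, 0, 1, 0, 2, 0, 1, 1, 1] : L),
    fun i => (ev (el s x) (cond i [1, 0, 2] [2, 0, 1]) : L), hf, hm, hc, fun l hl h1 h2 => ?_,
    fun l hl h1 => ?_, Syl.mk' Nat.prime_two hm (hf.two Rc_le_Tc) ?_, SetLike.coe_mem _, ?_,
    fun _ => SetLike.coe_mem _, fun i => ?_, fun g hg => ?_⟩
  · obtain ⟨m, v, hv, e⟩ := FF_inv hC h (l := ⟨l, hl⟩) (mem_cen.2 h1) (mt mem_cen.1 h2)
    exact ⟨m, m.2, v, hv, congrArg Subtype.val e⟩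
  · rw [FF_zc hC h.toRel] at h1
    obtain ⟨a, ha, e⟩ := he.ex (FF_cz hC h (l := ⟨l, hl⟩) (mem_cen.2 h1))
    exact (show (FF s x a).1 = l from congrArg Subtype.val e) ▸ mem_im (f := fun a => (FF s x a).1) ha
  · have := card_mul_relIndex hm
    rw [hf.card, card_Rc, hC.card] at this
    omega
  · exact ac_th hf (by decide +kernel) (by decide +kernel) (by decide +kernel) (by decide +kernel)
      (ka (k := 0) (by omega) (by decide +kernel)) (ka (k := 1) (by omega) (by decide +kernel))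
      (ka (k := 2) (by omega) (by decide +kernel)) (ka (k := 3) (by omega) (by decide +kernel))
  · refine ac_sift (hf.of_le (Uc_le_Rc i)) ?_ (by cases i <;> decide +kernel)
    have k : ∀ x ∈ glY i, ∃ k ∈ [0, 1, 2, 3, 4, 5, 6, 7], x.2.1 = gh k ∧ x.2.1 ∈ Uc i ∧
        x.2.2 ∈ Uc i ∧ x.2.1 * x.2.1 = 1 ∧ chA (cond i [1, 0, 2] [2, 0, 1]) k x.2.2 := by
      cases i <;> decide +kernel
    intro y hy
    obtain ⟨j, hj, e1, e2, e3, e4, e5⟩ := k y hy
    exact ⟨e2, e3, e4, e1 ▸ ka (by simp at hj; omega) e5⟩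
  · obtain ⟨m, e⟩ := FF_aut hC h (normalizerMonoidHom L ⟨g, hg.1⟩) fun z hz => Subtype.ext
      (conj_eq_of_mem_C hg.2 (hc ▸ ⟨z.2, mem_cen.1 hz⟩))
    have k : ∀ l : L, ((m * normalizerMonoidHom L ⟨g, hg.1⟩ l * m⁻¹ : L) : G) =
        m * g * l * (m * g)⁻¹ := fun l => by
      change (m : G) * (g * l * g⁻¹) * (m : G)⁻¹ = _
      group
    rcases e with e | e
    · left
      rw [show g = (m : G)⁻¹ * (m * g) by group]
      refine mul_mem_sup (inv_mem m.2) (mem_C'.2 fun l hl => ?_)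
      exact mul_inv_eq_iff_eq_mul.1 ((k ⟨l, hl⟩).symm.trans (congrArg Subtype.val (e _)))
    · have k2 : ∀ j < 8, ∀ b, chU j b → m * g * (FF s x (gh j)).1 * (m * g)⁻¹ = (FF s x b).1 :=
        fun j hj b hb => (k _).symm.trans (congrArg Subtype.val (e j hj b hb))
      exact Or.inr ⟨m, m.2, ac_th hf (by decide +kernel) (by decide +kernel) (by decide +kernel)
        (by decide +kernel) (k2 0 (by omega) _ (by decide +kernel))
        (k2 1 (by omega) _ (by decide +kernel)) (k2 2 (by omega) _ (by decide +kernel))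
        (k2 3 (by omega) _ (by decide +kernel))⟩

end H24.He
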