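import Mathlib
import Cfsg.Agent.H24.HeS

/-! The Sylow subgroup of the centraliser of the central involution. -/

set_option autoImplicit false
set_option linter.unusedSectionVars false
set_option maxRecDepth 100000
set_option synthInstance.maxSize 4096

namespace H24.He

open H28 H28.Held H29 H26 H26.Gold Subgroup
open H7.SJ (p2 ea_cj twoG_zp mem_of_odd)

variable {G : Type*} [Group G] [Finite G] {L X M : Subgroup G} {f : Hc → G}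
  {c c' g g' t u k σ x : G} {y : Bool → G} {a b ζ : Hc} {A B : Subgroup Hc} {θ : Hc → Hc} {i : Bool}

local notation "𝐕" => im f V0
local notation "𝐖" => im f W0
local notation "𝐙" => im f Zc
local notation "𝐏" => im f Rc
local notation "𝐎" => Od[C[L]]

namespace S2

variable (h : S2 L f c y σ)
include h

theorem P_CZ : 𝐏 ≤ C[𝐙] := cents_symm h.Z_CP

theorem acZ {p : Hc} (hp : p ∈ Rc) (hg : g ∈ N[𝐏]) (hθ : Ac Rc f (f p * g) θ) : Ac Zc f g θ := by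
  simpa using (hθ.of_le Z_R fun a ha => (hθ.mem h.emb Z_R (h.NP (hθ.norm h.emb)) (Z_R ha)).2
    ha).cent_mul (inv_mem (h.P_CZ (mem_im hp)))

theorem ex_c' : ∃ c', Ac Rc f c' τd := by
  have hc := conj_mem (norm_N (le_refl N[𝐏]) h.σP) (h.cA.norm h.emb)
  obtain ⟨p, hp, θ, k, hθ⟩ := h.CL1 (Q := fun θ => (∀ w ∈ W0, θ w = w) → θ tB ≠ tB →
    θ^[3] tB = tB → eqG θ τd ∨ eqG (fun a => θ (θ a)) τd) (by decide +kernel) hc
  have k1 := h.acZ hp hc hθ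
  have eZ := h.emb.of_le Z_R
  obtain ⟨w, hw, e⟩ := (h.emb.of_le W_R).ex (mem_cj.1 (h.σW.ge (mem_im tB_V)))
  have e1 : ∀ n : ℕ, (σ * c * σ⁻¹) ^ n * f tB * ((σ * c * σ⁻¹) ^ n)⁻¹ =
      σ * f (τc^[n] w) * σ⁻¹ := fun n => by
    rw [← (h.cA.pow n w (W_R hw)).2, e, conj_pow]; group
  have e2 : σ * f w * σ⁻¹ = f tB := by rw [e]; group
  have w1 : w ≠ 1 := fun k => h.tB1 (by rw [← e2, k, h.emb.one]; simp)
  obtain ⟨k2, k3, k4⟩ := (show ∀ w ∈ W0, w ≠ 1 → τc w ∈ Rc ∧ τc w ≠ w ∧ τc^[3] w = w by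
    decide +kernel) w hw w1
  have ok : okT τd := by decide +kernel
  refine (k (fun w hw => k1.eq eZ (W0_le hw) (W0_le hw) (conj_eq_of_mem_C
    (h.σV ▸ cent_cj h.L_CV σ (conj_mem_cj σ h.cL)) (mem_im hw))) (fun k => k3 (h.emb.eq k2 (W_R hw) ?_))
    ((k1.pow 3).eq eZ (V0_le tB_V) (V0_le tB_V) (by rw [e1, k4, e2]))).elim
    (fun k => ⟨_, hθ.gen h.emb k ok⟩) fun k => ⟨_, (hθ.mul hθ).gen h.emb k ok⟩
  have := e1 1
  rw [pow_one, (k1 tB (V0_le tB_V)).2, k, ← e2] at this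
  exact (mul_left_cancel (mul_right_cancel this)).symm

theorem ac3 (hd : Ac Rc f c' τd) (j k : ℕ) : Ac Rc f (c ^ j * c' ^ k) (τ3 j k) :=
  (h.cA.pow j).mul (hd.pow k)

theorem yP (i : Bool) : cj (y i) (im f (P0 i)) = 𝐖 ∧ cj (y i) 𝐖 = im f (P0 i) := by
  have k : (∀ a ∈ 1 :: pU i, a ∈ Uc i ∧ τy i a ∈ W0) ∧ ∀ a ∈ W0, τy i a ∈ 1 :: pU i := by
    cases i <;> decide +kernel
  exact ⟨cj_im h.emb (P0_R i) W_R (fun a ha => ⟨_, (k.1 a ha).2, (h.yA i a (k.1 a ha).1).2⟩)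
    (by rw [card_P0, card_W0]), cj_im h.emb W_R (P0_R i) (fun a ha => ⟨_, k.2 a ha,
      (h.yA i a (Z_le i (W0_le ha))).2⟩) (by rw [card_P0, card_W0])⟩

theorem ex_tt (hd : Ac Rc f c' τd) (i : Bool) : ∃ x, Ac Rc f x (cn (tt (!i))) := by
  obtain ⟨p, hp, θ, k, hθ⟩ := h.CL1 (Q := fun θ => ∀ i, ∃ j, ∀ a ∈ 1 :: pU j, θ a ∈ 1 :: pU i)
    (by decide +kernel) h.σP
  obtain ⟨j, k⟩ := k i
  have s1 := cj_im h.emb (P0_R j) (P0_R i) (fun a ha => ⟨_, k a ha, (hθ a (P0_R j ha)).2⟩)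
    (by rw [card_P0, card_P0])
  have pC := h.P_CZ (mem_im hp)
  have s2 : cj (f p * σ) 𝐕 = 𝐖 := by rw [cj_mul, h.σV, cj_of_mem_C (C_anti (im_mono W0_le) pC)]
  have s3 : cj (f p * σ) 𝐖 = 𝐕 := by rw [cj_mul, h.σW, cj_of_mem_C (C_anti (im_mono V0_le) pC)]
  generalize f p * σ = s at s1 s2 s3
  have y1 := h.yP
  have y2 := fun i => h.L_CV (h.yL i)
  have n1 : cj ((y i)⁻¹ * (s * y j * s⁻¹) * y i) 𝐕 = 𝐖 := by
    simp only [cj_mul]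
    rw [cj_of_mem_C (y2 i), (cj_eq_iff.1 s3).symm, (y1 j).2, s1, ← (cj_eq_iff.1 (y1 i).2)]
  have n2 : cj ((y i)⁻¹ * (s * y j * s⁻¹) * y i) 𝐖 = 𝐕 := by
    simp only [cj_mul]
    rw [(y1 i).2, (cj_eq_iff.1 s1).symm, (y1 j).1, s3, cj_of_mem_C (inv_mem (y2 i))]
  have n3 : (y i)⁻¹ * (s * y j * s⁻¹) * y i ∈ C[im f (P0 i)] := by
    rw [cj_eq_iff.1 (y1 i).1, ← cj_C, mem_cj, ← s2, ← cj_C]
    simpa [mul_assoc] using conj_mem_cj s (y2 j)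
  have n4 := h.nP2 n1 n2
  generalize (y i)⁻¹ * (s * y j * s⁻¹) * y i = n at n1 n3 n4
  obtain ⟨p, hp, θ, k, hθ⟩ := h.CL1 (Q := fun θ => θ tB ∈ W0 → ∀ i, θ (g1 i) * g1 i ∈ Zc →
    θ (g2 i) * g2 i ∈ Zc → ∃ j ∈ [0, 1, 2], ∃ k ∈ [0, 1, 2], eqG (fun a => cn (ww (!i)) (τ3 j k (θ a)))
      (cn (tt (!i)))) (by decide +kernel) n4
  have k1 : ∀ a ∈ 1 :: pU i, θ a * a ∈ Zc := fun a ha => by
    rw [hθ.eq h.emb (P0_R i ha) (cn_mem hp (P0_R i ha)) (by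
      rw [← h.emb.conj hp (P0_R i ha), show f p * n * f a * (f p * n)⁻¹ =
        f p * (n * f a * n⁻¹) * (f p)⁻¹ by group, conj_eq_of_mem_C n3 (mem_im (B := P0 i) ha)])]
    exact (show ∀ p ∈ Rc, ∀ a ∈ 1 :: pU i, cn p a * a ∈ Zc by cases i <;> decide +kernel) p hp a ha
  have k2 := h.acZ hp n4 hθ tB (V0_le tB_V)
  obtain ⟨j, -, k, -, e⟩ := k ((h.emb.mem W_R (Z_R k2.1)).1 (k2.2 ▸ n1 ▸ conj_mem_cj n (mem_im tB_V)))
    i (k1 _ (by simp [pU])) (k1 _ (by simp [pU]))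
  exact ⟨_, ((h.emb.acs (a := ww (!i)) (by cases i <;> decide +kernel)).mul ((h.ac3 hd j k).mul
    hθ)).gen h.emb e (by cases i <;> decide +kernel)⟩

theorem two_part (hx : Ac Rc f x θ) (e : ∀ a ∈ Rc, θ (θ a) = a) :
    ∃ x, Ac Rc f x θ ∧ ∃ ζ ∈ Zc, x * x = f ζ ∧ θ ζ = ζ := by
  obtain ⟨s, o, h1, h2, -, rfl⟩ := odd_part ((hx.mul hx).cent e)
  have k : Ac Rc f s θ := by simpa using hx.of_cent (inv_mem h2)
  obtain ⟨ζ, hζ, e1⟩ := h.twoZ ((k.mul k).cent e) (h1.mul h1 rfl)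
  exact ⟨s, k, ζ, hζ, e1.symm, k.eq h.emb (Z_R hζ) (Z_R hζ) (by rw [e1]; group)⟩

theorem adj {p : Hc} (hx : Ac Rc f x θ) (hζ : ζ ∈ Zc) (e : x * x = f ζ) (hp : p ∈ Zc)
    (e1 : θ p * ζ * p = 1) : Ac Rc f (x * f p) θ ∧ x * f p * (x * f p) = 1 :=
  ⟨hx.of_cent (h.Z_CP (mem_im hp)), by
    have k := hx p (Z_R hp)
    rw [← h.emb.one, ← e1, h.emb.mul _ (mul_mem k.1 (Z_R hζ)) _ (Z_R hp), h.emb.mul _ k.1 _ (Z_R hζ),
      ← k.2, ← e]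
    group⟩

theorem ex_inv (hd : Ac Rc f c' τd) (i : Bool) : ∃ x, Ac Rc f x (cn (tt i)) ∧ x * x = 1 := by
  obtain ⟨x, hx⟩ := h.ex_tt hd (!i)
  rw [Bool.not_not] at hx
  obtain ⟨x, hx, ζ, hζ, e, e1⟩ := h.two_part hx (by cases i <;> decide +kernel)
  obtain ⟨p, hp, e2⟩ := (show ∀ ζ ∈ Zc, cn (tt i) ζ = ζ → ∃ p ∈ Zc, cn (tt i) p * ζ * p = 1 by
    cases i <;> decide +kernel) ζ hζ e1
  exact ⟨_, h.adj hx hζ e hp e2⟩

theorem ex_ab (hd : Ac Rc f c' τd) : ∃ α β, Ac Rc f α (cn (tt true)) ∧ Ac Rc f β (cn (tt false)) ∧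
    α * α = 1 ∧ β * β = 1 ∧ α * β * (α * β) = 1 := by
  obtain ⟨α, a1, a2⟩ := h.ex_inv hd true
  obtain ⟨β, b1, b2⟩ := h.ex_inv hd false
  have ai := inv_eq_of_mul_eq_one_right a2
  have sq : ∀ a ∈ Rc, cn (tt true) (cn (tt false) (cn (tt true) (cn (tt false) a))) = a := by
    decide +kernel
  obtain ⟨s, o, h1, h2, ⟨n, rfl⟩, e⟩ := odd_part (((a1.mul b1).mul (a1.mul b1)).cent sq)
  have e1 : α * (α * β) ^ n * α⁻¹ = ((α * β) ^ n)⁻¹ := by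
    rw [← conj_zpow, ← inv_zpow, mul_inv_rev, ai, inv_eq_of_mul_eq_one_right b2, ← mul_assoc, a2,
      one_mul]
  simp only at e h1
  generalize (α * β) ^ n = s at *
  have b3 : Ac Rc f (α * s) (cn (tt false)) := by
    rw [show α * s = β * o⁻¹ by rw [eq_mul_inv_iff_mul_eq, mul_assoc, ← e, ← mul_assoc, a2, one_mul]]
    exact b1.of_cent (inv_mem h2)
  have b4 : α * s * (α * s) = 1 := by rw [ai] at e1; rw [← mul_assoc, e1, inv_mul_cancel]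
  have e2 : α * (α * s) = s := by rw [← mul_assoc, a2, one_mul]
  obtain ⟨ζ, hζ, e3⟩ := h.twoZ (((a1.mul b3).mul (a1.mul b3)).cent sq) (by rw [e2]; exact h1.mul h1 rfl)
  have e4 : α * f ζ * α⁻¹ = f ζ := by
    have := h.eaZ.inv (mem_im hζ)
    rw [e3, e2] at this ⊢
    rw [← conj_mul, e1, ← this]; group
  have e5 : α * s * f ζ * (α * s)⁻¹ = f ζ :=
    calc _ = α * (s * s) * α⁻¹ := by rw [e3, e2]; group
      _ = _ := by rw [← e4, e3, e2]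
  generalize α * s = β at *
  obtain ⟨p, hp, k1, k2, k3, k4⟩ := (show ∀ ζ ∈ Zc, cn (tt true) ζ = ζ → cn (tt false) ζ = ζ →
    ∃ p ∈ Zc, cn (tt true) p * 1 * p = 1 ∧ cn (tt true) p ∈ Zc ∧ cn (tt false) (cn (tt true) p) ∈ Zc ∧
      cn (tt true) p * cn (tt true) (cn (tt false) (cn (tt true) p)) * ζ = 1 by decide +kernel) ζ hζ
    (a1.eq h.emb (Z_R hζ) (Z_R hζ) e4) (b3.eq h.emb (Z_R hζ) (Z_R hζ) e5)
  obtain ⟨a3, a4⟩ := h.adj a1 (one_mem _) (a2.trans h.emb.one.symm) hp k1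
  refine ⟨_, β, a3, b3, a4, b4, ?_⟩
  have m := (a1 _ (Z_R k3)).1
  rw [← h.emb.one, ← k4, h.emb.mul _ (mul_mem (Z_R k2) m) _ (Z_R hζ), h.emb.mul _ (Z_R k2) _ m,
    ← (a1 _ (Z_R k3)).2, ← (b3 _ (Z_R k2)).2, ← (a1 _ (Z_R hp)).2, e3]
  group

theorem congr {φ : Hc → G} (e : ∀ a ∈ Rc, φ a = f a) : S2 L φ c y σ := by
  have k : ∀ {A}, A ≤ Rc → im φ A = im f A := fun hA => im_congr fun a ha => e a (hA ha)
  have k1 : ∀ {A g θ}, A ≤ Rc → Ac A f g θ → Ac A φ g θ := fun hA h a ha =>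
    ⟨(h a ha).1, by rw [e a (hA ha), e _ (hA (h a ha).1), (h a ha).2]⟩
  refine ⟨⟨⟨⟨fun a ha b hb => by rw [e a ha, e b hb, e _ (mul_mem ha hb), h.emb.mul a ha b hb],
    fun a ha => e a ha ▸ h.emb.inj a ha⟩, k le_rfl ▸ h.mem, k V_R ▸ h.cen, fun l h1 h2 h3 => ?_,
    k le_rfl ▸ e zc (Z_R zc_Z) ▸ h.cz, k le_rfl ▸ h.syl, h.cL, k1 le_rfl h.cA, h.yL,
    fun i => k1 (Uc_le_Rc i) (h.yA i), fun g hg => (h.aut g (k V_R ▸ hg)).imp_right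
      fun ⟨m, hm, e⟩ => ⟨m, hm, k1 le_rfl e⟩⟩, h.ti⟩, k V_R ▸ h.KO, k le_rfl ▸ h.σP,
    k V_R ▸ k W_R ▸ h.σV, k V_R ▸ k W_R ▸ h.σW⟩
  obtain ⟨m, hm, v, hv, e1⟩ := h.inv l h1 h2 h3
  exact ⟨m, hm, v, hv, by rw [e _ (Z_R (mul_mem zc_Z (V0_le hv))), e1]⟩

end S2

/-- A frame with the Sylow subgroup. -/
structure S3 (L : Subgroup G) (f : Hc → G) (c c' : G) (y : Bool → G) (σ : G) : Prop
    extends S2 L f c y σ where
  embT : Emb Tc f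
  dA : Ac Rc f c' τd

theorem St.ex_S3 [IsSimpleGroup G] (h : St L f c y) : ∃ f c' σ, S3 L f c c' y σ := by
  obtain ⟨h1, σ, h2, h3, h4⟩ := h.ex_σ
  have h : S2 L f c y σ := ⟨h, h1, h2, h3, h4⟩
  obtain ⟨c', hd⟩ := h.ex_c'
  obtain ⟨α, β, a1, b1, a2, b2, e⟩ := h.ex_ab hd
  let A : Subgroup Hc := PS [1, 2, 3, 4, 7, 8, 9, 13, 14] (by decide +kernel)
  have RA : Rc ≤ A := show ∀ a ∈ Rc, a ∈ PS _ _ by decide +kernel
  obtain ⟨φ, e1, e2, e3⟩ := h.emb.ext2 (B := A) (by decide +kernel) (by decide +kernel)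
    (show ∀ a ∈ PS _ _, _ by decide +kernel) a1 a2 fun a ha => ⟨g1 true, g1_R _,
      (show ∀ a ∈ Rc, cn a (g1 true) ≠ cn (tt true) (g1 true) by decide +kernel) a ha⟩
  have k : ∀ a ∈ Rc, β * φ a * β⁻¹ = φ (cn (tt false) a) := fun a ha => by
    rw [e2 a ha, e2 _ (b1 a ha).1, (b1 a ha).2]
  have tA : tt true ∈ A := show _ ∈ PS _ _ by decide +kernel
  obtain ⟨ψ, f1, f2, -⟩ := e1.ext2 (B := Tc) (s := tt false) (g := β) (by decide +kernel)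
    (show _ ∉ PS _ _ by decide +kernel) (show ∀ a ∈ Tc, a ∉ PS _ _ → _ ∈ PS _ _ by decide +kernel)
    (fun a ha => by
      obtain ⟨k1, k2⟩ := (show ∀ a ∈ PS _ _, cn (tt false) a ∈ PS [1, 2, 3, 4, 7, 8, 9, 13, 14]
        (by decide +kernel) ∧ (a ∈ Rc ∨ tt true * a ∈ Rc ∧
        a = tt true * (tt true * a) ∧ cn (tt false) a = tt true * cn (tt false) (tt true * a)) by
          decide +kernel) a ha
      refine ⟨k1, k2.elim (k a) fun ⟨k2, k3, k4⟩ => ?_⟩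
      rw [k4, e1.mul _ tA _ (RA (b1 _ k2).1), ← k _ k2, k3, e1.mul _ tA _ (RA k2), ← k3, e3,
        ← mul_assoc, ← mul_assoc, ← mul_assoc, ← inv_eq_of_mul_eq_one_right e, mul_inv_rev,
        inv_eq_of_mul_eq_one_right a2, inv_eq_of_mul_eq_one_right b2]) b2 fun a ha =>
    ⟨g1 false, RA (g1_R _), (show ∀ a ∈ PS _ _, cn a (g1 false) ≠ cn (tt false) (g1 false) by
      decide +kernel) a ha⟩
  have k1 : ∀ a ∈ Rc, ψ a = f a := fun a ha => (f2 a (RA ha)).trans (e2 a ha)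
  exact ⟨ψ, c', σ, h.congr k1, f1, fun a ha => ⟨(hd a ha).1, by
    rw [k1 a ha, k1 _ (hd a ha).1, (hd a ha).2]⟩⟩

end H24.He
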