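import Mathlib
import Cfsg.Agent.H24.HeR

/-! The two parabolic subgroups of the centraliser of the central involution. -/

set_option autoImplicit false
set_option linter.unusedSectionVars false
set_option maxRecDepth 100000
set_option synthInstance.maxSize 4096

namespace H24.He

open H28 H28.Held H29 H26 H26.Gold Subgroup
open H7.SJ (p2 ea_cj twoG_zp mem_of_odd)

variable {G : Type*} [Group G] [Finite G] {L X M : Subgroup G} {f : Hc → G}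
  {c c' g g' t u k σ x : G} {y : Bool → G} {a b ζ r s : Hc} {A B : Subgroup Hc} {θ : Hc → Hc}
  {i : Bool}

local notation "𝐙" => im f Zc
local notation "𝐏" => im f Rc
local notation "𝐐" => im f Qc
local notation "𝐒" => im f Tc
local notation "𝐎" => Od[C[L]]

theorem cn_mul (a b x : Hc) : cn (a * b) x = cn a (cn b x) := by simp only [cn_eq]; group

theorem nrmT (h : ∀ c ∈ [0, 1, 2, 3], ∀ a ∈ A, lt c * a * lt c ∈ A) (hs : s ∈ Tc) :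
    ∀ a ∈ A, cn s a ∈ A := by
  have : gen lt [0, 1, 2, 3] ≤ subOf (fun g => ∀ a ∈ A, cn g a ∈ A) (by simp [cn_eq])
      (fun g k h1 h2 a ha => cn_mul g k a ▸ h1 _ (h2 a ha)) :=
    gen_le.2 fun c hc a ha => by rw [cn_eq, ← lt_iv c]; exact h c hc a ha
  exact this (Tc_le_gen hs)

theorem T_R (hs : s ∈ Tc) : ∀ a ∈ Rc, cn s a ∈ Rc := nrmT (by decide +kernel) hs
theorem T_U (i : Bool) (hs : s ∈ Tc) : ∀ a ∈ Uc i, cn s a ∈ Uc i :=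
  nrmT (by cases i <;> decide +kernel) hs
theorem H_Q (s : Hc) : ∀ a ∈ Qc, cn s a ∈ Qc := fun a ha => cn_eq s a ▸ norm_of_lt chk_Q.1 s a ha
theorem Q_T : Qc ≤ Tc := show ∀ a ∈ Qc, a ∈ Tc by decide +kernel
theorem zc_Q : zc ∈ Qc := by decide +kernel
theorem zc_T : zc ∈ Tc := Q_T zc_Q
theorem zc_sq : zc * zc = 1 := Z_sq zc_Z
theorem zc_ne : zc ≠ 1 := by decide +kernel

theorem imT_le (he : Emb Tc f) (h : ∀ c ∈ [0, 1, 2, 3], f (lt c) ∈ X) : 𝐒 ≤ X := by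
  have : gen lt [0, 1, 2, 3] ≤ subOf (fun a => a ∈ Tc ∧ f a ∈ X) ⟨one_mem _, he.one ▸ one_mem _⟩
      fun a b h1 h2 => ⟨mul_mem h1.1 h2.1, he.mul a h1.1 b h2.1 ▸ mul_mem h1.2 h2.2⟩ :=
    gen_le.2 fun c hc => ⟨(show ∀ c ∈ [0, 1, 2, 3], lt c ∈ Tc by decide +kernel) c hc, h c hc⟩
  exact im_le.2 fun a ha => (this (Tc_le_gen ha)).2

theorem Ac.lift (h : Ac A f g (cn s)) (he : Emb B f) (hA : A ≤ B)
    (hn : ∀ r ∈ B, ∀ a ∈ A, cn r a ∈ A) (hr : r ∈ B) (hr' : cn s r ∈ B) :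
    (f (cn s r))⁻¹ * (g * f r * g⁻¹) ∈ C[im f A] := by
  have := conj_mem (N_le_NC _ (h.norm (he.of_le hA))) (((he.ac hr' hA (hn _ hr')).mul h).cent2
    ((h.mul (he.ac hr hA (hn _ hr))).congr fun a _ => by simp only [cn_eq]; group))
  rwa [show g * ((f (cn s r) * g)⁻¹ * (g * f r)) * g⁻¹ = (f (cn s r))⁻¹ * (g * f r * g⁻¹) by group]
    at this

/-- the unipotent radicals of the two parabolic subgroups. -/
noncomputable abbrev Rq (i : Bool) : Subgroup Hc := PS (cond i [1, 2, 3, 4, 7, 8, 9, 14, 19]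
  [1, 2, 3, 4, 8, 9, 13, 14, 19]) (by cases i <;> decide +kernel)

theorem Rq_T (i : Bool) : Rq i ≤ Tc := show ∀ a ∈ Rq i, a ∈ Tc by cases i <;> decide +kernel
theorem U_Rq (i : Bool) : Uc i ≤ Rq i := show ∀ a ∈ Uc i, a ∈ Rq i by cases i <;> decide +kernel
theorem Q_Rq (i : Bool) : Qc ≤ Rq i := show ∀ a ∈ Qc, a ∈ Rq i by cases i <;> decide +kernel
theorem x_Rq (i : Bool) : ∀ a ∈ Rq i, cn (xx i) a ∈ Rq i := by cases i <;> decide +kernel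
theorem x_U (i : Bool) : ∀ a ∈ Uc i, cn (xx i) a ∈ Uc i := by cases i <;> decide +kernel

/-- the sifting list of the radical. -/
noncomputable def lq (i : Bool) (b1 b2 b3 : Hc) : List (ℕ × Hc × Hc) :=
  (1, tt true, b1) :: (19, tt false, b2) :: (cond i 14 2, ww i, b3) ::
    (lU i).map fun x => (x.1, x.2.1, cn (xx i) x.2.1)

theorem chk_q (i : Bool) : ∀ u1 ∈ Uc i, frc (cn (xx i) (tt true) * u1) (fun b1 => decide (b1 * b1 = 1 →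
    ∀ u3 ∈ Uc i, frc (cn (xx i) (ww i) * u3) (fun b3 => decide (b3 * b3 = 1 →
      cm b1 b3 = cn (xx i) (cm (tt true) (ww i)) → ∀ u2 ∈ Uc i,
      frc (cn (xx i) (tt false) * u2) (fun b2 => decide (b2 * b2 = 1 → b1 * b2 = b2 * b1 →
        cm b3 b2 = cn (xx i) (cm (ww i) (tt false)) →
        (∃ u ∈ Uc i, cn u b1 = cn (xx i) (tt true) ∧ cn u b2 = cn (xx i) (tt false) ∧
          cn u b3 = cn (xx i) (ww i)) ∨ ((sig (lq i b1 b2 b3))^[3] (ww i) ∈ Rc ∧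
          dD ((sig (lq i b1 b2 b3))^[3] (ww i))))) = true)) = true)) = true := by
  cases i <;> decide +kernel

theorem ac_lq (he : Emb (Rq i) f) (hU : Ac (Uc i) f g (cn (xx i))) {b1 b2 b3 : Hc} (m1 : b1 ∈ Rq i)
    (m2 : b2 ∈ Rq i) (m3 : b3 ∈ Rq i) (e1 : g * f (tt true) * g⁻¹ = f b1)
    (e2 : g * f (tt false) * g⁻¹ = f b2) (e3 : g * f (ww i) * g⁻¹ = f b3) :
    Ac (Rq i) f g (sig (lq i b1 b2 b3)) := by
  have k : (tt true ∈ Rq i ∧ tt true * tt true = 1) ∧ (tt false ∈ Rq i ∧ tt false * tt false = 1) ∧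
    (ww i ∈ Rq i ∧ ww i * ww i = 1) ∧ (∀ x ∈ lU i, x.2.1 ∈ Uc i) ∧
    ∀ a ∈ Rq i, rem (lq i 1 1 1) a = 1 := by cases i <;> decide +kernel
  refine ac_sift he ?_ k.2.2.2.2
  simp only [lq, List.forall_mem_cons, List.forall_mem_map]
  exact ⟨⟨k.1.1, m1, k.1.2, e1⟩, ⟨k.2.1.1, m2, k.2.1.2, e2⟩, ⟨k.2.2.1.1, m3, k.2.2.1.2, e3⟩,
    fun x hx => have m := k.2.2.2.1 x hx
      ⟨U_Rq i m, U_Rq i (hU _ m).1, Uc_sq i _ m, (hU _ m).2⟩⟩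

/-- representatives of `T` modulo `R`. -/
def LT : List Hc := [1, ⟪17567813⟫, ⟪17059907⟫, ⟪17584199⟫]

/-- the elements that act on `Q` as an element of the model. -/
def Yg (f : Hc → G) : Subgroup G := subOf (fun g => ∃ s, Ac Qc f g (cn s))
  ⟨1, ac_one.congr fun a _ => by simp [cn_eq]⟩ fun _ _ ⟨s, h⟩ ⟨s', h'⟩ =>
    ⟨s * s', (h.mul h').congr fun a _ => (cn_mul s s' a).symm⟩

local notation "𝐘" => Yg f

namespace S3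

variable (h : S3 L f c c' y σ)
include h

theorem acT (hs : s ∈ Tc) : Ac Rc f (f s) (cn s) := h.embT.ac hs Rc_le_Tc (T_R hs)
theorem acU (i : Bool) (hs : s ∈ Tc) : Ac (Uc i) f (f s) (cn s) :=
  h.embT.ac hs (Uc_le_Tc i) (T_U i hs)
theorem acQ (hs : s ∈ Tc) : Ac Qc f (f s) (cn s) := h.embT.ac hs Q_T (H_Q s)
theorem eQ : Emb Qc f := h.embT.of_le Q_T
theorem twoS : TwoG 𝐒 := h.embT.two le_rfl
theorem S_NP : 𝐒 ≤ N[𝐏] := im_le.2 fun _ hs => (h.acT hs).norm h.emb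
theorem S_NO : 𝐒 ≤ N[𝐎] := h.S_NP.trans h.NPO
theorem S_z : 𝐒 ≤ C{f zc} := im_le.2 fun s hs => mem_C1.2 ((h.embT.comm hs zc_T).2 (zc_comm s))
theorem S_Y : 𝐒 ≤ 𝐘 := im_le.2 fun s hs => ⟨s, h.acQ hs⟩
theorem Y_NQ : 𝐘 ≤ N[𝐐] := fun _ ⟨_, e⟩ => e.norm h.eQ
theorem Y_z : 𝐘 ≤ C{f zc} := fun _ ⟨s, e⟩ => mem_C1_iff_conj.2 (by
  rw [(e zc zc_Q).2, cn_eq, zc_comm, mul_inv_cancel_right])
theorem z_sq : f zc * f zc = 1 := h.eaZ.sq (mem_im zc_Z)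
theorem z_ne : f zc ≠ 1 := h.embT.ne zc_T zc_ne

theorem NPz (hg : g ∈ N[𝐏]) (hz : g ∈ C{f zc}) : ∃ s ∈ Tc, ∃ e, Ac Rc f (f s * g) (sw e) := by
  obtain ⟨p, hp, θ, k, hθ⟩ := h.CL1 (Q := fun θ => θ zc = zc → ∃ s ∈ LT, s ∈ Tc ∧ ∃ e,
    eqG (fun a => cn s (θ a)) (sw e)) (by decide +kernel) hg
  obtain ⟨s, -, hs, e, k⟩ := k (hθ.eq h.emb (Z_R zc_Z) (Z_R zc_Z)
    (mem_C1_iff_conj.1 (mul_mem (h.S_z (mem_im (Rc_le_Tc hp))) hz)))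
  refine ⟨_, mul_mem hs (Rc_le_Tc hp), e, ?_⟩
  rw [h.embT.mul _ hs _ (Rc_le_Tc hp), mul_assoc]
  exact ((h.acT hs).mul hθ).gen h.emb k (by cases e <;> decide +kernel)

theorem memSO (hs : s ∈ Tc) (e : Ac Rc f (f s * g) (sw true)) : ∃ s ∈ Tc, ∃ o ∈ 𝐎, g = f s * o := by
  obtain ⟨a, ha, o, ho, e⟩ := h.memPO (C_anti (im_mono Z_R) (e.cent fun _ _ => rfl))
  refine ⟨_, mul_mem (inv_mem hs) (Rc_le_Tc ha), o, ho, ?_⟩
  rw [h.embT.mul _ (inv_mem hs) _ (Rc_le_Tc ha), h.embT.inv hs, mul_assoc, ← e, inv_mul_cancel_left]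

theorem ex_p0 (i : Bool) : ∃ g, Ac (Uc i) f g (cn (xx i)) :=
  ⟨_, ((h.acU i (s := cond i 1 (lt 3)) (by cases i <;> decide +kernel)).mul ((h.yA i).mul
    ((h.acU i (s := tt i) (by cases i <;> decide +kernel)).mul ((h.yA i).mul
    (h.acU i (s := cond i (lt 2 * lt 3 * lt 0) (lt 1 * lt 0))
      (by cases i <;> decide +kernel)))))).congr (by cases i <;> decide +kernel)⟩

theorem ex_p1 (i : Bool) : ∃ g, Ac (Uc i) f g (cn (xx i)) ∧ g ∈ N[im f (Rq i)] := by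
  obtain ⟨g, hg⟩ := h.ex_p0 i
  have he := h.embT.of_le (Rq_T i)
  have hn := (im_mono (Rq_T i)).trans h.S_NO
  have k : cj g (im f (Rq i)) ≤ 𝐎 ⊔ im f (Rq i) := cj_le_iff.2 (im_le.2 fun r hr => mem_cj.2 (by
    have := hg.lift he (U_Rq i) (fun r hr => T_U i (Rq_T i hr)) hr (x_Rq i r hr)
    rw [h.CE, sup_comm] at this
    rw [inv_inv, ← mul_mem_cancel_left (inv_mem (mem_sup_right (mem_im (x_Rq i r hr))))]
    exact sup_le_sup_left (im_mono (U_Rq i)) _ this))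
  have t2 := he.two (Rq_T i)
  generalize im f (Rq i) = R at *
  obtain ⟨k, hk, e⟩ := Sylow_Jsub p2 (H7.SJ.syl_sup (Od_odd _) t2 hn) (t2.cj g) k
  rw [sup_comm] at hk
  obtain ⟨r, hr, o, ho, rfl⟩ := (mem_sup_of_norm' hn).1 hk
  rw [← cj_mul, mul_assoc, cj_mul, cj_le_iff, cj_of_mem (inv_mem hr)] at e
  exact ⟨_, hg.cent_mul (C_anti (im_mono (Uc_le_Rc i)) (h.O_CP ho)), mem_N_of_cj_le e⟩

theorem ex_p (i : Bool) : ∃ g, Ac (Rq i) f g (cn (xx i)) := by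
  obtain ⟨g, hg, hn⟩ := h.ex_p1 i
  have he := h.embT.of_le (Rq_T i)
  obtain ⟨θ, hθ⟩ := he.exA hn
  have k0 : ∀ r ∈ Rq i, ∃ u ∈ Uc i, cn (xx i) r * u = θ r := fun r hr => by
    have k := hg.lift he (U_Rq i) (fun r hr => T_U i (Rq_T i hr)) hr (x_Rq i r hr)
    have m := mul_mem (inv_mem (x_Rq i r hr)) (hθ r hr).1
    rw [(hθ r hr).2, ← he.inv (x_Rq i r hr), ← he.mul _ (inv_mem (x_Rq i r hr)) _ (hθ r hr).1] at k
    refine ⟨_, (show ∀ b ∈ Rq i, (∀ u ∈ [g1 i, g2 i, uu true, uu false], b * u = u * b) → b ∈ Uc i by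
      cases i <;> decide +kernel) _ m fun u hu => ?_, mul_inv_cancel_left _ _⟩
    have := (show ∀ u ∈ [g1 i, g2 i, uu true, uu false], u ∈ Uc i by cases i <;> decide +kernel) u hu
    exact (he.comm m (U_Rq i this)).1 (mem_C'.1 k _ (mem_im this))
  obtain ⟨m1, m2, m3, s1, s2, s3, c1, c2, c3, c4, c5⟩ : tt true ∈ Rq i ∧ tt false ∈ Rq i ∧ ww i ∈ Rq i ∧
    tt true * tt true = 1 ∧ tt false * tt false = 1 ∧ ww i * ww i = 1 ∧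
    tt true * tt false = tt false * tt true ∧ cm (tt true) (ww i) ∈ Uc i ∧
    cm (ww i) (tt false) ∈ Uc i ∧ (ww i ∈ Rc ∧ ww i ≠ 1 ∧ ¬ dD (ww i)) ∧ ∀ a ∈ Rq i,
      sig (lq i (cn (xx i) (tt true)) (cn (xx i) (tt false)) (cn (xx i) (ww i))) a = cn (xx i) a := by
    cases i <;> decide +kernel
  have k1 : ∀ a ∈ Rq i, a * a = 1 → θ a * θ a = 1 := fun a ha e => by
    rw [← hθ.hom he ha ha, e, hθ.one he]
  have k2 : ∀ a ∈ Rq i, ∀ b ∈ Rq i, cm a b ∈ Uc i → cm (θ a) (θ b) = cn (xx i) (cm a b) :=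
    fun a ha b hb e => by
      rw [← hθ.eq he (U_Rq i e) (U_Rq i (hg _ e).1) (hg _ e).2, cm, cm, hinv_eq, hinv_eq,
        hθ.hom he (mul_mem ha hb) (inv_mem (mul_mem hb ha)), hθ.hom he ha hb, mul_right_inj,
        ← hθ.hom he hb ha, inv_eq_iff_mul_eq_one, ← hθ.hom he (mul_mem hb ha)
          (inv_mem (mul_mem hb ha)), mul_inv_cancel, hθ.one he]
  obtain ⟨u1, h1, e1⟩ := k0 _ m1
  obtain ⟨u2, h2, e2⟩ := k0 _ m2
  obtain ⟨u3, h3, e3⟩ := k0 _ m3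
  have k3 := chk_q i u1 h1
  rw [frc_eq, decide_eq_true_iff, e1] at k3
  replace k3 := k3 (k1 _ m1 s1) u3 h3
  rw [frc_eq, decide_eq_true_iff, e3] at k3
  replace k3 := k3 (k1 _ m3 s3) (k2 _ m1 _ m3 c2) u2 h2
  rw [frc_eq, decide_eq_true_iff, e2] at k3
  rcases k3 (k1 _ m2 s2) (by rw [← hθ.hom he m1 m2, c1, hθ.hom he m2 m1]) (k2 _ m3 _ m2 c3) with
    ⟨u, hu, f1, f2, f3⟩ | ⟨f1, f2⟩
  · have k4 := (he.acs (U_Rq i hu)).mul hθ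
    exact ⟨_, (ac_lq he (hg.cent_mul (((h.eU i).ea (Uc_sq i)).le_C (mem_im hu))) (x_Rq i _ m1)
      (x_Rq i _ m2) (x_Rq i _ m3) (f1 ▸ (k4 _ m1).2) (f2 ▸ (k4 _ m2).2) (f3 ▸ (k4 _ m3).2)).congr c5⟩
  have k4 := ((ac_lq he hg (hθ _ m1).1 (hθ _ m2).1 (hθ _ m3).1 (hθ _ m1).2 (hθ _ m2).2
    (hθ _ m3).2).pow 3 _ m3).2
  rw [← h.dc f1 fun e => absurd (e ▸ f2) (by decide +kernel), ← k4, dc_conj, h.dc c4.1 c4.2.1] at f2
  exact absurd f2 c4.2.2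

theorem O_CS : 𝐎 ≤ C[𝐒] := cents_symm (imT_le h.embT fun c hc => by
  have k : ∀ i, f (tt (!i)) ∈ C[𝐎] := fun i => by
    obtain ⟨g, hg⟩ := h.ex_p i
    obtain ⟨k1, k2, k3⟩ : ww i ∈ Rq i ∧ ww i ∈ Rc ∧ cn (xx i) (ww i) = tt (!i) := by
      cases i <;> decide +kernel
    rw [← k3, ← (hg _ k1).2]
    exact conj_mem (N_le_NC _ (h.NEO i ((hg.of_le (U_Rq i) (x_U i)).norm (h.eU i))))
      (cents_symm h.O_CP (mem_im k2))
  rcases (show ∀ c ∈ [0, 1, 2, 3], lt c ∈ Rc ∨ ∃ i, lt c = tt (!i) by decide +kernel) c hc with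
    e | ⟨i, e⟩
  exacts [cents_symm h.O_CP (mem_im e), e ▸ k i])

theorem O_CQ : 𝐎 ≤ C[𝐐] := h.O_CS.trans (C_anti (im_mono Q_T))
theorem O_Y : 𝐎 ≤ 𝐘 := fun _ ho => 
  (Yg f).one_mem.imp fun _ e => by simpa using e.of_cent (h.O_CQ ho)

theorem allY (s : Hc) : ∃ g, Ac Qc f g (cn s) := by
  let K : Subgroup Hc := subOf (fun s => ∃ g, Ac Qc f g (cn s))
    ⟨1, ac_one.congr fun a _ => by simp [cn_eq]⟩ fun s s' ⟨_, h⟩ ⟨_, h'⟩ =>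
      ⟨_, (h.mul h').congr fun a _ => (cn_mul s s' a).symm⟩
  have k : ∀ i, xx i ∈ K := fun i => (h.ex_p i).imp fun _ e => e.of_le (Q_Rq i) (H_Q _)
  refine (gen_lt ▸ gen_le.2 fun c hc => ?_ : ⊤ ≤ K) (mem_top s)
  rcases (show ∀ c ∈ [0, 1, 2, 3, 5, 6], lt c ∈ Tc ∨ ∃ i, ss i ∈ Tc ∧ lt c = xx i * ss i by
    decide +kernel) c hc with e | ⟨i, e1, e2⟩
  exacts [⟨_, h.acQ e⟩, e2 ▸ mul_mem (k i) ⟨_, h.acQ e1⟩]

theorem CQ0 (hg : g ∈ C[𝐐]) : ∃ ε, (ε = 1 ∨ ε = zc) ∧ ∃ o ∈ 𝐎, g = f ε * o := by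
  have k0 : ∀ a ∈ Qc, g ∈ C{f a} := fun a ha => mem_C1.2 (mem_C'.1 hg _ (mem_im ha))
  obtain ⟨s, hs, e, k⟩ := h.NPz (h.nP3 (k0 _ (by decide +kernel)) (k0 _ zc_Q)) (k0 _ zc_Q)
  obtain ⟨k1, k2, k3⟩ : ww false ∈ Qc ∧ ww false ∈ Rc ∧ ∀ s ∈ Tc, τu (ww false) ≠ cn s (ww false) := by
    decide +kernel
  cases e
  · exact absurd (k.eq h.emb k2 (T_R hs _ k2) (((h.acQ hs).of_cent hg) _ k1).2) (k3 s hs)
  obtain ⟨s, hs, o, ho, rfl⟩ := h.memSO hs k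
  refine ⟨s, (show ∀ s ∈ Tc, (∀ q ∈ [tt true, tt false, ww true, ww false, uu true, uu false],
    s * q = q * s) → s = 1 ∨ s = zc by decide +kernel) s hs fun q hq => ?_, o, ho, rfl⟩
  have := (show ∀ q ∈ [tt true, tt false, ww true, ww false, uu true, uu false], q ∈ Qc by
    decide +kernel) q hq
  exact (h.embT.comm hs (Q_T this)).1
    (mem_C'.1 ((mul_mem_cancel_right (h.O_CQ ho)).1 hg) _ (mem_im this))

theorem z_CQ : zpowers (f zc) ≤ C[𝐐] :=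
  zpowers_le.2 (mem_C_iff_le_C1.2 ((im_mono Q_T).trans h.S_z))

theorem CQ : C[𝐐] = zpowers (f zc) ⊔ 𝐎 := le_antisymm (fun g hg => by
  obtain ⟨ε, rfl | rfl, o, ho, rfl⟩ := h.CQ0 hg
  exacts [h.embT.one ▸ mul_mem_sup (one_mem _) ho, mul_mem_sup (mem_zpowers _) ho])
  (sup_le h.z_CQ h.O_CQ)

theorem Y_NO : 𝐘 ≤ N[𝐎] := h.Y_NQ.trans ((N_le_NC _).trans (h.CQ ▸ (hall2 (twoG_zp h.z_sq) (Od_odd _)
  (h.O_CS.trans (C_anti (zpowers_le.2 (mem_im zc_T))))).2.2.2))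

theorem toR (ha : a ∈ Tc) (a2 : a * a = 1) (a1 : a ≠ 1) :
    ∃ m ∈ 𝐘, ∃ k < 8, ∃ ε, (ε = 1 ∨ ε = zc) ∧ m * f a * m⁻¹ = f (rep k * ε) := by
  obtain ⟨k1, k2⟩ := cls_spec ha a2 a1
  obtain ⟨s, k2⟩ := isConj_iff.1 k2.symm
  rw [← cn_eq] at k2
  obtain ⟨g, hg⟩ := h.allY s
  obtain ⟨k3, k4, -⟩ := rep_spec _ k1
  obtain ⟨ε, hε, o, ho, e⟩ := h.CQ0 (hg.lift h.embT Q_T (fun r _ => H_Q r) ha (k2 ▸ k3))
  have k5 : ε ∈ Tc ∧ rep (cls a) * ε * (rep (cls a) * ε) = 1 := by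
    rcases hε with rfl | rfl
    exacts [⟨one_mem _, by simpa using k4⟩, ⟨zc_T, by
      rw [mul_assoc, ← mul_assoc zc, ← zc_comm, mul_assoc, zc_sq, mul_one, k4]⟩]
  have m := mul_mem k3 k5.1
  rw [inv_mul_eq_iff_eq_mul, ← mul_assoc, k2, ← h.embT.mul _ k3 _ k5.1] at e
  have := H7.SJ.conj_sq ((h.embT.sq ha).2 a2) g
  rw [e, mul_assoc, ← mul_assoc o, mem_C'.1 (h.O_CS ho) _ (mem_im m), mul_assoc, ← mul_assoc,
    (h.embT.sq m).2 k5.2, one_mul] at this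
  exact ⟨g, ⟨s, hg⟩, _, k1, ε, hε, by rw [e, eq_one_of_odd_sq ((Od_odd _).piElt ho) this, mul_one]⟩

theorem cls2 (ha : a ∈ Tc) (a2 : a * a = 1) (a1 : a ≠ 1) :
    ∃ m ∈ N[𝐎], m * f a * m⁻¹ = f zc ∨ m * f a * m⁻¹ = f tB := by
  obtain ⟨m, hm, k, hk, ε, hε, e⟩ := h.toR ha a2 a1
  obtain ⟨i, k1⟩ := (show ∀ k < 8, ∀ ε ∈ [1, zc], ∃ i, rep k * ε ∈ Uc i by decide +kernel) k hk ε
    (by simpa)
  obtain ⟨l, hl, r, hr, e1, -⟩ := h.toZ k1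
  have r1 : r ≠ 1 := fun e2 => h.embT.ne ha a1 (by
    rwa [e2, h.emb.one, conj_eq_one_iff', ← e, conj_eq_one_iff'] at e1)
  obtain ⟨j, -, j', -, s, -, hs, e2⟩ := (show ∀ r ∈ Zc, r ≠ 1 → ∃ j ∈ [0, 1, 2], ∃ j' ∈ [0, 1, 2],
    ∃ s ∈ [1, tt true], s ∈ Tc ∧ (cn s (τ3 j j' r) = zc ∨ cn s (τ3 j j' r) = tB) by
      decide +kernel) r hr r1
  have k2 := (h.acT hs).mul (h.ac3 h.dA j j')
  refine ⟨f s * (c ^ j * c' ^ j') * l * m, mul_mem (mul_mem (h.NPO (k2.norm h.emb)) (h.NEO i hl))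
    (h.Y_NO hm), ?_⟩
  have e3 := (k2 r (Z_R hr)).2
  rw [← e1, ← e] at e3
  refine e2.imp (fun k => ?_) fun k => ?_ <;> rw [← k, ← e3] <;> group

end S3

end H24.He
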