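import Mathlib
import Cfsg.Agent.H24.HeP

/-! The Sylow subgroup. -/

set_option autoImplicit false
set_option linter.unusedSectionVars false
set_option maxRecDepth 100000
set_option synthInstance.maxSize 4096

namespace H24.He

open H28 H28.Held H29 H26 H26.Gold Subgroup
open H7.SJ (p2 ea_cj twoG_zp mem_of_odd)
open H25.Tw (Ch)

variable {G : Type*} [Group G] [Finite G] {L X M S : Subgroup G} {f : Hc → G}
  {c c' g g' t u k σ x : G} {y : Bool → G} {a b ζ r s : Hc} {A B : Subgroup Hc} {θ : Hc → Hc}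
  {i : Bool}

local notation "𝐕" => im f V0
local notation "𝐖" => im f W0
local notation "𝐙" => im f Zc
local notation "𝐏" => im f Rc
local notation "𝐒" => im f Tc
local notation "𝐎" => Od[C[L]]

namespace S3

variable (h : S3 L f c c' y σ)
include h

theorem perm (hg : g ∈ N[𝐏]) :
    (cj g 𝐕 = 𝐕 ∧ cj g 𝐖 = 𝐖) ∨ (cj g 𝐕 = 𝐖 ∧ cj g 𝐖 = 𝐕) := by
  obtain ⟨p, hp, θ, k, hθ⟩ := h.CL1 (Q := fun θ => ((∀ a ∈ V0, θ a ∈ V0) ∧ ∀ a ∈ W0, θ a ∈ W0) ∨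
    ((∀ a ∈ V0, θ a ∈ W0) ∧ ∀ a ∈ W0, θ a ∈ V0)) (by decide +kernel) hg
  have k1 : ∀ {A B}, A ≤ Zc → B ≤ Zc → ♯A = 4 → ♯B = 4 → (∀ a ∈ A, θ a ∈ B) →
      cj g (im f A) = im f B := fun h1 h2 h3 h4 h5 => cj_im h.emb (h1.trans Z_R) (h2.trans Z_R)
    (fun a ha => ⟨_, h5 a ha, (h.acZ hp hg hθ a (h1 ha)).2⟩) (h3.trans h4.symm)
  exact k.imp (fun k => ⟨k1 V0_le V0_le card_V0 card_V0 k.1, k1 W0_le W0_le card_W0 card_W0 k.2⟩)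
    fun k => ⟨k1 V0_le W0_le card_V0 card_W0 k.1, k1 W0_le V0_le card_W0 card_V0 k.2⟩

theorem PT (hV : cj g 𝐕 ≤ N[𝐏]) : cj g 𝐕 ≤ 𝐏 := by
  by_cases hg : g ∈ N[L]
  · rw [cj_of_mem_N (h.nV hg)]; exact im_mono V_R
  have ch := ch_swap (fun e => w0_V ((h.emb.mem V_R (W_R w0_W)).1 (e.ge (mem_im w0_W))))
    fun g hg => h.perm (g := g) hg
  have m1 := conj_mem_cj g (mem_im (f := f) tB_V)
  have m2 := conj_mem_cj g (mem_im (f := f) eB_V)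
  obtain ⟨t, ht, t1, tV⟩ := h.three (p := fun t => cj t 𝐕 = 𝐕) g (by
    have := ch _ (hV m1) _ (hV m2)
    tauto)
  obtain ⟨v, ⟨hv, vt⟩, v1⟩ := exists_ne_one (IsPi.inf_C_ne_bot p2
    (twoG_zp ((ea_cj h.eaV g).sq ht)) h.eaV.two (zpowers_le.2 (mem_N_iff_cj.2 tV))
    (ne_bot_of_mem (mem_im tB_V) h.tB1))
  have vN := h.cenV ht t1 (mem_C1.2 (mem_C'.1 vt t (mem_zpowers t)))
  have k : cj g 𝐕 ≤ C{v} := fun u hu => by
    have k1 : v * u * v⁻¹ * u⁻¹ ∈ cj g 𝐕 := mul_mem (conj_mem vN hu) (inv_mem hu)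
    rw [h.eaV.inv hv, show v * u * v * u⁻¹ = v * (u * v * u⁻¹) by group] at k1
    rcases h.perm (hV hu) with e | e
    · have := (h.inf_bot hg).le ⟨k1, mul_mem hv (e.1.le (conj_mem_cj u hv))⟩
      rw [mem_bot, mul_eq_one_iff_inv_eq, h.eaV.inv hv] at this
      exact mem_C1_iff_conj.2 this.symm
    obtain ⟨a, ha, rfl⟩ := (h.emb.of_le V_R).ex hv
    obtain ⟨b, hb, e1⟩ := (h.emb.of_le W_R).ex (e.1.le (conj_mem_cj u hv))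
    rw [← e1, ← h.emb.mul _ (V_R ha) _ (W_R hb)] at k1
    exact absurd (h.cjZ (mul_mem (V0_le ha) (W0_le hb)) k1) ((show ∀ a ∈ V0, a ≠ 1 → ∀ b ∈ W0, b ≠ 1 →
      ¬ (a * b ∈ V0 ∨ a * b ∈ W0) by decide +kernel) a ha (fun e => v1 (e ▸ h.emb.one)) b hb fun e =>
        v1 (by rwa [e, h.emb.one, eq_comm, conj_eq_one_iff'] at e1))
  have k1 := k.trans (h.cenV1 hv v1)
  obtain ⟨u, hu, u1, e⟩ := h.three (p := (· ∈ C[𝐕])) g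
    (fix3 h.eaV h.cardV hv v1 (k1 m1) (k m1) (k1 m2) (k m2))
  exact le_sup_right.trans (h.syl.eq_of_le (h.twoP.sup (ea_cj h.eaV g).two hV) le_sup_left
    (sup_le h.mem (h.cjV_L hu u1 e))).le

theorem NS (h1 : 𝐒 ≤ S) (h2 : S ≤ N[𝐏] ⊓ C{f zc}) : N[S] ≤ N[𝐏] ⊓ C{f zc} := fun g hg => by
  have k : ∀ i, ∀ a ∈ 1 :: pU i, ∃ b ∈ Rc, g * f a * g⁻¹ = f b := fun i a ha => by
    have e : cj (g * (y i * σ)) 𝐕 = cj g (im f (P0 i)) := by rw [cj_mul, cj_mul, h.σV, (h.yP i).2]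
    obtain ⟨b, hb, e⟩ := h.emb.ex (h.PT (e.le.trans ((cj_le_of_mem_N ((im_mono ((P0_R i).trans
      Rc_le_Tc)).trans h1) hg).trans (h2.trans inf_le_left))) (e.ge (conj_mem_cj g (mem_im ha))))
    exact ⟨b, hb, e.symm⟩
  obtain ⟨b1, m1, e1⟩ := k true (g1 true) (by simp [pU])
  obtain ⟨b2, m2, e2⟩ := k true (g2 true) (by simp [pU])
  obtain ⟨b3, m3, e3⟩ := k false (g1 false) (by simp [pU])
  obtain ⟨b4, m4, e4⟩ := k false (g2 false) (by simp [pU])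
  have hP := (ac_th h.emb m1 m2 m3 m4 e1 e2 e3 e4).norm h.emb
  obtain ⟨ζ, hζ, e⟩ := (h.emb.of_le Z_R).ex (conj_mem (h.NP hP) (mem_im zc_Z))
  have k1 : ∀ s ∈ Tc, ζ * s = s * ζ := fun s hs => (h.embT.comm (Rc_le_Tc (Z_R hζ)) hs).1 (by
    have := cj_mono g (h2.trans inf_le_right) ((cj_of_mem_N hg).ge (h1 (mem_im hs)))
    rw [cj_C1, ← e] at this
    exact (mem_C1.1 this).symm)
  refine ⟨hP, mem_C1_iff_conj.2 ?_⟩
  rcases center_Tc ζ (Rc_le_Tc (Z_R hζ)) (k1 _ (by decide +kernel)) (k1 _ (by decide +kernel))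
    (k1 _ (by decide +kernel)) (k1 _ (by decide +kernel)) with rfl | rfl
  · exact absurd (conj_eq_one_iff'.1 (e.symm.trans h.emb.one)) h.z_ne
  · exact e.symm

theorem sylG : ∃ S, Syl 2 ⊤ S ∧ 𝐒 ≤ S ∧ S ≤ N[𝐏] ⊓ C{f zc} := by
  obtain ⟨S, hS, h1⟩ := Sylow_superset p2 h.twoS (le_inf h.S_NP h.S_z)
  refine ⟨S, by_contra fun k => ?_, h1, hS.le⟩
  obtain ⟨Q, q1, q2, -, q3⟩ := exists_lt_norm_of_not_syl p2 hS.pi le_top k
  exact q2.ne' (hS.eq_of_le q1 q2.le (q3.trans (h.NS h1 hS.le)))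

theorem ex_u (hx : Ac Rc f x τu) : ∃ x, Ac Rc f x τu ∧ x * x = 1 := by
  obtain ⟨x, hx, ζ, hζ, e, e1⟩ := h.two_part hx (by decide +kernel)
  have k := (hx.mul h.dA).cent2 ((h.dA.mul hx).congr (by decide +kernel))
  have k1 := conj_mem (N_le_NC _ (h.dA.norm h.emb)) k
  rw [h.CP] at k1
  obtain ⟨_, h1, o, ho, e2⟩ := (mem_sup_of_norm (norm_of_cent (h.O_CP.trans
    (C_anti (im_mono Z_R))))).1 k1
  obtain ⟨ζ', h', rfl⟩ := (h.emb.of_le Z_R).ex h1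
  have m1 := (show ∀ a ∈ Zc, τu a ∈ Zc ∧ τd a ∈ Zc by decide +kernel)
  have m := mul_mem (mul_mem (m1 _ h').1 hζ) h'
  have e3 : c' * x * c'⁻¹ = x * f ζ' * o := by rw [mul_assoc x, ← e2]; group
  have xo := conj_mem' (h.NPO ((hx.of_cent (h.Z_CP (mem_im h'))).norm h.emb)) ho
  have e4 : f (τd ζ) = f (τu ζ' * ζ * ζ') * ((x * f ζ')⁻¹ * o * (x * f ζ') * o) := by
    rw [← (h.dA ζ (Z_R hζ)).2, ← e, ← conj_mul, e3, h.emb.mul _ (Z_R (mul_mem (m1 _ h').1 hζ)) _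
      (Z_R h'), h.emb.mul _ (Z_R (m1 _ h').1) _ (Z_R hζ), ← (hx _ (Z_R h')).2, ← e]
    group
  have e5 := (h.hl Z_R).1.inf_eq_bot (Od_odd C[L])
  rw [← inv_mul_eq_iff_eq_mul] at e4
  have e6 := mem_bot.1 (e5.le (mem_inf.2 ⟨mul_mem (inv_mem (mem_im m)) (mem_im (m1 _ hζ).2),
    e4 ▸ mul_mem xo ho⟩))
  obtain ⟨p, hp, e7⟩ := (show ∀ ζ ∈ Zc, τu ζ = ζ → ∀ ζ' ∈ Zc, τu ζ' * ζ * ζ' = τd ζ →
    ∃ p ∈ Zc, τu p * ζ * p = 1 by decide +kernel) ζ hζ e1 ζ' h'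
    (h.emb.eq (Z_R m) (Z_R (m1 _ hζ).2) (inv_mul_eq_one.1 e6))
  exact ⟨_, h.adj hx hζ e hp e7⟩

theorem no_u (hx : Ac Rc f x τu) (e : k * x * k⁻¹ = f zc ∨ k * x * k⁻¹ = f tB) : False := by
  have xV : x ∈ C[𝐕] := (hx.of_le V_R (by decide +kernel)).cent (by decide +kernel)
  refine h.not_τu ?_ hx
  rcases e with e | e
  swap
  · have m : x ∈ cj k⁻¹ 𝐕 := mem_cj.2 (by rw [inv_inv, e]; exact mem_im tB_V)
    exact h.cjV_L m (fun e1 => h.tB1 (by rw [← e, e1]; simp)) xV m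
  obtain ⟨S, hS, -, h2⟩ := h.sylG
  obtain ⟨m, hm, e1⟩ := Sylow_Jsub p2 (hS.of_le (h2.trans inf_le_right) le_top) (ea_cj h.eaV k).two
    (by rw [← e, ← cj_C1]; exact cj_mono k (mem_C_iff_le_C1.1 xV))
  rw [← cj_mul] at e1
  have e2 : m * k * x * (m * k)⁻¹ = f zc := by
    rw [← mem_C1_iff_conj.1 hm, ← e]; group
  generalize m * k = k at e1 e2
  have m1 := conj_mem_cj k (mem_im (f := f) tB_V)
  rcases h.cjV m1 (mt conj_eq_one_iff'.1 h.tB1)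
    (h.L_CV (h.mem (h.PT (e1.trans (h2.trans inf_le_left)) m1))) with e3 | ⟨l, hl, e3⟩
  · exact (conj_mem_iff e3).1 (e2 ▸ h.fL (Z_R zc_Z))
  have e4 : l * k * x * (l * k)⁻¹ = l * f zc * l⁻¹ := by rw [← e2]; group
  have m2 : l * k * x * (l * k)⁻¹ ∈ 𝐏 := (h.hl le_rfl).1.mem_of_nml (h.hl le_rfl).2.1
    (e4 ▸ (twoE_of_sq h.z_sq).conj l) (by
      rw [← h.CZ, ← h.VW, C_sup]
      exact ⟨e4 ▸ h.L_CV (mul_mem (mul_mem hl (h.fL (Z_R zc_Z))) (inv_mem hl)),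
        e3 ▸ cent_cj le_rfl _ (conj_mem_cj _ xV)⟩)
  refine (conj_mem_iff (h.NV ((mem_N_iff_cj (g := σ⁻¹ * (l * k))).2 ?_))).1 ?_
  · rw [cj_mul, e3, ← h.σV, ← cj_mul, inv_mul_cancel, cj_one]
  · have := h.mem (conj_mem' h.σP m2)
    rwa [show σ⁻¹ * (l * k) * x * (σ⁻¹ * (l * k))⁻¹ = σ⁻¹ * (l * k * x * (l * k)⁻¹) * σ by group]

theorem permU (hg : g ∈ N[𝐏] ⊓ C{f zc}) : (cj g (im f (Uc true)) = im f (Uc true) ∧
    cj g (im f (Uc false)) = im f (Uc false) ∧ ∃ s ∈ Tc, ∃ o ∈ 𝐎, g = f s * o) ∨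
    (cj g (im f (Uc true)) = im f (Uc false) ∧ cj g (im f (Uc false)) = im f (Uc true) ∧
      ∃ x, Ac Rc f x τu) := by
  obtain ⟨s, hs, e, k⟩ := h.NPz hg.1 hg.2
  have k1 : ∀ i j, (∀ a ∈ Uc i, sw e a ∈ Uc j) → cj g (im f (Uc i)) = im f (Uc j) := fun i j k1 => by
    have := cj_im h.emb (Uc_le_Rc i) (Uc_le_Rc j) (fun a ha => ⟨_, k1 a ha, (k a (Uc_le_Rc i ha)).2⟩)
      (by rw [card_Uc, card_Uc])
    rwa [cj_mul, cj_eq_iff, cj_of_mem_N (inv_mem ((h.acU j hs).norm (h.eU j)))] at this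
  cases e
  exacts [Or.inr ⟨k1 _ _ (by decide +kernel), k1 _ _ (by decide +kernel), _, k⟩,
    Or.inl ⟨k1 _ _ fun _ => id, k1 _ _ fun _ => id, h.memSO hs k⟩]

theorem inS (h2 : TwoG S) (h1 : 𝐒 ≤ S) (hg : g ∈ S) (e : ∃ s ∈ Tc, ∃ o ∈ 𝐎, g = f s * o) :
    g ∈ 𝐒 := by
  obtain ⟨s, hs, o, ho, rfl⟩ := e
  rw [mem_bot.1 ((h2.inf_eq_bot (Od_odd _)).le
    ⟨(mul_mem_cancel_left (h1 (mem_im hs))).1 hg, ho⟩), mul_one]
  exact mem_im hs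

variable [IsSimpleGroup G]

theorem NPz' (hg : g ∈ N[𝐏] ⊓ C{f zc}) : ∃ s ∈ Tc, ∃ o ∈ 𝐎, g = f s * o := by
  have ne : im f (Uc true) ≠ im f (Uc false) := fun e => absurd ((h.emb.mem (Uc_le_Rc _) (g1_R true)).1
    (e.le (mem_im (g1_U true)))) (by decide +kernel)
  have ch := ch_swap ne fun g hg => (h.permU (g := g) hg).imp (fun e => ⟨e.1, e.2.1⟩)
    fun e => ⟨e.1, e.2.1⟩
  obtain ⟨S, hS, h1, h2⟩ := h.sylG
  refine ((h.permU hg).resolve_right fun ⟨e1, _, x, hx⟩ => ?_).2.2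
  obtain ⟨x, hx, x2⟩ := h.ex_u hx
  obtain ⟨s, hs, e2⟩ : ∃ s ∈ S, ¬ cj s (im f (Uc true)) = im f (Uc true) := by
    by_contra! k
    exact ne ((ch_all ch (hS.of_le h2 le_top) k hg).symm.trans e1)
  have ch' : Ch S fun g => cj g (im f (Uc true)) = im f (Uc true) :=
    fun a ha b hb => ch a (h2 ha) b (h2 hb)
  obtain ⟨k, hk, e3⟩ := H25.Tw.tt_simple hS (fun e => h.nabP (e.of_le ((im_mono Rc_le_Tc).trans h1)))
    ch'.nml.le (ch_idx ch' hs e2) x2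
  obtain ⟨a, ha, e4⟩ := h.embT.ex (h.inS hS.pi h1 hk
    ((h.permU (h2 hk)).resolve_right fun e => ne (e3.symm.trans e.1)).2.2)
  obtain ⟨m, -, e5⟩ := h.cls2 ha ((h.embT.sq ha).1 (e4 ▸ H7.SJ.conj_sq x2 k)) fun e => by
    rw [e, h.embT.one, eq_comm, conj_eq_one_iff'] at e4
    exact h.not_τu (e4 ▸ one_mem L) hx
  exact h.no_u (k := m * k) hx (by
    rwa [show m * k * x * (m * k)⁻¹ = m * (k * x * k⁻¹) * m⁻¹ by group, ← e4])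

theorem sylT : Syl 2 ⊤ 𝐒 := by
  obtain ⟨S, hS, h1, h2⟩ := h.sylG
  exact le_antisymm (fun g hg => h.inS hS.pi h1 hg (h.NPz' (h2 hg))) h1 ▸ hS

end S3

end H24.He
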