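import Mathlib
import Cfsg.Agent.H24.HeY
import Cfsg.Agent.H24.HeL
import Cfsg.Agent.H1.Gaschutz
import Cfsg.Agent.H28.HeldMain

/-! The centraliser of the central involution, and the identification of the group. -/

set_option autoImplicit false
set_option linter.unusedSectionVars false
set_option maxRecDepth 100000
set_option synthInstance.maxSize 4096

namespace H24.He

open H28 H28.Held H29 H26 H26.Gold Subgroup
open H7.SJ (p2 ea_cj twoG_zp mem_of_odd mem_zp cs_conj cs_sq conj_quo)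

theorem exists_section {X H : Type*} [Group X] [Group H] [Finite X] (F A : Subgroup X) (p : X →* H)
    (hA : A ≤ F) (hs : ∀ h, ∃ x ∈ F, p x = h) (hk : ∀ x ∈ F, p x = 1 → x * x = 1)
    (hc : ∀ x ∈ A, p x = 1 → x = 1) (ho : Odd (A.map p).index) :
    ∃ σ : H →* X, ∀ h, σ h ∈ F ∧ p (σ h) = h := by
  let q : F →* H := p.comp F.subtype
  have hq : Function.Surjective q := fun h => let ⟨x, h1, h2⟩ := hs h; ⟨⟨x, h1⟩, h2⟩
  have k2 : EA q.ker := ea_of_sq fun x hx => Subtype.ext (hk x x.2 hx)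
  have : IsMulCommutative q.ker := k2.abl
  obtain ⟨n, hn⟩ := IsPGroup.iff_card.1 (k2.two.isPGroup p2)
  obtain ⟨K, hK⟩ := H1.gaschutz_exists q.ker (q.ker ⊔ A.subgroupOf F) le_sup_left (by
    rw [hn, sup_comm, ← comap_map_eq, index_comap_of_surjective _ hq, ← map_map,
      subgroupOf_map_subtype, inf_eq_left.2 hA]
    exact Nat.Coprime.pow_left _ (Nat.coprime_two_left.2 ho))
    (A.subgroupOf F) (eq_bot_iff.2 fun x hx => Subtype.ext (hc x hx.1 hx.2)) rfl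
  have hb : Function.Bijective (q.comp K.subtype) :=
    ⟨(injective_iff_map_eq_one _).2 fun a ha => Subtype.ext (mem_bot.1
      (disjoint_iff.1 hK.disjoint ▸ (⟨ha, a.2⟩ : a.1 ∈ q.ker ⊓ K))), fun h => by
      obtain ⟨x, rfl⟩ := hq h
      obtain ⟨a, ha, b, hb, rfl⟩ := mem_sup_of_normal_left.1 (hK.sup_eq_top ▸ mem_top x)
      exact ⟨⟨b, hb⟩, by rw [map_mul, show q a = 1 from ha, one_mul]; rfl⟩⟩
  let e := MulEquiv.ofBijective _ hb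
  exact ⟨F.subtype.comp (K.subtype.comp e.symm.toMonoidHom),
    fun m => ⟨(e.symm m).1.2, e.apply_symm_apply m⟩⟩

/-- the Levi subgroup. -/
noncomputable abbrev Mc : Subgroup Hc := PS psM (by decide +kernel)

/-- the Levi part. -/
noncomputable def lv (a : Hc) : Hc := hc (Nat.lor (Nat.land a.1 473536) 16777217)

theorem dichH {N : Subgroup Hc} (hn : ∀ s, ∀ a ∈ N, cn s a ∈ N) (hz : zc ∈ N) : N ≤ Qc ∨ ⊤ ≤ N := by
  refine or_iff_not_imp_left.2 fun h => ?_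
  obtain ⟨n, h1, h2⟩ := SetLike.not_le_iff_exists.1 h
  let K : Subgroup Hc := subOf (fun a => ∃ q ∈ Qc, a * q ∈ N) ⟨1, one_mem _, by simp⟩
    fun a b ⟨q, hq, e⟩ ⟨q', hq', e'⟩ => ⟨_, mul_mem (H_Q b⁻¹ q hq) hq', by
      simpa [cn_eq, mul_assoc] using mul_mem e e'⟩
  have Kn : ∀ s, ∀ a ∈ K, cn s a ∈ K := fun s a ⟨q, hq, e⟩ =>
    ⟨_, H_Q s q hq, by simpa [cn_eq, mul_assoc] using hn s _ e⟩
  have k := (show ∀ a : Hc, frc (lv a) (fun l => decide (l ∈ Mc ∧ hinv l * a ∈ Qc)) = true by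
    decide +kernel) n
  rw [frc_eq, decide_eq_true_iff, hinv_eq] at k
  have lK : lv n ∈ K := ⟨_, k.2, by simpa using h1⟩
  obtain ⟨g, -, e1, e2, e3⟩ := (show ∀ l ∈ Mc, l ≠ 1 → ∃ g ∈ Mc, l * cn g l ∈ Mc ∧ l * cn g l ≠ 1 ∧
    l * cn g l * (l * cn g l) = 1 by decide +kernel) _ k.1 fun e => h2 (by simpa [e] using k.2)
  have c2 : ∀ l ∈ Mc, l ≠ 1 → l * l = 1 → ∃ g ∈ Mc, cn g l = lt 1 ∧ cn (hinv g) (lt 1) = l := by
    decide +kernel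
  obtain ⟨g', -, e4, -⟩ := c2 _ e1 e2 e3
  have k1 : ⊤ ≤ K := gen_lt ▸ gen_le.2 fun c hc => by
    rcases (show ∀ c ∈ [0, 1, 2, 3, 5, 6], lt c ∈ Qc ∨ lt c ∈ Mc ∧ lt c ≠ 1 by decide +kernel) c hc
      with e | e
    · exact ⟨_, inv_mem e, by simp⟩
    · obtain ⟨s, -, -, e5⟩ := c2 _ e.1 e.2 (lt_sq c)
      exact e5 ▸ Kn _ _ (e4 ▸ Kn _ _ (mul_mem lK (Kn g _ lK)))
  obtain ⟨q0, h0, e0⟩ := k1 (mem_top ⟪16910657⟫)
  have k2 : Qc ≤ N := fun a ha => by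
    obtain ⟨q, hq, e⟩ := (show ∀ a ∈ Qc, ∃ q ∈ Qc, a = cm ⟪16910657⟫ q ∨ a = cm ⟪16910657⟫ q * zc by
      decide +kernel) a ha
    have k3 := mul_mem e0 (hn q _ (inv_mem e0))
    have k4 : cm ⟪16910657⟫ q ∈ N := by
      generalize ⟪16910657⟫ = s at k3
      rw [cn_eq, show s * q0 * (q * (s * q0)⁻¹ * q⁻¹) = s * (q0 * q * q0⁻¹) * s⁻¹ * q⁻¹ by group,
        ← cn_eq q0] at k3
      rcases (show ∀ a ∈ Qc, ∀ b ∈ Qc, cn a b = b ∨ cn a b = b * zc by decide +kernel) q0 h0 q hq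
        with e | e <;> rw [e] at k3 <;> rw [cm_eq]
      · exact k3
      · rwa [← mul_assoc, mul_assoc _ zc, ← zc_comm, ← mul_assoc, mul_assoc _ zc, ← zc_comm,
          ← mul_assoc, mul_mem_cancel_right hz] at k3
    exact e.elim (· ▸ k4) (· ▸ mul_mem k4 hz)
  exact fun a _ => let ⟨q, hq, e⟩ := k1 (mem_top a); (mul_mem_cancel_right (k2 hq)).1 e

variable {G : Type*} [Group G] [Finite G] {L X M S : Subgroup G} {f : Hc → G}
  {c c' g g' t u k σ x : G} {y : Bool → G} {a b ζ r s : Hc}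

local notation "𝐕" => im f V0
local notation "𝐐" => im f Qc
local notation "𝐒" => im f Tc
local notation "𝐎" => Od[C[L]]
local notation "𝐘" => Yg f
local notation "𝐳" => zpowers (f zc)

theorem Ac.invQ (h : Ac Qc f g (cn s)) : Ac Qc f g⁻¹ (cn s⁻¹) := fun a ha => ⟨H_Q _ a ha, by
  have := (h _ (H_Q s⁻¹ a ha)).2
  rw [← cn_mul, mul_inv_cancel, cn_eq 1, one_mul, inv_one, mul_one] at this
  rw [← this]; group⟩

theorem ac_zc : Ac Qc f 1 (cn zc) :=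
  ac_one.congr fun a _ => by rw [cn_eq, ← zc_comm, mul_inv_cancel_right, id]

namespace S3

variable (h : S3 L f c c' y σ)
include h

theorem CQ_le : C[𝐐] ≤ 𝐐 ⊔ 𝐎 := h.CQ ▸ sup_le_sup_right (zpowers_le.2 (mem_im zc_Q)) _

theorem dichG {Y' N : Subgroup G} (h1 : 𝐒 ≤ Y') (h2 : Y' ≤ 𝐘) (h3 : 𝐘 ≤ Y' ⊔ (𝐐 ⊔ 𝐎))
    (hN : N ⊴ Y') (hz : f zc ∈ N) : N ≤ 𝐐 ⊔ 𝐎 ∨ (𝐒 ≤ N ∧ 𝐘 ≤ N ⊔ (𝐐 ⊔ 𝐎)) := by
  rw [← sup_assoc, sup_eq_left.2 ((im_mono Q_T).trans h1)] at h3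
  let K : Subgroup Hc := subOf (fun s => ∃ g ∈ N, Ac Qc f g (cn s))
    ⟨1, one_mem _, ac_one.congr fun a _ => by simp [cn_eq]⟩ fun s s' ⟨_, m, h⟩ ⟨_, m', h'⟩ =>
      ⟨_, mul_mem m m', (h.mul h').congr fun a _ => (cn_mul s s' a).symm⟩
  refine (dichH (N := K) (fun s a ⟨n, hn, e⟩ => ?_) ⟨1, one_mem _, ac_zc⟩).imp (fun k n hn => ?_)
    fun k => ⟨im_le.2 fun s hs => ?_, fun g ⟨s, e⟩ => ?_⟩
  · obtain ⟨g, hg⟩ := h.allY s
    obtain ⟨g, m, o, ho, rfl⟩ := (mem_sup_of_norm' (h2.trans h.Y_NO)).1 (h3 ⟨s, hg⟩)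
    have k : Ac Qc f g (cn s) := by simpa using hg.of_cent (inv_mem (h.O_CQ ho))
    exact ⟨_, conj_mem (hN.norm m) hn, ((k.mul e).mul k.invQ).congr fun b _ => by
      simp only [cn_eq]; group⟩
  · obtain ⟨s, e⟩ := h2 (hN.le hn)
    have hs : s ∈ Qc := k ⟨n, hn, e⟩
    exact (mul_mem_cancel_left (inv_mem (mem_sup_left (mem_im hs)))).1
      (h.CQ_le ((h.acQ (Q_T hs)).cent2 e))
  · obtain ⟨n, hn, e⟩ := k (mem_top s)
    obtain ⟨ε, hε, o, ho, e1⟩ := h.CQ0 ((h.acQ hs).cent2 e)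
    have k1 : ε ∈ Tc ∧ f ε ∈ N := by
      rcases hε with rfl | rfl
      exacts [⟨one_mem _, h.embT.one ▸ one_mem _⟩, ⟨zc_T, hz⟩]
    have m := mul_mem (mem_im (f := f) hs) (mem_im k1.1)
    rw [inv_mul_eq_iff_eq_mul, ← mul_assoc] at e1
    have := constt_mem {2} hn
    rwa [e1, constt_mul_of (h.twoS.piElt m) ((Od_odd _).piElt ho) (mem_C.1 (h.O_CS ho) _ m),
      mul_mem_cancel_right k1.2] at this
  · obtain ⟨n, hn, e1⟩ := k (mem_top s)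
    exact (mul_mem_cancel_left (inv_mem (mem_sup_left hn))).1 (mem_sup_right (h.CQ_le (e1.cent2 e)))

theorem memz (ha : a ∈ Tc) : f a ∈ 𝐳 ↔ a = 1 ∨ a = zc :=
  ⟨fun e => (mem_zp h.z_sq e).imp (h.embT.inj a ha) (h.embT.eq ha zc_T), by
    rintro (rfl | rfl)
    exacts [h.embT.one ▸ one_mem _, mem_zpowers _]⟩

theorem cjz (hs : s ∈ Tc) (ha : a ∈ Tc) :
    (f a)⁻¹ * (f s * f a * (f s)⁻¹) ∈ 𝐳 ↔ hinv a * cn s a = 1 ∨ hinv a * cn s a = zc := by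
  rw [h.embT.conj hs ha, ← h.embT.inv ha, ← h.embT.mul _ (inv_mem ha) _ (cn_mem hs ha),
    h.memz (mul_mem (inv_mem ha) (cn_mem hs ha)), hinv_eq]

theorem not_dc : ¬ Dc f (f zc) := by
  rw [h.dc (Z_R zc_Z) zc_ne]; decide +kernel

variable [IsSimpleGroup G]

theorem fixY (hg : g ∈ C{f zc}) (e : g * f tB * g⁻¹ ∈ 𝐘) : g ∈ 𝐘 := by
  have t2 := H7.SJ.conj_sq (h.eaV.sq (mem_im tB_V)) g
  obtain ⟨m, hm, e1⟩ := Sylow_Jsub p2 (h.sylT.of_le h.S_Y le_top) (twoG_zp t2) (zpowers_le.2 e)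
  obtain ⟨a, ha, e2⟩ := h.embT.ex (e1 (conj_mem_cj m (mem_zpowers _)))
  obtain ⟨m', hm', k, hk, ε, hε, e3⟩ := h.toR ha ((h.embT.sq ha).1 (e2 ▸ H7.SJ.conj_sq t2 m))
    fun e => h.tB1 (by rwa [e, h.embT.one, eq_comm, conj_eq_one_iff', conj_eq_one_iff'] at e2)
  rw [← mul_mem_cancel_left (mul_mem hm' hm)]
  have n1 := mul_mem (h.Y_z (mul_mem hm' hm)) hg
  have n2 : m' * m * g * f tB * (m' * m * g)⁻¹ = f (rep k * ε) := by rw [← e3, e2]; group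
  generalize m' * m * g = n at n1 n2
  obtain ⟨k1, k2⟩ := (show ∀ k < 8, ∀ ε ∈ [1, zc], rep k * ε ∈ Rc ∧ ((rep k * ε ≠ 1 → dD (rep k * ε)) →
    (rep k * ε * zc ≠ 1 → dD (rep k * ε * zc)) → ∃ s ∈ [1, tt true], s ∈ Tc ∧
      (cn s (rep k * ε) = tB ∨ rep k = zc)) by decide +kernel) k hk ε (by simpa)
  have d1 : Dc f (f (rep k * ε)) := ⟨n, n2 ▸ conj_mem_cj n (mem_im tB_V)⟩
  have d2 : Dc f (f (rep k * ε * zc)) := by
    rw [h.emb.mul _ k1 _ (Z_R zc_Z), ← n2, ← mem_C1_iff_conj.1 n1, conj_mul, dc_conj,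
      ← h.emb.mul _ (V_R tB_V) _ (Z_R zc_Z), h.dc (mul_mem (V_R tB_V) (Z_R zc_Z)) (by decide +kernel)]
    decide +kernel
  obtain ⟨s, -, hs, e4 | e4⟩ := k2 (fun e => (h.dc k1 e).1 d1)
    fun e => (h.dc (mul_mem k1 (Z_R zc_Z)) e).1 d2
  · have n3 := mul_mem (h.S_z (mem_im hs)) n1
    obtain ⟨s', hs', o, ho, e5⟩ := h.NPz' ⟨h.nP3 (mem_C1_iff_conj.2 (by
      rw [show f s * n * f tB * (f s * n)⁻¹ = f s * (n * f tB * n⁻¹) * (f s)⁻¹ by group, n2,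
        h.embT.conj hs (Rc_le_Tc k1), e4])) n3, n3⟩
    exact (mul_mem_cancel_left (h.S_Y (mem_im hs))).1 (e5 ▸ mul_mem (h.S_Y (mem_im hs')) (h.O_Y ho))
  · rcases hε with rfl | rfl
    exacts [absurd (by simpa [e4] using d1) h.not_dc,
      absurd (by rwa [e4, zc_sq, one_mul] at d2) h.not_dc]

theorem Cz : C{f zc} ≤ 𝐘 := by
  have YN := norm_zpowers_of_cent h.Y_z
  have NC : N[𝐳] ≤ C{f zc} := fun g hg => mem_C1_iff_conj.2
    ((mem_zp h.z_sq (conj_mem hg (mem_zpowers _))).resolve_left (mt conj_eq_one_iff'.1 h.z_ne))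
  have QS : 𝐐 ≤ 𝐒 := im_mono Q_T
  have SN := h.S_Y.trans YN
  have RY : 𝐐 ⊔ 𝐎 ≤ 𝐘 := sup_le (QS.trans h.S_Y) h.O_Y
  have zQ : 𝐳 ≤ 𝐐 := zpowers_le.2 (mem_im zc_Q)
  have nQ : 𝐳 ⊴ 𝐐 := ⟨zQ, QS.trans SN⟩
  have nR : 𝐳 ⊴ 𝐐 ⊔ 𝐎 := ⟨zQ.trans le_sup_left, RY.trans YN⟩
  have nY : 𝐳 ⊴ 𝐘 := ⟨nR.le.trans RY, YN⟩
  have fN : ∀ {a}, a ∈ Tc → f a ∈ N[𝐳] := fun ha => SN (mem_im ha)
  have ea : EA (quo 𝐐 𝐳) := ea_of_sq fun x hx => by
    obtain ⟨_, h1, h2, rfl⟩ := mem_quo.1 hx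
    obtain ⟨a, ha, rfl⟩ := h.eQ.ex h1
    rw [cs_sq h2, ← h.eQ.mul a ha a ha, h.memz (Q_T (mul_mem ha ha))]
    exact (show ∀ a ∈ Qc, a * a = 1 ∨ a * a = zc by decide +kernel) a ha
  obtain ⟨k1, k2, k3, k4, k5, k6⟩ : tB ∈ Qc ∧ ¬ (tB = 1 ∨ tB = zc) ∧ lt 1 ∈ Tc ∧ lt 1 ∉ Qc ∧
      (∀ s ∈ Tc, hinv tB * cn s tB = 1 ∨ hinv tB * cn s tB = zc) ∧ ∀ q ∈ Qc, ¬ (q = 1 ∨ q = zc) →
      ∃ s ∈ [1, xx true, xx false], ∃ c ∈ [0, 1, 2, 3], lt c ∈ Tc ∧ ¬ (hinv (cn s q) *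
        cn (lt c) (cn s q) = 1 ∨ hinv (cn s q) * cn (lt c) (cn s q) = zc) := by decide +kernel
  have A : AH ⊤ (quo 𝐘 𝐳) (quo 𝐒 𝐳) (quo 𝐐 𝐳) (quo (𝐐 ⊔ 𝐎) 𝐳) (cs 𝐳 (f tB)) (cs 𝐳 (f (lt 1))) := by
    refine ⟨quo_N 𝐳 ▸ (h.sylT.of_le SN le_top).quo le_rfl, quo_mono _ QS, quo_mono _ h.S_Y,
      quo_norm _ h.Y_NQ, ea, quo_mono _ RY, ?_, ?_, cs_mem_quo (mem_im k1) (fN (Q_T k1)),
      fun e => k2 ((h.memz (Q_T k1)).1 ((cs_eq_one (fN (Q_T k1))).1 e)), fun x hx => ?_,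
      fun x _ e => ?_, fun Y' N h1 h2 h3 hN => ?_, fun T h1 h2 h3 h4 => ?_, fun D _ h1 h2 => ?_,
      cs_mem_quo (mem_im k3) (fN k3),
      fun e => k4 ((h.embT.mem Q_T k3).1 (mem_of_cs_mem_quo nQ (fN k3) e)),
      (cs_sq (fN k3)).2 (by rw [(h.embT.sq k3).2 (lt_sq 1)]; exact one_mem _)⟩
    · rw [quo_sup nQ.norm (h.O_Y.trans YN)]
      exact sup_le ea.le_C (quo_cent _ h.O_CQ)
    · rw [← quo_inf _ nR]
      refine quo_mono _ ?_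
      have := hall2 (h.eQ.two Q_T) (Od_odd _) h.O_CQ
      exact this.1.le_of_nml this.2.1 (h.twoS.inf_left _) inf_le_right
    · obtain ⟨_, h1, h2, rfl⟩ := mem_quo.1 hx
      obtain ⟨s, hs, rfl⟩ := h.embT.ex h1
      exact mem_C1_iff_conj.2 ((cs_conj h2 (fN (Q_T k1)) (fN (Q_T k1))).2
        ((h.cjz hs (Q_T k1)).2 (k5 s hs)))
    · obtain ⟨g, hg, rfl⟩ := exists_cs x
      exact cs_mem_quo (h.fixY (NC hg) ((conj_quo nY hg (fN (Q_T k1))).1 e)) hg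
    · rw [quo_le_iff YN, coq_sup, nR.coq_quo] at h3
      refine (h.dichG ((quo_le_iff SN).1 h1) (coq_le_of_le_quo nY h2) h3 hN.coq
        (le_coq _ (mem_zpowers _))).imp (fun k => ?_) fun k => ⟨(quo_le_iff SN).2 k.1, ?_⟩
      · exact quo_coq N ▸ quo_mono _ k
      · rw [quo_le_iff YN, coq_sup, nR.coq_quo]; exact k.2
    · obtain ⟨x, hx, x1⟩ := exists_ne_one h2
      obtain ⟨_, m1, m2, rfl⟩ := mem_quo.1 (h1 hx)
      obtain ⟨q, hq, rfl⟩ := h.eQ.ex m1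
      obtain ⟨s, -, c, -, m3, e⟩ := k6 q hq fun e => x1 ((cs_eq_one m2).2 ((h.memz (Q_T hq)).2 e))
      obtain ⟨g, hg⟩ := h.allY s
      have m4 := Q_T (H_Q s q hq)
      have m5 := conj_mem (h3 (cs_mem_quo ⟨s, hg⟩ (YN ⟨s, hg⟩))) hx
      rw [(cs_conj (YN ⟨s, hg⟩) m2 (fN m4)).2 (by rw [(hg q hq).2, inv_mul_cancel]; exact one_mem _)]
        at m5
      exact e ((h.cjz m3 m4).1 ((cs_conj (fN m3) (fN m4) (fN m4)).1
        (conj_eq_of_mem_C (h4 (cs_mem_quo (mem_im m3) (fN m3))) m5)))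
    · have := H7.SJ.coq_Od (twoG_zp h.z_sq) (le_coq D) ((coq_le_N D).trans
        (NC.trans (C_zpowers _).ge))
      rw [quo_coq, h1.pcore_eq] at this
      exact quo_coq D ▸ quo_mono _ (this.trans (sup_le ((h.odd_le (Od_odd _) (((im_mono (Z_R.trans
        Rc_le_Tc)).trans (norm_coq SN h2)).trans (norm_pcore _ le_rfl))).trans le_sup_right) nR.le))
  exact le_of_quo_le (norm_zpowers_of_cent le_rfl) nY (le_top.trans (A.le le_top))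

theorem O_bot : 𝐎 = ⊥ := by
  have n : ∀ g, g * f tB * g⁻¹ ≠ f zc := fun g e => h.not_dc ⟨g, e ▸ conj_mem_cj g (mem_im tB_V)⟩
  by_cases e : N[𝐎] = ⊤
  · refine (normalizer_eq_top_iff.1 e).eq_bot_or_eq_top.resolve_right fun e => h.z_ne ?_
    exact eq_one_of_odd_sq ((Od_odd _).piElt (e ▸ mem_top _)) h.z_sq
  have k : ∀ b ∈ 𝐒, b ≠ 1 → b * b = 1 →
      ∃ m ∈ N[𝐎], m * b * m⁻¹ = f zc ∨ m * b * m⁻¹ = f tB := fun b hb b1 b2 => by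
    obtain ⟨a, ha, rfl⟩ := h.embT.ex hb
    exact h.cls2 ha ((h.embT.sq ha).1 b2) fun e => b1 (e ▸ h.embT.one)
  obtain ⟨g, hg⟩ := isConj_iff.1 (H6.isConj_of_isStronglyEmbedded (H25.Tw.se_of h.sylT h.S_NO e
    (ne_bot_of_mem (mem_im zc_T) h.z_ne) fun b hb b1 b2 g hg => by
      obtain ⟨m, hm, e1⟩ := k b hb b1 b2
      obtain ⟨m', hm', e2⟩ := k _ hg (mt conj_eq_one_iff'.1 b1) (H7.SJ.conj_sq b2 g)
      rw [← mul_mem_cancel_left hm', ← mul_mem_cancel_right (inv_mem hm)]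
      rw [show m' * (g * b * g⁻¹) * m'⁻¹ = m' * g * m⁻¹ * (m * b * m⁻¹) * (m' * g * m⁻¹)⁻¹ by group]
        at e2
      generalize m' * g * m⁻¹ = w at e2 ⊢
      rcases e1 with e1 | e1 <;> rw [e1] at e2 <;> rcases e2 with e2 | e2
      exacts [h.Y_NO (h.Cz (mem_C1_iff_conj.2 e2)), absurd (by rw [← e2]; group) (n w⁻¹),
        absurd e2 (n w), norm_pcore _ (N_le_NC L) (h.NV (h.cenV1 (mem_im tB_V) h.tB1
          (mem_C1_iff_conj.2 e2)))])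
    (H6.orderOf_eq_two_of (h.eaV.sq (mem_im tB_V)) h.tB1) (H6.orderOf_eq_two_of h.z_sq h.z_ne))
  exact absurd hg (n g)

theorem CQ1 (hg : g ∈ C[𝐐]) : g = 1 ∨ g = f zc := mem_zp h.z_sq (by rwa [h.CQ, h.O_bot, sup_bot_eq] at hg)

theorem ex_HS : ∃ φ : Hc →* G, HS φ ∧ φ zc = f zc ∧ ∀ s ∈ Tc, φ s = f s ∨ φ s = f (s * zc) := by
  let F : Subgroup (G × Hc) := subOf (fun x => Ac Qc f x.1 (cn x.2))
    (ac_one.congr fun a _ => by simp [cn_eq]) fun x x' h h' =>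
      (h.mul h').congr fun a _ => (cn_mul x.2 x'.2 a).symm
  obtain ⟨σ, hσ⟩ := exists_section F (h.embT.hom.prod Tc.subtype).range (MonoidHom.snd G Hc)
    (by rintro _ ⟨s, rfl⟩; exact h.acQ s.2) (fun s => (h.allY s).elim fun g e => ⟨(g, s), e, rfl⟩)
    (fun x hx e => Prod.ext (by
      rcases h.CQ1 (Ac.cent hx fun a _ => by simp [show x.2 = 1 from e, cn_eq]) with e | e
      exacts [by simp [e], by simpa [e] using h.z_sq]) (by simp [show x.2 = 1 from e]))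
    (by rintro _ ⟨s, rfl⟩ e; rw [show s = 1 from Subtype.ext e, map_one]) (by
      have := Tc.card_mul_index
      rw [card_Tc, Hc.card] at this
      rw [← MonoidHom.range_comp, show (MonoidHom.snd G Hc).comp _ = Tc.subtype from rfl,
        range_subtype, show Tc.index = 21 by omega]
      decide)
  let φ := (MonoidHom.fst G Hc).comp σ
  have k : ∀ s, Ac Qc f (φ s) (cn s) := fun s => by
    have : Ac Qc f (σ s).1 (cn (σ s).2) := (hσ s).1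
    rwa [show (σ s).2 = s from (hσ s).2] at this
  have k1 : ∀ s ∈ Tc, φ s = f s ∨ φ s = f (s * zc) := fun s hs =>
    (h.CQ1 ((h.acQ hs).cent2 (k s))).imp (fun e => (inv_mul_eq_one.1 e).symm) fun e => by
      rw [h.embT.mul s hs _ zc_T, ← e, mul_inv_cancel_left]
  obtain ⟨m1, m2, m3⟩ : ⟪17567817⟫ ∈ Tc ∧ ⟪17567817⟫ * ⟪17567817⟫ = zc ∧
    ⟪17567817⟫ * zc * (⟪17567817⟫ * zc) = zc := by decide +kernel
  have k2 : φ zc = f zc := by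
    rcases k1 _ m1 with e | e
    · rw [← m2, map_mul, e, h.embT.mul _ m1 _ m1]
    · rw [← m3, h.embT.mul _ (mul_mem m1 zc_T) _ (mul_mem m1 zc_T), ← e, ← map_mul, m2, m3]
  refine ⟨φ, ⟨(injective_iff_map_eq_one φ).2 fun s e => ?_, fun g hg => ?_⟩, k2, k1⟩
  · have k3 : ∀ a ∈ Qc, s * a = a * s := fun a ha => by
      have := (k s).eq h.eQ ha ha (by simp [e])
      rwa [cn_eq, mul_inv_eq_iff_eq_mul] at this
    have m : s ∈ Tc := Uc_le_Tc true (cen_U true s (cen_u true s (k3 _ (by decide +kernel)))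
      (k3 _ (by decide +kernel)) (k3 _ (by decide +kernel)))
    rcases k1 s m with e1 | e1
    · exact h.embT.inj s m (e1.symm.trans e)
    · have := h.embT.inj _ (mul_mem m zc_T) (e1.symm.trans e)
      rw [mul_eq_one_iff_eq_inv, inv_eq_of_mul_eq_one_right zc_sq] at this
      exact absurd (k2.symm.trans (this ▸ e)) h.z_ne
  · obtain ⟨s, e⟩ := h.Cz (mem_C1.2 (k2 ▸ hg))
    rcases h.CQ1 ((k s).cent2 e) with e1 | e1
    exacts [⟨s, inv_mul_eq_one.1 e1⟩, ⟨s * zc, by rw [map_mul, k2, ← e1, mul_inv_cancel_left]⟩]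

theorem isoHe : Cfsg.Spor.IsoHe G := by
  obtain ⟨φ, H, e1, e2⟩ := h.ex_HS
  obtain ⟨m, hm, P⟩ := H.exists_D
  have k : ∀ k ∈ [6, 7], m.testBit k = true := fun k hk => by
    obtain ⟨k1, k2⟩ := (show ∀ k ∈ [6, 7], k < 8 ∧ ∀ a ∈ [rep k, rep k * zc], a ∈ Rc ∧ a * a = 1 ∧
      a ≠ 1 ∧ ¬ dD a by decide +kernel) k hk
    have k3 : ∀ a ∈ [rep k, rep k * zc], IsConj (f zc) (f a) := fun a ha => by
      obtain ⟨a1, a2, a3, a4⟩ := k2 a ha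
      obtain ⟨g, -, e | e⟩ := h.cls2 (Rc_le_Tc a1) a2 a3
      · exact (isConj_iff.2 ⟨g, e⟩).symm
      · exact absurd ((h.dc a1 a3).1 ((dc_conj (g := g)).1 ⟨1, by
          rw [e, cj_one]; exact mem_im tB_V⟩)) a4
    rw [← P.rep k1, e1]
    exact (e2 _ (rep_spec k k1).1).elim (· ▸ k3 _ (by simp)) (· ▸ k3 _ (by simp))
  obtain rfl : m = 215 := (show ∀ m ∈ [1, 3, 5, 23, 87, 151, 215], m.testBit 6 = true →
    m.testBit 7 = true → m = 215 by decide) m hm (k 6 (by simp)) (k 7 (by simp))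
  have hm : 215 ∈ [23, 87, 151, 215] := by simp
  have : Nontrivial G := ⟨_, _, h.z_ne⟩
  obtain ⟨x, B⟩ := H.exists_both hm P
  obtain ⟨k1, k2⟩ := mem_eL (φ := φ) x (L := [0, 1, 2, 3, 4, 5, 6, 7]) (by decide)
  exact iso_qq (eL_iv (φ := φ) fun i => (B.side i).tn) (fun r hr => B.rel H hm (rel_qq r hr))
    (eq_top H hm P B k1 fun i => k2 i (by cases i <;> decide))

end S3

theorem main [IsSimpleGroup G] (hL : Cfsg.IsStandardSubgroup L) {F : Type*} [Field F] [Fintype F]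
    (hF : Fintype.card F = 4) (hk : IsKleinFour (center L))
    (e : L ⧸ center L ≃* Matrix.ProjectiveSpecialLinearGroup (Fin 3) F) : Cfsg.Spor.IsoHe G := by
  obtain ⟨hC, s, x, h⟩ := cv_of_iso hk hL.1.1.commutator_eq_top hF e
  obtain ⟨f, c, y, h⟩ := exists_fr hC h
  obtain ⟨f, c', σ, h⟩ := St.ex_S3 ⟨h, fun g hg => oddG_iff.2 (hL.2.1.2 g (hL.2.2.2 ▸ hg))⟩
  exact h.isoHe

end H24.He
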