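import Mathlib
import Cfsg.Agent.H2.CT2
import Cfsg.Agent.H2.CT3
import Cfsg.Agent.H26.B71C

/-!
# Two strongly closed elementary abelian subgroups with central commutator: the corner
-/

set_option autoImplicit false
set_option linter.unusedVariables false
set_option linter.unusedSectionVars false

namespace H24.LE

open Cfsg H24 H26 H26.Gold H2.C2 Subgroup
open scoped commutatorElement

universe u

variable {G : Type u} [Group G] [Finite G] {H K L N P S T U W A B Z : Subgroup G} {t : G}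

theorem norm_Zo (h : K ≤ N[P]) : K ≤ N[Zo P] := fun g hg =>
  mem_N_iff_cj.2 (by rw [cj_Zo, cj_of_mem_N (h hg)])

/-- Maschke and the product theorem -/
theorem mp (hP : Syl 2 K P) (ha : Abl P) (hW : W ≤ Zo P) (hn : K ⊓ N[P] ≤ N[W]) :
    ∃ U, W ⊔ U = Zo P ∧ ⁅ncl K W, ncl K U⁆ ≤ Od[K] := by
  obtain ⟨D, hD⟩ := SchurZassenhaus_split (⟨hP.subnorm.le, inf_le_right⟩ : P ⊴ K ⊓ N[P])
    hP.subnorm.isHall
  have hDo : OddG D := by
    have := hP.subnorm.idx
    rw [hD.relIndex_left] at this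
    exact this
  have hZP : Zo P ≤ P := (Zo_le P).trans inf_le_left
  obtain ⟨U, hU, hDU⟩ := Maschke_abelem Nat.prime_two (ea_Zo P) hDo hW
    (norm_Zo (hD.right_le.trans inf_le_right)) (hD.right_le.trans hn)
  have hUP : U ≤ P := hU.right_le.trans hZP
  have hnU : K ⊓ N[P] ≤ N[U] := hD.isProd.sup_eq.ge.trans (sup_le (ha.norm le_rfl hUP) hDU)
  have key : ∀ V, V ≤ P → K ⊓ N[P] ≤ N[V] → SCl K V := fun V hV hN =>
    (scl_syl hP).sub hV fun x hx g hg hy => by
      obtain ⟨n, hn', c, hc, rfl⟩ := (scl_syl hP).burnside ha (zpowers_le.2 (hV hx)) hg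
        (by rw [cj_zpowers]; exact zpowers_le.2 hy)
      have e : n * c * x * (n * c)⁻¹ = n * (c * x * c⁻¹) * n⁻¹ := by group
      rw [e, conj_eq_of_mem_C hc (mem_zpowers x)]
      exact conj_mem (hN hn') hx
  exact ⟨U, hU.sup, (key W (hW.trans hZP) hn).prod (key U hUP hnU) (cents_symm hU.cent) hU.inf⟩

/-- in a simple group a strongly closed elementary abelian subgroup contains every involution -/
theorem sc1_top [IsSimpleGroup G] (hna : ¬ Abl (⊤ : Subgroup G)) (hO : Od[(⊤ : Subgroup G)] = ⊥)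
    (hW : SCl ⊤ W) (h1 : W ≠ ⊥) (he : EA W) (hP : TwoG P) (hWP : W ≤ P) (ht : t ∈ P)
    (h2 : t * t = 1) : t ∈ W := by
  rcases hW.gold h1 he.abl with h | ⟨M, hM⟩
  · obtain ⟨S, hS, hPS⟩ := Sylow_superset Nat.prime_two hP le_top
    have ha := h S hS.pi
    have hWS := hWP.trans hPS
    obtain ⟨U, hU, hc⟩ := mp hS ha (W := W) (fun x hx => mem_Zo.2 ⟨hWS hx, ha.le_C (hWS hx), he.sq hx⟩)
      (fun g hg => hW.eq_of_le (mem_top g) fun y hy => by
        obtain ⟨x, hx, rfl⟩ := mem_cj'.1 hy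
        exact hW.max S hS.pi hWS le_top x hx g (mem_top g) (conj_mem hg.2 (hWS hx)))
    by_cases hU0 : U = ⊥
    · rw [hU0, sup_bot_eq] at hU
      exact hU ▸ mem_Zo.2 ⟨hPS ht, ha.le_C (hPS ht), h2⟩
    · rw [ncl_top h1, ncl_top hU0, hO, le_bot_iff, der1_eq_bot] at hc
      exact absurd hc hna
  · by_cases e : t = 1
    · exact e ▸ one_mem _
    obtain ⟨w, hw, w1⟩ := exists_ne_one h1
    obtain ⟨g, hg⟩ := BR.conj_of_se hM (orderOf_eq_prime (p := 2) (by rw [pow_two]; exact he.sq hw) w1)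
      (orderOf_eq_prime (p := 2) (by rw [pow_two]; exact h2) e)
    exact hg ▸ hW.max P hP hWP le_top w hw g (mem_top g) (hg ▸ ht)

/-- minimal normal in itself -/
theorem simple_of_min (h : MinNml L L) : IsSimpleGroup L := by
  haveI : Nontrivial L := (nontrivial_iff_ne_bot L).2 h.ne_bot
  refine ⟨fun K hK => ?_⟩
  rcases h.eq_or (nml_map_subtype K).le (nml_map_subtype K).norm with e | e
  · exact Or.inl (by rwa [map_eq_bot_iff_of_injective _ L.subtype_injective] at e)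
  · refine Or.inr (map_injective L.subtype_injective ?_)
    rw [e, ← MonoidHom.range_eq_map, range_subtype]

theorem sc1 (hL : MinNml L L) (hna : ¬ Abl L) (hO : Od[L] = ⊥) (hW : SCl L W) (h1 : W ≠ ⊥)
    (he : EA W) (hP : TwoG P) (hWP : W ≤ P) (hPL : P ≤ L) (ht : t ∈ P) (h2 : t * t = 1) : t ∈ W := by
  haveI := simple_of_min hL
  have hf := quo_id L
  have := sc1_top (G := L) (W := img (MonoidHom.id L) W) (P := img (MonoidHom.id L) P)
    (t := ap (MonoidHom.id L) t)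
    (fun h => hna (abl_of_img le_rfl (by rw [hf.ker, bot_inf_eq]) (hf.img_top ▸ h)))
    (by rw [← hf.img_top, ← hf.Od_img (isPi_bot _) le_rfl, hO, img_bot]) (hW.quo hf)
    (fun e => h1 (le_bot_iff.1 ((hf.eq_bot hW.le).1 e)))
    (ea_of_sq fun x hx => by
      obtain ⟨y, hy, rfl⟩ := (mem_img_of_le hW.le).1 hx
      rw [← ap_mul _ (hW.le hy) (hW.le hy), he.sq hy, H8.PC.ap_one'])
    (hP.img _) (img_mono _ hWP) (ap_mem_img _ ht (hPL ht))
    (by rw [← ap_mul _ (hPL ht) (hPL ht), h2, H8.PC.ap_one'])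
  rwa [hf.mem_iff (hPL ht) hW.le, sup_bot_eq] at this

theorem ncl_min (h : MinNml L K) (hW : W ≤ L) (h1 : W ≠ ⊥) : ncl K W = L :=
  h.min _ (ncl_le hW h.norm) (ne_bot_of_le h1 (le_ncl _ _)) (le_norm_ncl _ _)

/-- a simple factor of a minimal normal subgroup that meets a strongly closed subgroup -/
theorem exists_factor (hN : MinNml N H) (hNH : N ≤ H) (hna : ¬ Abl N) (hO : Od[N] = ⊥)
    (hZ : SCl H Z) (h1 : Z ⊓ N ≠ ⊥) :
    ∃ L, MinNml L N ∧ L ≤ N ∧ MinNml L L ∧ ¬ Abl L ∧ Z ⊓ L ≠ ⊥ := by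
  obtain ⟨L1, hL1, hle⟩ := exists_minNml hN.ne_bot (norm_self N)
  have hc : ∀ g ∈ H, MinNml (cj g L1) N ∧ cj g L1 ≤ N := fun g hg => by
    have e := cj_of_mem_N (hN.norm hg)
    exact ⟨e ▸ hL1.cj g, e ▸ cj_mono g hle⟩
  have hgen : ∀ M, (∀ g ∈ H, cj g L1 ≤ M) → N ≤ M := fun M h =>
    (ncl_min hN hle hL1.ne_bot).ge.trans (ncl_le' h)
  have hz : ∀ V, V ≤ N → V ≠ ⊥ → ¬ N ≤ C[V] := fun V hV h0 hc' => by
    have := hN.min (N ⊓ C[N]) inf_le_left (ne_bot_of_le h0 (le_inf hV (cents_symm hc')))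
      (norm_inf hN.norm (norm_C hN.norm))
    exact hna (abl_iff.2 (this.ge.trans inf_le_right))
  have hex : ∃ g ∈ H, Z ⊓ cj g L1 ≠ ⊥ := by
    by_contra hn
    push Not at hn
    refine hz (Z ⊓ N) inf_le_right h1 (hgen _ fun g hg => ?_)
    have h2 := (hZ.inf_nml hN.norm).zl ((hc g hg).2.trans hNH) (inf_le_right.trans (hc g hg).1.norm)
      (eq_bot_of_le (hn g hg) (inf_le_inf_right _ inf_le_left))
    have h3 : Od[cj g L1] ≤ Od[N] := Nml.pcore_le ⟨(hc g hg).2, (hc g hg).1.norm⟩ _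
    exact comm_eq_bot'.1 (le_bot_iff.1 (h2.trans (hO ▸ h3)))
  obtain ⟨g, hg, h2⟩ := hex
  obtain ⟨h3, h4⟩ := hc g hg
  have h5 : N ≤ cj g L1 ⊔ C[cj g L1] := hgen _ fun k hk => by
    rcases h3.inf_eq_or (hc k hk).1.norm with e | e
    · exact (cents_symm (cents_of_inf_eq_bot (h4.trans (hc k hk).1.norm)
        ((hc k hk).2.trans h3.norm) e)).trans le_sup_right
    · exact ((hc k hk).1.min _ e h3.ne_bot h3.norm).ge.trans le_sup_left
  refine ⟨_, h3, h4, ⟨h3.ne_bot, norm_self _, fun V hV h0 hn => h3.min V hV h0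
    (h5.trans (sup_le hn (norm_of_cent (C_anti hV))))⟩, fun ha => ?_, h2⟩
  exact hz _ h4 h3.ne_bot (h5.trans (sup_le ha.le_C le_rfl))

end H24.LE
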