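import Mathlib
import Cfsg.Agent.H24.LE1

/-!
# Two strongly closed elementary abelian subgroups with central commutator: normality
-/

set_option autoImplicit false
set_option linter.unusedVariables false
set_option linter.unusedSectionVars false

namespace H24.LE

open Cfsg H24 H26 H26.Gold H2.C2 Subgroup
open scoped commutatorElement

universe u

variable {G : Type u} [Group G] [Finite G] {H K L N P R S T U W A B Z : Subgroup G} {t : G}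

/-- the frame -/
structure Fr (H S A B Z : Subgroup G) : Prop where
  syl : Syl 2 H S
  sA : SCl H A
  sB : SCl H B
  sZ : SCl H Z
  AS : A ≤ S
  BS : B ≤ S
  eA : EA A
  eB : EA B
  ZA : Z ≤ A
  ZB : Z ≤ B
  comm : Z ≤ ⁅A, B⁆
  cZ : S ≤ C[Z]
  nml : ∀ T, T ⊴ S → ¬ T ≤ Z → Z ≤ T ∧ ∃ t ∈ T, t ∉ Z ∧ t * t = 1

theorem ea_img {X : Type u} [Group X] [Finite X] (f : H →* X) (hA : A ≤ H) (h : EA A) :
    EA (img f A) := ea_of_sq fun x hx => by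
  obtain ⟨y, hy, rfl⟩ := (mem_img_of_le hA).1 hx
  rw [← ap_mul _ (hA hy) (hA hy), h.sq hy, H8.PC.ap_one']

theorem Fr.symm (h : Fr H S A B Z) : Fr H S B A Z :=
  ⟨h.syl, h.sB, h.sA, h.sZ, h.BS, h.AS, h.eB, h.eA, h.ZB, h.ZA, commC A B ▸ h.comm, h.cZ, h.nml⟩

theorem Fr.ZS (h : Fr H S A B Z) : Z ≤ S := h.ZA.trans h.AS

theorem Fr.quo (h : Fr H S A B Z) {X : Type u} [Group X] [Finite X] {f : H →* X}
    (hf : H8.PC.Quo f R) (hR : S ⊓ R ≤ Z) :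
    Fr ⊤ (img f S) (img f A) (img f B) (img f Z) := by
  have hS := h.syl.le
  refine ⟨hf.img_top ▸ h.syl.img f le_rfl, h.sA.quo hf, h.sB.quo hf, h.sZ.quo hf, img_mono f h.AS,
    img_mono f h.BS, ea_img f h.sA.le h.eA, ea_img f h.sB.le h.eB, img_mono f h.ZA, img_mono f h.ZB,
    img_comm f h.sA.le h.sB.le ▸ img_mono f h.comm, img_cent f h.cZ, fun T hT hn => ?_⟩
  have e : img f (S ⊓ pre f T) = T := by rw [img_inf_pre, inf_eq_right.2 hT.le]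
  obtain ⟨h1, t, ht, h2, h3⟩ := h.nml (S ⊓ pre f T) (nml_inf_of_norm (norm_pre hS hT.norm))
    fun hle => hn (e ▸ img_mono f hle)
  refine ⟨e ▸ img_mono f h1, ap f t, (mem_pre.1 ht.2).2, fun h4 => h2 ?_,
    by rw [← ap_mul _ (hS ht.1) (hS ht.1), h3, H8.PC.ap_one']⟩
  have h5 : t ∈ (Z ⊔ R) ⊓ S := ⟨(hf.mem_iff (hS ht.1) h.sZ.le).1 h4, ht.1⟩
  rw [← group_modl' (h.sZ.le.trans hf.nml.norm) h.ZS] at h5
  exact (sup_le le_rfl ((inf_comm R S).le.trans hR) : Z ⊔ R ⊓ S ≤ Z) h5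

theorem Fr.meet (h : Fr H S A B Z) (h0 : Z ≠ ⊥) (hT : T ⊴ S) (h1 : T ≠ ⊥) : Z ⊓ T ≠ ⊥ := by
  by_cases e : T ≤ Z
  · rwa [inf_eq_right.2 e]
  · rwa [inf_eq_left.2 (h.nml T hT e).1]

/-- an elementary abelian group inducing automorphisms of `L` which meets `L` in a Sylow subgroup -/
theorem le_sup_C (hL : MinNml L L) (hO : Od[L] = ⊥) (hA : EA A) (hn : A ≤ N[L])
    (hT : Syl 2 L (A ⊓ L)) (h1 : A ⊓ L ≠ ⊥) : A ≤ A ⊓ L ⊔ C[L] := by
  have hK : L ⊔ A ≤ N[L] := sup_le (norm_self L) hn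
  have hP : Syl 2 (L ⊔ A) A := Hall.mk' le_sup_right hA.two (by
    rw [(isProd_sup hn).symm.relIndex_eq, ← inf_relIndex_right]; exact hT.idx)
  obtain ⟨U, hU, hc⟩ := mp hP hA.abl (W := A ⊓ L)
    (fun x hx => mem_Zo.2 ⟨hx.1, hA.le_C hx.1, hA.sq hx.1⟩)
    (norm_inf inf_le_right (inf_le_left.trans hK))
  rw [ncl_min (hL.mono le_sup_left hK) inf_le_right h1] at hc
  have h2 : ⁅L, U⁆ = ⊥ := le_bot_iff.1 (((comm_mono_right (le_ncl _ _)).trans hc).trans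
    ((H8.PC.Od_sup_two hA.two hn).trans hO.le))
  intro x hx
  have : x ∈ A ⊓ L ⊔ U := hU ▸ mem_Zo.2 ⟨hx, hA.le_C hx, hA.sq hx⟩
  exact sup_le_sup_left (comm_eq_bot'.1 h2) _ this

theorem Fr.no_factor (h : Fr H S A B Z) (h0 : Z ≠ ⊥) (hN : MinNml N H) (hNH : N ≤ H)
    (hO : Od[N] = ⊥) (h2 : O[{2}, N] = ⊥) : False := by
  have hSN : Syl 2 N (S ⊓ N) := h.syl.inf_nml ⟨hNH, hN.norm⟩
  have hne : S ⊓ N ≠ ⊥ := fun e =>
    hN.ne_bot ((hSN.isPi_compl_of_eq_bot e).pcore_eq.symm.trans hO)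
  have hna : ¬ Abl N := fun ha => hne (eq_bot_of_le h2 (pcore_max hSN.pi (ha.nml inf_le_right)))
  have hSn : S ≤ N[N] := h.syl.le.trans hN.norm
  obtain ⟨L, hL, hLN, hLL, hLa, hZL⟩ := exists_factor hN hNH hna hO h.sZ
    (ne_bot_of_le (h.meet h0 (nml_inf_of_norm hSn) hne) (inf_le_inf_left _ inf_le_right))
  have hLn : L ⊴ N := ⟨hLN, hL.norm⟩
  have hOL : Od[L] = ⊥ := eq_bot_of_le hO (hLn.pcore_le _)
  obtain ⟨z, hz, z1⟩ := exists_ne_one hZL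
  have hSL : S ≤ N[L] := fun s hs => by
    have h3 : MinNml (cj s L) N := cj_of_mem_N (hSn hs) ▸ hL.cj s
    have h4 : z ∈ cj s L := conj_eq_of_mem_C (h.cZ hs) hz.1 ▸ conj_mem_cj s hz.2
    exact mem_N_iff_cj.2 (hL.min _ (h3.le_of_inf_ne_bot hL.norm (ne_bot_of_mem ⟨h4, hz.2⟩ z1))
      h3.ne_bot h3.norm)
  have hT : Syl 2 L (S ⊓ L) := by
    have := hSN.inf_nml hLn
    rwa [inf_assoc, inf_eq_right.2 hLN] at this
  have hsc : SCl L (Z ⊓ L) := ⟨inf_le_right, h.sZ.two.inf_left _, fun P hP h1 h3 a ha g hg hy =>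
    ⟨((h.sZ.mx_inf (hLN.trans hNH) (h.ZS.trans hSL)).iff hP h1 h3 _).2
      ⟨hy, mem_hc ha.1 (hNH (hLN hg))⟩ |>.1, h3 hy⟩⟩
  have hTZ : S ⊓ L ≤ Z := by
    by_contra hn
    obtain ⟨-, t, ht, h3, h4⟩ := h.nml _ (nml_inf_of_norm hSL) hn
    exact h3 (sc1 hLL hLa hOL hsc hZL (h.eA.of_le (inf_le_left.trans h.ZA)) hT.pi
      (inf_le_inf_right _ h.ZS) inf_le_right ht h4).1
  have key : ∀ A, EA A → Z ≤ A → A ≤ S → A ≤ Z ⊔ (S ⊓ C[L]) := fun A hA h1 h3 => by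
    have e : A ⊓ L = S ⊓ L := le_antisymm (inf_le_inf_right _ h3) (le_inf (hTZ.trans h1) inf_le_right)
    have h4 := le_sup_C hLL hOL hA (h3.trans hSL) (e ▸ hT)
      (ne_bot_of_le hZL (inf_le_inf_right _ h1))
    rw [e] at h4
    have h5 : A ≤ (S ⊓ L ⊔ C[L]) ⊓ S := le_inf h4 h3
    rw [← group_modl' (norm_C (inf_le_left.trans hSL)) inf_le_left] at h5
    exact h5.trans (sup_le_sup hTZ (by rw [inf_comm]))
  have h6 : Z ≤ C[L] := by
    refine h.comm.trans ((commutator_mono (key A h.eA h.ZA h.AS) (key B h.eB h.ZB h.BS)).trans ?_)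
    rw [der1_sup_of_cent (inf_le_left.trans h.cZ), der1_eq_bot.2 (h.eA.of_le h.ZA).abl, bot_sup_eq]
    exact (der1_le _).trans inf_le_right
  have := hLL.min (L ⊓ C[L]) inf_le_left (ne_bot_of_mem ⟨hz.2, h6 hz.1⟩ z1)
    (norm_inf (norm_self L) (norm_C (norm_self L)))
  exact hLa (abl_iff.2 (this.ge.trans inf_le_right))

theorem gz_aux (n : ℕ) : ∀ (G : Type u) [Group G] [Finite G] (H S A B Z : Subgroup G),
    ♯H = n → Fr H S A B Z → H ≤ N[Z ⊔ Od[H]] := by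
  induction n using Nat.strong_induction_on with
  | _ n ih =>
  intro G _ _ H S A B Z hn h
  by_cases h0 : Z = ⊥
  · rw [h0, bot_sup_eq]; exact (pcore_nml _ _).norm
  obtain ⟨N, hN, hNH⟩ := exists_minNml (ne_bot_of_le h0 h.sZ.le) (norm_self H)
  have hNn : N ⊴ H := ⟨hNH, hN.norm⟩
  obtain ⟨X, _, _, f, hf⟩ := H8.PC.exists_quo hNn
  have hlt : ♯(⊤ : Subgroup X) < n := by
    rw [card_top, ← hn, ← hf.card]
    exact lt_mul_left Nat.card_pos (one_lt_card hN.ne_bot)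
  by_cases hO : Od[N] = ⊥
  swap
  · have ho : OddG N := isPi_of_pcore_eq (hN.min _ (pcore_le _ _) hO (norm_pcore _ hN.norm))
    have h1 := ih _ hlt X _ _ _ _ _ rfl (h.quo hf ((h.syl.inf_eq_bot ho).le.trans bot_le))
    rw [← hf.img_top, ← hf.Od_img ho le_rfl, ← img_sup f h.sZ.le (pcore_le _ _)] at h1
    exact norm_of_img le_rfl (sup_le h.sZ.le (pcore_le _ _))
      (hf.ker.le.trans ((pcore_max ho hNn).trans le_sup_right)) h1
  by_cases h2 : O[{2}, N] = ⊥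
  · exact (h.no_factor h0 hN hNH hO h2).elim
  have ht : TwoG N := isPi_of_pcore_eq (hN.min _ (pcore_le _ _) h2 (norm_pcore _ hN.norm))
  have hNS : N ≤ S := h.syl.nml_le ht hNn
  have hNZ : N ≤ Z := by
    have := hN.min (Z ⊓ N) inf_le_right (h.meet h0 (hNn.of_le hNS h.syl.le) hN.ne_bot) fun g hg =>
      mem_N_of_finite fun x hx => ⟨h.sZ.max S h.syl.pi h.ZS h.syl.le x hx.1 g hg
        (hNS (hNn.conj_mem hg hx.2)), hNn.conj_mem hg hx.2⟩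
    exact this.ge.trans inf_le_left
  have h1 := ih _ hlt X _ _ _ _ _ rfl (h.quo hf (inf_le_right.trans hNZ))
  have hY := hf.pre_nml_top h1
  have hD : H ⊓ C[N] ⊴ H := nml_inf_of_norm (norm_C hN.norm)
  have hZc : Z ≤ C[N] := cents_of_le (h.ZS.trans h.cZ) hNZ
  have hOD : Od[H ⊓ C[N]] ≤ Od[H] := hD.pcore_le _
  have e : pre f (img f Z ⊔ Od[⊤]) ⊓ C[N] = Z ⊔ Od[H] := by
    refine le_antisymm ?_ (sup_le (le_inf ((le_pre_img f h.sZ.le).trans (pre_mono f le_sup_left)) hZc)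
      (le_inf ((le_pre_img f (pcore_le _ _)).trans (pre_mono f (le_sup_right.trans' ?_)))
        (pcore_compl_cents ht hNn)))
    · rw [pre_sup (img_le_range _ _) (le_top.trans hf.range.ge), hf.pre_img h.sZ.le, sup_eq_left.2 hNZ,
        ← group_modl' (h.sZ.le.trans (hf.pre_nml_top (pcore_nml _ _).norm).norm) hZc]
      refine sup_le le_sup_left ?_
      have h3 := hf.pre_Od_le ht inf_le_left (le_inf hNH (hNZ.trans hZc)) (inf_le_right : H ⊓ C[N] ≤ _)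
      refine le_trans ?_ (h3.trans (sup_le_sup hNZ hOD))
      intro x hx
      have h4 := mem_pre.1 hx.1
      exact mem_pre.2 ⟨h4.1, pcore_inf_le _ le_top ⟨h4.2, ap_mem_img f ⟨h4.1, hx.2⟩ h4.1⟩⟩
    · exact hf.img_top ▸ img_pcore_le _ H f
  exact e ▸ norm_inf hY.norm (norm_C hN.norm)

theorem Fr.gz (h : Fr H S A B Z) : H ≤ N[Z ⊔ Od[H]] := gz_aux _ G H S A B Z rfl h

theorem Fr.gs_top (h : Fr ⊤ S A B Z) (hO : Od[(⊤ : Subgroup G)] = ⊥) (h1 : A ⊓ B ≤ Z)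
    (h2 : ⁅A, B⁆ ≤ Z) (h3 : S ⊓ C[B] ≤ B) : ⊤ ≤ N[A] := by
  have hZ : Z ⊴ ⊤ := ⟨le_top, by simpa [hO] using h.gz⟩
  obtain ⟨X, _, _, f, hf⟩ := H8.PC.exists_quo hZ
  have hp := (h.sA.quo hf).prod (h.sB.quo hf) ((hf.comm_le le_top le_top).1 h2) (by
    rw [← img_inf_of_ker_le f A le_top (hf.ker.le.trans h.ZB)]
    exact (hf.eq_bot le_top).2 h1)
  have hcM : ∀ A, Z ≤ A → EA A → ncl ⊤ A ≤ C[Z] := fun A hA he =>
    ncl_le (he.abl.cents le_rfl hA) (norm_C hZ.norm)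
  have hD : C[Z] ⊴ ⊤ := ⟨le_top, norm_C hZ.norm⟩
  have hV : ⁅ncl ⊤ A, ncl ⊤ B⁆ ≤ Z := by
    have h4 := hf.pre_Od_le h.sZ.two le_top (h.ZS.trans h.cZ) (le_refl C[Z])
    rw [eq_bot_of_le hO (hD.pcore_le _), sup_bot_eq] at h4
    refine le_trans (fun x hx => mem_pre.2 ⟨mem_top x, pcore_inf_le _ le_top ⟨hp ?_, ap_mem_img f
      (comm_le_of_le (hcM A h.ZA h.eA) (hcM B h.ZB h.eB) hx) (mem_top x)⟩⟩) h4
    rw [← hf.img_top, ← img_ncl le_rfl le_top, ← img_ncl le_rfl le_top, ← img_comm f le_top le_top]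
    exact ap_mem_img f hx (mem_top x)
  set K := O2 (ncl ⊤ A) with hK
  have hKn : K ⊴ ⊤ := ⟨le_top, norm_O2 (le_norm_ncl _ _)⟩
  have hKB : K ≤ C[B] := O2_le_of fun x hx ho => odd_cent_of_chain h.sB.two h.ZB ho
    ((commC _ _).le.trans ((commutator_mono (zpowers_le.2 hx) (le_ncl _ _)).trans hV))
    (hcM A h.ZA h.eA hx)
  have hP := h.syl.inf_nml hKn
  have h5 := H8.PC.le_sup_Od_of_cent hP.pi inf_le_right
    (cents_of_le hKB ((inf_le_inf_left _ hKB).trans h3)) hP.idx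
  rw [eq_bot_of_le hO (hKn.pcore_le _), sup_bot_eq] at h5
  have hM : ncl ⊤ A ≤ S := h.sA.ncl_eq.le.trans (sup_le (h5.trans inf_le_left) h.AS)
  exact fun g hg => mem_N_of_finite fun x hx => h.sA.max S h.syl.pi h.AS le_top x hx g hg
    (hM (cj_le_ncl hg (conj_mem_cj g hx)))

/-- `A O(H)` is normal in `H`, and it contains every odd-order subgroup normalized by `A` -/
theorem Fr.gs (h : Fr H S A B Z) (h1 : A ⊓ B ≤ Z) (h2 : ⁅A, B⁆ ≤ Z) (h3 : S ⊓ C[B] ≤ B)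
    (h4 : S ⊓ C[A] ≤ A) : H ≤ Od[H] ⊔ N[A] ∧ ∀ Y, OddG Y → Y ≤ H → A ≤ N[Y] → Y ≤ Od[H] := by
  obtain ⟨X, _, _, f, hf⟩ := H8.PC.exists_quo (pcore_nml {2}ᶜ H)
  have hO := Od_odd H
  have h0 : S ⊓ Od[H] = ⊥ := h.syl.inf_eq_bot hO
  have hS := h.syl.le
  have hn : ∀ D, D ≤ S → (D ⊔ Od[H]) ⊓ S ≤ D := fun D hD => by
    rw [← group_modl' ((hD.trans hS).trans hf.nml.norm) hD, inf_comm, h0, sup_bot_eq]
  have hc : ∀ D, D ≤ S → S ⊓ C[D] ≤ D → img f S ⊓ C[img f D] ≤ img f D := fun D hD h5 x hx => by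
    obtain ⟨s, hs, rfl⟩ := (mem_img_of_le hS).1 hx.1
    refine ap_mem_img f (h5 ⟨hs, mem_C_iff_le_C1.2 ?_⟩) (hS hs)
    have h6 : ⁅zpowers s, D⁆ ≤ Od[H] := (hf.comm_le (zpowers_le.2 (hS hs)) (hD.trans hS)).2 (by
      rw [img_zpowers f (hS hs)]; exact zpowers_le.2 hx.2)
    have h7 := comm_eq_bot'.1 (eq_bot_of_le h0 (le_inf (comm_le_of_le (zpowers_le.2 hs) hD) h6))
    rwa [C_zpowers] at h7
  have hq := h.quo hf (h0.le.trans bot_le)
  have hN := hq.gs_top hf.Od_eq_bot (fun x hx => by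
      obtain ⟨a, ha, rfl⟩ := (mem_img_of_le h.sA.le).1 hx.1
      exact ap_mem_img f (h1 ⟨ha, hn B h.BS ⟨(hf.mem_iff (h.sA.le ha) h.sB.le).1 hx.2, h.AS ha⟩⟩)
        (h.sA.le ha))
    (img_comm f h.sA.le h.sB.le ▸ img_mono f h2) (hc B h.BS h3)
  have hAO : A ⊔ Od[H] ⊴ H := by
    have := hf.pre_nml_top hN
    rwa [hf.pre_img h.sA.le] at this
  refine ⟨?_, fun Y hY hYH hAY => ?_⟩
  · have h5 := (h.sA.frattini hAO).sup_eq
    rw [inf_eq_left.2 (le_sup_left : A ≤ A ⊔ Od[H])] at h5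
    exact h5.ge.trans (sup_le (sup_le ((norm_self A).trans le_sup_right) le_sup_left)
      (inf_le_right.trans le_sup_right))
  · have hY' : OddG (img f Y) := hY.img f
    have hA' : TwoG (img f A) := h.sA.two.img f
    have h5 : img f Y ≤ C[img f A] := cents_of_inf_eq_bot (le_top.trans hN) (img_norm f hAY)
      (inf_eq_bot_of_cop (cop hY' hA'))
    have hC : C[img f A] ⊴ ⊤ := ⟨le_top, norm_C hN⟩
    have hP := hq.syl.inf_nml hC
    have e : img f S ⊓ C[img f A] = img f A := le_antisymm (hc A h.AS h4) (le_inf hq.AS hq.eA.le_C)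
    rw [e] at hP
    have h6 := H8.PC.le_sup_Od_of_cent hA' hP.le le_rfl hP.idx
    rw [eq_bot_of_le hf.Od_eq_bot (hC.pcore_le _), sup_bot_eq] at h6
    exact (hf.eq_bot hYH).1 (eq_bot_of_le (inf_eq_bot_of_cop (cop hY' hA')) (le_inf le_rfl (h5.trans h6)))

end H24.LE
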