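import Mathlib
import Cfsg.Agent.H24.LE2
import Cfsg.Agent.H26.LM1
import Cfsg.Agent.H26.LMD

/-!
# Unitriangular Sylow subgroups: the frame and the conjugates of the corner in the first row
-/

set_option autoImplicit false
set_option linter.unusedVariables false
set_option linter.unusedSectionVars false

namespace H24.LE

open Cfsg H24 H26 H26.Gold H26.LM H2.C2 Subgroup Matrix
open scoped commutatorElement

universe u v

variable {G : Type u} [Group G] [Finite G] {F : Type v} [Field F] [Finite F] [CharP F 2] {k : ℕ}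
  {H T D P : Subgroup G} {a s w x z : G} {φ ψ : Fin (k + 4) → F}

theorem mul_rw (M : Mod G F (k + 4)) (h : φ 0 = 0) (h' : ψ 0 = 0) :
    M.ι (rw_ φ) * M.ι (rw_ ψ) = M.ι (rw_ (φ + ψ)) := by
  rw [← M.mul (su_rw h) (su_rw h'), (su_rw h).mul_rw, add_zero, rw_add]

theorem su_row (i : Fin (k + 4)) (h : ∀ c : Fin (k + 4), c.val < i.val + 1 → ψ c = 0) :
    SU (vecMulVec (ev F i) ψ) :=
  su_vmv (i.val + 1) (fun c hc => ev_ne fun e => by rw [e] at hc; omega) h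

theorem sq_row (i : Fin (k + 4)) (h : ∀ c : Fin (k + 4), c.val < i.val + 1 → ψ c = 0) :
    vecMulVec (ev F i) ψ * vecMulVec (ev F i) ψ = 0 := by
  rw [vmv_mul_vmv, dot_ev, h i (by omega), zero_smul]

theorem conj_rw (M : Mod G F (k + 4)) (i : Fin (k + 4))
    (h : ∀ c : Fin (k + 4), c.val < i.val + 1 → ψ c = 0) (h0 : φ 0 = 0) :
    M.ι (vecMulVec (ev F i) ψ) * M.ι (rw_ φ) * (M.ι (vecMulVec (ev F i) ψ))⁻¹ =
      M.ι (rw_ φ) * M.ι (rw_ (φ i • ψ)) := by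
  rw [M.conj_sq (su_row i h) (sq_row i h) (su_rw h0), (su_row i h).mul_rw, zero_add, zero_mul, add_zero,
    rw_mul, mul_rw M h0 (by simp [h 0 (by simp)]), rw_add, vecMul_vecMulVec, dot_ev]

theorem exists_comm (M : Mod G F (k + 4)) (hw : w ∈ M.A) (h : w ∉ M.Z) (hz : z ∈ M.Z) :
    ∃ b ∈ M.A', ⁅w, b⁆ = z := by
  obtain ⟨φ, h0, rfl⟩ := M.mem_A.1 hw
  obtain ⟨l, rfl⟩ := M.mem_Z.1 hz
  obtain ⟨j, hj, h1⟩ : ∃ j, j ≠ iN k ∧ φ j ≠ 0 := by
    by_contra hn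
    push Not at hn
    refine h (M.mem_Z.2 ⟨φ (iN k), ?_⟩)
    rw [← rw_ev, ← rw_smul]
    congr 2
    ext j
    by_cases e : j = iN k
    · simp [e, ev_self]
    · simp [ev_ne e, hn j e]
  have h2 : ((l / φ j) • ev F j) (iN k) = 0 := by simp [ev_ne hj.symm]
  refine ⟨_, M.mem_A'.2 ⟨_, h2, rfl⟩, ?_⟩
  rw [M.comm_rw_cl h0 h2, dotProduct_smul, dot_ev, smul_eq_mul, div_mul_cancel₀ _ h1]

theorem mem_R_of_comm (M : Mod G F (k + 4)) (ha : a ∈ M.A) (h : ∀ s ∈ M.S, ⁅s, a⁆ ∈ M.Z) :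
    a ∈ M.R (k + 2) := by
  obtain ⟨φ, h0, rfl⟩ := M.mem_A.1 ha
  refine (M.rw_mem_R h0 (by omega)).2 fun c hc => ?_
  have h1 : ∀ d : Fin (k + 4), d.val < c.val + 1 → ev F (iP k) d = 0 := fun d hd =>
    ev_ne fun e => by rw [e] at hd; simp at hd; omega
  have h2 := (h _ (M.memS (su_row c h1))).2
  have h3 : (φ c • ev F (iP k)) 0 = 0 := by simp [h1 0 (by simp)]
  rw [commutatorElement_def, conj_rw M c h1 h0, (M.R_ea 1).comm ha (M.mem_A.2 ⟨_, h3, rfl⟩),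
    mul_inv_cancel_right] at h2
  simpa [ev_self] using (M.rw_mem_R h3 (by omega)).1 h2 (iP k) (by simp)

theorem AR_le (M : Mod G F (k + 4)) {i j : ℕ} (h0 : 0 < j) (h : j ≤ i) : M.A ⊓ M.R i ≤ M.R j := by
  intro x hx
  obtain ⟨φ, h1, rfl⟩ := M.mem_A.1 hx.1
  exact (M.rw_mem_R h1 h0).2 fun c hc => (M.rw_mem_R h1 (by omega)).1 hx.2 c (by omega)

theorem nml_fact (M : Mod G F (k + 4)) (hT : T ⊴ M.S) (hn : ¬ T ≤ M.Z) :
    M.Z ≤ T ∧ ∃ t ∈ T, t ∉ M.Z ∧ t * t = 1 := by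
  have hZS : M.Z ≤ M.S := inf_le_left.trans M.A_le
  obtain ⟨t, ht, -, h1, -, h2⟩ := up_cent M.two hZS hT.le (inf_le_left.trans hT.norm) hn
  have h3 : ∀ s ∈ M.S, ⁅s, t⁆ ∈ M.Z := fun s hs => by
    rw [← commutatorElement_inv]; exact inv_mem (h2 s ⟨hs, C_le_N _ (M.Z_cent hs)⟩)
  obtain ⟨a, ha, b, hb, rfl⟩ := M.mem_Q'.1 (M.mem_Q_of_A (hT.le ht) fun a ha => h3 a (M.A_le ha))
  have h4 : ∀ s ∈ M.S, ⁅s, a⁆ ∈ M.Z ∧ ⁅s, b⁆ ∈ M.Z := fun s hs => by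
    have e : ⁅s, a * b⁆ = ⁅s, a⁆ * (a * ⁅s, b⁆ * a⁻¹) := by simp only [commutatorElement_def]; group
    have m1 : ⁅s, a⁆ ∈ M.A := comm_le_right M.A_norm (commutator_mem_commutator hs ha)
    have m2 : a * ⁅s, b⁆ * a⁻¹ ∈ M.A' := conj_mem (M.A'_norm (M.A_le ha))
      (comm_le_right M.A'_norm (commutator_mem_commutator hs hb))
    have m3 := h3 s hs
    rw [e] at m3
    have m4 : ⁅s, a⁆ ∈ M.Z := ⟨m1, (mul_mem_cancel_right m2).1 m3.2⟩
    exact ⟨m4, (conj_mem_iff (C_le_N _ (M.Z_cent (M.A_le ha)))).1 ((mul_mem_cancel_left m4).1 m3)⟩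
  have h5 : a ∈ M.R 2 := AR_le M (by omega) (by omega) ⟨ha, mem_R_of_comm M ha fun s hs => (h4 s hs).1⟩
  have h6 : b ∈ M.R 2 := M.flip_R (i := k + 2) (j := 2) (by omega) ▸
    mem_R_of_comm M.flip (by simpa using hb) (by simpa using fun s hs => (h4 s hs).2)
  refine ⟨fun z hz => ?_, a * b, ht, h1, (M.R_ea 2).sq (mul_mem h5 h6)⟩
  have key : ∀ y ∈ M.S, ⁅a * b, y⁆ ∈ T := fun y hy =>
    comm_le_left hT.norm (commutator_mem_commutator ht hy)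
  by_cases e : a ∈ M.Z
  · obtain ⟨y, hy, rfl⟩ := exists_comm M.flip (w := b) (z := z) (by simpa using hb)
      (by simpa using fun h => h1 (mul_mem e h)) (by simpa using hz)
    rw [Mod.flip_A'] at hy
    have := key y (M.A_le hy)
    rwa [show ⁅a * b, y⁆ = a * ⁅b, y⁆ * a⁻¹ * ⁅a, y⁆ by simp only [commutatorElement_def]; group,
      commutatorElement_eq_one_iff_mul_comm.2 ((M.R_ea 1).comm ha hy), mul_one,
      conj_eq_of_mem_C (M.Z_cent (M.A_le ha)) hz] at this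
  · obtain ⟨y, hy, rfl⟩ := exists_comm M ha e hz
    have := key y (M.A'_le hy)
    rwa [show ⁅a * b, y⁆ = a * ⁅b, y⁆ * a⁻¹ * ⁅a, y⁆ by simp only [commutatorElement_def]; group,
      commutatorElement_eq_one_iff_mul_comm.2 ((M.R_ea _).comm hb hy), mul_one, mul_inv_cancel,
      one_mul] at this

theorem exists_nZ (M : Mod G F (k + 4)) : ∃ w ∈ M.A, w ∉ M.R 2 := by
  have h : ev F (1 : Fin (k + 4)) 0 = 0 := ev_ne (by simp)
  exact ⟨_, M.mem_A.2 ⟨_, h, rfl⟩, fun h1 => by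
    simpa [ev_self] using (M.rw_mem_R h (by omega)).1 h1 1 (by simp)⟩

theorem fr (M : Mod G F (k + 4)) (hH : M.S ≤ H) (h1 : StC H M.S M.A) (h2 : StC H M.S M.A') :
    Fr H M.S M.A M.A' M.Z := by
  have hS := M.sylH hH
  refine ⟨hS, SCl.of_syl hS M.A_le h1, SCl.of_syl hS M.A'_le h2,
    SCl.of_syl hS (inf_le_left.trans M.A_le) fun x hx g hg hy => ⟨h1 x hx.1 g hg hy, h2 x hx.2 g hg hy⟩,
    M.A_le, M.A'_le, M.R_ea _, M.R_ea _, inf_le_left, inf_le_right, fun z hz => ?_, M.Z_cent,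
    fun T => nml_fact M⟩
  obtain ⟨w, hw, h3⟩ := exists_nZ M
  obtain ⟨b, hb, rfl⟩ := exists_comm M hw (fun h => h3 (AR_le M (by omega) (by omega) h)) hz
  exact commutator_mem_commutator hw hb

theorem cons (M : Mod G F (k + 4)) (hH : M.S ≤ H) (h1 : StC H M.S M.A) (h2 : StC H M.S M.A') :
    H ≤ Od[H] ⊔ N[M.A] ∧ ∀ Y, OddG Y → Y ≤ H → M.A ≤ N[Y] → Y ≤ Od[H] :=
  (fr M hH h1 h2).gs le_rfl (commutator_le.2 fun _ ha _ hb => M.comm_AA' ha hb) M.A'_cent M.A_cent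

/-- a `2`-element normalizing a subgroup of the centre of a Sylow subgroup centralizes it -/
theorem two_cent (hP : Syl 2 ⊤ P) (hD : P ≤ C[D]) (h2 : TwoE s) (hs : s ∈ N[D]) : s ∈ C[D] :=
  zpowers_le.1 (le_of_idx_compl (C_nml_N D) ((hP.of_le (hD.trans (C_le_N D)) le_top).idx_of_ge hD)
    h2.isPi (zpowers_le.2 hs))

/-- the conjugates of the elements of the corner under the normalizer of the first row -/
def As (M : Mod G F (k + 4)) : Subgroup G :=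
  subOfMul {x | ∃ n ∈ N[M.A], ∃ z ∈ M.Z, x = n * z * n⁻¹} ⟨1, one_mem _, 1, one_mem _, by simp⟩ (by
    rintro _ ⟨n, hn, z, hz, rfl⟩ _ ⟨n', hn', z', hz', rfl⟩
    have hu : n'⁻¹ * (n * z * n⁻¹) * n' ∈ M.A := conj_mem' hn' (conj_mem hn hz.1)
    by_cases e : n'⁻¹ * (n * z * n⁻¹) * n' ∈ M.Z
    · exact ⟨n', hn', _, mul_mem e hz', by group⟩
    · obtain ⟨b, hb, h⟩ := exists_comm M hu e hz'
      refine ⟨n' * b * n'⁻¹ * n, mul_mem (mul_mem (mul_mem hn' (M.A_norm (M.A'_le hb))) (inv_mem hn')) hn,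
        z, hz, ?_⟩
      have h1 := (M.R_ea 1).sq hu
      have h2 := (M.R_ea 1).inv hu
      rw [← h, commutatorElement_def, h2]
      calc _ = n' * ((n'⁻¹ * (n * z * n⁻¹) * n') * (n'⁻¹ * (n * z * n⁻¹) * n') * b *
            (n'⁻¹ * (n * z * n⁻¹) * n') * b⁻¹) * n'⁻¹ := by group
        _ = _ := by rw [h1]; group)

theorem mem_As (M : Mod G F (k + 4)) : x ∈ As M ↔ ∃ n ∈ N[M.A], ∃ z ∈ M.Z, x = n * z * n⁻¹ := Iff.rfl

theorem As_le (M : Mod G F (k + 4)) : As M ≤ M.A := by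
  rintro _ ⟨n, hn, z, hz, rfl⟩
  exact conj_mem hn hz.1

theorem cj_le_As (M : Mod G F (k + 4)) {n : G} (hn : n ∈ N[M.A]) : cj n M.Z ≤ As M := fun x hx => by
  obtain ⟨z, hz, rfl⟩ := mem_cj'.1 hx
  exact ⟨n, hn, z, hz, rfl⟩

theorem norm_As (M : Mod G F (k + 4)) : N[M.A] ≤ N[As M] := fun g hg => mem_N_of_finite (by
  rintro _ ⟨n, hn, z, hz, rfl⟩
  exact ⟨g * n, mul_mem hg hn, z, hz, by group⟩)

theorem As_eq (M : Mod G F (k + 4)) : ∃ i, 1 ≤ i ∧ i ≤ k + 3 ∧ As M = M.A ⊓ M.R i := by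
  classical
  have hP : As M ≤ M.R (Nat.findGreatest (fun i => As M ≤ M.R i) (k + 3)) :=
    Nat.findGreatest_spec (P := fun i => As M ≤ M.R i) (m := 1) (by omega) (As_le M)
  have h1 := Nat.le_findGreatest (P := fun i => As M ≤ M.R i) (m := 1) (n := k + 3) (by omega) (As_le M)
  have h2 := Nat.findGreatest_le (P := fun i => As M ≤ M.R i) (k + 3)
  have h3 := fun j => Nat.findGreatest_is_greatest (P := fun i => As M ≤ M.R i) (n := k + 3) (k := j)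
  generalize Nat.findGreatest (fun i => As M ≤ M.R i) (k + 3) = i at hP h1 h2 h3
  refine ⟨i, h1, h2, le_antisymm (le_inf (As_le M) hP) ?_⟩
  rcases h2.eq_or_lt with rfl | hi
  · exact (cj_one M.Z).ge.trans (cj_le_As M (one_mem _))
  obtain ⟨w, hw, h4⟩ := SetLike.not_le_iff_exists.1 (h3 (i + 1) (by omega) (by omega))
  obtain ⟨n, hn, z, hz, e⟩ := hw
  have hw1 : w ∈ cj n M.Z := e ▸ conj_mem_cj n hz
  have hZ1 := cj_le_As M hn
  let c : Fin (k + 4) := ⟨i, by omega⟩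
  have hco : ∀ x ∈ M.A ⊓ M.R i, ∃ χ : Fin (k + 4) → F, χ 0 = 0 ∧ M.ι (rw_ χ) = x ∧
      (∀ d : Fin (k + 4), d.val < i → χ d = 0) ∧ (χ c = 0 → x ∈ M.R (i + 1)) := fun x hx => by
    obtain ⟨χ, k0, rfl⟩ := M.mem_A.1 hx.1
    have k1 := (M.rw_mem_R k0 (by omega)).1 hx.2
    refine ⟨χ, k0, rfl, k1, fun k2 => (M.rw_mem_R k0 (by omega)).2 fun d hd => ?_⟩
    rcases (Nat.lt_succ_iff.1 hd).eq_or_lt with e | e
    · rwa [show d = c from Fin.ext e]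
    · exact k1 d e
  choose! co co0 coe col coc using hco
  have hAs : As M ≤ M.A ⊓ M.R i := le_inf (As_le M) hP
  have hwc : co w c ≠ 0 := fun e => h4 (coc w (hAs (hZ1 hw1)) e)
  have mv : ∀ y ∈ M.A ⊓ M.R (i + 1), ∃ s ∈ M.S, s * s = 1 ∧ s * w * s⁻¹ = w * y ∧ s * y * s⁻¹ = y := by
    intro y hy
    obtain ⟨ψ, k0, rfl⟩ := M.mem_A.1 hy.1
    have k1 := (M.rw_mem_R k0 (by omega)).1 hy.2
    have k2 : ∀ d : Fin (k + 4), d.val < c.val + 1 → ((co w c)⁻¹ • ψ) d = 0 := fun d hd => by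
      simp [k1 d hd]
    refine ⟨_, M.memS (su_row c k2), (M.sq_iff (su_row c k2)).2 (sq_row c k2), ?_, ?_⟩
    · have := conj_rw M c k2 (co0 w (hAs (hZ1 hw1)))
      rwa [coe w (hAs (hZ1 hw1)), smul_inv_smul₀ hwc] at this
    · rw [conj_rw M c k2 k0, k1 c (by simp [c]), zero_smul, rw_eq_zero.2 rfl, M.ι_zero, mul_one]
  have up1 : M.A ⊓ M.R (i + 1) ≤ As M := fun y hy => by
    obtain ⟨s, hs, -, k1, -⟩ := mv y hy
    have := conj_mem (norm_As M (M.A_norm hs)) (hZ1 hw1)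
    rw [k1] at this
    exact (mul_mem_cancel_left (hZ1 hw1)).1 this
  have ti : ∀ y ∈ cj n M.Z, y ∈ M.R (i + 1) → y = 1 := fun y hy hy' => by
    obtain ⟨s, hs, k0, k1, k2⟩ := mv y ⟨As_le M (hZ1 hy), hy'⟩
    have k3 : s ∈ N[cj n M.Z ⊓ cj s (cj n M.Z)] := mem_N_iff_cj.2 (by
      rw [cj_inf, ← cj_mul s s, k0, cj_one, inf_comm])
    have k4 := two_cent (M.syl.cj_mem (mem_top n)) (cents_of_le (cent_cj M.Z_cent n) inf_le_left)
      (twoE_of_sq k0) k3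
    have k5 := conj_eq_of_mem_C k4 (x := w * y) ⟨mul_mem hw1 hy, k1 ▸ conj_mem_cj s hw1⟩
    rw [show s * (w * y) * s⁻¹ = s * w * s⁻¹ * (s * y * s⁻¹) by group, k1, k2] at k5
    simpa using k5
  have add : ∀ x ∈ M.A ⊓ M.R i, ∀ y ∈ M.A ⊓ M.R i, co x c = co y c → x * y ∈ M.R (i + 1) := by
    intro x hx y hy e
    have e0 := mul_rw M (co0 x hx) (co0 y hy)
    rw [coe x hx, coe y hy] at e0
    rw [e0]
    refine (M.rw_mem_R (by simp [co0 x hx, co0 y hy]) (by omega)).2 fun d hd => ?_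
    rcases (Nat.lt_succ_iff.1 hd).eq_or_lt with e' | e'
    · rw [show d = c from Fin.ext e', Pi.add_apply, e, CharTwo.add_self_eq_zero]
    · simp [col x hx d e', col y hy d e']
  have inj : Function.Injective fun x : cj n M.Z => co x c := fun x y e => Subtype.ext (by
    have := ti _ (mul_mem x.2 y.2) (add x (hAs (hZ1 x.2)) y (hAs (hZ1 y.2)) e)
    rw [eq_inv_of_mul_eq_one_left this, (M.R_ea 1).inv (As_le M (hZ1 y.2))])
  have sur := ((Nat.bijective_iff_injective_and_card _).2 ⟨inj, by rw [card_cj, M.cardZ]⟩).2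
  intro a ha
  obtain ⟨x, hx⟩ := sur (co a c)
  exact (mul_mem_cancel_left (hZ1 x.2)).1 (up1 ⟨mul_mem (As_le M (hZ1 x.2)) ha.1,
    add x (hAs (hZ1 x.2)) a ha hx⟩)

end H24.LE
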