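import Mathlib
import Cfsg.Agent.H22.HoQ

/-!
# Holt's theorem for the normalizer of a subgroup of odd order
-/

set_option autoImplicit false
set_option linter.unusedVariables false
set_option linter.unusedSectionVars false

namespace H24.LE

open H24 H3.B71 H6.ZD H26.BR H22.Ho H26.Gold Subgroup MulAction Cfsg

universe u

variable {G : Type u} [Group G] [Finite G] {H W : Subgroup G} {z : G}

theorem holt_odd [IsSimpleGroup G] (nab : ¬ IsMulCommutative G) (hW : OddG W) (h1 : W ≠ ⊥)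
    (hWH : W ⊴ H) (hz : IsTwoCentralInvolution z) (hzH : z ∈ H)
    (hu : ∀ x : G, x⁻¹ * z * x ∈ H → x ∈ H) : IsStronglyEmbedded H := by
  classical
  have iz : Inv z := ⟨by rintro rfl; simpa using hz.1, by rw [← pow_two, ← hz.1, pow_orderOf_eq_one]⟩
  have hH : H ≠ ⊤ := by
    rintro rfl
    have := (nml_top_iff.1 hWH).eq_bot_or_eq_top.resolve_left h1
    exact iz.not_mem_odd (oddG_iff.1 hW) (this ▸ mem_top z)
  have := nontrivial_cosets hH
  have hk : (toPermHom G (G ⧸ H)).ker = ⊥ :=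
    (inferInstance : (toPermHom G (G ⧸ H)).ker.Normal).eq_bot_or_eq_top.resolve_right fun e => by
      obtain ⟨b, c, n⟩ := exists_pair_ne (G ⧸ H)
      obtain ⟨j, rfl⟩ := exists_smul_eq G b c
      exact absurd (congrArg (fun π : Equiv.Perm (G ⧸ H) => π b) (e.ge (mem_top j))).symm n
  have f0 : ∀ g : G, g • ((1 : G) : G ⧸ H) = ((1 : G) : G ⧸ H) ↔ g ∈ H := fun g => by
    rw [smul_mk_iffQ]; simp
  have f1 := (f0 z).2 hzH
  have f2 : ∀ c : G ⧸ H, z • c = c → c = ((1 : G) : G ⧸ H) := fun c hc => by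
    obtain ⟨x, rfl⟩ := QuotientGroup.mk_surjective c
    exact QuotientGroup.eq.mpr (by simpa using hu x ((smul_mk_iffQ z x).mp hc))
  have hf : ∀ g : G, (∀ c : G ⧸ H, g • c = c) → g = 1 := fun g hg => mem_bot.mp (hk ▸ Equiv.ext hg)
  rcases holt_simple (Ω := G ⧸ H) nab hf (exists_smul_eq G) hz ⟨_, f1, f2⟩ with h | ⟨h7, h⟩
  · refine ⟨hH, ?_, fun g hg => odd_of_no_inv fun x hx ix => hg ?_⟩
    · exact Nat.not_odd_iff_even.mp fun o => iz.not_mem_odd o hzH
    · have := h x ix ((1 : G) : G ⧸ H) (g : G ⧸ H) ((smul_mk_iffQ x 1).mpr (by simpa using hx.1))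
        ((smul_mk_iffQ x g).mpr (mem_cj.mp hx.2))
      simpa using QuotientGroup.eq.mp this
  exfalso
  have := Fintype.ofFinite (G ⧸ H)
  have ho : Odd (Nat.card (G ⧸ H)) := by
    rw [← Set.ncard_univ]
    exact odd_of_fix1 iz (by simp) trivial f1 fun b _ => f2 b
  generalize ((1 : G) : G ⧸ H) = o at f0
  obtain ⟨w, hw, w1⟩ := exists_ne_one h1
  obtain ⟨b, hb⟩ : ∃ b : G ⧸ H, w • b ≠ b := not_forall.1 fun k => w1 (hf w k)
  have ne : ∀ v ∈ W, v • b ≠ o := fun v hv e => hb (by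
    have : b = o := by rw [← (f0 v⁻¹).2 (hWH.le (inv_mem hv)), ← e, inv_smul_smul]
    rw [this, (f0 w).2 (hWH.le hw)])
  have bo : b ≠ o := by simpa using ne 1 (one_mem _)
  have horb : orbit W b = {o}ᶜ := by
    refine Set.Subset.antisymm ?_ fun d hd => ?_
    · rintro _ ⟨v, rfl⟩
      exact ne v v.2
    by_cases e1 : d = b
    · exact e1 ▸ mem_orbit_self _
    by_cases e2 : d = w • b
    · exact ⟨⟨w, hw⟩, e2.symm⟩
    obtain ⟨e, he⟩ : ∃ e, e ∉ ({o, b, w • b, d} : Finset (G ⧸ H)) := by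
      by_contra k
      push Not at k
      have k1 := Finset.card_le_card (fun x _ => k x : Finset.univ ⊆ _)
      have k2 : ({o, b, w • b, d} : Finset (G ⧸ H)).card ≤ 4 := Finset.card_le_four
      rw [Finset.card_univ, ← Nat.card_eq_fintype_card] at k1
      omega
    simp only [Finset.mem_insert, Finset.mem_singleton, not_or] at he
    obtain ⟨g, hg⟩ : Equiv.swap (w • b) d * Equiv.swap d e ∈ (toPermHom G (G ⧸ H)).range := by
      rw [h, Equiv.Perm.mem_alternatingGroup, map_mul, Equiv.Perm.sign_swap (Ne.symm e2),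
        Equiv.Perm.sign_swap (Ne.symm he.2.2.2)]
      simp
    have act : ∀ x, g • x = Equiv.swap (w • b) d (Equiv.swap d e x) := fun x =>
      congrArg (fun π : Equiv.Perm (G ⧸ H) => π x) hg
    have do' : d ≠ o := hd
    have g1 : g ∈ H := (f0 g).1 (by
      rw [act, Equiv.swap_apply_of_ne_of_ne do'.symm (Ne.symm he.1),
        Equiv.swap_apply_of_ne_of_ne (ne w hw).symm do'.symm])
    have g2 : g • b = b := by
      rw [act, Equiv.swap_apply_of_ne_of_ne (Ne.symm e1) (Ne.symm he.2.1),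
        Equiv.swap_apply_of_ne_of_ne hb.symm (Ne.symm e1)]
    refine ⟨⟨g * w * g⁻¹, hWH.conj_mem g1 hw⟩, ?_⟩
    show (g * w * g⁻¹) • b = d
    rw [mul_smul, mul_smul, inv_smul_eq_iff.2 g2.symm, act,
      Equiv.swap_apply_of_ne_of_ne (Ne.symm e2) (Ne.symm he.2.2.1), Equiv.swap_apply_left]
  have h2 : (orbit W b).ncard ∣ Nat.card W := index_stabilizer W b ▸ index_dvd_card _
  have h3 := Set.ncard_add_ncard_compl ({o} : Set (G ⧸ H))
  rw [← horb, Set.ncard_singleton] at h3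
  have h4 := (oddG_iff.1 hW).of_dvd_nat h2
  rw [← h3] at ho
  exact (Nat.not_even_iff_odd.2 ho) (odd_one.add_odd h4)

end H24.LE
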