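import Mathlib
import Cfsg.Agent.H24.LE3
import Cfsg.Agent.H24.LE4
import Cfsg.Agent.H26.LES
import Cfsg.Agent.H12.TIZ

/-!
# Simple groups with unitriangular Sylow subgroups: the first row is a TI-subgroup
-/

set_option autoImplicit false
set_option linter.unusedVariables false
set_option linter.unusedSectionVars false

namespace H24.LE

open Cfsg H24 H26 H26.Gold H26.LM H2.C2 Subgroup Matrix
open scoped commutatorElement

universe u v

variable {G : Type u} [Group G] [Finite G] {F : Type v} [Field F] [Finite F] [CharP F 2] {k : ℕ}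
  {H E R X : Subgroup G} {a g t x z : G}

theorem nab (M : Mod G F (k + 4)) : ¬ Abl (⊤ : Subgroup G) := fun h => by
  obtain ⟨x, -, y, -, -, -, e⟩ := M.exists_nc
  exact e (h.comm (mem_top x) (mem_top y))

theorem Od_top [IsSimpleGroup G] (M : Mod G F (k + 4)) : Od[(⊤ : Subgroup G)] = ⊥ :=
  (nml_top_iff.1 (pcore_nml _ _)).eq_bot_or_eq_top.resolve_right fun h => by
    obtain ⟨x, hx, y, -, h2, -, e⟩ := M.exists_nc
    have := M.syl.inf_eq_bot (Od_odd ⊤)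
    rw [h, inf_top_eq] at this
    exact e (by rw [mem_bot.1 (this.le hx), mul_one, one_mul])

theorem no_sc [IsSimpleGroup G] (M : Mod G F (k + 4)) (hR : R ≤ M.S) (he : EA R) (h1 : R ≠ ⊥)
    (h : StC ⊤ M.S R) : False := by
  obtain ⟨x, hx, y, hy, x2, y2, e⟩ := M.exists_nc
  have := fun t ht t2 => sc1_top (t := t) (nab M) (Od_top M) (SCl.of_syl M.syl hR h) h1 he M.two hR ht t2
  exact e (he.comm (this x hx x2) (this y hy y2))

theorem four_le (hF : Big F) : 4 ≤ Nat.card F := by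
  obtain ⟨ω, h0, h1⟩ := hF
  classical
  have := Fintype.ofFinite F
  have h2 : ω + 1 ≠ 0 := fun e => h1 (by rw [eq_neg_of_add_eq_zero_left e, CharTwo.neg_eq])
  have h3 : ({0, 1, ω, ω + 1} : Finset F).card = 4 := by
    rw [Finset.card_eq_four]
    exact ⟨0, 1, ω, ω + 1, zero_ne_one, h0.symm, h2.symm, h1.symm, by simpa using h0, by simp, rfl⟩
  rw [Nat.card_eq_fintype_card, ← h3]
  exact Finset.card_le_univ _

theorem Z_ne (M : Mod G F (k + 4)) (hF : Big F) : M.Z ≠ ⊥ := fun e => by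
  have := M.cardZ
  have := four_le hF
  rw [e, card_bot] at *
  omega

theorem norm_of_wc (h : WC H X) (hX : X ≤ E) (hE : E ≤ H) : N[E] ≤ N[X] := fun g hg =>
  mem_N_iff_cj.2 (h g ((cj_le_of_mem_N hX hg).trans hE))

theorem fam (M : Mod G F (k + 4)) (hF : Big F) (h : AFam ⊤ M.S E) :
    (E ≤ M.S ∧ N[E] ≤ N[M.A] ∧ N[E] ≤ N[M.A']) ∨
      (E = M.UL ∧ ∃ g ∈ N[E], M.Z ⊓ cj g M.Z = ⊥) ∨ E = M.UF := by
  have key : M.Q ≤ E → E ≤ M.S → E ≤ M.S ∧ N[E] ≤ N[M.A] ∧ N[E] ≤ N[M.A'] := fun h1 h2 =>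
    ⟨h2, norm_of_wc (M.wcA hF) (M.A_le_Q.trans h1) h2, norm_of_wc (M.wcA' hF) (M.A'_le_Q.trans h1) h2⟩
  rcases h with rfl | ⟨M0, h⟩
  · exact Or.inl (key M.Q_le le_rfl)
  rcases M.ess hF h with h1 | ⟨h1, g, hg, h2, -⟩ | ⟨h1, -⟩
  exacts [Or.inl (key h1 h.lt.le), Or.inr (Or.inl ⟨h1, g, hg.2, h2⟩), Or.inr (Or.inr h1)]

theorem nUF (M : Mod G F (k + 4)) (hF : Big F) {i : ℕ} (h1 : 2 ≤ i) (h2 : i ≤ k + 3) :
    N[M.UF] ≤ N[M.R i] := by
  have := M.flip.nR hF (i := k + 4 - i) (by omega) (by omega)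
  rwa [Mod.flip_UL, M.flip_R (j := i) (by omega)] at this

theorem As_top [IsSimpleGroup G] (M : Mod G F (k + 4)) (hF : Big F) : As M = M.A := by
  obtain ⟨i, h1, h2, e⟩ := As_eq M
  rcases h1.eq_or_lt with rfl | h3
  · exact e.trans (inf_idem _)
  exfalso
  have hZ : M.Z ≤ M.R i := AR_le M (by omega) h2
  refine no_sc M (M.R_le i) (M.R_ea i) (ne_bot_of_le (Z_ne M hF) hZ)
    (alp_sc M.syl (fun E hE g hg x hx hxE => ?_) (M.R_le i))
  rcases fam M hF hE with ⟨k1, k2, k3⟩ | ⟨rfl, g', hg', k1⟩ | rfl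
  · obtain ⟨c1, c2⟩ := M.cent_R h1 h2
    have n1 : N[E] ≤ N[M.A ⊓ M.R i] := e ▸ k2.trans (norm_As M)
    have n2 : N[E] ≤ N[M.A' ⊓ M.R i] := c1 ▸ norm_inf k3 (norm_C n1)
    rw [← c2] at hx ⊢
    exact ⟨⟨k1 (conj_mem hg.2 hxE), conj_mem (norm_C n1 hg.2) hx.1.2⟩, conj_mem (norm_C n2 hg.2) hx.2⟩
  · rcases h2.eq_or_lt with rfl | h4
    · have : cj g' M.Z ≤ M.Z := (cj_le_As M (M.nR hF (i := 1) le_rfl (by omega) hg')).trans e.le
      rw [inf_eq_right.2 this] at k1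
      exact absurd (cj_eq_bot.1 k1) (Z_ne M hF)
    · exact conj_mem (M.nR hF h1 (by omega) hg.2) hx
  · exact conj_mem (nUF M hF h3 h2 hg.2) hx

theorem consZ (M : Mod G F (k + 4)) (hF : Big F) (hz : z ∈ M.Z) (z1 : z ≠ 1) :
    C{z} ≤ Od[C{z}] ⊔ N[M.A] ∧ ∀ Y, OddG Y → Y ≤ C{z} → M.A ≤ N[Y] → Y ≤ Od[C{z}] := by
  have hS : M.S ≤ C{z} := M.Z_cent.trans (C_le_C1 hz)
  obtain ⟨h1, h2⟩ := M.stcA hF hS hz z1 le_rfl
  exact cons M hS h1 h2

theorem consA [IsSimpleGroup G] (M : Mod G F (k + 4)) (hF : Big F) (ha : a ∈ M.A) (a1 : a ≠ 1) :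
    C{a} ≤ Od[C{a}] ⊔ N[M.A] ∧ ∀ Y, OddG Y → Y ≤ C{a} → M.A ≤ N[Y] → Y ≤ Od[C{a}] := by
  obtain ⟨n, hn, z, hz, rfl⟩ := (mem_As M).1 ((As_top M hF).ge ha)
  obtain ⟨h1, h2⟩ := consZ M hF hz fun e => a1 (by simp [e])
  rw [← cj_C1, pcore_cj]
  refine ⟨?_, fun Y hY h3 h4 => ?_⟩
  · have := cj_mono n h1
    rwa [cj_sup, cj_N, cj_of_mem_N hn] at this
  · refine le_cj_iff.2 (h2 _ (hY.cj _) (le_cj_iff.1 h3) ?_)
    have := norm_cj h4 n⁻¹
    rwa [cj_of_mem_N (inv_mem hn)] at this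

/-- the join of the cores of the centralizers of the involutions of `Z` -/
def W0 (Z : Subgroup G) : Subgroup G := ⨆ z : {z // z ∈ Z ∧ z ≠ 1}, Od[C{z.1}]

theorem le_W0 {Z : Subgroup G} (hz : z ∈ Z) (z1 : z ≠ 1) : Od[C{z}] ≤ W0 Z :=
  le_iSup (fun z : {z // z ∈ Z ∧ z ≠ 1} => Od[C{z.1}]) ⟨z, hz, z1⟩

theorem sig [IsSimpleGroup G] (M : Mod G F (k + 4)) (hF : Big F) :
    OddG (W0 M.Z) ∧ N[M.A] ≤ N[W0 M.Z] := by
  have hA : EA M.A := M.R_ea 1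
  have hn : ∀ t ∈ M.A, M.A ≤ N[C{t}] := fun t ht => norm_C1 (mem_C_iff_le_C1.1 (hA.le_C ht))
  have h4 := four_le hF
  obtain ⟨W, h1, h2, -, h3⟩ := sf_good hA (by
      rw [M.cardA]
      calc 8 ≤ 4 ^ 3 := by norm_num
        _ ≤ Nat.card F ^ 3 := Nat.pow_le_pow_left h4 3
        _ ≤ _ := Nat.pow_le_pow_right (by omega) (by omega)) (fun _ => True) (fun _ _ _ _ => trivial)
    fun t ht t1 => ⟨Od[C{t}], Od_odd _, norm_pcore _ (hn t ht), pcore_le _ _, trivial,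
      fun X k1 k2 k3 _ => (consA M hF ht t1).2 X k1 k3 k2⟩
  have hZ : EA M.Z := hA.of_le inf_le_left
  have e : W0 M.Z = W := le_antisymm
    (iSup_le fun z => h3 _ (Od_odd _) (norm_pcore _ (hn _ z.2.1.1)) trivial)
    (coprime_abelian_gen_cent1 hZ.abl (fun hc => by
        have k1 : Monoid.exponent M.Z ∣ 2 := Monoid.exponent_dvd_of_forall_pow_eq_one fun g =>
          Subtype.ext (hZ.2 g g.2)
        haveI : IsCyclic M.Z := hc
        rw [IsCyclic.exponent_eq_card, M.cardZ] at k1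
        have := Nat.le_of_dvd two_pos k1
        omega) (inf_le_left.trans h2) (cop h1 hZ.two) fun z hz z1 =>
      ((consZ M hF hz z1).2 _ (h1.inf_left _) inf_le_right (norm_inf h2 (hn z hz.1))).trans (le_W0 hz z1))
  rw [e]
  refine ⟨h1, fun g hg => mem_N_of_cj_le (h3 _ (h1.cj g) ?_ trivial)⟩
  have := norm_cj h2 g
  rwa [cj_of_mem_N hg] at this

theorem W0_bot [IsSimpleGroup G] (M : Mod G F (k + 4)) (hF : Big F) : W0 M.Z = ⊥ := by
  by_contra h0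
  obtain ⟨h1, h2⟩ := sig M hF
  have h3 : N[M.A'] ≤ N[W0 M.Z] := by simpa using (sig M.flip hF).2
  obtain ⟨z, hz, z1⟩ := exists_ne_one (Z_ne M hF)
  have hc : C{z} ≤ N[W0 M.Z] :=
    (consZ M hF hz z1).1.trans (sup_le ((le_W0 hz z1).trans (norm_self _)) h2)
  have hS : M.S ≤ N[W0 M.Z] := M.A_norm.trans h2
  have z2 : z * z = 1 := (M.R_ea 1).sq hz.1
  obtain ⟨P, hP⟩ := M.syl.exists_sylow_top Nat.prime_two
  have hse := holt_odd (fun h => nab M inferInstance) h1 h0 (nml_N _)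
    ⟨orderOf_eq_prime (by rw [pow_two]; exact z2) z1, P, hP.ge (M.A_le hz.1),
      fun s hs => (mem_C1.1 (M.Z_cent.trans (C_le_C1 hz) (hP.le hs)))⟩ (hc (self_mem_C1 z)) fun x hx => by
    obtain ⟨h, hh, k1⟩ := Sylow_Jsub Nat.prime_two (M.sylH hS) (twoE_of_sq (x := x⁻¹ * z * x) (by
      rw [show x⁻¹ * z * x * (x⁻¹ * z * x) = x⁻¹ * (z * z) * x by group, z2]; group)).isPi
      (zpowers_le.2 hx)
    have k2 := k1 (conj_mem_cj h (mem_zpowers _))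
    rw [show h * (x⁻¹ * z * x) * h⁻¹ = h * x⁻¹ * z * (h * x⁻¹)⁻¹ by group] at k2
    obtain ⟨n, hn, c, hc', e⟩ := alp_ctl (M0 := N[W0 M.Z]) M.syl (fun E hE => by
      rcases fam M hF hE with ⟨-, k3, -⟩ | ⟨rfl, -⟩ | rfl
      · exact inf_le_right.trans (k3.trans h2)
      · exact inf_le_right.trans ((M.nR hF (i := 1) le_rfl (by omega)).trans h2)
      · exact inf_le_right.trans ((nUF M hF (i := k + 3) (by omega) le_rfl).trans h3))
      (M.A_le hz.1) (mem_top _) k2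
    have k4 := mul_mem hn (hc hc'.2)
    rw [← e] at k4
    exact inv_mem_iff.1 ((mul_mem_cancel_left hh).1 k4)
  obtain ⟨x, hx, y, hy, x2, -, e⟩ := M.exists_nc
  exact e (mem_C'.1 (se_central hse M.two hx x2) y hy)

theorem C1_le [IsSimpleGroup G] (M : Mod G F (k + 4)) (hF : Big F) (ha : a ∈ M.A) (a1 : a ≠ 1) :
    C{a} ≤ N[M.A] := by
  obtain ⟨n, hn, z, hz, rfl⟩ := (mem_As M).1 ((As_top M hF).ge ha)
  have z1 : z ≠ 1 := fun e => a1 (by simp [e])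
  have h1 := (consZ M hF hz z1).1
  rw [eq_bot_of_le (W0_bot M hF) (le_W0 hz z1), bot_sup_eq] at h1
  have := cj_mono n h1
  rwa [cj_C1, cj_N, cj_of_mem_N hn] at this

theorem concl [IsSimpleGroup G] (M : Mod G F (k + 4)) (hF : Big F) : H12.TI.Concl G := by
  have hA : EA M.A := M.R_ea 1
  have hwc : ∀ g : G, cj g M.A ≤ N[M.A] → cj g M.A = M.A := fun g hg => by
    obtain ⟨n, hn, h1⟩ := Sylow_Jsub Nat.prime_two (M.sylH M.A_norm) (hA.two.cj g) hg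
    rw [← cj_mul] at h1
    have := M.wcA hF _ h1
    rw [cj_mul, cj_eq_iff, cj_of_mem_N (inv_mem hn)] at this
    exact this
  refine H12.TI.simp_all G (fun h => nab M inferInstance) _ M.A (H12.TI.sit_of hA
    (ne_bot_of_le (Z_ne M hF) inf_le_left) (fun g => ?_) hwc) ⟨1, cj_one _⟩
  by_cases e : cj g M.A ⊓ M.A = ⊥
  · exact Or.inr e
  obtain ⟨a, ha, a1⟩ := exists_ne_one e
  exact Or.inl (hwc g ((mem_C_iff_le_C1.1 ((hA.abl.cj g).le_C ha.1)).trans (C1_le M hF ha.2 a1)))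

end H24.LE
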