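import Mathlib
import Cfsg.Agent.H26.LM0
import Cfsg.Agent.H2.CT3

/-!
# Invariants of a unitriangular Sylow subgroup
-/

set_option autoImplicit false
set_option linter.unusedVariables false
set_option linter.unusedSectionVars false
namespace H24.LE
open Cfsg H24 H26 H26.Gold H26.LM Subgroup Matrix
open scoped commutatorElement
universe u v w
variable {G : Type u} [Group G] [Finite G] {F : Type v} [Field F] [Fintype F] {m k : ℕ}

theorem i2_card_SU (F : Type v) [Field F] [Fintype F] (m : ℕ) :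
    Nat.card {n : Mx F m // SU n} = Fintype.card F ^ (m * (m - 1) / 2) := by
  classical
  let e : {n : Mx F m // SU n} ≃ ({p : Fin m × Fin m // p.1 < p.2} → F) :=
    { toFun := fun n p => n.1 p.1.1 p.1.2
      invFun := fun f => ⟨of fun i j => if h : i < j then f ⟨(i, j), h⟩ else 0,
        fun i j h => by simp [not_lt.2 h]⟩
      left_inv := fun n => Subtype.ext (by
        ext i j
        by_cases h : i < j
        · simp [h]
        · simp [h, n.2 i j (not_lt.1 h)])
      right_inv := fun f => funext fun p => by simp [p.2] }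
  rw [Nat.card_congr e, Nat.card_eq_fintype_card, Fintype.card_fun, Fintype.card_subtype,
    Fintype.card_product_filter_lt, Fintype.card_fin, Nat.choose_two_right]

theorem i2_card {s : Set G} (M : Mod G F m) {p : Mx F m → Prop} (hp : ∀ n, p n → SU n)
    (hs : ∀ g, g ∈ s ↔ ∃ n, p n ∧ M.ι n = g) : Nat.card s = Nat.card {n // p n} :=
  (Nat.card_congr (Equiv.ofBijective (fun n : {n // p n} => (⟨M.ι n.1, (hs _).2 ⟨n.1, n.2, rfl⟩⟩ : s))
    ⟨fun a b h => Subtype.ext (M.inj (hp _ a.2) (hp _ b.2) (congrArg Subtype.val h)),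
      fun g => let ⟨n, hn, e⟩ := (hs g.1).1 g.2; ⟨⟨n, hn⟩, Subtype.ext e⟩⟩)).symm

theorem card_S (M : Mod G F m) : Nat.card M.S = Fintype.card F ^ (m * (m - 1) / 2) :=
  (i2_card (s := M.S) M (fun _ h => h) M.mem).trans (i2_card_SU F m)

theorem i2_single {i j : Fin m} (h : i < j) (c : F) : SU (single i j c : Mx F m) := fun a b e => by
  rw [single_apply, if_neg]
  rintro ⟨rfl, rfl⟩
  exact absurd h (not_lt.2 e)

theorem i2_comm (M : Mod G F m) {a b : Mx F m} (ha : SU a) (hb : SU b) :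
    M.ι a * M.ι b = M.ι b * M.ι a ↔ a * b = b * a := by
  rw [← M.mul ha hb, ← M.mul hb ha]
  exact ⟨fun h => by simpa [add_comm a b] using M.inj (ha.circ hb) (hb.circ ha) h,
    fun h => by rw [h, add_comm a b]⟩

theorem i2_cen (M : Mod G F m) {n : Mx F m} (hn : SU n) :
    M.ι n ∈ C[M.S] ↔ ∀ a, SU a → a * n = n * a :=
  ⟨fun h a ha => (i2_comm M ha hn).1 (mem_centralizer_iff.1 h _ ((M.mem _).2 ⟨a, ha, rfl⟩)),
    fun h => mem_centralizer_iff.2 fun g hg => by
      obtain ⟨a, ha, rfl⟩ := (M.mem g).1 hg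
      exact (i2_comm M ha hn).2 (h a ha)⟩

theorem i2_left {a : Mx F (k + 2)} (ha : SU a) (c : F) : a * single 0 (Fin.last _) c = 0 := by
  ext i j
  by_cases h : j = Fin.last _
  · rw [h, mul_single_apply_same, ha i 0 (Fin.zero_le _), zero_mul, Matrix.zero_apply]
  · rw [mul_single_apply_of_ne _ _ _ _ _ h, Matrix.zero_apply]

theorem i2_right {a : Mx F (k + 2)} (ha : SU a) (c : F) : single 0 (Fin.last _) c * a = 0 := by
  ext i j
  by_cases h : i = 0
  · rw [h, single_mul_apply_same, ha _ j (Fin.le_last _), mul_zero, Matrix.zero_apply]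
  · rw [single_mul_apply_of_ne _ _ _ _ _ h, Matrix.zero_apply]

theorem i2_corner (c : F) : SU (single 0 (Fin.last _) c : Mx F (k + 2)) :=
  i2_single Fin.last_pos c

theorem i2_mem_Z (M : Mod G F (k + 2)) (g : G) :
    g ∈ M.S ⊓ C[M.S] ↔ ∃ c : F, M.ι (single 0 (Fin.last _) c) = g := by
  refine ⟨fun ⟨h1, h2⟩ => ?_, ?_⟩
  · obtain ⟨n, hn, rfl⟩ := (M.mem g).1 h1
    have h := (i2_cen M hn).1 h2
    refine ⟨n 0 (Fin.last _), congrArg _ ?_⟩
    ext a b
    rw [single_apply]
    split_ifs with e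
    · rw [e.1, e.2]
    rcases le_or_gt b a with e1 | e1
    · exact (hn a b e1).symm
    by_cases e2 : b = Fin.last _
    · have e3 : a ≠ 0 := fun e3 => e ⟨e3.symm, e2.symm⟩
      have := congrFun₂ (h _ (i2_single (Fin.pos_iff_ne_zero.2 e3) 1)) 0 b
      rw [single_mul_apply_same, mul_single_apply_of_ne _ _ _ _ _ e1.ne', one_mul] at this
      exact this.symm
    · have := congrFun₂ (h _ (i2_single (Fin.lt_last_iff_ne_last.2 e2) 1)) a (Fin.last _)
      rw [mul_single_apply_same, single_mul_apply_of_ne _ _ _ _ _ e1.ne, mul_one] at this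
      exact this
  · rintro ⟨c, rfl⟩
    exact ⟨(M.mem _).2 ⟨_, i2_corner c, rfl⟩, (i2_cen M (i2_corner c)).2 fun a ha => by
      rw [i2_left ha, i2_right ha]⟩

theorem card_ZS (M : Mod G F m) (hm : 2 ≤ m) : Nat.card ↥(M.S ⊓ C[M.S]) = Fintype.card F := by
  obtain ⟨k, rfl⟩ := Nat.exists_eq_add_of_le' hm
  rw [← Nat.card_eq_fintype_card]
  refine (Nat.card_congr (Equiv.ofBijective (fun c : F => (⟨_, (i2_mem_Z M _).2 ⟨c, rfl⟩⟩ :
    ↥(M.S ⊓ C[M.S]))) ⟨fun a b h => ?_, fun g => ?_⟩)).symm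
  · simpa using congrFun₂ (M.inj (i2_corner a) (i2_corner b) (congrArg Subtype.val h)) 0 (Fin.last _)
  · obtain ⟨c, e⟩ := (i2_mem_Z M g.1).1 g.2
    exact ⟨c, Subtype.ext e⟩

theorem charP (M : Mod G F m) (hm : 2 ≤ m) : CharP F 2 := by
  obtain ⟨k, rfl⟩ := Nat.exists_eq_add_of_le' hm
  have h : ∀ j : ℕ, M.ι (single 0 (Fin.last _) 1) ^ j = M.ι (single 0 (Fin.last _) (j : F)) := by
    intro j
    induction j with
    | zero => simp [M.ι_zero]
    | succ j ih =>
      rw [pow_succ, ih, ← M.mul (i2_corner _) (i2_corner _), i2_left (i2_corner _), add_zero,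
        ← single_add, Nat.cast_succ]
  obtain ⟨j, hj⟩ := M.syl.pi.isPGroup Nat.prime_two ⟨_, (M.mem _).2 ⟨_, i2_corner 1, rfl⟩⟩
  have h1 := congrArg Subtype.val hj
  rw [SubgroupClass.coe_pow, h, OneMemClass.coe_one, ← M.ι_zero] at h1
  have h2 := congrFun₂ (M.inj (i2_corner _) SU.zero h1) 0 (Fin.last _)
  simp only [single_apply_same, Matrix.zero_apply, Nat.cast_pow, Nat.cast_ofNat] at h2
  exact (CharP.charP_iff_prime_eq_zero Nat.prime_two).2 (by exact_mod_cast pow_eq_zero_iff'.1 h2 |>.1)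

theorem exists_nc (M : Mod G F m) (hm : 3 ≤ m) : ∃ t ∈ M.S, t * t = 1 ∧ t ∉ C[M.S] := by
  have := charP M (by omega)
  obtain ⟨k, rfl⟩ := Nat.exists_eq_add_of_le' hm
  have h01 : (0 : Fin (k + 3)) < 1 := Fin.zero_lt_one
  have h12 : (1 : Fin (k + 3)) < Fin.last _ := by simp [Fin.lt_def]
  refine ⟨_, (M.mem _).2 ⟨_, i2_single h01 1, rfl⟩, ?_, fun h => ?_⟩
  · rw [← M.mul (i2_single h01 1) (i2_single h01 1), ← single_add, CharTwo.add_self_eq_zero,
      single_mul_single_of_ne _ _ _ _ h01.ne', single_zero, add_zero, M.ι_zero]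
  · have := congrFun₂ ((i2_cen M (i2_single h01 1)).1 h _ (i2_single h12 1)) 0 (Fin.last _)
    rw [single_mul_apply_of_ne _ _ _ _ _ h01.ne, single_mul_single_same, single_apply_same] at this
    simp at this

theorem i2_commutator (M : Mod G F (k + 2)) {a b : Mx F (k + 2)} (ha : SU a) (hb : SU b) {c : F}
    (h : a * b = single 0 (Fin.last _) c + b * a) :
    ⁅M.ι a, M.ι b⁆ = M.ι (single 0 (Fin.last _) c) := by
  rw [commutatorElement_def, mul_assoc, ← _root_.mul_inv_rev, mul_inv_eq_iff_eq_mul,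
    ← M.mul ha hb, ← M.mul hb ha, ← M.mul (i2_corner c) (hb.circ ha), i2_right (hb.circ ha), h]
  congr 1
  abel

theorem cl2_three (M : Mod G F 3) : ⁅M.S, M.S⁆ = M.S ⊓ C[M.S] := by
  refine le_antisymm (commutator_le.2 fun x hx y hy => ?_) fun g hg => ?_
  · obtain ⟨a, ha, rfl⟩ := (M.mem x).1 hx
    obtain ⟨b, hb, rfl⟩ := (M.mem y).1 hy
    refine (i2_mem_Z (k := 1) M _).2 ⟨a 0 1 * b 1 2 - b 0 1 * a 1 2,
      (i2_commutator (k := 1) M ha hb ?_).symm⟩
    ext i j
    fin_cases i <;> fin_cases j <;>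
      simp [mul_apply, Fin.sum_univ_three, ha 0 0, ha 1 0, ha 2 0, ha 1 1, ha 2 1, ha 2 2, hb 0 0,
        hb 1 0, hb 2 0, hb 1 1, hb 2 1, hb 2 2, single_apply, Fin.last]
  · obtain ⟨c, rfl⟩ := (i2_mem_Z (k := 1) M g).1 hg
    have h1 : SU (single 0 1 c : Mx F 3) := i2_single (by decide) c
    have h2 : SU (single 1 2 1 : Mx F 3) := i2_single (by decide) 1
    rw [← i2_commutator (k := 1) M h1 h2 (by
      rw [single_mul_single_same, single_mul_single_of_ne _ _ _ _ (by decide), mul_one, add_zero]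
      rfl)]
    exact commutator_mem_commutator ((M.mem _).2 ⟨_, h1, rfl⟩) ((M.mem _).2 ⟨_, h2, rfl⟩)

end H24.LE
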