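import Mathlib
import Cfsg.Agent.H24.LEI2
import Cfsg.Agent.H7.SL

/-!
# The unitriangular model in the linear group, and its transport
-/

set_option autoImplicit false
set_option linter.unusedVariables false
set_option linter.unusedSectionVars false
namespace H24.LE
open Cfsg H24 H26 H26.Gold H26.LM Subgroup Matrix
open scoped commutatorElement
universe u v w
variable {G : Type u} [Group G] [Finite G] {F : Type v} [Field F] [Fintype F] {m k : ℕ}

theorem i1_det {n : Mx F m} (hn : SU n) : (1 + n).det = 1 := by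
  rw [det_of_isUpperTriangular (fun i j h => by
    have h' : j < i := h
    rw [Matrix.add_apply, one_apply_ne h'.ne', hn i j h'.le, add_zero])]
  exact Finset.prod_eq_one fun i _ => by rw [Matrix.add_apply, one_apply_eq, hn i i le_rfl, add_zero]

theorem i1_prod {q : ℕ} (hq : Even q) (m : ℕ) :
    ∃ r, Odd r ∧ ∏ i : Fin m, (q ^ m - q ^ (i : ℕ)) = q ^ (m * (m - 1) / 2) * (r : ℕ) ∨ q = 0 := by
  rcases Nat.eq_zero_or_pos q with rfl | h0
  · exact ⟨1, .inr rfl⟩
  refine ⟨∏ i : Fin m, (q ^ (m - i) - 1), .inl ⟨?_, ?_⟩⟩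
  · refine Finset.prod_induction _ Odd (fun _ _ => Odd.mul) odd_one fun i _ => ?_
    exact Nat.Even.sub_odd (Nat.one_le_pow _ _ h0) (hq.pow_of_ne_zero (by have := i.2; omega))
      odd_one
  · rw [← Finset.sum_range_id, ← Fin.sum_univ_eq_sum_range (fun i => i), ← Finset.prod_pow_eq_pow_sum,
      ← Finset.prod_mul_distrib]
    refine Finset.prod_congr rfl fun i _ => ?_
    rw [Nat.mul_sub, mul_one, ← pow_add, Nat.add_sub_cancel' i.2.le]

/-- the matrix `1 + n` -/
def i1_sl {n : Mx F m} (h : SU n) : Matrix.SpecialLinearGroup (Fin m) F := ⟨1 + n, i1_det h⟩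

open Classical in
/-- the class of `1 + n` -/
noncomputable def i1_ι (n : Mx F m) : Matrix.ProjectiveSpecialLinearGroup (Fin m) F :=
  if h : SU n then QuotientGroup.mk (i1_sl h) else 1

theorem i1_ι_eq {n : Mx F m} (h : SU n) : i1_ι n = QuotientGroup.mk (i1_sl h) := dif_pos h

theorem i1_mul {a b : Mx F m} (ha : SU a) (hb : SU b) : i1_ι (a + b + a * b) = i1_ι a * i1_ι b := by
  rw [i1_ι_eq ha, i1_ι_eq hb, i1_ι_eq (ha.circ hb), ← QuotientGroup.mk_mul]
  congr 1
  refine Subtype.ext ?_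
  change 1 + (a + b + a * b) = (1 + a) * (1 + b)
  noncomm_ring

theorem i1_inj {a b : Mx F m} (ha : SU a) (hb : SU b) (h : i1_ι a = i1_ι b) : a = b := by
  rw [i1_ι_eq ha, i1_ι_eq hb, QuotientGroup.eq, Matrix.SpecialLinearGroup.mem_center_iff] at h
  obtain ⟨r, -, h⟩ := h
  have h1 : (1 + a) * scalar (Fin m) r = 1 + b := by
    rw [h]
    exact congrArg Subtype.val (mul_inv_cancel_left (i1_sl ha) (i1_sl hb))
  ext i j
  have h2 := congrFun₂ h1 j j
  have h3 := congrFun₂ h1 i j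
  simp only [scalar_apply, mul_diagonal, Matrix.add_apply, one_apply_eq, ha j j le_rfl,
    hb j j le_rfl, add_zero, one_mul] at h2 h3
  rwa [h2, mul_one, add_right_inj] at h3

/-- iota n = class of 1 + n (SU n => det 1; put 1 otherwise); Sylow by the order formula of PSL -/
theorem mod_psl (F : Type v) [Field F] [Fintype F] [CharP F 2] (m : ℕ) :
    Nonempty (Mod (Matrix.ProjectiveSpecialLinearGroup (Fin m) F) F m) := by
  let S : Subgroup (Matrix.ProjectiveSpecialLinearGroup (Fin m) F) :=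
    subOfMul {g | ∃ n, SU n ∧ i1_ι n = g} ⟨0, SU.zero, by
      simpa using i1_mul (F := F) (m := m) SU.zero SU.zero⟩ (by
      rintro _ ⟨a, ha, rfl⟩ _ ⟨b, hb, rfl⟩
      exact ⟨_, ha.circ hb, i1_mul ha hb⟩)
  have hc : Nat.card S = Fintype.card F ^ (m * (m - 1) / 2) := by
    rw [← i2_card_SU]
    exact (Nat.card_congr (Equiv.ofBijective (fun n : {n : Mx F m // SU n} =>
      (⟨i1_ι n.1, n.1, n.2, rfl⟩ : S))
      ⟨fun a b h => Subtype.ext (i1_inj a.2 b.2 (congrArg Subtype.val h)),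
        fun ⟨g, n, hn, e⟩ => ⟨⟨n, hn⟩, Subtype.ext e⟩⟩)).symm
  obtain ⟨j, -, hj⟩ := FiniteField.card F 2
  refine ⟨⟨i1_ι, S, i1_mul, i1_inj, fun _ => Iff.rfl, Syl.mk' Nat.prime_two le_top
    (isPi_of_isPGroup Nat.prime_two (IsPGroup.of_card (by rw [hc, hj, ← pow_mul]))) ?_⟩⟩
  rw [relIndex_top_right]
  rcases Nat.eq_zero_or_pos m with rfl | hm
  · have : Subsingleton (Matrix.ProjectiveSpecialLinearGroup (Fin 0) F) :=
      (QuotientGroup.mk_surjective).subsingleton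
    rw [Subsingleton.elim S ⊤, index_top]
    decide
  obtain ⟨r, ⟨hr, h⟩ | h⟩ := i1_prod (q := Fintype.card F)
    (by rw [hj]; exact (Nat.even_pow' j.2.ne').2 even_two) m
  · rw [← H7.card_psl rfl m hm, ← S.index_mul_card, hc, ← mul_assoc, ← mul_assoc, mul_comm,
      Nat.mul_right_inj (pow_ne_zero _ Fintype.card_ne_zero)] at h
    exact fun h2 => (Nat.not_even_iff_odd.2 hr) (even_iff_two_dvd.2 (h ▸ h2.mul_left _))
  · exact absurd h Fintype.card_ne_zero

theorem mod_of_equiv {G' : Type w} [Group G'] [Finite G'] (M : Mod G' F m) {S : Subgroup G}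
    (hS : Syl 2 ⊤ S) {P : Subgroup G'} (hP : Syl 2 ⊤ P) (e : S ≃* P) : ∃ M' : Mod G F m, M'.S = S := by
  classical
  obtain ⟨g, -, rfl⟩ := Sylow_trans Nat.prime_two M.syl hP
  let f : S ≃* M.S := e.trans (cjEquiv g M.S).symm
  let ι : Mx F m → G := fun n => if h : SU n then f.symm ⟨M.ι n, (M.mem _).2 ⟨n, h, rfl⟩⟩ else 1
  have hι : ∀ {n} (h : SU n), ι n = f.symm ⟨M.ι n, (M.mem _).2 ⟨n, h, rfl⟩⟩ := fun h => dif_pos h
  refine ⟨⟨ι, S, fun {a b} ha hb => ?_, fun {a b} ha hb h => ?_, fun x => ⟨fun hx => ?_, ?_⟩, hS⟩, rfl⟩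
  · rw [hι ha, hι hb, hι (ha.circ hb), ← coe_mul, ← map_mul]
    exact congrArg (fun y => (f.symm y : G)) (Subtype.ext (M.mul ha hb))
  · rw [hι ha, hι hb] at h
    exact M.inj ha hb (congrArg Subtype.val (f.symm.injective (Subtype.ext h)))
  · obtain ⟨n, hn, h⟩ := (M.mem _).1 (f ⟨x, hx⟩).2
    refine ⟨n, hn, ?_⟩
    rw [hι hn, show (⟨M.ι n, (M.mem _).2 ⟨n, hn, rfl⟩⟩ : M.S) = f ⟨x, hx⟩ from Subtype.ext h,
      f.symm_apply_apply]
  · rintro ⟨n, hn, rfl⟩
    rw [hι hn]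
    exact (f.symm _).2

end H24.LE
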