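import Mathlib
import Cfsg.Agent.H26.LM0
import Cfsg.Agent.H2.CT3
import Cfsg.Agent.H24.LEI1
import Cfsg.Agent.H24.LEI2
import Cfsg.Agent.H12.TID
import Cfsg.Agent.S0330
import Cfsg.Agent.S1141
import Cfsg.Agent.H9.M24
import Cfsg.Agent.H8.SuzWrap
import Cfsg.Agent.H7.SmallTools
set_option autoImplicit false
set_option linter.unusedVariables false
set_option linter.unusedSectionVars false
namespace H24.LE
open Cfsg H24 H26 H26.Gold H26.LM Subgroup Matrix
open scoped commutatorElement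
universe u v w
variable {G : Type u} [Group G] [Finite G] {F : Type v} [Field F] [Fintype F] {m k : ℕ}

theorem I3_equiv {X : Type w} [Group X] [Finite X] {S : Subgroup G} (hS : Syl 2 ⊤ S) (e : G ≃* X)
    (P : Sylow 2 X) : Nonempty (S ≃* (P : Subgroup X)) := by
  haveI : Fact (Nat.Prime 2) := ⟨Nat.prime_two⟩
  obtain ⟨S0, rfl⟩ := hS.exists_sylow_top Nat.prime_two
  exact ⟨((S0 : Subgroup G).equivMapOfInjective e.toMonoidHom e.injective).trans
    ((S0.mapSurjective (f := e.toMonoidHom) e.surjective).equiv P)⟩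

theorem I3_cards {X : Type w} [Group X] (M : Mod G F m) (hm : 2 ≤ m) (e : M.S ≃* X) :
    Nat.card X = Fintype.card F ^ (m * (m - 1) / 2) ∧ Nat.card (center X) = Fintype.card F := by
  refine ⟨by rw [← card_S M, Nat.card_congr e.toEquiv], ?_⟩
  rw [← card_ZS M hm, inf_comm, ← card_subgroupOf, ← Nat.card_congr (Subgroup.centerCongr e).toEquiv]
  congr 2
  ext x
  rw [mem_subgroupOf, mem_C, mem_center_iff]
  exact ⟨fun h y hy => congrArg Subtype.val (h ⟨y, hy⟩), fun h y => Subtype.ext (h y y.2)⟩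

theorem I3_tri {m n : ℕ} (hm : 2 ≤ m) (hn : 2 ≤ n) (h : m * (m - 1) / 2 = n * (n - 1) / 2) :
    m = n := by
  have key : ∀ a b : ℕ, 2 ≤ a → a < b → a * (a - 1) / 2 < b * (b - 1) / 2 := fun a b ha hab => by
    obtain ⟨a, rfl⟩ := Nat.exists_eq_add_of_le' (show 1 ≤ a by omega)
    obtain ⟨b, rfl⟩ := Nat.exists_eq_add_of_le' (show 1 ≤ b by omega)
    have : (a + 1) * a + 2 ≤ (b + 1) * b := by nlinarith
    simp only [Nat.add_sub_cancel]
    omega
  rcases lt_trichotomy m n with h1 | h1 | h1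
  · exact absurd h (key m n hm h1).ne
  · exact h1
  · exact absurd h.symm (key n m hn h1).ne

/-- Sylows conjugate => same card_S, card_ZS => |F'| = |F|, n = m; FiniteField.ringEquivOfCardEq -/
theorem ident (M : Mod G F m) (hm : 2 ≤ m) {F' : Type w} [Field F'] [Fintype F'] [CharP F' 2] {n : ℕ}
    (hn : 2 ≤ n) (e : G ≃* Matrix.ProjectiveSpecialLinearGroup (Fin n) F') :
    Nonempty (G ≃* Matrix.ProjectiveSpecialLinearGroup (Fin m) F) := by
  haveI : Finite (Matrix.ProjectiveSpecialLinearGroup (Fin n) F') := Finite.of_equiv _ e.toEquiv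
  obtain ⟨M'⟩ := mod_psl F' n
  obtain ⟨P, hP⟩ := M'.syl.exists_sylow_top Nat.prime_two
  obtain ⟨f⟩ := I3_equiv M.syl e P
  rw [hP] at f
  obtain ⟨h1, h2⟩ := I3_cards M hm f
  obtain ⟨h3, h4⟩ := I3_cards M' hn (MulEquiv.refl _)
  have hF : Fintype.card F' = Fintype.card F := h4.symm.trans h2
  rw [h1, hF] at h3
  obtain rfl := I3_tri hm hn (Nat.pow_right_injective Fintype.one_lt_card h3)
  exact ⟨e.trans (H7.pslCongr (FiniteField.ringEquivOfCardEq hF))⟩

/-- Sz: |S| = |Z|^2 (S0330 via T.lieEquiv as in H8.Suz.isSuzuki_of_iso); U3: |S| = |Z|^3 (S1141);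
A6..A9, M22..M24: 4^6 = 4096 divides |S| but not |G| -/
theorem of_concl (M : Mod G F (k + 4)) (hq : 4 ≤ Fintype.card F) (h : H12.TI.Concl G) :
    Nonempty (G ≃* Matrix.ProjectiveSpecialLinearGroup (Fin (k + 4)) F) := by
  haveI : Fact (Nat.Prime 2) := ⟨Nat.prime_two⟩
  have h6 : 6 ≤ (k + 4) * (k + 4 - 1) / 2 := by
    have : 12 ≤ (k + 4) * (k + 4 - 1) := by
      rw [show k + 4 - 1 = k + 3 by omega]; nlinarith
    omega
  have small : ∀ {X : Type} [Group X] (j : ℕ), j < 6 → (M.S ≃* X) →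
      Nat.card X = Nat.card (center X) ^ j → False := fun j hj f hc => by
    obtain ⟨h1, h2⟩ := I3_cards M (by omega) f
    rw [h1, h2] at hc
    have := Nat.pow_right_injective Fintype.one_lt_card hc
    omega
  have dv : 4096 ∣ Nat.card G := by
    haveI := charP M (by omega)
    obtain ⟨j, -, hj⟩ := FiniteField.card F 2
    have h2 : 2 ≤ (j : ℕ) := by
      by_contra hlt
      have : (j : ℕ) = 1 := by have := j.pos; omega
      rw [this] at hj; omega
    refine Dvd.dvd.trans ?_ (card_subgroup_dvd_card M.S)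
    rw [card_S, hj, ← pow_mul, show 4096 = 2 ^ (2 * 6) by norm_num]
    exact pow_dvd_pow 2 (Nat.mul_le_mul h2 h6)
  rcases h with ⟨F', _, _, n, hc, hn, ⟨e⟩⟩ | ⟨F', _, _, n, hn, hF, ⟨e⟩⟩ | ⟨F', _, _, n, hn, hF, ⟨e⟩⟩ |
    ⟨n, h1, h2, ⟨e⟩⟩ | ⟨⟨e⟩⟩ | ⟨⟨e⟩⟩ | ⟨⟨e⟩⟩
  · haveI : CharP F' 2 := hc ▸ ringChar.charP F'
    exact ident M (by omega) hn e
  · obtain ⟨T⟩ := H8.Sz.nonempty_ctx hn hF
    have e' := e.trans T.lieEquiv.symm
    haveI : Finite (Cfsg.Sz F' n) := Finite.of_equiv _ e'.toEquiv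
    obtain ⟨P⟩ : Nonempty (Sylow 2 (Cfsg.Sz F' n)) := inferInstance
    obtain ⟨f⟩ := I3_equiv M.syl e' P
    obtain ⟨a1, -, -, a2⟩ := Cfsg.Agent.S0330.result hn hF P
    exact (small 2 (by omega) f (by rw [a1, a2])).elim
  · haveI : Finite (Cfsg.PSU 3 F' (2 ^ n)) := Finite.of_equiv _ e.toEquiv
    obtain ⟨P⟩ : Nonempty (Sylow 2 (Cfsg.PSU 3 F' (2 ^ n))) := inferInstance
    obtain ⟨f⟩ := I3_equiv M.syl e P
    obtain ⟨a1, a2, -⟩ := Cfsg.Agent.S1141.result hn
      (by rw [hF, ← pow_mul, mul_comm, pow_mul]; norm_num) P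
    exact (small 3 (by omega) f (by rw [a1, a2])).elim
  · exfalso
    haveI : Nontrivial (Fin n) := Fin.nontrivial_iff_two_le.2 (by omega)
    rw [Nat.card_congr e.toEquiv, nat_card_alternatingGroup, Nat.card_eq_fintype_card,
      Fintype.card_fin] at dv
    interval_cases n <;> revert dv <;> decide
  · rw [Nat.card_congr e.toEquiv, H9.card_M22] at dv; omega
  · rw [Nat.card_congr e.toEquiv, H9.card_M23] at dv; omega
  · rw [Nat.card_congr e.toEquiv, H9.card_M24] at dv; omega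

end H24.LE
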