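import Mathlib
import Cfsg.Agent.H24.LEI2
import Cfsg.Agent.H2.CMain
import Cfsg.Agent.H2.CEnd
import Cfsg.Agent.H2.CE1

/-!
# The case of dimension three
-/

set_option autoImplicit false
set_option linter.unusedVariables false
set_option linter.unusedSectionVars false
namespace H24.LE
open Cfsg H24 H26 H26.Gold H26.LM Subgroup Matrix
open scoped commutatorElement
universe u v w
variable {G : Type u} [Group G] [Finite G] {F : Type v} [Field F] [Fintype F] {m k : ℕ}

/-- field isomorphisms induce isomorphisms of the projective special linear groups -/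
theorem i4_psl {F' : Type w} [Field F'] [Fintype F'] (h : Fintype.card F' = Fintype.card F) (n : ℕ) :
    Nonempty (Matrix.ProjectiveSpecialLinearGroup (Fin n) F' ≃*
      Matrix.ProjectiveSpecialLinearGroup (Fin n) F) := by
  let f := FiniteField.ringEquivOfCardEq h
  let e : Matrix.SpecialLinearGroup (Fin n) F' ≃* Matrix.SpecialLinearGroup (Fin n) F :=
    MonoidHom.toMulEquiv (Matrix.SpecialLinearGroup.map (f : F' →+* F))
      (Matrix.SpecialLinearGroup.map (f.symm : F →+* F'))
      (MonoidHom.ext fun x => Subtype.ext (Matrix.ext fun i j => by simp))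
      (MonoidHom.ext fun x => Subtype.ext (Matrix.ext fun i j => by simp))
  refine ⟨QuotientGroup.congr _ _ e (le_antisymm ?_ fun x hx => ⟨e.symm x, ?_, by simp⟩)⟩
  · rintro _ ⟨x, hx, rfl⟩
    refine Subgroup.mem_center_iff.2 fun y => ?_
    obtain ⟨y, rfl⟩ := e.surjective y
    simpa using congrArg e (Subgroup.mem_center_iff.1 hx y)
  · refine Subgroup.mem_center_iff.2 fun y => e.injective ?_
    simpa using Subgroup.mem_center_iff.1 hx (e y)

theorem three [IsSimpleGroup G] (M : Mod G F 3) (hq : 4 ≤ Fintype.card F) :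
    Nonempty (G ≃* Matrix.ProjectiveSpecialLinearGroup (Fin 3) F) := by
  obtain ⟨t, ht, t2, hn⟩ := exists_nc M le_rfl
  rcases H2.C2.main (H2.C2.scl_syl M.syl) ((cl2_three M).le.trans inf_le_right)
    (fun h => hn (mem_centralizer_iff.2 fun y hy =>
      congrArg Subtype.val (h.1.1 (⟨y, hy⟩ : M.S) ⟨t, ht⟩))) with ⟨N, hN⟩ | ⟨W, X, R, R', q, ha, e⟩
  · exact absurd (H2.C2.se_central hN M.syl.pi ht t2) hn
  have h1 := card_S M
  have h2 := card_ZS M (by decide)
  rw [e, ha.h.cardE] at h1
  rw [e, ha.h.center, ha.h.cardY] at h2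
  have h3 : q = Fintype.card F := by
    have : q ^ 2 * Fintype.card F = Fintype.card F ^ 2 * Fintype.card F := by
      calc _ = q ^ 3 * Nat.card R := by rw [← h2]; ring
        _ = _ := by rw [h1]; ring
    exact Nat.pow_left_injective two_ne_zero (Nat.eq_of_mul_eq_mul_right (by omega) this)
  have h4 : R = ⊥ := by
    rw [← h3] at h2
    exact card_eq_one.1 ((Nat.mul_eq_left (by omega)).1 h2)
  obtain ⟨F', _, _, hF, -, ⟨e1⟩⟩ := (ha.geo (h3 ▸ hq)).end3 (ha.Rt_eq.trans h4)
  obtain ⟨e2⟩ := i4_psl (hF.trans h3) 3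
  exact ⟨e1.trans e2⟩

end H24.LE
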