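import Mathlib
import Cfsg.Agent.H24.S14Defs
import Cfsg.Agent.H24.S09
import Cfsg.Agent.H25.S13
import Cfsg.Agent.H11.S14a
import Cfsg.Agent.H11.S14b
import Cfsg.Agent.H11.S14c
import Cfsg.Agent.H11.S14d

/-! # Bender–Glauberman §14 (aggregator of `H11.S14a` – `H11.S14d`) -/
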