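import Cfsg.Agent.H3.S15a
import Cfsg.Agent.H3.S15b

/-!
# Bender–Glauberman §15 (aggregator)

The results live in `H3/S15a.lean` and `H3/S15b.lean`, under the names `H24.*`.
-/
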