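import Mathlib
import Cfsg.Agent.H24.S14Defs

/-!
# Vocabulary of B & G, section 16 (= Peterfalvi, section 8): the types of maximal subgroups,
`FTtype`, `M_s`, `A₁(M)`, `A(M)`, `A₀(M)` (MathComp forms)
-/

set_option autoImplicit false

namespace H24

open Cfsg Subgroup H25

universe u

variable {G : Type u} [Group G]

/-- MathComp `is_typeF_inertia`. -/
structure TypeFInertia (M U U₁ : Subgroup G) : Prop where
  nml : U₁ ⊴ U
  abl : Abl U₁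
  cent : ∀ x ∈ fittingHallOf M, x ≠ 1 → U ⊓ C{x} ≤ U₁

/-- MathComp `is_typeF_complement`. -/
structure TypeFCompl (M U U₀ : Subgroup G) : Prop where
  le : U₀ ≤ U
  exp : Monoid.exponent U₀ = Monoid.exponent U
  frob : Frob (fittingHallOf M ⊔ U₀) (fittingHallOf M) U₀

/-- MathComp `of_typeF M U`. -/
structure TypeF (M U : Subgroup G) : Prop where
  ne_bot : fittingHallOf M ≠ ⊥
  compl_ne : U ≠ ⊥
  sd : SD (fittingHallOf M) U M
  inertia : ∃ U₁, TypeFInertia M U U₁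
  compl : ∃ U₀, TypeFCompl M U U₀

/-- MathComp `of_typeI M U` (in case (c) it is `O_{p'}(M_F)` that is cyclic). -/
structure TypeI (M U : Subgroup G) : Prop where
  typeF : TypeF M U
  cases : NormedTI ((fittingHallOf M : Set G) \ {1}) N[fittingHallOf M] ∨
    (Abl (fittingHallOf M) ∧ rank (fittingHallOf M) = 2) ∨
    ((∀ p ∈ primesOf (fittingHallOf M), Monoid.exponent U ∣ p - 1) ∧
      ∃ p ∈ primesOf (fittingHallOf M), Cyc O[{p}ᶜ, fittingHallOf M])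

/-- MathComp `of_typeP M U defW` with `defW : W₁ \x W₂ = W`. -/
structure TypeP (M U W W₁ W₂ : Subgroup G) : Prop where
  dp : DP W₁ W₂ W
  cyc1 : Cyc W₁
  hall1 : IsHall M W₁
  ne1 : W₁ ≠ ⊥
  sdM : SD ⁅M, M⁆ W₁ M
  nilU : Nil U
  normU : W₁ ≤ N[U]
  sdU : SD (fittingHallOf M) U ⁅M, M⁆
  not_cyc : ¬ Cyc (fittingHallOf M)
  der2_le : ⁅⁅M, M⁆, ⁅M, M⁆⁆ ≤ F[M]
  fit_eq : fittingHallOf M ⊔ M ⊓ C[fittingHallOf M] = F[M]
  fit_le : F[M] ≤ ⁅M, M⁆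
  cyc2 : Cyc W₂
  ne2 : W₂ ≠ ⊥
  le2 : W₂ ≤ fittingHallOf M
  le_der2 : W₂ ≤ ⁅⁅M, M⁆, ⁅M, M⁆⁆
  cent : ∀ x ∈ W₁, x ≠ 1 → ⁅M, M⁆ ⊓ C{x} = W₂
  ti : NormedTI (Zhat W₁ W₂) W

/-- MathComp `of_typeII_IV`. -/
structure TypeII_IV (M U W W₁ W₂ : Subgroup G) : Prop where
  typeP : TypeP M U W W₁ W₂
  U_ne : U ≠ ⊥
  prime : (♯W₁).Prime
  tiF : NormedTI ((F[M] : Set G) \ {1}) M

/-- MathComp `of_typeII`. -/
structure TypeII (M U W W₁ W₂ : Subgroup G) : Prop where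
  base : TypeII_IV M U W W₁ W₂
  abl : Abl U
  not_norm : ¬ N[U] ≤ M
  typeF : TypeF ⁅M, M⁆ U
  core_eq : fittingHallOf ⁅M, M⁆ = fittingHallOf M

/-- MathComp `of_typeIII`. -/
structure TypeIII (M U W W₁ W₂ : Subgroup G) : Prop where
  base : TypeII_IV M U W W₁ W₂
  abl : Abl U
  norm : N[U] ≤ M

/-- MathComp `of_typeIV`. -/
structure TypeIV (M U W W₁ W₂ : Subgroup G) : Prop where
  base : TypeII_IV M U W W₁ W₂
  not_abl : ¬ Abl U
  norm : N[U] ≤ M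

/-- MathComp `of_typeV`. -/
structure TypeV (M U W W₁ W₂ : Subgroup G) : Prop where
  typeP : TypeP M U W W₁ W₂
  U_eq : U = ⊥
  cases : NormedTI ((fittingHallOf M : Set G) \ {1}) M ∨
    (∃ p ∈ primesOf (fittingHallOf M), ♯W₁ ∣ p - 1 ∧ Cyc O[{p}ᶜ, fittingHallOf M]) ∨
    ∃ p ∈ primesOf (fittingHallOf M), ♯O[{p}, fittingHallOf M] = p ^ 3 ∧ ♯W₁ ∣ p + 1 ∧
      Cyc O[{p}ᶜ, fittingHallOf M]

open scoped Classical in
/-- MathComp `FTtype M ∈ {1, …, 5}`. -/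
noncomputable def FTtype (M : Subgroup G) : ℕ :=
  if kappa M = ∅ then 1 else if sigmaCore M ≠ ⁅M, M⁆ then 2 else
    if fittingHallOf M = sigmaCore M then 5 else
      if Abl (quo ⁅M, M⁆ (fittingHallOf M)) then 3 else 4

/-- `M_s` (MathComp `FTcore`). -/
noncomputable def FTcore (M : Subgroup G) : Subgroup G :=
  if FTtype M ≤ 2 then fittingHallOf M else ⁅M, M⁆

/-- `M` for type I and `M'` otherwise (MathComp `FTder`). -/
noncomputable def FTder (M : Subgroup G) : Subgroup G := if FTtype M = 1 then M else ⁅M, M⁆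

/-- `A₁(M) = M_s#`. -/
def FTsupp1 (M : Subgroup G) : Set G := (FTcore M : Set G) \ {1}

/-- `A(M)`. -/
def FTsupp (M : Subgroup G) : Set G :=
  {a | a ∈ FTder M ∧ a ≠ 1 ∧ ∃ x ∈ FTcore M, x ≠ 1 ∧ a * x = x * a}

/-- `A₀(M)`. -/
def FTsupp0 (M : Subgroup G) : Set G :=
  FTsupp M ∪
    {x | x ∈ M ∧ ¬ PiElt (primesOf (FTder M)) x ∧ ¬ PiElt (primesOf (FTder M))ᶜ x}

section

variable {M U U₀ U₁ W W₁ W₂ L N : Subgroup G} {a g x : G}

/-! ### `FTtype` and the attached sets -/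

theorem FTtype_cases (M : Subgroup G) :
    FTtype M = 1 ∨ FTtype M = 2 ∨ FTtype M = 3 ∨ FTtype M = 4 ∨ FTtype M = 5 := by
  unfold FTtype
  split_ifs <;> simp

theorem FTtype_pos (M : Subgroup G) : 0 < FTtype M := by
  rcases FTtype_cases M with h | h | h | h | h <;> omega

theorem FTtype_le (M : Subgroup G) : FTtype M ≤ 5 := by
  rcases FTtype_cases M with h | h | h | h | h <;> omega

theorem FTtype_eq_one : FTtype M = 1 ↔ kappa M = ∅ := by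
  unfold FTtype
  split_ifs <;> simp [*]

theorem FTtype_eq_two : FTtype M = 2 ↔ kappa M ≠ ∅ ∧ sigmaCore M ≠ ⁅M, M⁆ := by
  unfold FTtype
  split_ifs with h1 h2 <;> simp_all

theorem FTtype_gt_two : 2 < FTtype M ↔ kappa M ≠ ∅ ∧ sigmaCore M = ⁅M, M⁆ := by
  unfold FTtype
  split_ifs with h1 h2 <;> simp_all

theorem FTtype_eq_five :
    FTtype M = 5 ↔ kappa M ≠ ∅ ∧ sigmaCore M = ⁅M, M⁆ ∧ fittingHallOf M = sigmaCore M := by
  unfold FTtype
  split_ifs with h1 h2 h3 <;> simp_all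

theorem FTtype_eq_three : FTtype M = 3 ↔ kappa M ≠ ∅ ∧ sigmaCore M = ⁅M, M⁆ ∧
    fittingHallOf M ≠ sigmaCore M ∧ Abl (quo ⁅M, M⁆ (fittingHallOf M)) := by
  unfold FTtype
  split_ifs with h1 h2 h3 h4
  · simp [h1]
  · simp [h2]
  · simp [h3]
  · exact ⟨fun _ => ⟨h1, not_not.1 h2, h3, h4⟩, fun _ => rfl⟩
  · simp [h4]

theorem FTtype_eq_four : FTtype M = 4 ↔ kappa M ≠ ∅ ∧ sigmaCore M = ⁅M, M⁆ ∧
    fittingHallOf M ≠ sigmaCore M ∧ ¬ Abl (quo ⁅M, M⁆ (fittingHallOf M)) := by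
  unfold FTtype
  split_ifs with h1 h2 h3 h4
  · simp [h1]
  · simp [h2]
  · simp [h3]
  · simp [h4]
  · exact ⟨fun _ => ⟨h1, not_not.1 h2, h3, h4⟩, fun _ => rfl⟩

theorem FTtype_Fmax (hM : IsCoatom M) : Fmax M ↔ FTtype M = 1 :=
  ⟨fun h => FTtype_eq_one.2 h.kappa, fun h => ⟨hM, FTtype_eq_one.1 h⟩⟩

theorem FTtype_Pmax (hM : IsCoatom M) : Pmax M ↔ FTtype M ≠ 1 :=
  ⟨fun h e => ((FTtype_Fmax hM).2 e).not_pmax h,
    fun h => pmax_of_not_fmax hM fun e => h ((FTtype_Fmax hM).1 e)⟩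

theorem FTcore_of_le (h : FTtype M ≤ 2) : FTcore M = fittingHallOf M := if_pos h

theorem FTcore_type1 (h : FTtype M = 1) : FTcore M = fittingHallOf M := if_pos (by omega)

theorem FTcore_type2 (h : FTtype M = 2) : FTcore M = fittingHallOf M := if_pos (by omega)

theorem FTcore_type_gt2 (h : 2 < FTtype M) : FTcore M = ⁅M, M⁆ := if_neg (by omega)

theorem FTcore_type5 (h : FTtype M = 5) : FTcore M = fittingHallOf M := by
  obtain ⟨-, h2, h3⟩ := FTtype_eq_five.1 h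
  rw [FTcore_type_gt2 (by omega), h3, h2]

theorem FTder_type1 (h : FTtype M = 1) : FTder M = M := if_pos h

theorem FTder_of_ne (h : FTtype M ≠ 1) : FTder M = ⁅M, M⁆ := if_neg h

theorem FTcore_nml (M : Subgroup G) : FTcore M ⊴ M := by
  unfold FTcore
  split_ifs
  exacts [Fcore_nml M, der1_nml M]

theorem FTcore_le (M : Subgroup G) : FTcore M ≤ M := (FTcore_nml M).le

theorem FTder_nml (M : Subgroup G) : FTder M ⊴ M := by
  unfold FTder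
  split_ifs
  exacts [Nml.refl M, der1_nml M]

theorem FTder_le (M : Subgroup G) : FTder M ≤ M := (FTder_nml M).le

theorem der1_le_FTder (M : Subgroup G) : ⁅M, M⁆ ≤ FTder M := by
  unfold FTder
  split_ifs
  exacts [der1_le M, le_rfl]

theorem mem_FTsupp1 : x ∈ FTsupp1 M ↔ x ∈ FTcore M ∧ x ≠ 1 := by simp [FTsupp1]

theorem mem_FTsupp :
    a ∈ FTsupp M ↔ a ∈ FTder M ∧ a ≠ 1 ∧ ∃ x ∈ FTcore M, x ≠ 1 ∧ a * x = x * a := Iff.rfl

theorem mem_FTsupp' : a ∈ FTsupp M ↔ a ∈ FTder M ∧ a ≠ 1 ∧ FTcore M ⊓ C{a} ≠ ⊥ := by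
  rw [mem_FTsupp]
  refine and_congr_right fun _ => and_congr_right fun _ => ⟨?_, fun h => ?_⟩
  · rintro ⟨x, hx, h1, e⟩
    exact ne_bot_of_mem (x := x) ⟨hx, mem_C1.2 e.symm⟩ h1
  · obtain ⟨x, hx, h1⟩ := exists_ne_one h
    exact ⟨x, hx.1, h1, (mem_C1.1 hx.2).symm⟩

theorem mem_FTsupp0 : x ∈ FTsupp0 M ↔ x ∈ FTsupp M ∨
    (x ∈ M ∧ ¬ PiElt (primesOf (FTder M)) x ∧ ¬ PiElt (primesOf (FTder M))ᶜ x) := Iff.rfl

theorem FTsupp_sub0 (M : Subgroup G) : FTsupp M ⊆ FTsupp0 M := Set.subset_union_left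

theorem FTsupp0_mem (h : x ∈ FTsupp0 M) : x ∈ M :=
  h.elim (fun h => FTder_le M h.1) fun h => h.1

theorem FTsupp0_ne_one (h : x ∈ FTsupp0 M) : x ≠ 1 :=
  h.elim (fun h => h.2.1) fun h e => h.2.1 (e ▸ piElt_one _)

theorem FTsupp_mem (h : x ∈ FTsupp M) : x ∈ M := FTder_le M h.1

theorem FTsupp_ne_one (h : x ∈ FTsupp M) : x ≠ 1 := h.2.1

theorem FTsupp1_mem (h : x ∈ FTsupp1 M) : x ∈ M := FTcore_le M h.1

theorem FTsupp1_ne_one (h : x ∈ FTsupp1 M) : x ≠ 1 := h.2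

theorem FTsupp1_sub_of_le (h : FTcore M ≤ FTder M) : FTsupp1 M ⊆ FTsupp M :=
  fun x hx => ⟨h hx.1, hx.2, x, hx.1, hx.2, rfl⟩

theorem FTsupp0_type1 (h : FTtype M = 1) : FTsupp0 M = FTsupp M := by
  refine Set.Subset.antisymm (fun x hx => hx.elim id fun hx => absurd ?_ hx.2.1) (FTsupp_sub0 M)
  rw [FTder_type1 h]
  exact (isPi_primesOf M).piElt hx.1

theorem conj_mem_FTsupp1 (hg : g ∈ M) (hx : x ∈ FTsupp1 M) : g * x * g⁻¹ ∈ FTsupp1 M :=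
  ⟨(FTcore_nml M).conj_mem hg hx.1, fun e => hx.2 (conj_eq_one_iff'.1 e)⟩

theorem conj_mem_FTsupp (hg : g ∈ M) (hx : x ∈ FTsupp M) : g * x * g⁻¹ ∈ FTsupp M := by
  obtain ⟨h1, h2, y, hy, hy1, e⟩ := hx
  refine ⟨(FTder_nml M).conj_mem hg h1, fun e => h2 (conj_eq_one_iff'.1 e), g * y * g⁻¹,
    (FTcore_nml M).conj_mem hg hy, fun e => hy1 (conj_eq_one_iff'.1 e), ?_⟩
  calc g * x * g⁻¹ * (g * y * g⁻¹) = g * (x * y) * g⁻¹ := by group
    _ = g * (y * x) * g⁻¹ := by rw [e]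
    _ = _ := by group

theorem conj_mem_FTsupp0 (hg : g ∈ M) (hx : x ∈ FTsupp0 M) : g * x * g⁻¹ ∈ FTsupp0 M :=
  hx.elim (fun h => Or.inl (conj_mem_FTsupp hg h)) fun h =>
    Or.inr ⟨(Nml.refl M).conj_mem hg h.1, by rw [piElt_conj]; exact h.2.1,
      by rw [piElt_conj]; exact h.2.2⟩

theorem le_normalizer_of_conj_mem {A : Set G} (h : ∀ g ∈ M, ∀ x ∈ A, g * x * g⁻¹ ∈ A) :
    M ≤ normalizer A := by
  intro g hg
  refine fun x => ⟨h g hg x, fun hx => ?_⟩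
  have := h g⁻¹ (M.inv_mem hg) _ hx
  rwa [show g⁻¹ * (g * x * g⁻¹) * g⁻¹⁻¹ = x by group] at this

theorem norm_FTsupp1 (M : Subgroup G) : M ≤ normalizer (FTsupp1 M) :=
  le_normalizer_of_conj_mem fun _ hg _ hx => conj_mem_FTsupp1 hg hx

theorem norm_FTsupp (M : Subgroup G) : M ≤ normalizer (FTsupp M) :=
  le_normalizer_of_conj_mem fun _ hg _ hx => conj_mem_FTsupp hg hx

theorem norm_FTsupp0 (M : Subgroup G) : M ≤ normalizer (FTsupp0 M) :=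
  le_normalizer_of_conj_mem fun _ hg _ hx => conj_mem_FTsupp0 hg hx

/-! ### the signalizer `Cfsg.supportR` -/

theorem supportR_of_le (h : C{x} ≤ M) : supportR M x = ⊥ := by
  rw [supportR, dif_neg fun h' => h'.1 h]

theorem supportR_of_uniq (h : ¬ C{x} ≤ M) (hN : UniqMax C{x} N) :
    supportR M x = fittingHallOf N ⊓ C{x} := by
  have h1 : ¬ C{x} ≤ M ∧ ∃! L : Subgroup G, IsCoatom L ∧ C{x} ≤ L := ⟨h, hN.isUniq⟩
  rw [supportR, dif_pos h1]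
  have h2 := Classical.choose_spec h1.2.exists
  rw [hN.uniq _ h2.1 h2.2]

theorem supportR_le_C1 (M : Subgroup G) (x : G) : supportR M x ≤ C{x} := by
  unfold supportR
  split_ifs
  exacts [inf_le_right, bot_le]

theorem mem_tildeOf {A : Set G} : g ∈ tildeOf M A ↔
    ∃ a ∈ A, ∃ r ∈ supportR M a, ∃ y : G, g = y * (a * r) * y⁻¹ := Iff.rfl

/-! ### type `P` -/

theorem TypeP.U_le (h : TypeP M U W W₁ W₂) : U ≤ ⁅M, M⁆ := h.sdU.right_le

theorem TypeP.U_leM (h : TypeP M U W W₁ W₂) : U ≤ M := h.U_le.trans (der1_le M)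

theorem TypeP.core_le (h : TypeP M U W W₁ W₂) : fittingHallOf M ≤ ⁅M, M⁆ := h.sdU.left_le

theorem TypeP.le1 (h : TypeP M U W W₁ W₂) : W₁ ≤ M := h.sdM.right_le

theorem TypeP.le2_der (h : TypeP M U W W₁ W₂) : W₂ ≤ ⁅M, M⁆ := h.le2.trans h.core_le

theorem TypeP.le2M (h : TypeP M U W W₁ W₂) : W₂ ≤ M := h.le2_der.trans (der1_le M)

theorem TypeP.W_eq (h : TypeP M U W W₁ W₂) : W = W₁ ⊔ W₂ := h.dp.sup.symm

theorem TypeP.W_le (h : TypeP M U W W₁ W₂) : W ≤ M := h.dp.sup ▸ sup_le h.le1 h.le2M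

theorem TypeP.core_ne_bot (h : TypeP M U W W₁ W₂) : fittingHallOf M ≠ ⊥ :=
  ne_bot_of_le h.ne2 h.le2

theorem TypeP.coprime_der (h : TypeP M U W W₁ W₂) : (♯⁅M, M⁆).Coprime ♯W₁ :=
  h.sdM.coprime_of_isHall_right h.hall1

theorem TypeP.coprime12 (h : TypeP M U W W₁ W₂) : (♯W₁).Coprime ♯W₂ :=
  (h.coprime_der.symm).coprime_dvd_right (card_dvd h.le2_der)

theorem TypeP.semiprime (h : TypeP M U W W₁ W₂) : Semiprime ⁅M, M⁆ W₁ := by
  rw [semiprime_iff]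
  intro x hx h1
  rw [h.cent x hx h1]
  exact h.dp.cent

theorem TypeP.der_inf_C (h : TypeP M U W W₁ W₂) : ⁅M, M⁆ ⊓ C[W₁] = W₂ := by
  obtain ⟨x, hx, h1⟩ := exists_ne_one h.ne1
  rw [← h.semiprime x hx h1, h.cent x hx h1]

theorem TypeP.core_inf_C (h : TypeP M U W W₁ W₂) : fittingHallOf M ⊓ C[W₁] = W₂ :=
  le_antisymm ((inf_le_inf_right _ h.core_le).trans h.der_inf_C.le) (le_inf h.le2 h.dp.cent)

theorem TypeP.core_inf_C1 (h : TypeP M U W W₁ W₂) (hx : x ∈ W₁) (h1 : x ≠ 1) :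
    fittingHallOf M ⊓ C{x} = W₂ :=
  le_antisymm ((inf_le_inf_right _ h.core_le).trans (h.cent x hx h1).le)
    (le_inf h.le2 (h.dp.cent.trans (C_le_C1 hx)))

theorem TypeP.semireg (h : TypeP M U W W₁ W₂) : Semireg U W₁ := by
  intro x hx h1
  refine le_bot_iff.1 ?_
  rw [← h.sdU.inf]
  exact le_inf (((inf_le_inf_right _ h.U_le).trans (h.cent x hx h1).le).trans h.le2) inf_le_left

theorem TypeP.sdUW (h : TypeP M U W W₁ W₂) : SD U W₁ (U ⊔ W₁) :=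
  SD.mk_sup h.normU h.semireg.inf_eq_bot

theorem TypeP.frobU (h : TypeP M U W W₁ W₂) (hU : U ≠ ⊥) : Frob (U ⊔ W₁) U W₁ :=
  Frob.mk' h.normU hU h.ne1 h.semireg

/-- `M = M_F ⋊ (U W₁)`. -/
theorem TypeP.sdF (h : TypeP M U W W₁ W₂) : SD (fittingHallOf M) (U ⊔ W₁) M := by
  refine ⟨(sup_le h.U_leM h.le1).trans (Fcore_nml M).norm, ?_, ?_⟩
  · have e : (U ⊔ W₁) ⊓ ⁅M, M⁆ = U := by
      rw [← group_modl h.normU h.U_le, inf_comm W₁, h.sdM.inf, sup_bot_eq]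
    refine le_bot_iff.1 ?_
    rw [← h.sdU.inf]
    exact le_inf inf_le_left ((le_inf inf_le_right (inf_le_left.trans h.core_le)).trans e.le)
  · rw [← sup_assoc, h.sdU.sup, h.sdM.sup]

theorem TypeP.cent1 (h : TypeP M U W W₁ W₂) (hx : x ∈ W₁) (h1 : x ≠ 1) : M ⊓ C{x} = W := by
  have h2 : W₁ ≤ C{x} := h.cyc1.abl.le_C.trans (C_le_C1 hx)
  rw [← h.sdM.isProd.modr h2, h.cent x hx h1, h.W_eq, sup_comm]

theorem TypeP.der_eq_of_bot (h : TypeP M U W W₁ W₂) (hU : U = ⊥) : fittingHallOf M = ⁅M, M⁆ :=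
  (hU ▸ h.sdU).eq_of_right_bot

theorem TypeP.compl_eq_bot_iff (h : TypeP M U W W₁ W₂) : U = ⊥ ↔ fittingHallOf M = ⁅M, M⁆ :=
  ⟨h.der_eq_of_bot, fun e => by
    rw [← h.sdU.inf, e]; exact (inf_eq_right.2 h.U_le).symm⟩

theorem TypeP.abl_iff (h : TypeP M U W W₁ W₂) :
    Abl (quo ⁅M, M⁆ (fittingHallOf M)) ↔ Abl U := h.sdU.abl_iff

variable [Finite G]

theorem DP.cyc_of_coprime {A B : Subgroup G} (h : DP A B W) (hA : Cyc A) (hB : Cyc B)
    (hc : (♯A).Coprime ♯B) : Cyc W := by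
  obtain ⟨a, ha⟩ := cyc_iff.1 hA
  obtain ⟨b, hb⟩ := cyc_iff.1 hB
  have hab : a * b = b * a :=
    (comm_of_cent h.cent (hb ▸ mem_zpowers b) (ha ▸ mem_zpowers a)).symm
  have hco : (orderOf a).Coprime (orderOf b) := by
    rwa [← card_zpowers', ← card_zpowers', ha, hb]
  refine cyc_iff.2 ⟨a * b, le_antisymm ?_ ?_⟩
  · exact zpowers_le.2 (W.mul_mem (h.left_le (ha ▸ mem_zpowers a)) (h.right_le (hb ▸ mem_zpowers b)))
  · rw [← h.sup, ← ha, ← hb]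
    exact sup_le (zpowers_le.2 (mem_zpowers_mul_left hab hco))
      (zpowers_le.2 (mem_zpowers_mul_right hab hco))

theorem TypeP.cyc (h : TypeP M U W W₁ W₂) : Cyc W := h.dp.cyc_of_coprime h.cyc1 h.cyc2 h.coprime12

theorem TypeF.coprime (h : TypeF M U) : (♯(fittingHallOf M)).Coprime ♯U :=
  h.sd.coprime_of_isHall_left (Fcore_isHall M)

theorem TypeP.coprimeF (h : TypeP M U W W₁ W₂) : (♯(fittingHallOf M)).Coprime ♯(U ⊔ W₁) :=
  h.sdF.coprime_of_isHall_left (Fcore_isHall M)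

theorem TypeP.coprimeU (h : TypeP M U W W₁ W₂) : (♯(fittingHallOf M)).Coprime ♯U :=
  h.coprimeF.coprime_dvd_right (card_dvd le_sup_left)

/-- Peterfalvi (8.5)(a): `F(M) = H C_U(H)`. -/
theorem TypeP.fit_eq' (h : TypeP M U W W₁ W₂) :
    F[M] = fittingHallOf M ⊔ U ⊓ C[fittingHallOf M] := by
  have hF : SD (fittingHallOf M) (U ⊓ F[M]) F[M] := h.sdU.modl (Fcore_le_Fitting M) h.fit_le
  refine le_antisymm ?_ ?_
  · rw [← hF.sup]
    refine sup_le_sup_left (le_inf inf_le_left ?_) _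
    exact (Fitting_nil M).cents_of_coprime inf_le_right (Fcore_le_Fitting M)
      (h.coprimeU.symm.coprime_dvd_left (card_dvd inf_le_left))
  · rw [← h.fit_eq]
    exact sup_le_sup_left (inf_le_inf_right _ h.U_leM) _

/-- Peterfalvi (8.5)(b), first part. -/
theorem TypeP.der_U_cent (h : TypeP M U W W₁ W₂) : ⁅U, U⁆ ≤ C[fittingHallOf M] :=
  (Fitting_nil M).cents_of_coprime ((der1_mono h.U_le).trans h.der2_le) (Fcore_le_Fitting M)
    (h.coprimeU.symm.coprime_dvd_left (card_dvd (der1_le U)))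

/-! ### conjugation -/

theorem FTtype_cj (g : G) (M : Subgroup G) : FTtype (cj g M) = FTtype M := by
  have e : Abl (quo ⁅cj g M, cj g M⁆ (fittingHallOf (cj g M))) ↔
      Abl (quo ⁅M, M⁆ (fittingHallOf M)) := by
    rw [abl_quo ((der1_le _).trans (Fcore_nml _).norm), abl_quo ((der1_le _).trans (Fcore_nml _).norm),
      Fcore_cj, ← cj_comm, ← cj_comm, cj_le_cj]
  have e1 : kappa (cj g M) = ∅ ↔ kappa M = ∅ := by rw [kappa_cj]
  have e2 : sigmaCore (cj g M) ≠ ⁅cj g M, cj g M⁆ ↔ sigmaCore M ≠ ⁅M, M⁆ := by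
    rw [sigmaCore_cj', ← cj_comm, ne_eq, cj_inj]
  have e3 : fittingHallOf (cj g M) = sigmaCore (cj g M) ↔ fittingHallOf M = sigmaCore M := by
    rw [sigmaCore_cj', Fcore_cj, cj_inj]
  unfold FTtype
  classical
  exact if_congr e1 rfl (if_congr e2 rfl (if_congr e3 rfl (if_congr e rfl rfl)))

theorem FTcore_cj (g : G) (M : Subgroup G) : FTcore (cj g M) = cj g (FTcore M) := by
  unfold FTcore
  rw [FTtype_cj]
  split_ifs
  exacts [Fcore_cj g M, (cj_comm g M M).symm]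

theorem FTder_cj (g : G) (M : Subgroup G) : FTder (cj g M) = cj g (FTder M) := by
  unfold FTder
  rw [FTtype_cj]
  split_ifs
  exacts [rfl, (cj_comm g M M).symm]

theorem conj_mem_FTsupp1_cj : g * x * g⁻¹ ∈ FTsupp1 (cj g M) ↔ x ∈ FTsupp1 M := by
  rw [mem_FTsupp1, mem_FTsupp1, FTcore_cj, conj_mem_cj_iff, ne_eq, conj_eq_one_iff']

theorem conj_mem_FTsupp_cj : g * x * g⁻¹ ∈ FTsupp (cj g M) ↔ x ∈ FTsupp M := by
  rw [mem_FTsupp', mem_FTsupp', FTcore_cj, FTder_cj, conj_mem_cj_iff, ne_eq, conj_eq_one_iff',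
    ← cj_C1, ← cj_inf, ne_eq, cj_eq_bot]

theorem conj_mem_FTsupp0_cj : g * x * g⁻¹ ∈ FTsupp0 (cj g M) ↔ x ∈ FTsupp0 M := by
  rw [mem_FTsupp0, mem_FTsupp0, conj_mem_FTsupp_cj, FTder_cj, conj_mem_cj_iff, primesOf_cj,
    piElt_conj, piElt_conj]

theorem supportR_cj (g : G) (M : Subgroup G) (x : G) :
    supportR (cj g M) (g * x * g⁻¹) = cj g (supportR M x) := by
  by_cases h : C{x} ≤ M
  · rw [supportR_of_le h, supportR_of_le (by rw [← cj_C1, cj_le_cj]; exact h), cj_bot]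
  · have h' : ¬ C{g * x * g⁻¹} ≤ cj g M := by rw [← cj_C1, cj_le_cj]; exact h
    by_cases hu : Uniq C{x}
    · obtain ⟨N, hN⟩ := uniq_iff.1 hu
      rw [supportR_of_uniq h hN, supportR_of_uniq h' (cj_C1 g x ▸ hN.cj g), Fcore_cj, cj_inf, cj_C1]
    · have hu' : ¬ Uniq C{g * x * g⁻¹} := by rw [← cj_C1, uniq_cj_iff]; exact hu
      rw [supportR, dif_neg fun e => hu' e.2, supportR, dif_neg fun e => hu e.2, cj_bot]

theorem exponent_cj (g : G) (U : Subgroup G) : Monoid.exponent (cj g U) = Monoid.exponent U :=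
  (Monoid.exponent_eq_of_mulEquiv (cjEquiv g U)).symm

theorem conj_mem_Zhat_cj : g * x * g⁻¹ ∈ Zhat (cj g W₁) (cj g W₂) ↔ x ∈ Zhat W₁ W₂ := by
  rw [mem_Zhat, mem_Zhat, ← cj_sup, conj_mem_cj_iff, conj_mem_cj_iff, conj_mem_cj_iff]

theorem NormedTI.transport {A B : Set G} (h : NormedTI A L)
    (hAB : ∀ x, g * x * g⁻¹ ∈ B ↔ x ∈ A) : NormedTI B (cj g L) := by
  have hB : ∀ y, y ∈ B ↔ g⁻¹ * y * g ∈ A := fun y => by
    rw [← hAB, show g * (g⁻¹ * y * g) * g⁻¹ = y by group]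
  refine ⟨?_, le_normalizer_of_conj_mem fun k hk y hy => ?_, fun y hy k hk => ?_⟩
  · obtain ⟨x, hx⟩ := h.nonempty
    exact ⟨_, (hAB x).2 hx⟩
  · have := h.conj_mem (mem_cj.1 hk) ((hB y).1 hy)
    rw [hB]
    convert this using 1
    group
  · refine mem_cj.2 (h.ti _ ((hB y).1 hy) _ ?_)
    have := (hB _).1 hk
    convert this using 1
    group

theorem NormedTI.cj_sub {H : Subgroup G} (h : NormedTI ((H : Set G) \ {1}) L) (g : G) :
    NormedTI ((cj g H : Set G) \ {1}) (cj g L) :=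
  h.transport fun x => by
    simp only [Set.mem_sdiff, SetLike.mem_coe, Set.mem_singleton_iff, conj_mem_cj_iff,
      conj_eq_one_iff']

theorem NormedTI.cj_Zhat (h : NormedTI (Zhat W₁ W₂) L) (g : G) :
    NormedTI (Zhat (cj g W₁) (cj g W₂)) (cj g L) := h.transport fun _ => conj_mem_Zhat_cj

theorem forall_mem_cj {H : Subgroup G} {P : G → Prop} (h : ∀ x ∈ H, x ≠ 1 → P (g * x * g⁻¹)) :
    ∀ y ∈ cj g H, y ≠ 1 → P y := by
  intro y hy h1
  obtain ⟨x, hx, rfl⟩ := mem_cj'.1 hy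
  exact h x hx fun e => h1 (conj_eq_one_iff'.2 e)

theorem TypeFInertia.cj (h : TypeFInertia M U U₁) (g : G) :
    TypeFInertia (cj g M) (cj g U) (cj g U₁) :=
  ⟨h.nml.cj g, h.abl.cj g, by
    rw [Fcore_cj]
    refine forall_mem_cj fun x hx h1 => ?_
    rw [← cj_C1, ← cj_inf, cj_le_cj]
    exact h.cent x hx h1⟩

theorem TypeFCompl.cj (h : TypeFCompl M U U₀) (g : G) :
    TypeFCompl (cj g M) (cj g U) (cj g U₀) :=
  ⟨cj_mono g h.le, by rw [exponent_cj, exponent_cj, h.exp], by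
    rw [Fcore_cj, ← cj_sup]; exact h.frob.cj g⟩

theorem TypeF.cj (h : TypeF M U) (g : G) : TypeF (cj g M) (cj g U) :=
  ⟨by rw [Fcore_cj, ne_eq, cj_eq_bot]; exact h.ne_bot, by rw [ne_eq, cj_eq_bot]; exact h.compl_ne,
    by rw [Fcore_cj]; exact h.sd.cj g,
    h.inertia.elim fun _ h1 => ⟨_, h1.cj g⟩, h.compl.elim fun _ h1 => ⟨_, h1.cj g⟩⟩

theorem TypeP.cj (h : TypeP M U W W₁ W₂) (g : G) :
    TypeP (cj g M) (cj g U) (cj g W) (cj g W₁) (cj g W₂) where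
  dp := h.dp.cj g
  cyc1 := h.cyc1.cj g
  hall1 := h.hall1.cj g
  ne1 := by rw [ne_eq, cj_eq_bot]; exact h.ne1
  sdM := by rw [← cj_comm]; exact h.sdM.cj g
  nilU := h.nilU.cj g
  normU := norm_cj h.normU g
  sdU := by rw [← cj_comm, Fcore_cj]; exact h.sdU.cj g
  not_cyc := by rw [Fcore_cj, cyc_cj]; exact h.not_cyc
  der2_le := by rw [← cj_comm, ← cj_comm, Fitting_cj, cj_le_cj]; exact h.der2_le
  fit_eq := by rw [Fcore_cj, Fitting_cj, ← cj_C, ← cj_inf, ← cj_sup, h.fit_eq]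
  fit_le := by rw [← cj_comm, Fitting_cj, cj_le_cj]; exact h.fit_le
  cyc2 := h.cyc2.cj g
  ne2 := by rw [ne_eq, cj_eq_bot]; exact h.ne2
  le2 := by rw [Fcore_cj, cj_le_cj]; exact h.le2
  le_der2 := by rw [← cj_comm, ← cj_comm, cj_le_cj]; exact h.le_der2
  cent := forall_mem_cj fun x hx h1 => by rw [← cj_comm, ← cj_C1, ← cj_inf, h.cent x hx h1]
  ti := h.ti.cj_Zhat g

theorem TypeII_IV.cj (h : TypeII_IV M U W W₁ W₂) (g : G) :
    TypeII_IV (cj g M) (cj g U) (cj g W) (cj g W₁) (cj g W₂) :=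
  ⟨h.typeP.cj g, by rw [ne_eq, cj_eq_bot]; exact h.U_ne, by rw [card_cj]; exact h.prime,
    by rw [Fitting_cj]; exact h.tiF.cj_sub g⟩

end

end H24
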