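import Mathlib
import Cfsg.Agent.H24.S15
import Cfsg.Agent.H24.S16Defs
import Cfsg.Agent.H26.Coprime

/-!
# B & G, section 16: the main results (summary theorems A–E, types of maximal subgroups,
Theorems I and II)

Theorem A (1)-(7), B (1), (4), C (2), (4)-(8), D (3), E are literally results of sections
10, 12, 14, 15, so only the new parts are listed.
-/

set_option autoImplicit false
set_option linter.unusedSectionVars false

namespace H24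

open Cfsg Subgroup H25

universe u

variable {G : Type u} [Group G] [Finite G] [FT G]
variable {M Mst L H K U S X W W₁ W₂ : Subgroup G} {x a g : G} {p : ℕ}

/-! ### auxiliary facts -/

omit [Finite G] [FT G] in
theorem NormedTI.classSupp16 {A : Set G} (h : NormedTI A L) (hL : L ≤ M) :
    NormedTI (classSupp A M) M := by
  refine ⟨h.nonempty.mono (subset_classSupp A M), norm_classSupp A M, ?_⟩
  rintro _ ⟨z, hz, m, hm, rfl⟩ g ⟨z', hz', m', hm', e⟩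
  have h1 : m'⁻¹ * g * m ∈ L := h.ti z hz _ (by
    have e2 : m'⁻¹ * g * m * z * (m'⁻¹ * g * m)⁻¹ = m'⁻¹ * (g * (m * z * m⁻¹) * g⁻¹) * m' := by group
    rw [e2, e]
    simpa [mul_assoc] using hz')
  have h2 := M.mul_mem (M.mul_mem hm' (hL h1)) (M.inv_mem hm)
  simpa [mul_assoc] using h2

theorem mem_Msigma16 (hM : IsCoatom M) (hx : x ∈ M) (h : PiElt (sigma M) x) : x ∈ sigmaCore M :=
  (Msigma_Hall hM).mem_of_nml (sigmaCore_norm M) h hx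

theorem TI_Fitting16 (hM : IsCoatom M)
    (h : ¬ ((Fmax M ∨ P1max M) ∧ fittingHallOf M = sigmaCore M)) :
    NormedTI ((F[M] : Set G) \ {1}) M :=
  normedTI_subgroup (Fitting_ne_bot (mmax_sol hM) (mmax_neq1 hM)) (Fitting_nml M).norm
    fun _ hg => by_contra fun hn => h (nonTI_Fitting_structure hM hn hg).1

/-- either `M_F` is a TI-subgroup or `F(M)` is not. -/
theorem TI_Fcore_or16 (hM : IsCoatom M) :
    NormedTI ((fittingHallOf M : Set G) \ {1}) M ∨ ∃ g, g ∉ M ∧ F[M] ⊓ cj g F[M] ≠ ⊥ := by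
  by_cases h : ∀ g, fittingHallOf M ⊓ cj g (fittingHallOf M) ≠ ⊥ → g ∈ M
  · exact Or.inl (normedTI_subgroup (Fcore_chain hM).1 (Fcore_nml M).norm h)
  · push Not at h
    obtain ⟨g, h1, h2⟩ := h
    exact Or.inr ⟨g, h2, ne_bot_of_le h1
      (inf_le_inf (Fcore_le_Fitting M) (cj_mono g (Fcore_le_Fitting M)))⟩

theorem KappaCompl.hall_kappa'16 (h : KappaCompl M U K) (hM : IsCoatom M) :
    Hall (kappa M)ᶜ M (sigmaCore M ⊔ U) :=
  (kappa_structure hM h).2.1.hall_compl_left h.hallK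

theorem KappaCompl.mem_sup16 (h : KappaCompl M U K) (hM : IsCoatom M) (hx : x ∈ M) :
    x ∈ sigmaCore M ⊔ U ↔ PiElt (kappa M)ᶜ x :=
  ⟨(h.hall_kappa'16 hM).pi.piElt,
    fun hp => (h.hall_kappa'16 hM).mem_of_nml (kappa_structure hM h).2.1.nml.norm hp hx⟩

theorem kappa_conj16 (hM : IsCoatom M) (hK : Hall (kappa M) M K) (hx : x ∈ M)
    (h : PiElt (kappa M) x) : ∃ m ∈ M, m * x * m⁻¹ ∈ K := by
  obtain ⟨m, hm, hle⟩ := H26.Hall_Jsub (mmax_sol hM) hK (zpowers_le.2 hx) h.isPi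
  exact ⟨m, hm, hle (conj_mem_cj m (mem_zpowers x))⟩

theorem kappa_class16 (hM : IsCoatom M) (hK : Hall (kappa M) M K) (hx : x ∈ M) :
    (∃ k ∈ K, k ≠ 1 ∧ ∃ m ∈ M, x = m * k * m⁻¹) ↔ x ≠ 1 ∧ PiElt (kappa M) x := by
  constructor
  · rintro ⟨k, hk, hk1, m, -, rfl⟩
    exact ⟨by rwa [Ne, conj_eq_one_iff'], (hK.pi.piElt hk).conj m⟩
  · rintro ⟨h1, h⟩
    obtain ⟨m, hm, hk⟩ := kappa_conj16 hM hK hx h
    exact ⟨_, hk, by rwa [Ne, conj_eq_one_iff'], m⁻¹, M.inv_mem hm, by group⟩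

theorem Ptype_dp16 (hM : Pmax M) (hK : Hall (kappa M) M K) :
    DP K (sigmaCore M ⊓ C[K]) (K ⊔ sigmaCore M ⊓ C[K]) :=
  DP.mk_sup inf_le_right (Ptype_norm hM hK).inf

/-- the class support of `Ẑ` in `M` consists of the mixed elements of `M`. -/
theorem mem_classSupp_Zhat16 (hM : Pmax M) (hK : Hall (kappa M) M K) :
    x ∈ classSupp (Zhat K (sigmaCore M ⊓ C[K])) M ↔
      x ∈ M ∧ ¬ PiElt (kappa M)ᶜ x ∧ ¬ PiElt (kappa M) x := by
  obtain ⟨Mst, hE⟩ := Ptype_embedding hM hK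
  have hdp := Ptype_dp16 hM hK
  have hZ : K ⊔ sigmaCore M ⊓ C[K] ≤ M := sup_le hK.le (inf_le_left.trans (sigmaCore_le M))
  have hKs : IsPi (kappa M)ᶜ (sigmaCore M ⊓ C[K]) :=
    ((sigmaCore_pi M).mono (sigma_sub_kappa' M)).inf_left _
  have hall1 : Hall (kappa M) (K ⊔ sigmaCore M ⊓ C[K]) K := hdp.sd.hall_left hK.pi hKs
  have hall2 : Hall (kappa M)ᶜ (K ⊔ sigmaCore M ⊓ C[K]) (sigmaCore M ⊓ C[K]) :=
    hdp.sd.hall_compl_right hall1
  constructor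
  · rintro ⟨z, hz, m, hm, rfl⟩
    obtain ⟨h1, h2, h3⟩ := mem_Zhat.1 hz
    refine ⟨(Nml.refl M).conj_mem hm (hZ h1), fun h => h3 ?_, fun h => h2 ?_⟩
    · exact hall2.mem_of_nml hdp.nml_right.norm (piElt_conj.1 h) h1
    · exact hall1.mem_of_nml hdp.nml_left.norm (piElt_conj.1 h) h1
  · rintro ⟨hx, h1, h2⟩
    obtain ⟨m, hm, hk⟩ := kappa_conj16 hM.coatom hK (constt_mem (kappa M) hx)
      (piElt_constt (kappa M) x)
    have hk1 : m * constt (kappa M) x * m⁻¹ ≠ 1 := by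
      rw [Ne, conj_eq_one_iff', constt_eq_one_iff]
      exact h1
    have hz : m * x * m⁻¹ ∈ K ⊔ sigmaCore M ⊓ C[K] := by
      rw [← hE.centK _ hk hk1, ← constt_conj]
      exact mem_inf.2 ⟨(Nml.refl M).conj_mem hm hx, C1_le_C1_constt _ _ (self_mem_C1 _)⟩
    refine ⟨_, mem_Zhat.2 ⟨hz, fun h => h2 (piElt_conj.1 (hK.pi.piElt h)),
      fun h => h1 (piElt_conj.1 (hKs.piElt h))⟩, m⁻¹, M.inv_mem hm, by group⟩

omit [Finite G] [FT G] in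
theorem conj_mem_sigmaHat16 (hx : x ∈ sigmaHat M) (hg : g ∈ M) : g * x * g⁻¹ ∈ sigmaHat M := by
  obtain ⟨h1, y, hy, hy1, e⟩ := hx
  refine ⟨(Nml.refl M).conj_mem hg h1, g * y * g⁻¹, (sigmaCore_nml M).conj_mem hg hy,
    by rwa [Ne, conj_eq_one_iff'], ?_⟩
  calc g * x * g⁻¹ * (g * y * g⁻¹) = g * (x * y) * g⁻¹ := by group
    _ = g * (y * x) * g⁻¹ := by rw [e]
    _ = _ := by group

theorem classSupp_Zhat_sub_hat16 (hM : Pmax M) (hK : Hall (kappa M) M K)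
    (hx : x ∈ classSupp (Zhat K (sigmaCore M ⊓ C[K])) M) : x ∈ sigmaHat M := by
  obtain ⟨Mst, hE⟩ := Ptype_embedding hM hK
  obtain ⟨z, hz, m, hm, rfl⟩ := hx
  obtain ⟨y, hy, hy1⟩ := exists_ne_one (Ptype_Kstar_ne_bot hM hK)
  have hz1 := (mem_Zhat.1 hz).1
  refine conj_mem_sigmaHat16 ⟨sup_le hK.le (inf_le_left.trans (sigmaCore_le M)) hz1, y,
    (mem_inf.1 hy).1, hy1, hE.cyc.abl.comm hz1 (le_sup_right (a := K) hy)⟩ hm

theorem one_mem_sigmaHat16 (hM : IsCoatom M) : (1 : G) ∈ sigmaHat M := by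
  obtain ⟨y, hy, hy1⟩ := exists_ne_one (Msigma_neq1 hM)
  exact ⟨M.one_mem, y, hy, hy1, by simp⟩

theorem mem_sigmaA16 (hM : IsCoatom M) (h : KappaCompl M U K) :
    x ∈ sigmaA M U ↔ x ∈ sigmaHat M ∧ PiElt (kappa M)ᶜ x := by
  refine and_congr_right fun hx => ?_
  rw [SetLike.mem_coe, sup_comm, h.mem_sup16 hM hx.1]

theorem mem_sigmaA0_16 (hM : IsCoatom M) (hK : Hall (kappa M) M K) :
    x ∈ sigmaA0 M K ↔ x ∈ sigmaHat M ∧ (x = 1 ∨ ¬ PiElt (kappa M) x) := by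
  refine and_congr_right fun hx => ?_
  rw [Set.mem_ofPred_eq, kappa_class16 hM hK hx.1]
  tauto

/-! ### Theorems A–D -/

/-- Theorem A (5) -/
theorem BGsummaryA5 (hM : IsCoatom M) (hK : Hall (kappa M) M K) :
    sigmaCore M ⊓ C[K] ≠ ⊥ ∧ ∀ k ∈ K, k ≠ 1 → DP K (sigmaCore M ⊓ C[K]) (M ⊓ C{k}) := by
  by_cases h1 : K = ⊥
  · subst h1
    refine ⟨by rw [C_bot, inf_top_eq]; exact Msigma_neq1 hM, fun k hk hk1 => absurd (mem_bot.1 hk) hk1⟩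
  · have hP := (kappa_ne_bot_iff hM hK).1 h1
    obtain ⟨Mst, hE⟩ := Ptype_embedding hP hK
    exact ⟨Ptype_Kstar_ne_bot hP hK, fun k hk hk1 => hE.centK k hk hk1 ▸ Ptype_dp16 hP hK⟩

/-- Theorem A (8) -/
theorem BGsummaryA8 (hM : IsCoatom M) (h : KappaCompl M U K)
    (hne : fittingHallOf M ≠ sigmaCore M) :
    U = ⊥ ∧ NormedTI ((F[M] : Set G) \ {1}) M ∧ (♯K).Prime := by
  obtain ⟨h1, -, -, h2, -⟩ := Fcore_structure_type hM h.hallK hne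
  exact ⟨h1.eq_bot h, TI_Fitting16 hM fun e => hne e.2, h2⟩

/-- Theorem B (1) -/
theorem BGsummaryB1 (hM : IsCoatom M) (h : KappaCompl M U K) (hp : p.Prime) (hS : Syl p U S) :
    Abl S ∧ rank S ≤ 2 := by
  have h1 : S ≤ M := hS.le.trans h.hallU.le
  have h2 : IsPi (sigma M)ᶜ S :=
    (h.hallU.pi.of_le hS.le).mono (Set.compl_subset_compl.2 Set.subset_union_left)
  exact ⟨sigma'_nil_abelian hM h1 h2 (hS.pi.nil hp), rank_sigma'_le hM h2 h1⟩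

theorem uniq_of_sigmaA16 (hM : IsCoatom M) (h : KappaCompl M U K) (ha : a ∈ sigmaA M U)
    (ha' : a ∉ sigmaCore M) : UniqMax C{constt (sigma M)ᶜ a} M := by
  obtain ⟨⟨haM, y, hy, hy1, e⟩, hk⟩ := (mem_sigmaA16 hM h).1 ha
  have h1 : constt (sigma M)ᶜ a ≠ 1 := by
    rw [Ne, constt_eq_one_iff, compl_compl]
    exact fun hs => ha' (mem_Msigma16 hM haM hs)
  have h2 : constt (sigma M)ᶜ a ∈ M ⊓ C{y} := constt_mem _ (mem_inf.2 ⟨haM, mem_C1.2 e⟩)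
  rcases pi_of_cent_sigma hM hy hy1 h2 h1 (piElt_constt _ a) with h3 | h3
  · exact absurd (h3.1.eq_one (hk.of_mem_zpowers (constt_mem_zpowers _ a))) h1
  · exact h3.2.2

/-- Theorem B (5): `A(M) - M_σ` is a TI-subset normalised by `M` (it may be empty). -/
theorem BGsummaryB5 (hM : IsCoatom M) (h : KappaCompl M U K) (ha : a ∈ sigmaA M U)
    (ha' : a ∉ sigmaCore M) (hg : g * a * g⁻¹ ∈ sigmaA M U) (hg' : g * a * g⁻¹ ∉ sigmaCore M) :
    g ∈ M := by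
  have h1 := (uniq_of_sigmaA16 hM h ha ha').cj g
  have h2 := uniq_of_sigmaA16 hM h hg hg'
  rw [constt_conj, ← cj_C1] at h2
  exact mem_of_cj_mmax hM (h2.eq h1)

/-- Theorem C (1), (3) -/
theorem BGsummaryC1 (hM : IsCoatom M) (h : KappaCompl M U K) (hK : K ≠ ⊥) :
    Abl U ∧ ¬ N[U] ≤ M ∧ SD (sigmaCore M) U ⁅M, M⁆ := by
  obtain ⟨h1, -, -, -, h2⟩ := kappa_structure hM h
  obtain ⟨h3, h4⟩ := h2 hK
  refine ⟨h4, fun hN => ?_, h3 ▸ h1⟩
  by_cases hU : U = ⊥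
  · rw [hU, N_bot] at hN
    exact hM.1 (top_le_iff.1 hN)
  · obtain ⟨r, hr, hd⟩ := H24.exists_prime_dvd_card hU
    obtain ⟨R, hR⟩ := Sylow_exists hr U
    obtain ⟨H, hH, hNH⟩ := exists_mmax_norm (hR.ne_bot hr rfl hd) (mFT_pgroup_proper hR.pi)
    obtain ⟨Mst, hMst, hC⟩ := exists_mmax_cent hK
    exact (P2type_signalizer (h.p2max hM hK hU) h hMst hC hr hd hR hH hNH).2.2.2.1
      (inf_le_right.trans hN)

/-- Theorem C (9) -/
theorem BGsummaryC9 (hM : IsCoatom M) (h : KappaCompl M U K) (hK : K ≠ ⊥) :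
    sigmaA0 M K \ sigmaA M U = classSupp (Zhat K (sigmaCore M ⊓ C[K])) M ∧
      NormedTI (sigmaA0 M K \ sigmaA M U) M := by
  have hP := (kappa_ne_bot_iff hM h.hallK).1 hK
  have e : sigmaA0 M K \ sigmaA M U = classSupp (Zhat K (sigmaCore M ⊓ C[K])) M := by
    ext x
    rw [Set.mem_sdiff, mem_sigmaA16 hM h, mem_sigmaA0_16 hM h.hallK]
    constructor
    · rintro ⟨⟨h1, h2⟩, h3⟩
      have h4 : ¬ PiElt (kappa M)ᶜ x := fun e => h3 ⟨h1, e⟩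
      exact (mem_classSupp_Zhat16 hP h.hallK).2 ⟨h1.1, h4,
        h2.resolve_left fun e => h4 (e ▸ piElt_one _)⟩
    · intro hx
      obtain ⟨-, h2, h3⟩ := (mem_classSupp_Zhat16 hP h.hallK).1 hx
      exact ⟨⟨classSupp_Zhat_sub_hat16 hP h.hallK hx, Or.inr h3⟩, fun e => h2 e.2⟩
  obtain ⟨Mst, hE⟩ := Ptype_embedding hP h.hallK
  exact ⟨e, e ▸ hE.ti.classSupp16 (sup_le h.hallK.le (inf_le_left.trans (sigmaCore_le M)))⟩

/-- Theorem C (10) -/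
theorem BGsummaryC10 (hM : IsCoatom M) (h : KappaCompl M U K) (hK : K ≠ ⊥) (hU : U ≠ ⊥) :
    (♯K).Prime ∧ NormedTI ((F[M] : Set G) \ {1}) M ∧ sigmaCore M ≤ F[M] := by
  have hP := h.p2max hM hK hU
  obtain ⟨-, h1, h2, -⟩ := P2type_structure hP h.hallK
  exact ⟨h1, TI_Fitting16 hM fun e => (not_p2_iff hM).2 e.1 hP,
    Fitting_max (sigmaCore_nml M) h2⟩

/-- Theorem C (11) -/
theorem BGsummaryC11 (hM : IsCoatom M) (h : KappaCompl M U K) (hK : K ≠ ⊥) (hU : U = ⊥) :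
    (♯(sigmaCore M ⊓ C[K])).Prime := by
  have hP := h.p1max hM hK hU
  obtain ⟨Mst, hE⟩ := Ptype_embedding hP.pmax h.hallK
  exact (hE.p2.resolve_left fun e => hP.not_p2 e.1).2

/-- Theorem D (1) -/
theorem BGsummaryD1 (hM : IsCoatom M) (hx : x ∈ sigmaCore M) (hg : g * x * g⁻¹ ∈ sigmaCore M) :
    ∃ m ∈ M, g * x * g⁻¹ = m * x * m⁻¹ := by
  obtain ⟨b, hb, e⟩ := sigma_Hall_tame hM (hall_self (isPi_primesOf _)).isHall hx hg
  exact ⟨b, (mem_inf.1 hb).1, e⟩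

/-- Theorem D (2) -/
theorem BGsummaryD2 (hM : IsCoatom M) (hg : g ∉ M) :
    sigmaCore M ⊓ cj g M = sigmaCore M ⊓ cj g (sigmaCore M) ∧ Cyc (sigmaCore M ⊓ cj g M) := by
  refine ⟨le_antisymm (le_inf inf_le_left ?_) (inf_le_inf_left _ (cj_mono g (sigmaCore_le M))),
    (sigma_compl_embedding_cj hM hg).1⟩
  rw [← sigmaCore_cj]
  exact sub_Msigma (isCoatom_cj hM g) (by rw [sigma_cj]; exact (sigmaCore_pi M).inf_left _)
    inf_le_right

theorem Fcore_eq_of_notP1_16 (h : Fmax M ∨ P2max M) : fittingHallOf M = sigmaCore M :=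
  (Fcore_eq_Msigma (h.elim Fmax.coatom P2max.coatom)).2 (notP1type_Msigma_nil h)

/-! ### Lemma 16.1 -/

theorem FTtype_P1max (hM : IsCoatom M) : P1max M ↔ 2 < FTtype M := by
  obtain ⟨U, K, h⟩ := kappa_witness hM
  obtain ⟨h1, -, -, -, h2⟩ := kappa_structure hM h
  rw [FTtype_gt_two]
  constructor
  · intro hP
    refine ⟨hP.pmax.kappa.ne_empty, ?_⟩
    rw [← (h2 (hP.pmax.ne_bot h.hallK)).1, hP.eq_bot h, sup_bot_eq]
  · rintro ⟨h3, h4⟩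
    have hP : Pmax M := ⟨hM, Set.nonempty_iff_ne_empty.2 h3⟩
    refine h.p1max hM (hP.ne_bot h.hallK) ?_
    rw [← h1.inf, h4, ← (h2 (hP.ne_bot h.hallK)).1]
    exact (inf_eq_right.2 le_sup_right).symm

theorem FTtype_P2max (hM : IsCoatom M) : P2max M ↔ FTtype M = 2 := by
  have h1 := FTtype_Fmax hM
  have h2 := FTtype_P1max hM
  have h3 := FTtype_pos M
  rw [← not_iff_not, not_p2_iff hM, h1, h2]
  omega

theorem def_FTcore (hM : IsCoatom M) : FTcore M = sigmaCore M := by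
  by_cases h : 2 < FTtype M
  · rw [FTcore_type_gt2 h, (FTtype_gt_two.1 h).2]
  · rw [FTcore_of_le (not_lt.1 h)]
    exact Fcore_eq_of_notP1_16 ((not_p1_iff hM).1 fun e => h ((FTtype_P1max hM).1 e))

theorem Fcore_eq_FTcore (hM : IsCoatom M) :
    fittingHallOf M = FTcore M ↔ FTtype M = 1 ∨ FTtype M = 2 ∨ FTtype M = 5 := by
  constructor
  · intro h
    rw [def_FTcore hM] at h
    rcases FTtype_cases M with e | e | e | e | e
    · exact Or.inl e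
    · exact Or.inr (Or.inl e)
    · exact absurd h (FTtype_eq_three.1 e).2.2.1
    · exact absurd h (FTtype_eq_four.1 e).2.2.1
    · exact Or.inr (Or.inr e)
  · rintro (e | e | e)
    exacts [(FTcore_type1 e).symm, (FTcore_type2 e).symm, (FTcore_type5 e).symm]

theorem Fcore_sub_FTcore (hM : IsCoatom M) : fittingHallOf M ≤ FTcore M :=
  def_FTcore hM ▸ Fcore_sub_Msigma hM

theorem FTcore_sub_der1 (hM : IsCoatom M) : FTcore M ≤ ⁅M, M⁆ :=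
  def_FTcore hM ▸ Msigma_der1 hM

theorem mmax_Fcore_neq1 (hM : IsCoatom M) : fittingHallOf M ≠ ⊥ := (Fcore_chain hM).1

theorem FTsupp1_sub (hM : IsCoatom M) : FTsupp1 M ⊆ FTsupp M :=
  FTsupp1_sub_of_le ((FTcore_sub_der1 hM).trans (der1_le_FTder M))

theorem FTsupp1_sub0 (hM : IsCoatom M) : FTsupp1 M ⊆ FTsupp0 M :=
  (FTsupp1_sub hM).trans (FTsupp_sub0 M)

theorem FTsupp_type_gt2 (hM : IsCoatom M) (h : 2 < FTtype M) : FTsupp M = FTsupp1 M := by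
  refine Set.Subset.antisymm (fun x hx => mem_FTsupp1.2 ⟨?_, hx.2.1⟩) (FTsupp1_sub hM)
  have := hx.1
  rwa [FTder_of_ne (by omega), ← FTcore_type_gt2 h] at this

theorem def_FTder (hM : IsCoatom M) (h : KappaCompl M U K) : FTder M = sigmaCore M ⊔ U := by
  obtain ⟨-, h1, -, -, h2⟩ := kappa_structure hM h
  by_cases e : FTtype M = 1
  · have hK := (trivg_kappa hM h.hallK).2 ((FTtype_Fmax hM).2 e)
    rw [hK] at h1
    rw [FTder_type1 e, h1.eq_of_right_bot]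
  · rw [FTder_of_ne e, (h2 (((FTtype_Pmax hM).2 e).ne_bot h.hallK)).1]

theorem def_FTsupp (hM : IsCoatom M) (h : KappaCompl M U K) : FTsupp M = sigmaA M U \ {1} := by
  ext x
  rw [mem_FTsupp, def_FTder hM h, def_FTcore hM]
  constructor
  · rintro ⟨h1, h2, h3⟩
    exact ⟨⟨⟨(h.hall_kappa'16 hM).le h1, h3⟩, by rwa [sup_comm U]⟩, h2⟩
  · rintro ⟨⟨h1, h2⟩, h3⟩
    exact ⟨by rwa [sup_comm U] at h2, h3, h1.2⟩

theorem piElt_FTder16 (hM : IsCoatom M) (hx : x ∈ M) :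
    (PiElt (primesOf (FTder M)) x ↔ PiElt (kappa M)ᶜ x) ∧
      (PiElt (primesOf (FTder M))ᶜ x ↔ PiElt (kappa M) x) := by
  obtain ⟨U, K, h⟩ := kappa_witness hM
  have h1 := h.hall_kappa'16 hM
  rw [← def_FTder hM h] at h1
  have h2 : ∀ q, q.Prime → q ∣ orderOf x → (q ∈ primesOf (FTder M) ↔ q ∉ kappa M) :=
    fun q hq hd => by
      rw [h1.mem_primesOf]
      exact ⟨fun e => e.1, fun e => ⟨e, hq, hd.trans (orderOf_dvd_card' hx)⟩⟩
  refine ⟨⟨fun e q hq hd => (h2 q hq hd).1 (e q hq hd), fun e q hq hd => (h2 q hq hd).2 (e q hq hd)⟩,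
    ⟨fun e q hq hd => by_contra fun e' => e q hq hd ((h2 q hq hd).2 e'),
      fun e q hq hd e' => (h2 q hq hd).1 e' (e q hq hd)⟩⟩

theorem mem_FTsupp0_16 (hM : IsCoatom M) : x ∈ FTsupp0 M ↔ x ∈ FTsupp M ∨
    (x ∈ M ∧ ¬ PiElt (kappa M)ᶜ x ∧ ¬ PiElt (kappa M) x) := by
  rw [mem_FTsupp0]
  refine or_congr_right (and_congr_right fun hx => ?_)
  rw [(piElt_FTder16 hM hx).1, (piElt_FTder16 hM hx).2]

theorem FTsupp_kappa'16 (hM : IsCoatom M) (hx : x ∈ FTsupp M) : PiElt (kappa M)ᶜ x :=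
  (piElt_FTder16 hM (FTsupp_mem hx)).1.1 ((isPi_primesOf _).piElt hx.1)

theorem pmax_of_not_piElt16 (hM : IsCoatom M) (h : ¬ PiElt (kappa M)ᶜ x) : Pmax M :=
  pmax_of_not_fmax hM fun e => h (by rw [e.kappa, Set.compl_empty]; exact piNat_univ _)

theorem def_FTsupp0 (hM : IsCoatom M) (h : KappaCompl M U K) :
    FTsupp0 M = sigmaA0 M K \ {1} := by
  ext x
  rw [mem_FTsupp0_16 hM, def_FTsupp hM h, Set.mem_sdiff, Set.mem_sdiff, mem_sigmaA16 hM h,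
    mem_sigmaA0_16 hM h.hallK, Set.mem_singleton_iff]
  constructor
  · rintro (⟨⟨h1, h2⟩, h3⟩ | h1)
    · exact ⟨⟨h1, Or.inr fun e => h3 (e.eq_one h2)⟩, h3⟩
    · have hP := pmax_of_not_piElt16 hM h1.2.1
      exact ⟨⟨classSupp_Zhat_sub_hat16 hP h.hallK ((mem_classSupp_Zhat16 hP h.hallK).2 h1),
        Or.inr h1.2.2⟩, fun e => h1.2.2 (e ▸ piElt_one _)⟩
  · rintro ⟨⟨h1, h2⟩, h3⟩
    by_cases e : PiElt (kappa M)ᶜ x
    · exact Or.inl ⟨⟨h1, e⟩, h3⟩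
    · exact Or.inr ⟨h1.1, e, h2.resolve_left h3⟩

/-- Theorem D (4) -/
theorem BGsummaryD4 (hM : IsCoatom M) (hx : x ∈ sigmaCore M) (hx1 : x ≠ 1) (hC : ¬ C{x} ≤ M) :
    UniqMax C{x} (sigN x) ∧ fittingHallOf (sigN x) = sigmaCore (sigN x) ∧
      x ∈ FTsupp (sigN x) ∧ x ∉ sigmaCore (sigN x) ∧ (Fmax (sigN x) ∨ P2max (sigN x)) ∧
      Hall (sigma (sigN x))ᶜ (sigN x) (M ⊓ sigN x) ∧
      (P2max (sigN x) → Fmax M ∧ (∃ E, Frob M (sigmaCore M) E ∧ Cyc E) ∧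
        ¬ NormedTI ((fittingHallOf M : Set G) \ {1}) M) := by
  obtain ⟨h1, h2, h3, -, -, h4⟩ := FT_signalizer_context hM hx hx1 hC
  have hN := h1.coatom
  have hxN : x ∈ sigN x := h1.le (self_mem_C1 x)
  refine ⟨h1, Fcore_eq_of_notP1_16 h3, ?_, fun e => hx1 ?_, h3, h4, fun hP => ?_⟩
  · obtain ⟨U, K, h⟩ := kappa_witness hN
    rw [mem_FTsupp', def_FTder hN h, def_FTcore hN, h.mem_sup16 hN hxN,
      ← sigR_of_not_le hM hx hC, Ne, Ne, sigR_eq_bot_iff hM hx hx1]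
    refine ⟨h2.mono fun q hq hk => ?_, hx1, hC⟩
    exact (kappa_tau13 hk).elim (fun e => tau2'1 _ e hq) fun e => tau2'3 _ e hq
  · exact ((sigmaCore_pi _).piElt e).eq_one (h2.mono (tau2_sub_sigma' _))
  · obtain ⟨h5, -, E, -, h6, h7, -⟩ := nonFtype_signalizer_base hM hx hx1 hC hP.pmax.not_fmax
    refine ⟨h5, ⟨E, h7, h6⟩, fun hT => hC (hT.cent1_le ⟨?_, hx1⟩)⟩
    rwa [Fcore_eq_of_notP1_16 (Or.inl h5)]

/-- the signalizer of section 14 is the one of Peterfalvi (8.14). -/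
theorem supportR_eq_sigR (hM : IsCoatom M) (hx : x ∈ sigmaCore M) (hx1 : x ≠ 1) :
    supportR M x = sigR x := by
  by_cases hC : C{x} ≤ M
  · rw [supportR_of_le hC, (sigR_eq_bot_iff hM hx hx1).2 hC]
  · obtain ⟨h1, h2, -⟩ := BGsummaryD4 hM hx hx1 hC
    rw [supportR_of_uniq hC h1, sigR_of_not_le hM hx hC, h2]

theorem tildeOf_sigma (hM : IsCoatom M) :
    tildeOf M ((sigmaCore M : Set G) \ {1}) = classSupp (sigmaCover M) ⊤ := by
  ext g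
  rw [mem_tildeOf, mem_classSupp]
  constructor
  · rintro ⟨a, ⟨ha, ha1⟩, r, hr, y, rfl⟩
    exact ⟨_, ⟨a, ha, ha1, r, supportR_eq_sigR hM ha ha1 ▸ hr, rfl⟩, y, mem_top y, rfl⟩
  · rintro ⟨_, ⟨a, ha, ha1, r, hr, rfl⟩, y, -, rfl⟩
    exact ⟨a, ⟨ha, ha1⟩, r, (supportR_eq_sigR hM ha ha1).symm ▸ hr, y, rfl⟩

/-! ### maximal subgroups of type `P` -/

theorem TypeP.kappa_hall16 (hM : IsCoatom M) (h : TypeP M U W W₁ W₂) :
    Pmax M ∧ Hall (kappa M) M W₁ := by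
  have hle : W₂ ≤ sigmaCore M := h.le2.trans (Fcore_sub_Msigma hM)
  have hk : IsPi (kappa M) W₁ := by
    intro q hq hd
    obtain ⟨X, hX⟩ := exists_pnElem_one hq hd
    have h1 : ¬ q ∣ ♯⁅M, M⁆ := fun e => hq.one_lt.ne' (Nat.eq_one_of_dvd_coprimes h.coprime_der e hd)
    have h2 : q ∉ sigma M := fun e => h1 ((sigma_dvd_Msigma hM e).trans (card_dvd (Msigma_der1 hM)))
    have h3 : prank q M = 1 := by
      rw [← prank_Hall hq h.hall1.hall ⟨hq, hd⟩]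
      exact le_antisymm (cyc_prank_le_one hq h.cyc1) ((prank_pos_iff hq).2 hd)
    exact mem_kappa_of (Or.inl (mem_tau1.2 ⟨hq, h2, h3, h1⟩)) (hX.mono h.le1)
      (ne_bot_of_le h.ne2 (le_inf hle (h.dp.cent.trans (C_anti hX.le))))
  obtain ⟨K, hK, hle1⟩ := H26.Hall_superset (mmax_sol hM) h.le1 hk
  have hP := (kappa_ne_bot_iff hM hK).1 (ne_bot_of_le h.ne1 hle1)
  obtain ⟨Mst, hE⟩ := Ptype_embedding hP hK
  refine ⟨hP, hK.of_card h.le1 ?_⟩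
  rw [← h.sdM.relIndex_left, hE.sd.relIndex_left]

theorem TypeP.kappaCompl16 (hM : IsCoatom M) (h : TypeP M U W W₁ W₂)
    (e : fittingHallOf M = sigmaCore M) : KappaCompl M U W₁ := by
  have hK := (h.kappa_hall16 hM).2
  have h1 : Hall (kappa M)ᶜ M ⁅M, M⁆ := h.sdM.hall_compl_left hK
  have h2 : Hall (sigma M)ᶜ ⁅M, M⁆ U :=
    (e ▸ h.sdU).hall_compl_right ((Msigma_Hall hM).of_le (Msigma_der1 hM) (der1_le M))
  refine ⟨?_, hK, isProd_sup h.normU⟩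
  rw [Set.compl_union, Set.inter_comm]
  exact h1.trans_inter h2

/-- MathComp `typePfacts`. -/
theorem typePfacts (hM : IsCoatom M) (h : TypeP M U W W₁ W₂) :
    Pmax M ∧ Hall (kappa M) M W₁ ∧ sigmaCore M ⊓ C[W₁] = W₂ ∧ (P1max M ↔ U = ⊥ ∨ N[U] ≤ M) ∧
      (sigmaCore M = ⁅M, M⁆ ∨ (fittingHallOf M = sigmaCore M ∧ KappaCompl M U W₁)) := by
  obtain ⟨hP, hK⟩ := h.kappa_hall16 hM
  have e1 : sigmaCore M ⊓ C[W₁] = W₂ :=
    le_antisymm ((inf_le_inf_right _ (Msigma_der1 hM)).trans h.der_inf_C.le)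
      (le_inf (h.le2.trans (Fcore_sub_Msigma hM)) h.dp.cent)
  by_cases e : fittingHallOf M = sigmaCore M
  · have hc := h.kappaCompl16 hM e
    refine ⟨hP, hK, e1, ?_, Or.inr ⟨e, hc⟩⟩
    rw [← trivg_kappa_compl hM hc]
    exact ⟨Or.inl, fun e2 => e2.resolve_right (BGsummaryC1 hM hc h.ne1).2.1⟩
  · obtain ⟨h1, -, h2, -⟩ := Fcore_structure_type hM hK e
    refine ⟨hP, hK, e1, ⟨fun _ => or_iff_not_imp_left.2 fun hU => ?_, fun _ => h1⟩, Or.inl h2⟩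
    obtain ⟨q, hq, hd⟩ := H24.exists_prime_dvd_card hU
    have hUs : U ≤ sigmaCore M := h2 ▸ h.U_le
    have hs : q ∈ sigma M := (sigmaCore_pi M).mem hq (hd.trans (card_dvd hUs))
    have h3 : IsHall (sigmaCore M) U := h2 ▸ h.sdU.isHall_right h.coprimeU
    exact (N_le_N_pcore {q} U).trans
      (norm_sigma_Sylow hs (Msigma_Sylow hM hs (h3.syl (h.nilU.pcore_hall {q}) hq hd)))

/-- every `M ∈ 𝓜_P` is of type `P`, relative to any Hall `κ(M)`-subgroup. -/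
theorem typeP_of_Pmax (hM : Pmax M) (hK : Hall (kappa M) M K) :
    ∃ U, TypeP M U (K ⊔ sigmaCore M ⊓ C[K]) K (sigmaCore M ⊓ C[K]) := by
  obtain ⟨Mst, hE⟩ := Ptype_embedding hM hK
  obtain ⟨-, ⟨f1, f2, -⟩, ⟨f3, f4⟩, f5⟩ := Fitting_structure hM.coatom
  obtain ⟨c1, c2, c3, c4, c5⟩ := Ptype_cyclics hM hK
  obtain ⟨U, hU, hn⟩ := H26.coprime_Hall_exists (primesOf (fittingHallOf M))ᶜ hE.sd.norm
    (hE.sd.coprime_of_isHall_right hK.isHall) (mmax_sub_sol hM.coatom (der1_le M))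
  have hsd : SD (fittingHallOf M) U ⁅M, M⁆ :=
    ((Fcore_hall M).of_le f3 (der1_le M)).sd hU ((der1_le M).trans (Fcore_nml M).norm)
  refine ⟨U, Ptype_dp16 hM hK, kappa_cyclic hM.coatom hK, hK.isHall, hM.ne_bot hK, hE.sd,
    hsd.nil_iff.1 f4, hn, hsd, c5, f1, f2, f5 hM, c2, c1, c4, c3, fun x hx hx1 => ?_, hE.ti⟩
  have e : ⁅M, M⁆ ⊓ C{x} = (M ⊓ C{x}) ⊓ ⁅M, M⁆ := by
    rw [inf_comm M, inf_assoc, inf_eq_right.2 (der1_le M), inf_comm]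
  rw [e, hE.centK x hx hx1, ← (Ptype_dp16 hM hK).isProd.modr (c4.trans f3), inf_comm K,
    hE.sd.inf, bot_sup_eq]

theorem FTtypeP_witness (hM : IsCoatom M) (h : FTtype M ≠ 1) :
    ∃ U W W₁ W₂, TypeP M U W W₁ W₂ := by
  obtain ⟨K, hK⟩ := ex_kappa_Hall hM
  obtain ⟨U, hU⟩ := typeP_of_Pmax ((FTtype_Pmax hM).2 h) hK
  exact ⟨U, _, _, _, hU⟩

theorem FTtypeP_neq1 (hM : IsCoatom M) (h : TypeP M U W W₁ W₂) : FTtype M ≠ 1 :=
  (FTtype_Pmax hM).1 (typePfacts hM h).1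

theorem FTsupp0_diff16 (hM : IsCoatom M) : x ∈ FTsupp0 M \ FTsupp M ↔
    x ∈ M ∧ ¬ PiElt (kappa M)ᶜ x ∧ ¬ PiElt (kappa M) x := by
  rw [Set.mem_sdiff, mem_FTsupp0_16 hM]
  exact ⟨fun h => h.1.resolve_left h.2, fun h => ⟨Or.inr h, fun e => h.2.1 (FTsupp_kappa'16 hM e)⟩⟩

theorem FTsupp0_typeP (hM : IsCoatom M) (h : TypeP M U W W₁ W₂) :
    FTsupp0 M \ FTsupp M = classSupp (Zhat W₁ W₂) M := by
  obtain ⟨hP, hK, e, -⟩ := typePfacts hM h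
  ext x
  rw [FTsupp0_diff16 hM, ← e, mem_classSupp_Zhat16 hP hK]

/-! ### the five types -/

theorem TypeF.FTtype_eq (hM : IsCoatom M) (h : TypeF M U) : FTtype M = 1 := by
  by_contra hne
  have hP := (FTtype_Pmax hM).2 hne
  obtain ⟨q, hq⟩ := hP.kappa
  obtain ⟨U₀, h0⟩ := h.compl
  have hp := kappa_prime hq
  have h1 : q ∣ ♯U := by
    have h2 := kappa_dvd hq
    rw [h.sd.card] at h2
    exact ((Nat.Prime.dvd_mul hp).1 h2).resolve_left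
      (((sigmaCore_pi M).of_le (Fcore_sub_Msigma hM)).not_dvd hp (kappa_not_sigma hq))
  have h2 : q ∣ ♯U₀ := by
    obtain ⟨u, hu, e⟩ := exists_orderOf_eq hp h1
    have h3 : q ∣ Monoid.exponent U := by
      rw [← e, ← Subgroup.orderOf_mk u hu]
      exact Monoid.order_dvd_exponent _
    rw [← h0.exp] at h3
    exact h3.trans Group.exponent_dvd_nat_card
  obtain ⟨X, hX, e⟩ := exists_card_prime hp h2
  obtain ⟨K, hK, hXK⟩ := H26.Hall_superset (mmax_sol hM) (hX.trans (h0.le.trans h.sd.right_le))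
    ((isPi_of_card_prime hp e).of_mem hq)
  obtain ⟨c1, -, -, c2, -⟩ := Ptype_cyclics hP hK
  exact c1 (eq_bot_of_le (h0.frob.reg.inf_C hX (ne_bot_of_prime (e ▸ hp)))
    (le_inf c2 (inf_le_right.trans (C_anti hXK))))

omit [FT G] in
theorem ne_bot_of_exponent16 {U₀ : Subgroup G} (e : Monoid.exponent U₀ = Monoid.exponent U)
    (hU : U ≠ ⊥) : U₀ ≠ ⊥ := by
  rintro rfl
  obtain ⟨u, hu, h1⟩ := exists_ne_one hU
  have h2 : Monoid.exponent U = 1 := by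
    rw [← e]
    exact Monoid.exp_eq_one_of_subsingleton
  have h3 := Monoid.pow_exponent_eq_one (⟨u, hu⟩ : U)
  rw [h2, pow_one] at h3
  exact h1 (congrArg Subtype.val h3)

theorem typeF_of_kappaCompl16 (hM : IsCoatom M) (h : KappaCompl M U K) (hU : U ≠ ⊥)
    (e : fittingHallOf L = sigmaCore M) (hsd : SD (sigmaCore M) U L) : TypeF L U := by
  obtain ⟨U₁, a1, a2, a3⟩ := kappa_structure_inertia hM h
  obtain ⟨U₀, b1, b2, b3⟩ := kappa_structure_compl hM h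
  refine ⟨e ▸ Msigma_neq1 hM, hU, e ▸ hsd, ⟨U₁, a1, a2, e ▸ a3⟩, U₀, b1, b2, ?_⟩
  rw [e]
  exact Frob.mk' (b1.trans hsd.norm) (Msigma_neq1 hM) (ne_bot_of_exponent16 b2 hU) b3

omit [FT G] in
theorem mem_primesOf_of_not_abl16 (h : ¬ Abl O[{p}, H]) : p ∈ primesOf H :=
  (pcore_pi {p} H).mem_primesOf (fun e => h (e ▸ abl_bot)) (pcore_le _ _)

theorem typeI_of_sd (hM : IsCoatom M) (h : FTtype M = 1) (hU : SD (fittingHallOf M) U M) :
    TypeI M U := by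
  have hF := (FTtype_Fmax hM).2 h
  have e := Fcore_eq_of_notP1_16 (Or.inl hF)
  have hc : KappaCompl M U ⊥ := hF.kappaCompl ((e ▸ hU).hall_compl_right (Msigma_Hall hM))
  refine ⟨typeF_of_kappaCompl16 hM hc (hF.compl_ne_bot hc) e (e ▸ hU), ?_⟩
  rcases TI_Fcore_or16 hM with hT | ⟨g, hg, hX⟩
  · exact Or.inl (by rwa [mmax_normal hM (Fcore_nml M) (mmax_Fcore_neq1 hM)])
  rcases nonTI_Fitting_cases hM hg hX with h1 | ⟨p, hp, -, -, -, h1, h2, h3 | h3⟩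
  · exact Or.inr (Or.inl h1.2)
  · refine Or.inr (Or.inr ⟨fun q hq => ?_, p, mem_primesOf_of_not_abl16 h1, h2⟩)
    refine Monoid.exponent_dvd_of_forall_pow_eq_one fun u => Subtype.ext ?_
    have h4 : (u : G) ^ (q - 1) ∈ fittingHallOf M ⊓ U :=
      mem_inf.2 ⟨h3 q hq.1 hq.2 u (hU.right_le u.2), U.pow_mem u.2 _⟩
    rw [hU.inf] at h4
    exact mem_bot.1 h4
  · exact absurd h3.2.1 hF.not_p1

/-- MathComp `FTtypeP` (and `compl_of_type*`: any data of type `P` will do). -/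
theorem FTtype1_iff (hM : IsCoatom M) : FTtype M = 1 ↔ ∃ U, TypeI M U := by
  refine ⟨fun h => ?_, fun ⟨_, h⟩ => h.typeF.FTtype_eq hM⟩
  obtain ⟨U, hU⟩ := H26.SchurZassenhaus_split (Fcore_nml M) (Fcore_isHall M)
  exact ⟨U, typeI_of_sd hM h hU⟩

theorem TypeP.type5_iff (hM : IsCoatom M) (h : TypeP M U W W₁ W₂) : FTtype M = 5 ↔ U = ⊥ := by
  rw [h.compl_eq_bot_iff, FTtype_eq_five]
  refine ⟨fun e => e.2.2.trans e.2.1, fun e => ⟨(typePfacts hM h).1.kappa.ne_empty, ?_, ?_⟩⟩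
  · exact le_antisymm (Msigma_der1 hM) (e ▸ Fcore_sub_Msigma hM)
  · exact le_antisymm (Fcore_sub_Msigma hM) (e ▸ Msigma_der1 hM)

theorem TypeP.typeII_IV (hM : IsCoatom M) (h : TypeP M U W W₁ W₂) (h5 : FTtype M ≠ 5) :
    TypeII_IV M U W W₁ W₂ := by
  have hU : U ≠ ⊥ := fun e => h5 ((h.type5_iff hM).2 e)
  by_cases e : fittingHallOf M = sigmaCore M
  · obtain ⟨h1, h2, -⟩ := BGsummaryC10 hM (h.kappaCompl16 hM e) h.ne1 hU
    exact ⟨h, hU, h1, h2⟩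
  · obtain ⟨V, hV⟩ := ex_kappa_compl hM (h.kappa_hall16 hM).2
    obtain ⟨-, h1, h2⟩ := BGsummaryA8 hM hV e
    exact ⟨h, hU, h2, h1⟩

theorem TypeP.Fcore_der16 (h : TypeP M U W W₁ W₂) : fittingHallOf ⁅M, M⁆ = fittingHallOf M :=
  le_antisymm (Fcore_of_isHall_nml (h.sdM.isHall_left h.coprime_der) (der1_nml M).norm)
    (Fcore_le_Fcore_of_le (der1_le M) h.core_le)

theorem TypeP.typeII_iff (hM : IsCoatom M) (h : TypeP M U W W₁ W₂) :
    FTtype M = 2 ↔ TypeII M U W W₁ W₂ := by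
  constructor
  · intro e
    have hb := h.typeII_IV hM (by omega)
    have e1 := Fcore_eq_of_notP1_16 (Or.inr ((FTtype_P2max hM).2 e))
    have hc := h.kappaCompl16 hM e1
    obtain ⟨h1, h2, h3⟩ := BGsummaryC1 hM hc h.ne1
    exact ⟨hb, h1, h2, typeF_of_kappaCompl16 hM hc hb.U_ne (h.Fcore_der16.trans e1) h3,
      h.Fcore_der16⟩
  · intro h2
    obtain ⟨hP, -, -, h3, -⟩ := typePfacts hM h
    exact (FTtype_P2max hM).1 (hP.p1_or_p2.resolve_left fun e =>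
      (h3.1 e).elim h2.base.U_ne h2.not_norm)

theorem TypeP.type34_16 (hM : IsCoatom M) (h : TypeP M U W W₁ W₂) :
    (FTtype M = 3 ∨ FTtype M = 4) ↔ U ≠ ⊥ ∧ N[U] ≤ M := by
  have h1 := (typePfacts hM h).2.2.2.1
  have h2 := h.type5_iff hM
  have h3 := FTtype_le M
  rw [FTtype_P1max hM] at h1
  constructor
  · intro e
    have hU : U ≠ ⊥ := fun e1 => by have := h2.2 e1; omega
    exact ⟨hU, (h1.1 (by omega)).resolve_left hU⟩
  · rintro ⟨hU, hN⟩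
    have h4 := h1.2 (Or.inr hN)
    have h5 : FTtype M ≠ 5 := fun e => hU (h2.1 e)
    omega

theorem TypeP.typeIII_iff (hM : IsCoatom M) (h : TypeP M U W W₁ W₂) :
    FTtype M = 3 ↔ TypeIII M U W W₁ W₂ :=
  ⟨fun e => ⟨h.typeII_IV hM (by omega), h.abl_iff.1 (FTtype_eq_three.1 e).2.2.2,
      ((h.type34_16 hM).1 (Or.inl e)).2⟩,
    fun e => ((h.type34_16 hM).2 ⟨e.base.U_ne, e.norm⟩).resolve_right
      fun e1 => (FTtype_eq_four.1 e1).2.2.2 (h.abl_iff.2 e.abl)⟩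

theorem TypeP.typeIV_iff (hM : IsCoatom M) (h : TypeP M U W W₁ W₂) :
    FTtype M = 4 ↔ TypeIV M U W W₁ W₂ :=
  ⟨fun e => ⟨h.typeII_IV hM (by omega), fun e1 => (FTtype_eq_four.1 e).2.2.2 (h.abl_iff.2 e1),
      ((h.type34_16 hM).1 (Or.inr e)).2⟩,
    fun e => ((h.type34_16 hM).2 ⟨e.base.U_ne, e.norm⟩).resolve_left
      fun e1 => e.not_abl (h.abl_iff.1 (FTtype_eq_three.1 e1).2.2.2)⟩

theorem TypeP.typeV_iff (hM : IsCoatom M) (h : TypeP M U W W₁ W₂) :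
    FTtype M = 5 ↔ TypeV M U W W₁ W₂ := by
  refine ⟨fun e => ?_, fun e => (h.type5_iff hM).2 e.U_eq⟩
  have hU := (h.type5_iff hM).1 e
  have hsd : SD (fittingHallOf M) W₁ M := (h.der_eq_of_bot hU).symm ▸ h.sdM
  refine ⟨h, hU, ?_⟩
  rcases TI_Fcore_or16 hM with hT | ⟨g, hg, hX⟩
  · exact Or.inl hT
  rcases nonTI_Fitting_cases hM hg hX with h1 | ⟨p, hp, -, -, -, h1, h2, h3 | h3⟩
  · exact absurd h1.1 (typePfacts hM h).1.not_fmax
  · have h4 := mem_primesOf_of_not_abl16 h1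
    refine Or.inr (Or.inl ⟨p, h4, ?_, h2⟩)
    obtain ⟨w, hw, e1⟩ := h.cyc1.exists_gen
    have h5 : w ^ (p - 1) ∈ fittingHallOf M ⊓ W₁ :=
      mem_inf.2 ⟨h3 p hp h4.2 w (h.le1 hw), W₁.pow_mem hw _⟩
    rw [hsd.inf] at h5
    rw [← e1, card_zpowers']
    exact orderOf_dvd_of_pow_eq_one (mem_bot.1 h5)
  · exact Or.inr (Or.inr ⟨p, mem_primesOf_of_not_abl16 h1, h3.1,
      hsd.relIndex_left ▸ h3.2.2, h2⟩)

/-! ### Theorems I and II -/

/-- Theorem I (1) -/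
theorem BGsummaryI1 (hH : IsHall ⊤ H) (hn : Nil H) (hx : x ∈ H) (hg : g * x * g⁻¹ ∈ H) :
    ∃ y ∈ N[H], g * x * g⁻¹ = y * x * y⁻¹ := by
  obtain ⟨M, hM, hle⟩ := nilpotent_Hall_sigma hn hH
  obtain ⟨b, hb, e⟩ := sigma_Hall_tame hM (hH.of_le hle le_top) hx hg
  exact ⟨b, (mem_inf.1 hb).2, e⟩

/-- Theorem I (2) (= Peterfalvi (8.8)); `S` is any maximal subgroup of type `P`. -/
theorem BGsummaryI2 (hS : IsCoatom S) (h : TypeP S U W W₁ W₂) :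
    ∃ T V, IsCoatom T ∧ TypeP T V W W₂ W₁ ∧ S ⊓ T = W ∧ NConj S T ∧
      (FTtype S = 2 ∨ FTtype T = 2) ∧
      ∀ M, IsCoatom M → FTtype M ≠ 1 → (∃ g, M = cj g S) ∨ ∃ g, M = cj g T := by
  obtain ⟨hP, hK, e, -⟩ := typePfacts hS h
  obtain ⟨T, hE⟩ := Ptype_embedding hP hK
  obtain ⟨V, hV⟩ := typeP_of_Pmax hE.pmax hE.hall_kappa
  rw [hE.dual, e, sup_comm, ← h.W_eq] at hV
  refine ⟨T, V, hE.pmax.coatom, hV, by rw [hE.inf_eq, e, h.W_eq], hE.nconj, ?_,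
    fun M hM h1 => hE.trans M ((FTtype_Pmax hM).2 h1)⟩
  exact hE.p2.imp (fun h1 => (FTtype_P2max hS).1 h1.1) fun h1 => (FTtype_P2max hE.pmax.coatom).1 h1.1

/-- outside `M_σ`, the set `A₀(M)` is TI in the strong sense. -/
theorem FTsupp0_ti16 (hM : IsCoatom M) (hx : x ∈ FTsupp0 M) (hg : g * x * g⁻¹ ∈ FTsupp0 M)
    (hs : x ∉ sigmaCore M) : g ∈ M := by
  obtain ⟨U, K, h⟩ := kappa_witness hM
  by_cases e : PiElt (kappa M)ᶜ x
  · have h1 : x ∈ FTsupp M := ((mem_FTsupp0_16 hM).1 hx).resolve_right fun e1 => e1.2.1 e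
    have h2 : g * x * g⁻¹ ∈ FTsupp M :=
      ((mem_FTsupp0_16 hM).1 hg).resolve_right fun e1 => e1.2.1 (e.conj g)
    rw [def_FTsupp hM h] at h1 h2
    exact BGsummaryB5 hM h h1.1 hs h2.1 fun e1 =>
      hs (mem_Msigma16 hM (FTsupp0_mem hx) (piElt_conj.1 ((sigmaCore_pi M).piElt e1)))
  · have hP := pmax_of_not_piElt16 hM e
    rw [def_FTsupp0 hM h] at hx hg
    exact (BGsummaryC9 hM h (hP.ne_bot h.hallK)).2.ti x
      ⟨hx.1, fun e1 => e ((mem_sigmaA16 hM h).1 e1).2⟩ g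
      ⟨hg.1, fun e1 => e (piElt_conj.1 ((mem_sigmaA16 hM h).1 e1).2)⟩

/-- Theorem II (= Peterfalvi (8.13)), for `A = A(M)` or `A₀(M)`; it is enough to state it for the
larger set `A₀(M)`. -/
theorem BGsummaryII_fusion (hM : IsCoatom M) (hx : x ∈ FTsupp0 M) (hg : g * x * g⁻¹ ∈ FTsupp0 M) :
    ∃ m ∈ M, g * x * g⁻¹ = m * x * m⁻¹ := by
  by_cases hs : x ∈ sigmaCore M
  · exact BGsummaryD1 hM hs (mem_Msigma16 hM (FTsupp0_mem hg) (((sigmaCore_pi M).piElt hs).conj g))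
  · exact ⟨g, FTsupp0_ti16 hM hx hg hs, rfl⟩

theorem BGsummaryII_sub (hM : IsCoatom M) (hx : x ∈ FTsupp0 M) (hC : ¬ C{x} ≤ M) :
    x ∈ FTsupp1 M := by
  rw [mem_FTsupp1, def_FTcore hM]
  refine ⟨by_contra fun hs => hC fun g hg => FTsupp0_ti16 hM hx ?_ hs, FTsupp0_ne_one hx⟩
  rwa [mem_C1_iff_conj.1 hg]

theorem BGsummaryII (hM : IsCoatom M) (hx : x ∈ FTsupp0 M) (hC : ¬ C{x} ≤ M) :
    UniqMax C{x} (sigN x) ∧ SD (fittingHallOf (sigN x)) (M ⊓ sigN x) (sigN x) ∧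
      (∀ y ∈ FTsupp0 M, (♯(fittingHallOf (sigN x))).Coprime ♯(M ⊓ C{y})) ∧
      x ∈ FTsupp (sigN x) ∧ x ∉ FTsupp1 (sigN x) ∧
      SD (fittingHallOf (sigN x) ⊓ C{x}) (M ⊓ C{x}) C{x} ∧
      (FTtype (sigN x) = 1 ∨ FTtype (sigN x) = 2) ∧
      (FTtype (sigN x) = 2 → (∃ E, Frob M (fittingHallOf M) E ∧ Cyc E) ∧
        ¬ NormedTI ((fittingHallOf M : Set G) \ {1}) M) := by
  have h0 := BGsummaryII_sub hM hx hC
  rw [mem_FTsupp1, def_FTcore hM] at h0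
  obtain ⟨hs, hx1⟩ := h0
  obtain ⟨h1, h2, h3, h4, h5, h6, h7⟩ := BGsummaryD4 hM hs hx1 hC
  have hN := h1.coatom
  refine ⟨h1, h2 ▸ sdprod_sigma hN h6, fun y hy => ?_, h3, ?_, ?_,
    h5.imp (FTtype_Fmax hN).1 (FTtype_P2max hN).1, fun e => ?_⟩
  · rw [h2]
    refine (sigmaCore_pi _).coprime ?_
    by_cases hp : IsPi (sigma (sigN x))ᶜ M
    · exact hp.inf_left _
    obtain ⟨hF, -, hfr⟩ := non_disjoint_signalizer_Frobenius hM hs hx1 hC hp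
    obtain ⟨E, hE⟩ := H26.Hall_exists (sigma M)ᶜ (mmax_sol hM)
    have hnc : NConj M (sigN x) := fun g e => h4 (mem_Msigma16 hN (h1.le (self_mem_C1 x)) (by
      rw [e, sigma_cj]; exact (sigmaCore_pi M).piElt hs))
    rw [FTsupp0_type1 ((FTtype_Fmax hM).1 hF), mem_FTsupp, def_FTcore hM] at hy
    obtain ⟨y1, y2, z, hz, hz1, e⟩ := hy
    have hys : y ∈ sigmaCore M :=
      (hfr E hE).cent1_ker hz hz1 (mem_inf.2 ⟨FTder_le M y1, mem_C1.2 e⟩)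
    exact ((sigmaCore_pi M).mono (sigma_partition hM hN hnc).subset_compl_right).of_le
      ((hfr E hE).cent1_ker hys y2)
  · rw [mem_FTsupp1, def_FTcore hN]
    exact fun e => h4 e.1
  · rw [h2, ← sigR_of_not_le hM hs hC]
    exact (FT_signalizer_sd hM hs hx1).1
  · obtain ⟨h8, h9, h10⟩ := h7 ((FTtype_P2max hN).2 e)
    exact ⟨by rwa [Fcore_eq_of_notP1_16 (Or.inl h8)], h10⟩

end H24
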