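import Mathlib
import Cfsg.Agent.H24.Su0
import Cfsg.Agent.S0820

/-! The frame in `L₃(4)`. -/

set_option autoImplicit false
set_option linter.unusedSectionVars false

namespace H24.Sz

open H26 H26.Gold Subgroup
open H9 (F4)
open H7.SJ (p2)

namespace SA

abbrev SL3 : Type := Matrix.SpecialLinearGroup (Fin 3) F4

def u (x y c : F4) : SL3 := ⟨!![1, x, c; 0, 1, y; 0, 0, 1], by simp [Matrix.det_fin_three]⟩
def dh : SL3 := ⟨!![1, 0, 0; 0, om, 0; 0, 0, om * om], by rw [Matrix.det_fin_three]; decide⟩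
def pw : SL3 := ⟨!![1, 0, 0; 0, 0, 1; 0, 1, 0], by rw [Matrix.det_fin_three]; decide⟩
def pw' : SL3 := ⟨!![0, 1, 0; 1, 0, 0; 0, 0, 1], by rw [Matrix.det_fin_three]; decide⟩

theorem mk_eq (A B : SL3) : (QuotientGroup.mk A : Matrix.ProjectiveSpecialLinearGroup (Fin 3) F4) =
    QuotientGroup.mk B ↔ ∃ r : F4, B.1 = r • A.1 := by
  rw [QuotientGroup.eq, Matrix.SpecialLinearGroup.mem_center_iff]
  constructor
  · rintro ⟨r, -, hr⟩
    refine ⟨r, ?_⟩
    have : B.1 = A.1 * (A⁻¹ * B : SL3).1 := by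
      rw [← Matrix.SpecialLinearGroup.coe_mul, mul_inv_cancel_left]
    rw [this, ← hr, Matrix.scalar_apply, ← Matrix.smul_one_eq_diagonal, mul_smul_comm, mul_one]
  · rintro ⟨r, hr⟩
    refine ⟨r, ?_, ?_⟩
    · have := B.2
      rwa [hr, Matrix.det_smul, A.2, mul_one] at this
    · rw [Matrix.SpecialLinearGroup.coe_mul, hr, mul_smul_comm, ← Matrix.SpecialLinearGroup.coe_mul,
        inv_mul_cancel, Matrix.scalar_apply, ← Matrix.smul_one_eq_diagonal]
      rfl

theorem uv (x y c : F4) : (u x y c).1 = !![1, x, c; 0, 1, y; 0, 0, 1] := rfl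

set_option synthInstance.maxSize 4000 in
set_option synthInstance.maxHeartbeats 400000 in
theorem tri : ∀ r g31 g11 : F4, g11 + g31 = r * g11 → ∀ g32 g12 : F4, g12 + g32 = r * g12 →
    ∀ g21 g23 : F4, g23 = r * (g21 + g23) → ∀ g33 : F4, g33 = r * (g31 + g33) → ∀ g13 : F4,
    g13 + g33 = r * (g11 + g13) → ∀ g22 : F4, g21 = r * g21 → g22 = r * g22 → g31 = r * g31 →
    g32 = r * g32 → g11 * g22 * g33 - g11 * g23 * g32 - g12 * g21 * g33 + g12 * g23 * g31 +
      g13 * g21 * g32 - g13 * g22 * g31 = 1 →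
    g21 = 0 ∧ g31 = 0 ∧ g32 = 0 ∧ g22 = g11 ∧ g33 = g11 ∧ g11 * (g11 * g11) = 1 := by
  decide +kernel

theorem cen {g : SL3} {r : F4} (h : (u 0 0 1 * g).1 = r • (g * u 0 0 1).1) :
    ∃ x y c, ∃ s : F4, g.1 = s • (u x 0 0 * u 0 y 0 * u 0 0 c).1 := by
  have k := fun i j => congrFun (congrFun h i) j
  have hd := g.2
  rw [Matrix.det_fin_three] at hd
  obtain ⟨h1, h2, h3, h4, h5, h6⟩ := tri r (g.1 2 0) (g.1 0 0)
    (by simpa [uv, Matrix.mul_apply, Fin.sum_univ_three] using k 0 0) (g.1 2 1) (g.1 0 1)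
    (by simpa [uv, Matrix.mul_apply, Fin.sum_univ_three] using k 0 1) (g.1 1 0) (g.1 1 2)
    (by simpa [uv, Matrix.mul_apply, Fin.sum_univ_three] using k 1 2) (g.1 2 2)
    (by simpa [uv, Matrix.mul_apply, Fin.sum_univ_three] using k 2 2) (g.1 0 2)
    (by simpa [uv, Matrix.mul_apply, Fin.sum_univ_three] using k 0 2) (g.1 1 1)
    (by simpa [uv, Matrix.mul_apply, Fin.sum_univ_three] using k 1 0)
    (by simpa [uv, Matrix.mul_apply, Fin.sum_univ_three] using k 1 1)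
    (by simpa [uv, Matrix.mul_apply, Fin.sum_univ_three] using k 2 0)
    (by simpa [uv, Matrix.mul_apply, Fin.sum_univ_three] using k 2 1) hd
  have t : ∀ s a : F4, s * (s * s) = 1 → a = s * (s * s * a) := by decide
  have t2 : ∀ s a b c : F4, s * (s * s) = 1 →
      c = s * (s * s * c + s * s * a * (s * s * b) + s * s * a * (s * s * b)) := by decide
  refine ⟨g.1 0 0 * g.1 0 0 * g.1 0 1, g.1 0 0 * g.1 0 0 * g.1 1 2,
    g.1 0 0 * g.1 0 0 * g.1 0 2 + g.1 0 0 * g.1 0 0 * g.1 0 1 * (g.1 0 0 * g.1 0 0 * g.1 1 2),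
    g.1 0 0, ?_⟩
  ext i j
  fin_cases i <;> fin_cases j <;>
    simp [uv, h1, h2, h3, h4, h5]
  exacts [t _ _ h6, t2 _ _ _ _ h6, t _ _ h6]

theorem tv (i j : Fin 3) (h : i ≠ j) (c : F4) : Matrix.SpecialLinearGroup.transvection h c ∈
    [u c 0 0, u 0 c 0, pw * u c 0 0 * pw, pw' * u c 0 0 * pw', pw * u 0 c 0 * pw,
      pw' * (pw * u 0 c 0 * pw) * pw'] := by
  have : ∀ (i j : Fin 3) (c : F4), i ≠ j → ∃ A ∈ [u c 0 0, u 0 c 0, pw * u c 0 0 * pw,
      pw' * u c 0 0 * pw', pw * u 0 c 0 * pw, pw' * (pw * u 0 c 0 * pw) * pw'],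
      Matrix.transvection i j c = A.1 := by decide +kernel
  obtain ⟨A, hA, e⟩ := this i j c h
  rwa [show Matrix.SpecialLinearGroup.transvection h c = A from Subtype.ext e]

end SA

open SA

theorem exists_fr {G : Type*} [Group G] [Finite G] (L : Subgroup G) {F : Type*} [Field F] [Fintype F]
    (hF : Fintype.card F = 4) (e : L ≃* Matrix.ProjectiveSpecialLinearGroup (Fin 3) F) :
    ∃ X : Dat G, X.L = L ∧ X.Fr := by
  let e' := e.trans (H7.pslCongr (FiniteField.ringEquivOfCardEq (K' := F4) (by rw [hF, F4.card])))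
  let ψ : SL3 →* G := L.subtype.comp (e'.symm.toMonoidHom.comp (QuotientGroup.mk' _))
  have m : ∀ A, ψ A ∈ L := fun A => (e'.symm _).2
  have sj : ∀ l ∈ L, ∃ A, ψ A = l := fun l hl => by
    obtain ⟨A, hA⟩ := QuotientGroup.mk_surjective (e' ⟨l, hl⟩)
    exact ⟨A, congrArg Subtype.val (e'.symm_apply_eq.2 hA)⟩
  have eq : ∀ A B, ψ A = ψ B ↔ ∃ r : F4, B.1 = r • A.1 := fun A B =>
    (Subtype.val_injective.comp e'.symm.injective).eq_iff.trans (mk_eq A B)
  have z1 : ∀ c, ψ (u 0 0 c) = 1 → c = 0 := fun c hc => by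
    obtain ⟨r, hr⟩ := (eq _ _).1 (hc.trans (map_one ψ).symm)
    clear hc
    revert r c
    decide +kernel
  have ww : ψ pw * ψ pw = 1 := by rw [← map_mul, show pw * pw = 1 by decide +kernel, map_one]
  have ww' : ψ pw' * ψ pw' = 1 := by rw [← map_mul, show pw' * pw' = 1 by decide +kernel, map_one]
  refine ⟨⟨L, ⊥, fun x => ψ (u x 0 0), fun x => ψ (u 0 x 0), fun x => ψ (u 0 0 x), fun _ => 1,
    fun _ => 1, ψ dh, ψ pw, ψ pw'⟩, rfl, fun _ => m _, fun _ => m _, m _, m _, m _, ?_, ?_, ?_, ?_,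
    ?_, ?_, z1, ?_, ?_, ?_, ?_, ?_, ww, ?_, ?_, ?_, ww', ?_, ?_, fun M h1 h2 h3 h4 l hl => ?_,
    fun l hl l1 l2 => ?_, fun l hl h => ?_, fun M hM => ?_⟩
  iterate 6
    intro x y
    simp only [← map_mul]
    exact congrArg ψ (by revert x y; decide +kernel)
  iterate 3
    intro x
    simp only [mul_inv_eq_iff_eq_mul, ← map_mul]
    exact congrArg ψ (by revert x; decide +kernel)
  · simp only [← map_mul]
    rw [show dh * dh * dh = 1 by decide +kernel, map_one]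
  · intro x
    simp only [mul_inv_eq_iff_eq_mul, ← map_mul]
    exact congrArg ψ (by revert x; decide +kernel)
  · simp only [mul_inv_eq_iff_eq_mul, eq_inv_mul_iff_mul_eq, ← map_mul]
    exact congrArg ψ (by decide +kernel)
  · simp only [← map_mul]
    exact congrArg ψ (by decide +kernel)
  · intro x
    simp only [mul_inv_eq_iff_eq_mul, ← map_mul]
    exact congrArg ψ (by revert x; decide +kernel)
  · simp only [mul_inv_eq_iff_eq_mul, eq_inv_mul_iff_mul_eq, ← map_mul]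
    exact (eq _ _).2 ⟨om * om, by decide +kernel⟩
  · simp only [← map_mul]
    exact congrArg ψ (by decide +kernel)
  · obtain ⟨A, rfl⟩ := sj l hl
    refine H7.sl_transvection_induction (fun A => ψ A ∈ M) (by rw [map_one]; exact one_mem M)
      (fun i j h c => ?_) (fun A B hA hB => by rw [map_mul]; exact mul_mem hA hB) A
    have := tv i j h c
    simp only [List.mem_cons, List.not_mem_nil, or_false] at this
    rcases this with e | e | e | e | e | e <;> simp only [e, map_mul]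
    exacts [h1 c, h2 c, mul_mem (mul_mem h3 (h1 c)) h3, mul_mem (mul_mem h4 (h1 c)) h4,
      mul_mem (mul_mem h3 (h2 c)) h3, mul_mem (mul_mem h4 (mul_mem (mul_mem h3 (h2 c)) h3)) h4]
  · have o : ∀ l (hl : l ∈ L), l ≠ 1 → l * l = 1 → orderOf (e ⟨l, hl⟩) = 2 := fun l hl l1 l2 => by
      rw [e.orderOf_eq, orderOf_mk, H6.orderOf_eq_two_of l2 l1]
    obtain ⟨k, hk⟩ := isConj_iff.1 (Cfsg.Agent.S0820.result hF _ _ (o l hl l1 l2)
      (o _ (m (u 0 0 1)) (fun e => one_ne_zero (z1 1 e)) (by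
        rw [← map_mul, show u 0 0 1 * u 0 0 1 = 1 by decide +kernel, map_one])))
    obtain ⟨k, rfl⟩ := e.surjective k
    rw [← map_inv, ← map_mul, ← map_mul, e.apply_eq_iff_eq] at hk
    exact ⟨k, k.2, congrArg Subtype.val hk⟩
  · obtain ⟨A, rfl⟩ := sj l hl
    simp only [← map_mul] at h
    obtain ⟨r, hr⟩ := (eq _ _).1 h
    obtain ⟨x, y, c, s, hs⟩ := cen hr
    rw [← (eq _ _).2 ⟨s, hs⟩, map_mul, map_mul]
    exact mul_mem (mul_mem (Dat.a_S x) (Dat.b_S y)) (Dat.z_S c)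
  · have := H7.psl_simple (ι := Fin 3) (F := F) (by simp)
    have := e.isSimpleGroup
    exact hM.normal.eq_bot_or_eq_top.imp
      (fun k => (subgroupOf_eq_bot.1 k).eq_bot_of_le hM.le)
      fun k => le_antisymm hM.le (subgroupOf_eq_top.1 k)

end H24.Sz
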