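import Mathlib
import Cfsg.Agent.H24.Su1
import Cfsg.Agent.H25.SEf

/-! The cyclic case. -/

set_option autoImplicit false
set_option linter.unusedSectionVars false

namespace H24.Sz

open H26 H26.Gold Subgroup
open H9 (F4)
open H7.SJ (p2)

theorem Dat.Cy.elim {G : Type*} [Group G] [Finite G] [IsSimpleGroup G] {X : Dat G} (h : X.Cy) :
    False :=
  H25.SE.elim h

end H24.Sz
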