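import Mathlib
import Cfsg.Agent.H24.Su0

/-! Finite computations in `O₄⁺(4)`. -/

set_option autoImplicit false
set_option synthInstance.maxSize 4096
set_option maxRecDepth 100000

namespace H24.Sz

open H9 (F4)

/-- coordinates `a, b, d, r`. -/
abbrev V4 := F4 × F4 × F4 × F4

/-- the cocycle of `P`. -/
def bP (v v' : V4) : F4 := v'.1 * v.2.1 + v.2.2.2 * v'.2.2.1
/-- the commutator form. -/
def BP (v v' : V4) : F4 := bP v v' + bP v' v
/-- the action of `q₁`. -/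
def f1 (x : F4) (v : V4) : V4 := (v.1 + x * v.2.2.2 + x * x * v.2.2.1 + x * x * x * v.2.1, v.2.1,
  v.2.2.1 + x * v.2.1, v.2.2.2 + x * x * v.2.1)
/-- exchange of `a` and `b`. -/
def sw (v : V4) : V4 := (v.2.1, v.1, v.2.2)
/-- the action of `q₂`. -/
def f2 (x : F4) (v : V4) : V4 := sw (f1 x (sw v))
/-- field automorphisms. -/
def fr (l : Bool) (x : F4) : F4 := if l then x * x else x
/-- maps fixing the first two points. -/
def nf (m n : F4) (s l : Bool) (v : V4) : V4 :=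
  (m * fr l v.1, m * fr l v.2.1, m * n * fr l (if s then v.2.2.2 else v.2.2.1),
    m * n * n * fr l (if s then v.2.2.1 else v.2.2.2))
/-- vectors on the five points. -/
def N5 (v : V4) : Prop := (v.1 ≠ 0 ∧ v.2 = 0) ∨ (v.2.1 ≠ 0 ∧ v.1 = 0 ∧ v.2.2 = 0) ∨
  (v.1 ≠ 0 ∧ v.2.1 = v.1 ∧ v.2.2.1 ≠ 0 ∧ v.2.2.2 * v.1 = v.2.2.1 * v.2.2.1)
instance (v : V4) : Decidable (N5 v) := by unfold N5; infer_instance
/-- the form over the prime field. -/
def V0 (v : V4) : Prop := v.1 * v.1 = v.1 ∧ v.2.1 * v.2.1 = v.2.1 ∧ v.2.2.2 = v.2.2.1 * v.2.2.1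
instance (v : V4) : Decidable (V0 v) := by unfold V0; infer_instance

theorem v4_two : ∀ v : V4, v + v = 0 := by decide +kernel
theorem bP_nd : ∀ v : V4, (∀ v', bP v v' = bP v' v) → v = 0 := by decide +kernel
theorem n5_orb : ∀ v, N5 v → ∃ x y, (f2 y (f1 x v)).2 = 0 := by decide +kernel
theorem i_orb : ∀ v, v ≠ 0 → bP v v = 0 → ¬ N5 v → ∃ x y z, (f1 z (f2 y (f1 x v))).2.1 = 0 ∧
    (f1 z (f2 y (f1 x v))).2.2.1 = 0 ∧ (f1 z (f2 y (f1 x v))).2.2.2 ≠ 0 := by decide +kernel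
theorem add_cls : ∀ a b : F4, a ≠ 0 → b ≠ 0 → a + b ≠ 0 → ∃ l, b = a * fr l om ∧
    a + b = a * fr l (1 + om) := by decide
theorem f4_cases : ∀ x : F4, x = 0 ∨ x = 1 ∨ x = om ∨ x = 1 + om := by decide

theorem add_semi {φ : F4 → F4} (h : ∀ x y, φ (x + y) = φ x + φ y) (h1 : ∀ x, φ x = 0 → x = 0) :
    ∃ l, ∀ x, φ x = φ 1 * fr l x := by
  have h0 : φ 0 = 0 := by simpa using h 0 0
  obtain ⟨l, k1, k2⟩ := add_cls (φ 1) (φ om) (fun e => absurd (h1 _ e) (by decide))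
    (fun e => absurd (h1 _ e) (by decide)) (fun e => absurd (h1 _ ((h _ _).trans e)) (by decide))
  refine ⟨l, fun x => ?_⟩
  rcases f4_cases x with rfl | rfl | rfl | rfl
  · cases l <;> simp [h0, fr]
  · cases l <;> simp [fr]
  · exact k1
  · exact (h _ _).trans k2

theorem fr_mul : ∀ l x y, fr l (x * y) = fr l x * fr l y := by decide
theorem fr_false (x : F4) : fr false x = x := rfl
theorem fr_true (x : F4) : fr true x = x * x := rfl
theorem fr_one : ∀ l, fr l 1 = 1 := by decide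
theorem fr_zero : ∀ l, fr l 0 = 0 := by decide

theorem to2 : ∀ u : V4, N5 u → u.2 = 0 → ∀ v, N5 v → BP u v ≠ 0 → ∃ x, (f1 x v).1 = 0 := by
  decide +kernel
theorem nf_aux : ∀ m m' : F4, m * m' ≠ 0 → ∀ a b, b * a = 0 → ∀ c d, d * c = 0 → b * c + d * a = m * m' →
    N5 (m, m', a + c, b + d) → ∃ n s, n ≠ 0 ∧ m' = m ∧ ((0, 0, a, b) : V4) = nf m n s false (0, 0, 1, 0) ∧
      ((0, 0, c, d) : V4) = nf m n s false (0, 0, 0, 1) := by decide +kernel
theorem nf_aux2 : ∀ m n : F4, m ≠ 0 → n ≠ 0 → ∀ x y : F4,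
    (m * x = m * m * y → x = m * y) ∧ (x * (m * n) = m * m * y → x = m * n * n * y) ∧
      (m * n * n * x = m * m * y → x = m * n * y) := by decide +kernel

/-- maps preserving the forms and fixing the first two points. -/
theorem nf_of {f : V4 → V4} {φ : F4 → F4} (ha : ∀ u v, f (u + v) = f u + f v)
    (hφ : ∀ x y, φ (x + y) = φ x + φ y) (hi : ∀ x, φ x = 0 → x = 0)
    (hq : ∀ v, bP (f v) (f v) = φ (bP v v)) (hb : ∀ u v, BP (f u) (f v) = φ (BP u v))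
    (hn : ∀ v, N5 v → N5 (f v)) (h1 : (f (1, 0, 0, 0)).2 = 0) (h2 : (f (0, 1, 0, 0)).1 = 0) :
    ∃ m n s l, m ≠ 0 ∧ n ≠ 0 ∧ (∀ v, f v = nf m n s l v) ∧ ∀ c, φ c = m * m * fr l c := by
  obtain ⟨l, hl⟩ := add_semi hφ hi
  have φ0 : φ 0 = 0 := by simpa using hφ 0 0
  have φ1 : φ 1 ≠ 0 := fun e => one_ne_zero (hi _ e)
  have n2 := hn (0, 1, 0, 0) (by decide)
  have n3 := hn (1, 1, 1, 1) (by decide)
  rw [show ((1, 1, 1, 1) : V4) = (1, 0, 0, 0) + (0, 1, 0, 0) + (0, 0, 1, 0) + (0, 0, 0, 1) by decide,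
    ha, ha, ha] at n3
  have b1 := fun v => hb v (1, 0, 0, 0)
  have b2 := fun v => hb v (0, 1, 0, 0)
  have b3 := fun v => hb v (0, 0, 1, 0)
  have b4 := fun v => hb v (0, 0, 0, 1)
  have c12 := b2 (1, 0, 0, 0)
  have c31 := b1 (0, 0, 1, 0)
  have c32 := b2 (0, 0, 1, 0)
  have c41 := b1 (0, 0, 0, 1)
  have c42 := b2 (0, 0, 0, 1)
  have c34 := b4 (0, 0, 1, 0)
  have q3 := hq (0, 0, 1, 0)
  have q4 := hq (0, 0, 0, 1)
  generalize f (1, 0, 0, 0) = u1 at *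
  generalize f (0, 1, 0, 0) = u2 at *
  generalize f (0, 0, 1, 0) = u3 at *
  generalize f (0, 0, 0, 1) = u4 at *
  obtain ⟨m, u1⟩ := u1
  obtain ⟨x, m', u2⟩ := u2
  obtain ⟨a1, a2, a, b⟩ := u3
  obtain ⟨c1, c2, c, d⟩ := u4
  obtain rfl : u1 = (0, 0, 0) := h1
  obtain rfl : x = 0 := h2
  obtain rfl : u2 = (0, 0) := by
    rcases n2 with h | h | h
    exacts [absurd rfl h.1, h.2.2, absurd rfl h.1]
  simp only [BP, bP, mul_zero, zero_mul, add_zero, zero_add, mul_one, φ0] at c12 c31 c32 c41 c42 c34 q3 q4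
  have m0 : m * m' ≠ 0 := by rwa [c12]
  obtain rfl := (mul_eq_zero.1 c31).resolve_left (left_ne_zero_of_mul m0)
  obtain rfl := (mul_eq_zero.1 c32).resolve_right (right_ne_zero_of_mul m0)
  obtain rfl := (mul_eq_zero.1 c41).resolve_left (left_ne_zero_of_mul m0)
  obtain rfl := (mul_eq_zero.1 c42).resolve_right (right_ne_zero_of_mul m0)
  obtain ⟨n, s, n0, rfl, e3, e4⟩ := nf_aux m m' m0 a b (by simpa using q3) c d (by simpa using q4)
    (by simpa [c12] using c34) (by simpa using n3)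
  have m1 := left_ne_zero_of_mul m0
  refine ⟨m', n, s, l, m1, n0, fun v => ?_, fun c => by rw [hl, c12]⟩
  have k := nf_aux2 m' n m1 n0
  have d1 := b1 v
  have d2 := b2 v
  have d3 := b3 v
  have d4 := b4 v
  rw [e3] at d3
  rw [e4] at d4
  rw [hl, ← c12] at d1 d2 d3 d4
  cases s <;> simp only [BP, bP, nf, fr_false, mul_zero, zero_mul, add_zero, zero_add, mul_one, one_mul,
    if_true, if_false, Bool.false_eq_true] at d1 d2 d3 d4 ⊢
  · exact Prod.ext ((k _ _).1 ((mul_comm _ _).trans d2)) (Prod.ext ((k _ _).1 d1)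
      (Prod.ext ((k _ _).2.2 d4) ((k _ _).2.1 d3)))
  · exact Prod.ext ((k _ _).1 ((mul_comm _ _).trans d2)) (Prod.ext ((k _ _).1 d1)
      (Prod.ext ((k _ _).2.2 d3) ((k _ _).2.1 d4)))

end H24.Sz
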