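import Mathlib
import Cfsg.Agent.H24.HeS
import Cfsg.Agent.H24.HeG

/-! Special `2`-groups in coordinates. -/

set_option autoImplicit false
set_option linter.unusedSectionVars false

namespace H24.Sz

open H26 H26.Gold Subgroup
open H7.SJ (p2)

variable {G : Type*} [Group G] [Finite G] {V W : Type} [AddCommGroup V] [AddCommGroup W]

theorem two_mem {A O : Subgroup G} {g : G} (hA : TwoG A) (hO : OddG O) (hc : O ≤ C[A])
    (hg : g ∈ A ⊔ O) (h2 : TwoE g) : g ∈ A :=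
  (He.hall2 hA hO hc).1.mem_of_nml (He.hall2 hA hO hc).2.1 h2 hg

/-- the group generated by `p` and `z`. -/
def Hs (p : V → G) (z : W → G) : Subgroup G := closure (Set.range p ∪ Set.range z)

/-- the group generated by `z`. -/
def Zs (z : W → G) : Subgroup G := closure (Set.range z)

/-- `p v * z c` are the elements of a special `2`-group. -/
structure Ex (p : V → G) (z : W → G) (β : V → V → W) : Prop where
  mul : ∀ v v', p v * p v' = p (v + v') * z (β v v')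
  z_add : ∀ c c', z (c + c') = z c * z c'
  cen : ∀ v c, z c * p v = p v * z c
  p0 : p 0 = 1
  inj : ∀ v c, p v * z c = 1 → v = 0 ∧ c = 0
  vv : ∀ v : V, v + v = 0
  cc : ∀ c : W, c + c = 0
  nd : ∀ v, (∀ v', β v v' = β v' v) → v = 0

/-- `g` acts by `f` on the quotient and by `φ` on the centre. -/
def Ac (p : V → G) (z : W → G) (g : G) (f : V → V) (φ : W → W) : Prop :=
  (∀ v, ∃ c, g * p v * g⁻¹ = p (f v) * z c) ∧ ∀ c, g * z c * g⁻¹ = z (φ c)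

variable {p : V → G} {z : W → G} {β : V → V → W} {g g' u : G} {f f' : V → V} {φ φ' : W → W}
  {v v' : V} {c c' : W}

theorem p_Hs (v : V) : p v ∈ Hs p z := subset_closure (Or.inl ⟨v, rfl⟩)
theorem z_Hs (c : W) : z c ∈ Hs p z := subset_closure (Or.inr ⟨c, rfl⟩)
theorem pz_Hs (v : V) (c : W) : p v * z c ∈ Hs p z := mul_mem (p_Hs v) (z_Hs c)
theorem Hs_le {M : Subgroup G} (h1 : ∀ v, p v ∈ M) (h2 : ∀ c, z c ∈ M) : Hs p z ≤ M :=
  (closure_le _).2 (by rintro _ (⟨v, rfl⟩ | ⟨c, rfl⟩); exacts [h1 v, h2 c])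
theorem z_Zs (c : W) : z c ∈ Zs z := subset_closure ⟨c, rfl⟩
theorem Zs_le {M : Subgroup G} (h2 : ∀ c, z c ∈ M) : Zs z ≤ M :=
  (closure_le _).2 (by rintro _ ⟨c, rfl⟩; exact h2 c)

theorem Ac.congr (h : Ac p z g f φ) (h1 : ∀ v, f v = f' v) (h2 : ∀ c, φ c = φ' c) :
    Ac p z g f' φ' := by rwa [← funext h1, ← funext h2]

theorem Ac.norm (h : Ac p z g f φ) : g ∈ N[Hs p z] :=
  mem_N_of_cj_le (cj_le_iff.2 (Hs_le (fun v => mem_cj.2 (by
    obtain ⟨c, e⟩ := h.1 v; rw [inv_inv, e]; exact pz_Hs _ _))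
    fun c => mem_cj.2 (by rw [inv_inv, h.2]; exact z_Hs _)))

theorem Ac.normZ (h : Ac p z g f φ) : g ∈ N[Zs z] :=
  mem_N_of_cj_le (cj_le_iff.2 (Zs_le fun c => mem_cj.2 (by rw [inv_inv, h.2]; exact z_Zs _)))

namespace Ex

variable (e : Ex p z β)
include e

theorem z0 : z 0 = 1 := by simpa using (e.z_add 0 0).symm
theorem zz (c : W) : z c * z c = 1 := by rw [← e.z_add, e.cc, e.z0]
theorem zi (c : W) : (z c)⁻¹ = z c := inv_eq_of_mul_eq_one_right (e.zz c)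
theorem z_inj (h : z c = z c') : c = c' := by
  have := (e.inj 0 (c + c') (by rw [e.p0, one_mul, e.z_add, h, e.zz])).2
  rw [← add_zero c, ← e.cc c', ← add_assoc, this, zero_add]

theorem mulz (v : V) (c : W) (v' : V) (c' : W) :
    p v * z c * (p v' * z c') = p (v + v') * z (β v v' + c + c') := by
  rw [mul_assoc (p v), ← mul_assoc (z c), e.cen, ← mul_assoc, ← mul_assoc, e.mul, e.z_add, e.z_add]
  group

theorem sq (v : V) (c : W) : p v * z c * (p v * z c) = z (β v v) := by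
  rw [e.mulz, e.vv, e.p0, one_mul, add_assoc, e.cc, add_zero]

theorem inv (v : V) (c : W) : (p v * z c)⁻¹ = p v * z (β v v + c) :=
  inv_eq_of_mul_eq_one_right (by
    rw [e.mulz, e.vv, e.p0, one_mul, e.cc, e.z0])

theorem eq (h : p v * z c = p v' * z c') : v = v' ∧ c = c' := by
  have h1 := (e.inj (v + v') _ (by rw [← e.mulz, h, ← e.inv, mul_inv_cancel])).1
  obtain rfl : v = v' := by rw [← add_zero v, ← e.vv v', ← add_assoc, h1, zero_add]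
  exact ⟨rfl, e.z_inj (mul_left_cancel h)⟩

theorem eqz (h : p v * z c = z c') : v = 0 ∧ c = c' := e.eq (by rw [h, e.p0, one_mul])

theorem mem : u ∈ Hs p z ↔ ∃ v c, u = p v * z c := by
  refine ⟨fun hu => ?_, fun ⟨v, c, h⟩ => h ▸ pz_Hs v c⟩
  let M : Subgroup G := ⟨⟨⟨{u | ∃ v c, u = p v * z c}, by
    rintro _ _ ⟨v, c, rfl⟩ ⟨v', c', rfl⟩; exact ⟨_, _, e.mulz v c v' c'⟩⟩,
    ⟨0, 0, by simp [e.p0, e.z0]⟩⟩, by rintro _ ⟨v, c, rfl⟩; exact ⟨_, _, e.inv v c⟩⟩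
  exact Hs_le (M := M) (fun v => ⟨v, 0, by simp [e.z0]⟩) (fun c => ⟨0, c, by simp [e.p0]⟩) hu

theorem memZ : u ∈ Zs z ↔ ∃ c, u = z c := by
  refine ⟨fun hu => ?_, fun ⟨c, h⟩ => h ▸ z_Zs c⟩
  let M : Subgroup G := ⟨⟨⟨{u | ∃ c, u = z c}, by
    rintro _ _ ⟨c, rfl⟩ ⟨c', rfl⟩; exact ⟨_, (e.z_add c c').symm⟩⟩, ⟨0, e.z0.symm⟩⟩, by
    rintro _ ⟨c, rfl⟩; exact ⟨_, e.zi c⟩⟩
  exact Zs_le (M := M) (fun c => ⟨c, rfl⟩) hu

theorem eq_zero (h : p v * z c ∈ Zs z) : v = 0 := by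
  obtain ⟨c', h⟩ := e.memZ.1 h; exact (e.eqz h).1

theorem cenH (hu : u ∈ Hs p z) (c : W) : z c * u = u * z c := by
  obtain ⟨v, c', rfl⟩ := e.mem.1 hu
  rw [← mul_assoc, e.cen, mul_assoc, mul_assoc, ← e.z_add, ← e.z_add, add_comm]

theorem conj (v : V) (c : W) (v' : V) (c' : W) :
    p v * z c * (p v' * z c') * (p v * z c)⁻¹ = p v' * z (β v v' + β v' v + c') := by
  rw [mul_inv_eq_iff_eq_mul, e.mulz, e.mulz, add_comm v v']
  congr 2
  have := e.cc (β v' v)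
  rw [← sub_eq_zero, show β v v' + c + c' - (β v' v + (β v v' + β v' v + c') + c) =
    -(β v' v + β v' v) by abel, this, neg_zero]

theorem cm (v : V) (c : W) (v' : V) (c' : W) :
    p v * z c * (p v' * z c') * (p v * z c)⁻¹ * (p v' * z c')⁻¹ = z (β v v' + β v' v) := by
  rw [e.conj, mul_inv_eq_iff_eq_mul, e.cenH (pz_Hs v' c'), mul_assoc, ← e.z_add, add_comm c']

theorem comm_iff : p v * z c * (p v' * z c') = p v' * z c' * (p v * z c) ↔ β v v' + β v' v = 0 := by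
  rw [← mul_inv_eq_iff_eq_mul, ← mul_inv_eq_one, e.cm, ← e.z0]
  exact ⟨e.z_inj, fun h => by rw [h]⟩

theorem center : Z[Hs p z] = Zs z := by
  refine le_antisymm (fun u hu => ?_) (le_inf (Zs_le z_Hs) (Zs_le fun c => mem_C'.2 fun u hu =>
    e.cenH hu c))
  obtain ⟨v, c, rfl⟩ := e.mem.1 hu.1
  obtain rfl := e.nd v fun v' => by
    have := e.comm_iff.1 (mem_C'.1 hu.2 _ (pz_Hs v' 0))
    rw [← add_zero (β v v'), ← e.cc (β v' v), ← add_assoc, this, zero_add]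
  simpa [e.p0] using z_Zs c

theorem ac_of (hg : g ∈ N[Hs p z]) : ∃ f φ, Ac p z g f φ := by
  choose f c h1 using fun v => e.mem.1 (conj_mem hg (p_Hs v))
  choose φ h2 using fun c => e.memZ.1 (conj_mem (e.center ▸ norm_Z le_rfl hg) (z_Zs c))
  exact ⟨f, φ, fun v => ⟨c v, h1 v⟩, h2⟩

theorem ac_pz (h : Ac p z g f φ) (v : V) (c : W) : ∃ c', g * (p v * z c) * g⁻¹ = p (f v) * z c' := by
  obtain ⟨c', h1⟩ := h.1 v
  exact ⟨c' + φ c, by rw [← conj_mul, h1, h.2, e.z_add, mul_assoc]⟩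

theorem ac_mul (h : Ac p z g f φ) (h' : Ac p z g' f' φ') :
    Ac p z (g * g') (fun v => f (f' v)) fun c => φ (φ' c) := ⟨fun v => by
  obtain ⟨c, h1⟩ := h'.1 v
  obtain ⟨c', h2⟩ := e.ac_pz h (f' v) c
  exact ⟨c', by rw [← h2, ← h1]; group⟩, fun c => by rw [← h.2, ← h'.2]; group⟩

theorem ac_in (hu : u ∈ Hs p z) : Ac p z u (fun v => v) fun c => c := by
  refine ⟨fun v' => ?_, fun c => by rw [← e.cenH hu, mul_inv_cancel_right]⟩
  obtain ⟨v, c, rfl⟩ := e.mem.1 hu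
  exact ⟨_, by simpa [e.z0] using e.conj v c v' 0⟩

theorem ac_cent (hu : u ∈ C[Hs p z]) : Ac p z u (fun v => v) fun c => c :=
  ⟨fun v => ⟨0, by rw [conj_eq_of_mem_C hu (p_Hs v), e.z0, mul_one]⟩,
    fun c => conj_eq_of_mem_C hu (z_Hs c)⟩

theorem ac_eq (h : Ac p z g f φ) (h1 : g * (p v * z c) * g⁻¹ = p v' * z c') : f v = v' := by
  obtain ⟨c, h2⟩ := e.ac_pz h v c
  exact (e.eq (h2.symm.trans h1)).1

theorem ac_uniq (h : Ac p z g f φ) (h' : Ac p z g f' φ') : (∀ v, f v = f' v) ∧ ∀ c, φ c = φ' c :=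
  ⟨fun v => by
    obtain ⟨c, h1⟩ := h'.1 v
    exact e.ac_eq h (c := 0) (c' := c) (by rwa [e.z0, mul_one]),
  fun c => e.z_inj ((h.2 c).symm.trans (h'.2 c))⟩

theorem ac_inv (h : Ac p z g f φ) (h1 : ∀ v, f' (f v) = v) (h2 : ∀ c, φ' (φ c) = c) :
    Ac p z g⁻¹ f' φ' := by
  obtain ⟨f1, φ1, k⟩ := e.ac_of (inv_mem h.norm)
  have := e.ac_uniq (e.ac_mul h k) (by rw [mul_inv_cancel]; exact e.ac_in (one_mem _))
  exact k.congr (fun v => by rw [← h1 (f1 v), this.1]) fun c => by rw [← h2 (φ1 c), this.2]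

theorem ac_sq (h : Ac p z g f φ) (h2 : g * g ∈ Hs p z) : (∀ v, f (f v) = v) ∧ ∀ c, φ (φ c) = c :=
  e.ac_uniq (e.ac_mul h h) (e.ac_in h2)

theorem ac_add (h : Ac p z g f φ) (v v' : V) : f (v + v') = f v + f v' := by
  obtain ⟨c, h1⟩ := h.1 v
  obtain ⟨c', h2⟩ := h.1 v'
  exact e.ac_eq h (by rw [← e.mul, ← conj_mul, h1, h2, e.mulz])

theorem ac_addZ (h : Ac p z g f φ) (c c' : W) : φ (c + c') = φ c + φ c' :=
  e.z_inj (by rw [← h.2, e.z_add, e.z_add, ← h.2, ← h.2, conj_mul])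

theorem ac_sqf (h : Ac p z g f φ) (v : V) : β (f v) (f v) = φ (β v v) := by
  obtain ⟨c, h1⟩ := h.1 v
  refine e.z_inj ?_
  rw [← e.sq _ c, ← h1, ← h.2, conj_mul, e.mul, e.vv, e.p0, one_mul]

theorem ac_cm (h : Ac p z g f φ) (v v' : V) :
    β (f v) (f v') + β (f v') (f v) = φ (β v v' + β v' v) := by
  obtain ⟨c, h1⟩ := e.ac_pz h v 0
  obtain ⟨c', h2⟩ := e.ac_pz h v' 0
  refine e.z_inj ?_
  rw [← e.cm _ c _ c', ← h1, ← h2, ← h.2, ← e.cm v 0 v' 0]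
  group

theorem ac_inj (h : Ac p z g f φ) (h1 : f v = 0) : v = 0 := by
  obtain ⟨c, h2⟩ := e.ac_pz h v 0
  rw [h1, e.p0, one_mul] at h2
  exact e.eq_zero ((conj_mem_iff h.normZ).1 (by rw [h2]; exact z_Zs c))

theorem ac_injZ (h : Ac p z g f φ) (h1 : φ c = 0) : c = 0 :=
  e.z_inj (by rw [e.z0, ← conj_eq_one_iff' (g := g), h.2, h1, e.z0])

theorem card [Fintype V] [Fintype W] : ♯(Hs p z) = Fintype.card V * Fintype.card W := by
  have : Function.Bijective fun v : V × W => (⟨p v.1 * z v.2, pz_Hs _ _⟩ : Hs p z) :=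
    ⟨fun v v' h => Prod.ext (e.eq (congrArg Subtype.val h)).1 (e.eq (congrArg Subtype.val h)).2,
      fun ⟨u, hu⟩ => by obtain ⟨v, c, rfl⟩ := e.mem.1 hu; exact ⟨(v, c), rfl⟩⟩
  rw [← Nat.card_eq_of_bijective _ this, Nat.card_eq_fintype_card, Fintype.card_prod]

theorem two : TwoG (Hs p z) := isPi_iff_piElt.2 fun u hu => by
  obtain ⟨v, c, rfl⟩ := e.mem.1 hu
  refine piElt_of_pow_eq_one (n := 4) (fun q hq h => ?_) (by
    rw [show 4 = 2 * 2 from rfl, pow_mul, _root_.sq (p v * z c), e.sq, _root_.sq, e.zz])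
  exact (Nat.prime_dvd_prime_iff_eq hq p2).1 (hq.dvd_of_dvd_pow (n := 2) h)

/-- the subgroup over a subgroup of the quotient. -/
def sub (s : V → Prop) (h0 : s 0) (h1 : ∀ v v', s v → s v' → s (v + v')) : Subgroup G where
  carrier := {u | ∃ v c, s v ∧ u = p v * z c}
  mul_mem' := by
    rintro _ _ ⟨v, c, h, rfl⟩ ⟨v', c', h', rfl⟩; exact ⟨_, _, h1 _ _ h h', e.mulz v c v' c'⟩
  one_mem' := ⟨0, 0, h0, by simp [e.p0, e.z0]⟩
  inv_mem' := by rintro _ ⟨v, c, h, rfl⟩; exact ⟨_, _, h, e.inv v c⟩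

/-- fixed points in a coset under a free action. -/
theorem fix (h : Ac p z g f φ) (h2 : g * g = 1) (h3 : ∀ v, f v = v → ∃ w, v = w + f w)
    (h4 : ∀ c, φ c = c → ∃ w, c = w + φ w) {x : G} (hx : x⁻¹ * (g * x * g⁻¹) ∈ Hs p z) :
    ∃ y ∈ Hs p z, g * (x * y) * g⁻¹ = x * y := by
  have k : ∀ x u, g * x * g⁻¹ = x * u → g * u * g⁻¹ = u⁻¹ := fun x u h => by
    have : g * (g * x * g⁻¹) * g⁻¹ = x := by
      rw [show g * (g * x * g⁻¹) * g⁻¹ = g * g * x * (g * g)⁻¹ by group, h2]; group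
    rw [h, ← conj_mul, h, mul_assoc, mul_eq_left] at this
    exact eq_inv_of_mul_eq_one_right this
  obtain ⟨v, c, h5⟩ := e.mem.1 hx
  rw [inv_mul_eq_iff_eq_mul] at h5
  obtain ⟨w, rfl⟩ := h3 v (e.ac_eq h ((k _ _ h5).trans (e.inv v c)))
  obtain ⟨c1, h6⟩ := e.ac_pz h w 0
  obtain ⟨c2, h7⟩ : ∃ c2, g * (x * (p w * z 0)) * g⁻¹ = x * (p w * z 0) * z c2 := by
    rw [← conj_mul, h5, h6, mul_assoc x, e.mulz, add_assoc w, e.vv, add_zero, e.z0, mul_one]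
    exact ⟨_, (mul_assoc _ _ _).symm⟩
  obtain ⟨c3, rfl⟩ := h4 c2 (e.z_inj (by rw [← h.2, k _ _ h7, e.zi]))
  refine ⟨p w * z c3, pz_Hs _ _, ?_⟩
  rw [e.z0, mul_one] at h7
  rw [← mul_assoc x, ← conj_mul, h7, h.2, mul_assoc, ← e.z_add, add_assoc, e.cc, add_zero]

end Ex

end H24.Sz
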