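import Mathlib
import Cfsg.Agent.H24.Su1
import Cfsg.Agent.H24.SuX
import Cfsg.Agent.H24.SuF0

/-! The group `P = 2²⁺⁸`. -/

set_option autoImplicit false
set_option linter.unusedSectionVars false
set_option synthInstance.maxSize 4096
set_option maxRecDepth 100000

namespace H24.Sz

open H26 H26.Gold Subgroup
open H9 (F4)
open H7.SJ (p2 mem_of_odd)

namespace Dat

variable {G : Type*} [Group G] (X : Dat G)

/-- the elements of `P`. -/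
def pv (v : V4) : G := X.a v.1 * X.b v.2.1 * (X.d v.2.2.1 * X.r v.2.2.2)
/-- the group `2²⁺⁸`. -/
def P : Subgroup G := Hs X.pv X.z
/-- action on `P`. -/
abbrev AP (g : G) (f : V4 → V4) (φ : F4 → F4) : Prop := Ac X.pv X.z g f φ

variable {X} [Finite G] {g u e : G} {x y c : F4} {v : V4} {f : V4 → V4} {φ : F4 → F4}

theorem cj_pv : (X.cj g).pv v = g * X.pv v * g⁻¹ := by simp only [pv, cj]; group

theorem cj_P : (X.cj g).P = H24.cj g X.P := by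
  rw [P, P, Hs, Hs, cj_def, MonoidHom.map_closure, Set.image_union, ← Set.range_comp,
    ← Set.range_comp]
  congr 2
  exact congrArg _ (funext fun v => cj_pv)

theorem pz_of {v' : V4} (e : v = v') : ∃ c', X.pv v * X.z c = X.pv v' * X.z c' := ⟨c, e ▸ rfl⟩

theorem NC.cj (h : X.NC) (g : G) : (X.cj g).NC := ⟨h.toS3.cj g, h.top⟩

namespace NC

variable (h : X.NC)
include h

theorem radd (x y : F4) : X.r (x + y) = X.r x * X.r y := h.r_add x (h.top x) y (h.top y)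
theorem rk (x : F4) : X.r x ∈ X.K := h.rK x (h.top x)
theorem rS (x : F4) : X.r x ∈ C[X.S] := C_anti h.S_L (h.rk x)
theorem d0 : X.d 0 = 1 := add_zero' h.d_add
theorem dd (x : F4) : X.d x * X.d x = 1 := add_sq h.d_add x
theorem di (x : F4) : (X.d x)⁻¹ = X.d x := add_inv h.d_add x
theorem ri (x : F4) : (X.r x)⁻¹ = X.r x := add_inv h.radd x
theorem q0 : X.q 0 = 1 := add_zero' h.q_add
theorem qq (x : F4) : X.q x * X.q x = 1 := add_sq h.q_add x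
theorem qi (x : F4) : (X.q x)⁻¹ = X.q x := add_inv h.q_add x
theorem drS (x y : F4) : X.d x * X.r y ∈ C[X.S] := mul_mem (h.dS x) (h.rS y)

theorem rd (x y : F4) : X.r y * X.d x = X.d x * X.r y * X.z (y * x) := by
  have := h.dr x y (h.top y)
  rw [mul_inv_eq_iff_eq_mul] at this
  rw [this, mul_assoc (X.r y), mem_C.1 (h.dS x) _ (z_S _), mul_assoc, mul_assoc, h.zz, mul_one]

theorem dr_mul (x y x' y' : F4) : X.d x * X.r y * (X.d x' * X.r y') =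
    X.d (x + x') * X.r (y + y') * X.z (y * x') := by
  rw [mul_assoc, ← mul_assoc (X.r y), h.rd, h.d_add, h.radd, mul_assoc _ (X.z _),
    mem_C.1 (h.rS y') _ (z_S _)]
  group

theorem pv0 : X.pv 0 = 1 := by simp [pv, h.a0, h.b0, h.d0, h.r0]
theorem pa (x : F4) : X.pv (x, 0, 0, 0) = X.a x := by simp [pv, h.b0, h.d0, h.r0]
theorem pb (x : F4) : X.pv (0, x, 0, 0) = X.b x := by simp [pv, h.a0, h.d0, h.r0]
theorem pd (x : F4) : X.pv (0, 0, x, 0) = X.d x := by simp [pv, h.a0, h.b0, h.r0]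
theorem pr (x : F4) : X.pv (0, 0, 0, x) = X.r x := by simp [pv, h.a0, h.b0, h.d0]

theorem pa' (x : F4) : X.a x = X.pv (x, 0, 0, 0) * X.z 0 := by rw [h.pa, h.z0, mul_one]
theorem pb' (x : F4) : X.b x = X.pv (0, x, 0, 0) * X.z 0 := by rw [h.pb, h.z0, mul_one]
theorem pd' (x : F4) : X.d x = X.pv (0, 0, x, 0) * X.z 0 := by rw [h.pd, h.z0, mul_one]
theorem pr' (x : F4) : X.r x = X.pv (0, 0, 0, x) * X.z 0 := by rw [h.pr, h.z0, mul_one]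
theorem pz' (x : F4) : X.z x = X.pv 0 * X.z x := by rw [h.pv0, one_mul]

theorem exP : Ex X.pv X.z bP := by
  have k : ∀ v c, X.z c * X.pv v = X.pv v * X.z c := fun v c => by
    rw [pv, ← mul_assoc, ← h.S_z (mul_mem (a_S _) (b_S _)), mul_assoc, mem_C.1 (h.drS _ _) _ (z_S c),
      ← mul_assoc]
  refine ⟨fun v v' => ?_, h.z_add, k, h.pv0, fun v c e => ?_, v4_two, f4_add_self, bP_nd⟩
  · have := h.mul_S v.1 v.2.1 0 v'.1 v'.2.1 0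
    simp only [h.z0, mul_one, add_zero, zero_add] at this
    rw [pv, pv, mul_assoc, ← mul_assoc (X.d _ * _), ← mem_C.1 (h.drS _ _) _ (mul_mem (a_S _) (b_S _)),
      mul_assoc (X.a _ * _), ← mul_assoc, this, h.dr_mul, mul_assoc (X.a _ * _),
      ← mul_assoc (X.z _), mem_C.1 (h.drS _ _) _ (z_S _), bP, h.z_add, pv]
    simp only [Prod.fst_add, Prod.snd_add, mul_assoc]
  · obtain ⟨x, y, δ, ρ⟩ := v
    have e1 : X.d δ * X.r ρ = (X.a x * X.b y * X.z c)⁻¹ := by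
      rw [eq_inv_iff_mul_eq_one, ← mem_C.1 (h.drS _ _) _ (mul_mem (mul_mem (a_S _) (b_S _)) (z_S _)),
        ← e, pv, mul_assoc, mul_assoc _ _ (X.z c), mem_C.1 (h.drS _ _) _ (z_S c)]
    have hL : X.d δ * X.r ρ ∈ X.L := e1 ▸ h.S_L (inv_mem (h.mem_S.2 ⟨_, _, _, rfl⟩))
    have e2 := mem_C.1 (h.rk 1) _ hL
    rw [← mul_assoc, h.rd, mul_assoc (X.d δ), mul_assoc (X.d δ), mul_assoc (X.d δ), mul_right_inj,
      mul_assoc, mem_C.1 (h.rS ρ) _ (z_S _), ← mul_assoc, ← h.radd, ← h.radd, add_comm, left_eq_mul,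
      one_mul] at e2
    obtain rfl := h.z_inj _ e2
    rw [h.d0, one_mul] at hL e1
    obtain rfl := h.r_inj ρ (h.top ρ) (mem_bot.1 (h.LK.le ⟨hL, h.rk ρ⟩))
    rw [h.r0, eq_comm, inv_eq_one] at e1
    obtain ⟨rfl, rfl, rfl⟩ := h.eq_one_S e1
    exact ⟨rfl, rfl⟩

theorem aP (x : F4) : X.a x ∈ X.P := h.pa x ▸ p_Hs _
theorem bP' (x : F4) : X.b x ∈ X.P := h.pb x ▸ p_Hs _
theorem dP (x : F4) : X.d x ∈ X.P := h.pd x ▸ p_Hs _
theorem rP (x : F4) : X.r x ∈ X.P := h.pr x ▸ p_Hs _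
theorem S_P : X.S ≤ X.P := S_le h.aP h.bP' z_Hs
theorem R_P : X.R ≤ X.P := R_le fun x _ => h.rP x
theorem P_le {M : Subgroup G} (h1 : X.S ≤ M) (h2 : ∀ x, X.d x ∈ M) (h3 : ∀ x, X.r x ∈ M) : X.P ≤ M :=
  Hs_le (fun _ => mul_mem (mul_mem (h1 (a_S _)) (h1 (b_S _))) (mul_mem (h2 _) (h3 _)))
    fun _ => h1 (z_S _)
theorem memP : u ∈ X.P ↔ ∃ v c, u = X.pv v * X.z c := h.exP.mem
theorem twoP : TwoG X.P := h.exP.two
theorem L_O : X.L ≤ C[X.O] := cents_symm O_K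
theorem P_O : X.P ≤ C[X.O] :=
  h.P_le (h.S_L.trans h.L_O) h.dO fun x => cents_symm O_R (r_R (h.top x))

theorem symm_pv (v : V4) : X.symm.pv v = X.pv (sw v) * X.z (v.1 * v.2.1) := by
  rw [← h.exP.cen, pv, pv, ← mul_assoc (X.z _), ← h.S_z (mul_mem (a_S _) (b_S _))]
  exact congrArg (· * _) ((h.ba _ _).trans (by rw [mul_comm v.1]; rfl))

theorem symm_P : X.symm.P = X.P :=
  le_antisymm (Hs_le (fun v => h.symm_pv v ▸ pz_Hs _ _) z_Hs)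
    (Hs_le (fun v => h.symm.symm_pv v ▸ pz_Hs _ _) z_Hs)

theorem of_symm (k : X.symm.AP g f φ) : X.AP g (fun v => sw (f (sw v))) φ := ⟨fun v => by
  obtain ⟨c, e⟩ := h.symm.exP.ac_pz k (sw v) (v.1 * v.2.1)
  rw [← h.symm.symm_pv, h.symm_pv, mul_assoc (X.pv _)] at e
  exact ⟨_, e.trans (congrArg _ (h.z_add _ _).symm)⟩, k.2⟩

theorem ap_of (ha : ∀ u v, f (u + v) = f u + f v)
    (h1 : ∀ x, ∃ c, g * X.a x * g⁻¹ = X.pv (f (x, 0, 0, 0)) * X.z c)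
    (h2 : ∀ x, ∃ c, g * X.b x * g⁻¹ = X.pv (f (0, x, 0, 0)) * X.z c)
    (h3 : ∀ x, ∃ c, g * X.d x * g⁻¹ = X.pv (f (0, 0, x, 0)) * X.z c)
    (h4 : ∀ x, ∃ c, g * X.r x * g⁻¹ = X.pv (f (0, 0, 0, x)) * X.z c)
    (h5 : ∀ c, g * X.z c * g⁻¹ = X.z (φ c)) : X.AP g f φ := ⟨fun ⟨x, y, δ, ρ⟩ => by
  obtain ⟨c1, e1⟩ := h1 x
  obtain ⟨c2, e2⟩ := h2 y
  obtain ⟨c3, e3⟩ := h3 δ
  obtain ⟨c4, e4⟩ := h4 ρ
  rw [pv, ← conj_mul, ← conj_mul, ← conj_mul, e1, e2, e3, e4, h.exP.mulz, h.exP.mulz, h.exP.mulz,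
    ← ha, ← ha, ← ha]
  exact pz_of (congrArg f (by simp)), h5⟩

theorem ap_q (x : F4) : X.AP (X.q x) (f1 x) fun c => c := by
  have k := h.exP
  refine h.ap_of (fun u v => by simp only [f1, Prod.fst_add, Prod.snd_add, Prod.mk_add_mk]; ring_nf)
    (fun y => ⟨0, by simp [f1, h.pa, h.z0, conj_eq_of_mem_C (h.qA x) (a_A y)]⟩) (fun y => ?_)
    (fun y => ?_) (fun y => ?_) fun c => conj_eq_of_mem_C (h.qA x) (z_A c)
  · have e := h.f1.bq y x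
    rw [mul_inv_eq_iff_eq_mul, mul_assoc (X.q x), mul_assoc (X.q x), mul_assoc (X.q x),
      ← inv_mul_eq_iff_eq_mul, ← mul_assoc, h.qi, h.pd', h.pr', h.pa', h.pb', k.mulz, k.mulz,
      k.mulz] at e
    rw [h.qi, h.pb', e]
    exact pz_of (by simp [f1, mul_comm])
  · rw [h.f1.qd, h.pd', h.pa', k.mulz, mul_assoc, ← k.z_add]
    exact pz_of (by simp [f1])
  · rw [h.qr x (h.top y), ← h.pr, ← h.pa, k.mul]
    exact pz_of (by simp [f1, mul_comm])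

theorem ap_q' (x : F4) : X.AP (X.symm.q x) (f2 x) fun c => c := h.of_symm (h.symm.ap_q x)

theorem I_pz (hv : v ≠ 0) (c : F4) : X.I (X.pv v * X.z c) ↔ X.I (X.pv v) := by
  obtain ⟨w, e⟩ := (by decide +kernel : ∀ v : V4, v ≠ 0 → ∀ c, ∃ w, bP w v + bP v w + 0 = c) v hv c
  rw [← e, ← h.exP.conj w 0, I_conj, h.z0, mul_one]

theorem I_ap (k : X.AP g f φ) (v : V4) : X.I (X.pv (f v)) ↔ X.I (X.pv v) := by
  by_cases hv : v = 0
  · rw [hv, show f 0 = 0 by simpa using h.exP.ac_add k 0 0]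
  obtain ⟨c, e⟩ := k.1 v
  rw [← h.I_pz (fun e => hv (h.exP.ac_inj k e)) c, ← e, I_conj]

theorem I_iff : X.I (X.pv v) ↔ v ≠ 0 ∧ bP v v = 0 ∧ ¬ N5 v := by
  refine ⟨fun k => ⟨fun e => k.1 (by rw [e, h.pv0]), h.z_inj _ (by
    simpa [h.z0, k.2.1] using (h.exP.sq v 0).symm), fun e => ?_⟩, fun ⟨h1, h2, h3⟩ => ?_⟩
  · obtain ⟨x, y, e⟩ := n5_orb v e
    rw [← h.I_ap (h.ap_q x), ← h.I_ap (h.ap_q' y), show f2 y (f1 x v) = (_, 0, 0, 0) from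
      Prod.ext rfl e, h.pa] at k
    exact h.IL _ (h.aL _) k
  · obtain ⟨x, y, z, e1, e2, e3⟩ := i_orb v h1 h2 h3
    rw [← h.I_ap (h.ap_q x), ← h.I_ap (h.ap_q' y), ← h.I_ap (h.ap_q z)]
    generalize f1 z (f2 y (f1 x v)) = w at e1 e2 e3
    obtain ⟨a, b, c, d⟩ := w
    obtain rfl : b = 0 := e1
    obtain rfl : c = 0 := e2
    rw [show (a, 0, 0, d) = f1 (a * d⁻¹) (0, 0, 0, d) by simp [f1, show d ≠ 0 from e3],
      h.I_ap (h.ap_q _), h.pr]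
    exact h.I_r (h.top _) e3

theorem n5_ap (k : X.AP g f φ) (hv : N5 v) : N5 (f v) := by
  have k1 : ∀ v, N5 v → v ≠ 0 ∧ bP v v = 0 := by decide +kernel
  by_contra e
  have := (h.I_ap k v).1 (h.I_iff.2 ⟨fun e => (k1 v hv).1 (h.exP.ac_inj k e), by
    rw [h.exP.ac_sqf k, (k1 v hv).2]; simpa using h.exP.ac_addZ k 0 0, e⟩)
  exact (h.I_iff.1 this).2.2 hv

theorem ap_ex (hg : g ∈ N[X.P]) : ∃ f φ, X.AP g f φ := h.exP.ac_of hg

/-- normal form for elements fixing the first point. -/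
theorem nf1 (k : X.AP g f φ) (h1 : (f (1, 0, 0, 0)).2 = 0) : ∃ x m n s l, m ≠ 0 ∧ n ≠ 0 ∧
    (∀ v, f1 x (f v) = nf m n s l v) ∧ ∀ c, φ c = m * m * fr l c := by
  obtain ⟨x, e⟩ := to2 _ (h.n5_ap k (v := (1, 0, 0, 0)) (by decide)) h1 _
    (h.n5_ap k (v := (0, 1, 0, 0)) (by decide)) fun e =>
      absurd (h.exP.ac_injZ k ((h.exP.ac_cm k _ _).symm.trans e)) (by decide)
  have k' := h.exP.ac_mul (h.ap_q x) k
  exact ⟨x, nf_of (h.exP.ac_add k') (h.exP.ac_addZ k') (fun _ => h.exP.ac_injZ k') (h.exP.ac_sqf k')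
    (h.exP.ac_cm k') (fun _ => h.n5_ap k') (by simp [f1, h1]) e⟩

theorem tr' (h1 : ∀ x, g * X.r x * g⁻¹ * X.r x ∈ X.Z) :
    ∃ c, X.d c * g ∈ C[X.R] ∧ ∀ x, g * X.r x * g⁻¹ = X.r x * X.z (x * c) := by
  have k : ∀ x, ∃ c, g * X.r x * g⁻¹ = X.r x * X.z c := fun x => by
    obtain ⟨c, e⟩ := h.mem_Z.1 (h1 x)
    exact ⟨c, by rw [← mem_C.1 (h.rS x) _ (z_S c), ← e, mul_assoc _ (X.r x) (X.r x), h.rr (h.top x), mul_one]⟩
  have k2 : ∀ x c y, g * X.r x * g⁻¹ = X.r x * X.z y →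
      X.d c * g * X.r x * (X.d c * g)⁻¹ = X.r x * X.z (x * c + y) := fun x c y e => by
    rw [show X.d c * g * X.r x * (X.d c * g)⁻¹ = X.d c * (g * X.r x * g⁻¹) * (X.d c)⁻¹ by group, e,
      ← conj_mul, h.dr c x (h.top x), conj_eq_of_mem_C (h.dS c) (z_S y), h.z_add, mul_assoc]
  obtain ⟨c, e⟩ := k 1
  have k3 := h.tr h.one one_ne_zero (g := X.d c * g) (by rw [k2 1 c c e]; simp [h.z0]) fun y _ => by
    obtain ⟨c', e'⟩ := k y
    rw [k2 y c c' e', mul_assoc, mem_C.1 (h.rS y) _ (z_S _), ← mul_assoc, h.rr (h.top y), one_mul]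
    exact h.zL _
  refine ⟨c, k3, fun x => ?_⟩
  obtain ⟨c', e'⟩ := k x
  have := (k2 x c c' e').symm.trans (conj_eq_of_mem_C k3 (r_R (h.top x)))
  rw [e', (by decide : ∀ a b : F4, a + b = 0 → b = a) _ _ (h.z_inj _ (mul_eq_left.1 this))]

theorem SK_le (h1 : g ∈ X.S ⊔ X.K) (h2 : g ∈ C[X.R]) : g ∈ X.P ⊔ X.O := by
  obtain ⟨e, he, o, ho, rfl⟩ := h.CX le_rfl h1 h2
  exact mul_mem (mem_sup_left (sup_le h.R_P h.S_P he)) (mem_sup_right ho)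

/-- the kernel of the action on `F₁ / Z`. -/
theorem CF (h1 : ∀ x, g * X.r x * g⁻¹ * X.r x ∈ X.Z) (h2 : ∀ x, g * X.a x * g⁻¹ * X.a x ∈ X.Z)
    (h3 : g ∈ C[X.Z]) : g ∈ X.P ⊔ X.O := by
  obtain ⟨c, k1, -⟩ := h.tr' h1
  refine (mul_mem_cancel_left (mem_sup_left (h.dP c))).1 (h.SK_le ?_ k1)
  have k2 := h.C_r h.one one_ne_zero (C_le_C1 (r_R h.one) k1)
  have k3 : X.d c * g ∈ C[X.Z] := mul_mem (C_anti Z_S (h.dS c)) h3
  have k4 : ∀ x, X.d c * g * X.a x * (X.d c * g)⁻¹ * X.a x ∈ X.Z := fun x => by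
    have := conj_mem (C_le_N _ (C_anti Z_S (h.dS c))) (h2 x)
    rwa [← conj_mul, conj_eq_of_mem_C (h.dS c) (a_S x),
      show X.d c * (g * X.a x * g⁻¹) * (X.d c)⁻¹ = X.d c * g * X.a x * (X.d c * g)⁻¹ by group] at this
  generalize X.d c * g = g at k2 k3 k4
  have k5 := h.N_S k2 one_ne_zero (conj_mem (C_le_N _ k3) (z_Z 1))
  have k6 : ∀ x, ∃ c, g * X.a x * g⁻¹ = X.a x * X.z c := fun x => by
    obtain ⟨c, e⟩ := h.mem_Z.1 (k4 x)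
    exact ⟨c, by rw [← h.az, ← e, mul_assoc _ (X.a x) (X.a x), h.aa, mul_one]⟩
  obtain ⟨c, k7⟩ := k6 1
  refine h.aut_a k2 k4 fun y => ?_
  rcases h.swap k5 with k8 | k8
  · obtain ⟨y', c', k9⟩ := h.mem_B.1 (k8.2 ▸ conj_mem_cj g (b_B y))
    have e := congrArg (fun u => g * u * g⁻¹) (h.ba 1 y)
    simp only [← conj_mul, k7, k9, conj_eq_of_mem_C k3 (z_Z _)] at e
    have e1 := h.mul_S 0 y' c' 1 0 c
    have e2 := h.mul_S 1 0 c 0 y' c'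
    simp only [h.a0, h.b0, one_mul, mul_one, zero_add, add_zero, zero_mul] at e1 e2
    rw [e1, e2, mul_assoc _ (X.z _), ← h.z_add, add_comm c'] at e
    obtain rfl : y' = y := by simpa using (h.inj_S e).2.2
    rw [k9, mul_assoc, h.bz, ← mul_assoc, h.bb, one_mul]
    exact z_Z _
  · have := k8.1 ▸ conj_mem_cj g (a_A (X := X) 1)
    rw [k7] at this
    exact absurd (h.S_mem_B (x := 1) (y := 0) (c := c) (by simpa [h.b0] using this)) one_ne_zero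

theorem pzZ (e : g * X.pv v * g⁻¹ = X.pv v * X.z c) : g * X.pv v * g⁻¹ * X.pv v ∈ X.Z := by
  rw [e, mul_assoc, h.exP.cen, ← mul_assoc, h.exP.mul, v4_two, h.pv0, one_mul]
  exact mul_mem (z_Z _) (z_Z _)

theorem CP (k : X.AP g (fun v => v) fun c => c) : g ∈ X.P ⊔ X.O :=
  h.CF (fun x => by obtain ⟨c, e⟩ := k.1 (0, 0, 0, x); exact h.pr x ▸ h.pzZ e)
    (fun x => by obtain ⟨c, e⟩ := k.1 (x, 0, 0, 0); exact h.pa x ▸ h.pzZ e)
    (mem_C'.2 fun u hu => by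
      obtain ⟨c, rfl⟩ := h.mem_Z.1 hu; exact mul_inv_eq_iff_eq_mul.1 (k.2 c))

theorem CP2 (k : X.AP g (fun v => v) fun c => c) (h2 : TwoE g) : g ∈ X.P :=
  two_mem h.twoP O_odd (cents_symm h.P_O) (h.CP k) h2

theorem ap_PO (hg : g ∈ X.P ⊔ X.O) : X.AP g (fun v => v) fun c => c := by
  obtain ⟨p, hp, o, ho, rfl⟩ := (mem_sup_of_norm (norm_of_cent (cents_symm h.P_O))).1 hg
  exact h.exP.ac_mul (h.exP.ac_in hp) (h.exP.ac_cent (cents_symm h.P_O ho))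

theorem cmZ {p : G} (hp : p ∈ X.P) (hu : u ∈ X.P) : p * u * p⁻¹ * u ∈ X.Z := by
  obtain ⟨v, c, rfl⟩ := h.memP.1 hu
  obtain ⟨c', e⟩ := h.exP.ac_pz (h.exP.ac_in hp) v c
  rw [e, h.exP.mulz, v4_two, h.pv0, one_mul]
  exact z_Z _

theorem P_CZ : X.P ≤ C[X.Z] := fun _ hu => mem_C.2 fun _ hv => by
  obtain ⟨c, rfl⟩ := h.mem_Z.1 hv; exact h.exP.cenH hu c

theorem NP_gen {M : Subgroup G} (h0 : g ∈ N[X.Z]) (hM : M ≤ X.P) (hg : g ∈ N[M])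
    (h1 : ∀ x, X.r x ∈ M) (h2 : ∀ x, X.a x ∈ M) : g ∈ N[X.P] := by
  refine mem_N_of_finite fun p hp => ?_
  have k : ∀ u ∈ M, u * u = 1 → g * p * g⁻¹ * u * (g * p * g⁻¹)⁻¹ * u ∈ X.Z := fun u hu u2 => by
    have := conj_mem h0 (h.cmZ hp (hM (conj_mem' hg hu)))
    rwa [show g * (p * (g⁻¹ * u * g) * p⁻¹ * (g⁻¹ * u * g)) * g⁻¹ =
      g * p * g⁻¹ * u * (g * p * g⁻¹)⁻¹ * u by group] at this
  exact two_mem h.twoP O_odd (cents_symm h.P_O) (h.CF (fun x => k _ (h1 x) (h.rr (h.top x)))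
    (fun x => k _ (h2 x) (h.aa x)) (conj_mem (N_le_NC _ h0) (h.P_CZ hp))) ((h.twoP.piElt hp).conj g)

theorem NRS (h1 : g ∈ N[X.R]) (h2 : g ∈ N[X.S]) : g ∈ N[X.P] :=
  h.NP_gen (h.N_Z h2) (sup_le h.R_P h.S_P) (norm_sup inf_le_left inf_le_right (mem_inf.2 ⟨h1, h2⟩))
    (fun x => mem_sup_left (r_R (h.top x))) fun x => mem_sup_right (a_S x)

theorem exists_k : ∃ k ∈ X.K, k ∈ C[X.O] ∧ X.AP k (nf 1 om false false) fun c => c := by
  have e := h.exP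
  have k0 := (e.ac_mul (h.ap_q 1) (e.ac_mul (h.ap_q' (1 + om)) (e.ac_mul (h.ap_q om) (h.ap_q' 1)))).congr
    (f' := nf 1 om false false) (φ' := fun c => c) (by decide +kernel) fun _ => rfl
  have k1 : X.q 1 * (X.symm.q (1 + om) * (X.q om * X.symm.q 1)) ∈ C[X.O] :=
    mul_mem (h.qO _) (mul_mem (h.symm.qO _) (mul_mem (h.qO _) (h.symm.qO _)))
  generalize X.q 1 * (X.symm.q (1 + om) * (X.q om * X.symm.q 1)) = g at k0 k1
  obtain ⟨c, k2⟩ := k0.1 (0, 0, 0, 1)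
  rw [show nf 1 om false false (0, 0, 0, 1) = (0, 0, 0, om * om) by decide, h.pr, h.pr] at k2
  have k3 := e.ac_mul (e.ac_in (h.dP (om * c))) k0
  have k4 : X.d (om * c) * g ∈ N[X.L] := h.tight _ _ (h.rk 1) (h.I_r h.one one_ne_zero).1
    (h.rr h.one) (by
      rw [show X.d (om * c) * g * X.r 1 * (X.d (om * c) * g)⁻¹ =
        X.d (om * c) * (g * X.r 1 * g⁻¹) * (X.d (om * c))⁻¹ by group, k2, ← conj_mul,
        h.dr _ _ (h.top _), conj_eq_of_mem_C (h.dS _) (z_S c), mul_assoc, ← h.z_add,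
        (by decide : ∀ c, om * om * (om * c) + c = 0), h.z0, mul_one]
      exact h.rk _)
  obtain ⟨s, hs, k, hk, k5⟩ := h.mem_SK.1 (h.aut_a k4 (fun x => by
    obtain ⟨c, e⟩ := k3.1 (x, 0, 0, 0)
    exact h.pa x ▸ h.pzZ (e.trans (by simp [nf, fr]; rfl))) fun x => by
    obtain ⟨c, e⟩ := k3.1 (0, x, 0, 0)
    exact h.pb x ▸ h.pzZ (e.trans (by simp [nf, fr]; rfl)))
  rw [← inv_mul_eq_iff_eq_mul] at k5
  exact ⟨k, hk, k5 ▸ mul_mem (inv_mem (h.P_O (h.S_P hs))) (mul_mem (h.dO _) k1),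
    k5 ▸ e.ac_mul (e.ac_in (inv_mem (h.S_P hs))) k3⟩

theorem card_R : ♯X.R = 4 := by
  have : Function.Bijective fun v : F4 => (⟨X.r v, r_R (h.top v)⟩ : X.R) :=
    ⟨fun v v' e => (by decide : ∀ a b : F4, a + b = 0 → a = b) _ _ (h.r_inj _ (h.top _) (by
      rw [h.radd, show X.r v = X.r v' from congrArg Subtype.val e, h.rr (h.top _)])),
      fun ⟨u, hu⟩ => by obtain ⟨c, -, rfl⟩ := h.mem_R.1 hu; exact ⟨c, rfl⟩⟩
  rw [← Nat.card_eq_of_bijective _ this, Nat.card_eq_fintype_card]; rfl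

theorem CK (hx : x ≠ 0) : X.K ⊓ C{X.r x} ≤ C[X.R] := by
  have r1 := (h.I_r (h.top x) hx).1
  have hR : X.R ≤ X.K ⊓ C{X.r x} := le_inf h.sylR.le (mem_C_iff_le_C1.1 (h.eaR.le_C (r_R (h.top x))))
  have hS := h.sylR.of_le hR inf_le_left
  have k1 := (Burnside_normal_complement p2 hS (fun g hg => by
    obtain ⟨s, hs, o, ho, ho', e⟩ := H7.SJ.two_odd (hS.of_le (le_inf hR (norm_self _)) inf_le_left)
      inf_le_right hg
    have k := zpowers_le.2 hg ho'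
    refine e ▸ mul_mem (h.eaR.le_C hs) (mem_of_odd ho ?_)
    rcases He.fix3 h.eaR h.card_R (r_R (h.top x)) r1 k.2 k.1.2 k.2 k.1.2 with k | k | k
    exacts [mul_mem k k, mul_mem k k, k])).sup
  have hO := pcore_nml ({2}ᶜ : Set ℕ) (X.K ⊓ C{X.r x})
  generalize hD : Od[X.K ⊓ C{X.r x}] = D at k1 hO
  have oD : OddG D := hD ▸ Od_odd _
  have DL : X.L ≤ C[D] := cents_symm (hO.le.trans inf_le_left)
  have k2 : ∀ y, X.d y ∈ N[D] := fun y => mem_N_of_cj_le (H7.SJ.odd_le oD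
    (A := X.R ⊔ X.Z) (h.twoP.of_le (sup_le h.R_P (Z_S.trans h.S_P)))
    (sup_le (hR.trans hO.norm) (norm_of_cent (Z_S.trans (h.S_L.trans DL)))) (oD.cj _) fun u hu => by
      obtain ⟨o, ho, rfl⟩ := mem_cj'.1 hu
      have k3 : X.d y ∈ N[zpowers (X.r x) ⊔ X.S] := mem_N_of_cj_le (by
        rw [cj_sup, cj_zpowers, cj_of_mem_C (h.dS y), h.dr y x (h.top x)]
        exact sup_le (zpowers_le.2 (mul_mem (mem_sup_left (mem_zpowers _)) (mem_sup_right (z_S _))))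
          le_sup_right)
      have k4 := conj_mem (N_le_NC _ k3) (x := o) (by
        rw [C_sup, C_zpowers]; exact ⟨(hO.le ho).2, C_anti h.S_L (hO.le ho).1⟩)
      rw [C_sup, C_zpowers] at k4
      generalize X.d y * o * (X.d y)⁻¹ = u at k4
      obtain ⟨a, ha, k, hk, rfl⟩ := (mem_sup_of_norm (norm_of_cent (C_anti (Z_S.trans h.S_L)))).1
        (h.cent_S (h.C_r (h.top x) hx k4.1) k4.2)
      refine mul_mem (mem_sup_right (mem_sup_right ha)) ((sup_le_sup_left le_sup_left D :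
        D ⊔ X.R ≤ _) (k1.ge ⟨hk, ?_⟩))
      exact (mul_mem_cancel_left (mem_C1_comm.1 (C_le_C1 (Z_S ha) (h.rS x)))).1 k4.1)
  have k3 : ∀ y, X.d y ∈ C[D] := fun y => by
    have := mul_mem (conj_mem (N_le_NC _ (k2 (om * y))) (DL h.hL)) (inv_mem (DL h.hL))
    rwa [h.di, mul_assoc, mul_assoc, ← mul_assoc X.h, h.hd, ← h.d_add,
      (by decide : ∀ y, om * y + om * (om * y) = y)] at this
  have k4 : ∀ y, X.q y ∈ C[D] := fun y => conj_mem (norm_self _ (DL h.wL)) (k3 y)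
  refine k1.ge.trans (sup_le (cents_symm (R_le fun y _ => ?_)) h.eaR.le_C)
  have := conj_mem (norm_self _ (DL (h.bL y))) (k4 1)
  rw [h.f1.bq, mul_mem_cancel_right (DL (h.aL _)), mul_mem_cancel_left (mul_mem (k4 _) (k3 _))] at this
  simpa using this

theorem C_NR (hx : x ≠ 0) : C{X.r x} ≤ N[X.R] := fun g hg => by
  have e : X.K ⊓ C{X.r x} = X.R ⊔ X.O := h.CKR ▸ le_antisymm (le_inf inf_le_left (h.CK hx))
    (inf_le_inf_left _ (C_le_C1 (r_R (h.top x))))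
  refine (He.hall2 h.eaR.two O_odd O_R).2.2.1 (e ▸ norm_inf (X := C{X.r x}) ?_ (norm_self _) hg)
  exact h.toSt.N_K ▸ h.C_r (h.top x) hx

theorem C_NO (hx : x ≠ 0) : C{X.r x} ≤ N[X.O] := fun _ hg =>
  norm_pcore _ (norm_inf (h.toSt.N_K ▸ h.C_r (h.top x) hx) (norm_C (h.C_NR hx))) hg

theorem Ct (hx : x ≠ 0) (h1 : g ∈ C{X.r x}) (h2 : g ∈ C{X.z 1}) : g ∈ N[X.P] :=
  h.NRS (h.C_NR hx h1) (h.N_S (h.C_r (h.top x) hx h1) one_ne_zero
    (by rw [mem_C1_iff_conj.1 h2]; exact z_Z 1))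

theorem mem_A_iff : X.pv v * X.z c ∈ X.A ↔ v.2 = 0 := by
  refine ⟨fun e => ?_, fun e => ?_⟩
  · obtain ⟨x, c', e⟩ := h.mem_A.1 e
    rw [← h.pa] at e
    rw [(h.exP.eq e).1]; rfl
  · rw [show v = (v.1, 0, 0, 0) from Prod.ext rfl e, h.pa]
    exact mul_mem (a_A _) (z_A _)

theorem ap_A (k : X.AP g f φ) (hg : g ∈ N[X.A]) (x : F4) : (f (x, 0, 0, 0)).2 = 0 := by
  obtain ⟨c, e⟩ := k.1 (x, 0, 0, 0)
  exact h.mem_A_iff.1 (e ▸ conj_mem hg (h.pa x ▸ a_A x))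

theorem NA_of (k : X.AP g f φ) (h1 : ∀ x, (f (x, 0, 0, 0)).2 = 0) : g ∈ N[X.A] :=
  mem_N_of_cj_le (cj_le_iff.2 (A_le (fun x => mem_cj.2 (by
    obtain ⟨c, e⟩ := k.1 (x, 0, 0, 0)
    rw [inv_inv, ← h.pa, e]; exact h.mem_A_iff.2 (h1 x)))
    fun c => mem_cj.2 (by rw [inv_inv, k.2]; exact z_A _)))

theorem ap_z (k : X.AP g f φ) (hg : g ∈ C{X.z 1}) : φ 1 = 1 :=
  h.z_eq ((k.2 1).symm.trans (mem_C1_iff_conj.1 hg))

theorem Cz_of (k : X.AP g f φ) (h1 : φ 1 = 1) : g ∈ C{X.z 1} := mem_C1_iff_conj.2 (by rw [k.2, h1])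

theorem CZ_of (k : X.AP g f fun c => c) : g ∈ C[X.Z] := mem_C'.2 fun u hu => by
  obtain ⟨c, rfl⟩ := h.mem_Z.1 hu; exact mul_inv_eq_iff_eq_mul.1 (k.2 c)

theorem ap_CZ (k : X.AP g f φ) (hg : g ∈ C[X.Z]) (c : F4) : φ c = c :=
  h.z_eq ((k.2 c).symm.trans (conj_eq_of_mem_C hg (z_Z c)))

/-- normal form in `N(P) ∩ N(A) ∩ C(z)`. -/
theorem nf2 (h1 : g ∈ N[X.P]) (h2 : g ∈ N[X.A]) (h3 : g ∈ C{X.z 1}) :
    ∃ x n s l, n ≠ 0 ∧ X.AP g (fun v => f1 x (nf 1 n s l v)) (fr l) := by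
  obtain ⟨f, φ, k⟩ := h.ap_ex h1
  obtain ⟨x, m, n, s, l, -, n0, k1, k2⟩ := h.nf1 k (h.ap_A k h2 1)
  obtain rfl : m = 1 := (by decide : ∀ m : F4, m * m * 1 = 1 → m = 1) m (by
    rw [← fr_one l, ← k2, h.ap_z k h3, fr_one])
  exact ⟨x, n, s, l, n0, k.congr (fun v => by
    rw [← k1, (by decide +kernel : ∀ x v, f1 x (f1 x v) = v)]) fun c => by rw [k2, one_mul, one_mul]⟩

theorem Ct_odd (hx : x ≠ 0) (h1 : g ∈ C{X.r x}) (h2 : g ∈ C{X.z 1}) (ho : OddE g) : g ∈ X.O := by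
  have k1 := h.N_S (h.C_r (h.top x) hx h1) one_ne_zero (by rw [mem_C1_iff_conj.1 h2]; exact z_Z 1)
  have k2 : g ∈ N[X.A] ⊓ N[X.B] := mem_of_odd ho (by
    rcases h.swap k1 with k | k <;> exact ⟨mem_N_iff_cj.2 (by rw [cj_mul, k.1]; simp [k.1, k.2]),
      mem_N_iff_cj.2 (by rw [cj_mul, k.2]; simp [k.1, k.2])⟩)
  have k3 : g ∈ C[X.R] := mem_of_odd ho (by
    rcases He.fix3 h.eaR h.card_R (r_R (h.top x)) (h.I_r (h.top x) hx).1 (h.C_NR hx h1) h1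
      (h.C_NR hx h1) h1 with k | k | k
    exacts [mul_mem k k, mul_mem k k, k])
  obtain ⟨y, n, s, l, n0, k⟩ := h.nf2 (h.Ct hx h1 h2) k2.1 h2
  have k4 : ∀ ρ, f1 y (nf 1 n s l (0, 0, 0, ρ)) = (0, 0, 0, ρ) := fun ρ =>
    h.exP.ac_eq k (v := (0, 0, 0, ρ)) (c := 0) (c' := 0)
      (by rw [← h.pr', conj_eq_of_mem_C k3 (r_R (h.top ρ))])
  obtain ⟨rfl, rfl, rfl, rfl⟩ := (by decide +kernel : ∀ y n s l, f1 y (nf 1 n s l (0, 0, 0, 1)) =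
    (0, 0, 0, 1) → f1 y (nf 1 n s l (0, 0, 0, om)) = (0, 0, 0, om) →
      y = 0 ∧ n = 1 ∧ s = false ∧ l = false) y n s l (k4 1) (k4 om)
  exact H7.SJ.odd_le O_odd h.twoP (norm_of_cent h.P_O) ho.isPi (zpowers_le.2 (sup_comm X.P _ ▸
    h.CP (k.congr (by decide +kernel) fun _ => rfl))) (mem_zpowers g)

end NC

end Dat

end H24.Sz
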