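import Mathlib
import Cfsg.Agent.H24.SuF1

/-! The group `Q₁ = 2⁴⁺⁶`. -/

set_option autoImplicit false
set_option linter.unusedSectionVars false
set_option synthInstance.maxSize 4096
set_option maxRecDepth 100000

namespace H24.Sz

open H26 H26.Gold Subgroup
open H9 (F4)
open H7.SJ (p2 mem_of_odd)

/-- coordinates `q, d, r`. -/
abbrev V3 := F4 × F4 × F4
/-- the cocycle of `Q₁`. -/
def bQ (w w' : V3) : F4 × F4 :=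
  (w.2.2 * w'.1 + w'.1 * w'.1 * w.2.1, w'.1 * (w.2.1 * w.2.1) + w.2.2 * w'.2.1)
/-- the action of `b`. -/
def fb (y : F4) (w : V3) : V3 := (w.1, w.2.1 + y * w.1, w.2.2 + y * (w.1 * w.1))

theorem pt_same : ∀ w : V3, w ≠ 0 → bQ w w = 0 → w.1 = 0 → ∀ w', bQ w' w' = 0 →
    bQ w w' + bQ w' w = 0 → w'.1 = 0 := by decide +kernel
theorem pt_z : ∀ w : V3, bQ w w = 0 → w.1 = 0 → ∀ w', bQ w' w' = 0 →
    bQ w w' + bQ w' w = (0, 1) → w'.1 = 0 := by decide +kernel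
theorem pt_Z : ∀ w : V3, bQ w w = 0 → ∀ w', bQ w' w' = 0 → (bQ w w' + bQ w' w).1 = 0 →
    bQ w w' + bQ w' w ≠ 0 → ∀ w'', bQ w'' w'' = 0 → (bQ w w'' + bQ w'' w).1 = 0 →
    bQ w w'' + bQ w'' w ≠ 0 → bQ w' w'' + bQ w'' w' = 0 → w' ≠ w'' → w.1 = 0 ∧ w'.1 = 0 := by
  decide +kernel
theorem pt_A : ∀ w : V3, bQ w w = 0 → w.1 = 0 → ∀ w', bQ w' w' = 0 → bQ w w' + bQ w' w = (1, 0) →
    ∀ w'', bQ w'' w'' = 0 → bQ w w'' + bQ w'' w = (om, 0) → bQ w' w'' + bQ w'' w' = 0 →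
    w.2.1 = 0 := by decide +kernel
theorem pt_b : ∀ w : V3, bQ w w = 0 → w.1 ≠ 0 → ∀ w', bQ w' w' = 0 → w'.1 ≠ 0 →
    ∃ y, bQ (fb y w) w' + bQ w' (fb y w) = 0 := by decide +kernel

namespace Dat

variable {G : Type*} [Group G] (X : Dat G)

/-- the elements of `Q₁` modulo `A`. -/
def uv (w : V3) : G := X.q w.1 * (X.d w.2.1 * X.r w.2.2)
/-- the elements of `A`. -/
def az (t : F4 × F4) : G := X.a t.1 * X.z t.2
/-- the group `2⁴⁺⁶`. -/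
def Q1 : Subgroup G := Hs X.uv X.az
/-- action on `Q₁`. -/
abbrev AQ (g : G) (f : V3 → V3) (φ : F4 × F4 → F4 × F4) : Prop := Ac X.uv X.az g f φ
/-- the centraliser of `z` in the normaliser of `Q₁`. -/
def Y1 : Subgroup G := C{X.z 1} ⊓ N[X.Q1]

variable {X} [Finite G] {g u e : G} {x y c : F4} {v : V4} {w : V3} {t : F4 × F4}

theorem az_A (t : F4 × F4) : X.az t ∈ X.A := mul_mem (a_A _) (z_A _)

namespace NC

variable (h : X.NC)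
include h

theorem uvA (w : V3) : X.uv w ∈ C[X.A] := mul_mem (h.qA _) (C_anti A_S (h.drS _ _))
theorem az0 : X.az 0 = 1 := by simp [az, h.a0, h.z0]
theorem memA : u ∈ X.A ↔ ∃ t, u = X.az t :=
  h.mem_A.trans ⟨fun ⟨x, c, e⟩ => ⟨(x, c), e⟩, fun ⟨t, e⟩ => ⟨t.1, t.2, e⟩⟩

theorem uv_pv (x y : F4) (t : F4 × F4) : X.uv (0, x, y) * X.az t = X.pv (t.1, 0, x, y) * X.z t.2 := by
  rw [← mem_C.1 (h.uvA _) _ (az_A t), uv, az, pv, h.q0, h.b0, one_mul, mul_one, mul_assoc,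
    mem_C.1 (h.drS _ _) _ (z_S _), ← mul_assoc]

theorem uv_q (w : V3) (t : F4 × F4) :
    X.uv w * X.az t = X.q w.1 * (X.pv (t.1, 0, w.2) * X.z t.2) := by
  rw [← h.uv_pv]; simp [uv, h.q0, mul_assoc]

theorem q_P (e : X.q x ∈ X.P) : x = 0 :=
  (by decide : ∀ x, f1 x (0, 1, 0, 0) = (0, 1, 0, 0) → x = 0) x
    ((h.exP.ac_uniq (h.ap_q x) (h.exP.ac_in e)).1 _)

theorem uv_P : X.uv w * X.az t ∈ X.P ↔ w.1 = 0 := by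
  rw [h.uv_q, mul_mem_cancel_right (h.memP.2 ⟨_, _, rfl⟩)]
  exact ⟨h.q_P, fun e => by rw [e, h.q0]; exact one_mem _⟩

theorem exQ : Ex X.uv X.az bQ := by
  refine ⟨fun w w' => ?_, fun t t' => (h.mul_A _ _ _ _).symm, fun w t => mem_C.1 (h.uvA w) _ (az_A t),
    by simp [uv, h.q0, h.d0, h.r0], fun w t e => ?_, by decide, by decide, by decide +kernel⟩
  · have e : X.d w.2.1 * X.r w.2.2 * X.q w'.1 = X.q w'.1 * (X.d w.2.1 * X.r w.2.2 *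
        X.az (w.2.2 * w'.1 + w'.1 * w'.1 * w.2.1, w'.1 * (w.2.1 * w.2.1))) := by
      rw [← inv_mul_eq_iff_eq_mul, ← mul_assoc, show ∀ u, (X.q w'.1)⁻¹ * u * X.q w'.1 =
        X.q w'.1 * u * (X.q w'.1)⁻¹ by simp [h.qi], ← conj_mul, h.f1.qd,
        h.qr _ (h.top _), mul_assoc (X.d _), mul_assoc (X.d _), ← mul_assoc _ (X.r _),
        mem_C.1 (h.rS _) _ (mul_mem (a_S _) (z_S _)), mul_assoc (X.r _), mul_assoc (X.d _),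
        mul_assoc (X.a _), h.az, ← mul_assoc (X.a _), ← h.a_add, az]
      simp [add_comm]
    rw [uv, uv, mul_assoc, ← mul_assoc (X.d _ * _), e, mul_assoc (X.q _), mul_assoc _ (X.az _),
      mem_C.1 (C_anti A_S (h.drS _ _)) _ (az_A _), ← mul_assoc _ _ (X.az _), h.dr_mul, ← mul_assoc,
      ← h.q_add, uv, mul_assoc _ (X.z _), az, az, bQ, ← mul_assoc (X.z _), h.az, mul_assoc (X.a _),
      ← h.z_add, add_comm (_ * _ : F4) (_ * (_ * _))]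
    simp only [mul_assoc, Prod.fst_add, Prod.snd_add]
  · obtain ⟨x, w⟩ := w
    obtain rfl : x = 0 := h.uv_P.1 (e ▸ one_mem _)
    rw [h.uv_pv] at e
    obtain ⟨e1, e2⟩ := h.exP.inj _ _ e
    simp only [Prod.ext_iff, Prod.fst_zero, Prod.snd_zero] at e1 ⊢
    tauto

theorem ZsA : Zs X.az = X.A := Subgroup.ext fun _ => h.exQ.memZ.trans h.memA.symm
theorem memQ : u ∈ X.Q1 ↔ ∃ w t, u = X.uv w * X.az t := h.exQ.mem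
theorem A_Q : X.A ≤ X.Q1 := h.ZsA ▸ Zs_le z_Hs
theorem uq (x : F4) : X.q x = X.uv (x, 0, 0) * X.az 0 := by simp [uv, h.d0, h.r0, h.az0]
theorem ud (x : F4) : X.d x = X.uv (0, x, 0) * X.az 0 := by simp [uv, h.q0, h.r0, h.az0]
theorem ur (x : F4) : X.r x = X.uv (0, 0, x) * X.az 0 := by simp [uv, h.d0, h.q0, h.az0]
theorem qQ (x : F4) : X.q x ∈ X.Q1 := h.uq x ▸ pz_Hs _ _
theorem dQ (x : F4) : X.d x ∈ X.Q1 := h.ud x ▸ pz_Hs _ _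
theorem rQ (x : F4) : X.r x ∈ X.Q1 := h.ur x ▸ pz_Hs _ _
theorem Q_le {M : Subgroup G} (h0 : X.A ≤ M) (h1 : ∀ x, X.q x ∈ M) (h2 : ∀ x, X.d x ∈ M)
    (h3 : ∀ x, X.r x ∈ M) : X.Q1 ≤ M :=
  Hs_le (fun _ => mul_mem (h1 _) (mul_mem (h2 _) (h3 _))) fun _ => h0 (az_A _)
theorem Q_O : X.Q1 ≤ C[X.O] :=
  h.Q_le (A_S.trans (h.S_L.trans h.L_O)) h.qO h.dO fun x => h.P_O (h.rP x)
theorem Q_CA : X.Q1 ≤ C[X.A] := Hs_le h.uvA fun t => h.eaA.le_C (az_A t)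
theorem Q_NP : X.Q1 ≤ N[X.P] := h.Q_le ((A_S.trans h.S_P).trans (norm_self _))
  (fun x => (h.ap_q x).norm) (fun x => norm_self _ (h.dP x)) fun x => norm_self _ (h.rP x)
theorem uv_A : X.uv w * X.az t ∈ X.A ↔ w = 0 :=
  ⟨fun e => h.exQ.eq_zero (h.ZsA ▸ e), fun e => by rw [e, h.exQ.p0, one_mul]; exact az_A t⟩

theorem ap_uv (w : V3) (t : F4 × F4) : X.AP (X.uv w * X.az t) (f1 w.1) fun c => c :=
  h.uv_q w t ▸ h.exP.ac_mul (h.ap_q w.1) (h.exP.ac_in (pz_Hs _ _))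

theorem cmA {p : G} (hp : p ∈ X.Q1) (hu : u ∈ X.Q1) : p * u * p⁻¹ * u ∈ X.A := by
  obtain ⟨v, c, rfl⟩ := h.memQ.1 hu
  obtain ⟨c', e⟩ := h.exQ.ac_pz (h.exQ.ac_in hp) v c
  rw [e, h.exQ.mulz, h.exQ.vv, h.exQ.p0, one_mul]
  exact az_A _

theorem charQ (h0 : TwoE g) (h1 : g ∈ C[X.A]) (h2 : ∀ y, g * X.r y * g⁻¹ * X.r y ∈ X.A) :
    g ∈ X.Q1 := by
  obtain ⟨x, y, e, he, o, ho, k⟩ := h.trans h1 fun y _ => h2 y
  exact two_mem h.exQ.two O_odd (cents_symm h.Q_O) (k ▸ mul_mem (mem_sup_left (mul_mem (mul_mem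
    (h.qQ x) (h.dQ y)) (sup_le (R_le fun x _ => h.rQ x) h.A_Q he))) (mem_sup_right ho)) h0

theorem NQ_tr {X' : Dat G} (h' : X'.NC) (h1 : H24.cj g X'.A = X.A)
    (h2 : ∀ y, g⁻¹ * X.r y * g ∈ X'.Q1) : H24.cj g X'.Q1 = X.Q1 := by
  refine eq_of_card_eq (fun u hu => ?_) (by rw [card_cj, Q1, Q1, h.exQ.card, h'.exQ.card])
  obtain ⟨p, hp, rfl⟩ := mem_cj'.1 hu
  refine h.charQ ((h'.exQ.two.piElt hp).conj g) (by
    rw [← h1, ← cj_C]; exact conj_mem_cj g (h'.Q_CA hp)) fun y => ?_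
  have := conj_mem_cj g (h'.cmA hp (h2 y))
  rwa [h1, show g * (p * (g⁻¹ * X.r y * g) * p⁻¹ * (g⁻¹ * X.r y * g)) * g⁻¹ =
    g * p * g⁻¹ * X.r y * (g * p * g⁻¹)⁻¹ * X.r y by group] at this

theorem NQ (h1 : g ∈ N[X.A]) (h2 : ∀ y, g⁻¹ * X.r y * g ∈ X.Q1) : g ∈ N[X.Q1] :=
  mem_N_iff_cj.2 (h.NQ_tr h (cj_of_mem_N h1) h2)

theorem NQ_A : N[X.Q1] ≤ N[X.A] := h.ZsA ▸ h.exQ.center ▸ norm_Z le_rfl

theorem PA_Q (h1 : u ∈ X.P) (h2 : u ∈ C[X.A]) : u ∈ X.Q1 := by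
  obtain ⟨⟨x, y, δ, ρ⟩, c, rfl⟩ := h.memP.1 h1
  have := h.exP.comm_iff.1 (h.pa' 1 ▸ mem_C.1 h2 _ (a_A 1))
  obtain rfl : y = 0 := by simpa [bP] using this
  exact h.uv_pv δ ρ (x, c) ▸ pz_Hs _ _

theorem NPA_Q (h1 : g ∈ N[X.P]) (h2 : g ∈ N[X.A]) : g ∈ N[X.Q1] := h.NQ h2 fun y =>
  h.PA_Q (conj_mem' h1 (h.rP y)) (conj_mem' (N_le_NC _ h2) (C_anti A_S (h.rS y)))

theorem P_NA : X.P ≤ N[X.A] := h.P_le h.S_NA (fun x => C_le_N _ (C_anti A_S (h.dS x)))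
  fun x => C_le_N _ (C_anti A_S (h.rS x))
theorem P_NQ : X.P ≤ N[X.Q1] := fun _ hg => h.NPA_Q (norm_self _ hg) (h.P_NA hg)
theorem P_Y1 : X.P ≤ X.Y1 := le_inf (h.P_CZ.trans (C_le_C1 (z_Z 1))) h.P_NQ
theorem Q_Y1 : X.Q1 ≤ X.Y1 := le_inf (h.Q_CA.trans (C_le_C1 (z_A 1))) (norm_self _)
theorem LA_Q (h1 : g ∈ X.L) (h2 : g ∈ N[X.A]) : g ∈ N[X.Q1] := h.NQ h2 fun y => by
  rw [mul_assoc, ← mem_C.1 (h.rk y) g h1, inv_mul_cancel_left]; exact h.rQ y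

theorem aq_b (y : F4) : X.AQ (X.b y) (fb y) fun t => (t.1, t.2 + t.1 * y) := by
  have k := h.exQ
  refine ⟨fun w => ?_, fun t => by
    rw [az, ← conj_mul, h.bab, ← h.bz, mul_inv_cancel_right, mul_assoc, ← h.z_add, add_comm]; rfl⟩
  rw [uv, ← conj_mul, h.f1.bq, mem_C.1 (h.drS _ _) _ (b_S y), mul_inv_cancel_right,
    show X.d w.2.1 * X.r w.2.2 = X.uv (0, w.2) * X.az 0 by simp [uv, h.q0, h.az0], h.uq, h.ud, h.ur,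
    show ∀ x, X.a x = X.uv 0 * X.az (x, 0) by simp [k.p0, az, h.z0], k.mulz, k.mulz, k.mulz, k.mulz]
  exact ⟨_, congrArg (X.uv · * _) (by simp [fb, add_comm, Prod.ext_iff])⟩

theorem NP_F (hg : g ∈ N[X.Q1]) (h1 : g * X.r 1 * g⁻¹ ∈ X.P) (h2 : g * X.d 1 * g⁻¹ ∈ X.P) :
    g ∈ N[X.P] := by
  have e := h.exQ
  obtain ⟨f, φ, k⟩ := e.ac_of hg
  have φ0 : φ 0 = 0 := by simpa using e.ac_addZ k 0 0
  have k1 : ∀ w w' : V3, w ≠ 0 → bQ w w = 0 → g * (X.uv w * X.az 0) * g⁻¹ ∈ X.P → bQ w' w' = 0 →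
      bQ w w' + bQ w' w = 0 → (f w').1 = 0 := fun w w' a1 a2 a3 a4 a5 => by
    obtain ⟨t, e1⟩ := e.ac_pz k w 0
    exact pt_same (f w) (fun e' => a1 (e.ac_inj k e')) (by rw [e.ac_sqf k, a2, φ0])
      (h.uv_P.1 (e1 ▸ a3)) _ (by rw [e.ac_sqf k, a4, φ0]) (by rw [e.ac_cm k, a5, φ0])
  have k2 : g ∈ N[X.Q1 ⊓ X.P] := mem_N_of_finite fun u hu => mem_inf.2 ⟨conj_mem hg hu.1, by
    obtain ⟨⟨x, δ, ρ⟩, t, rfl⟩ := h.memQ.1 hu.1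
    obtain rfl : x = 0 := h.uv_P.1 hu.2
    obtain ⟨t', e1⟩ := e.ac_pz k (0, δ, ρ) t
    rw [e1, h.uv_P, show ((0, δ, ρ) : V3) = (0, δ, 0) + (0, 0, ρ) by simp,
      e.ac_add k, Prod.fst_add, k1 (0, 1, 0) _ (by decide) (by decide) (h.ud 1 ▸ h2) (by simp [bQ])
        (by simp [bQ]), k1 (0, 0, 1) _ (by decide) (by decide) (h.ur 1 ▸ h1) (by simp [bQ])
        (by simp [bQ]), add_zero]⟩
  refine h.NP_gen (mem_N_of_finite fun u hu => ?_) inf_le_right k2 (fun x => ⟨h.rQ x, h.rP x⟩)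
    fun x => ⟨h.A_Q (a_A x), h.aP x⟩
  obtain ⟨c, rfl⟩ := h.mem_Z.1 hu
  have := h.cmZ (conj_mem k2 (x := X.d c) ⟨h.dQ c, h.dP c⟩).2 h1
  rwa [show g * X.d c * g⁻¹ * (g * X.r 1 * g⁻¹) * (g * X.d c * g⁻¹)⁻¹ * (g * X.r 1 * g⁻¹) =
    g * (X.d c * X.r 1 * (X.d c)⁻¹ * X.r 1) * g⁻¹ by group, h.dr c 1 h.one, mul_assoc (X.r 1),
    mem_C.1 (h.rS 1) _ (z_S _), ← mul_assoc (X.r 1), h.rr h.one, one_mul, one_mul] at this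

theorem az_z (c : F4) : X.az (0, c) = X.z c := by simp [az, h.a0]

theorem NP_z (hg : g ∈ X.Y1) (h1 : g * X.r 1 * g⁻¹ ∈ X.P) : g ∈ N[X.P] := by
  have e := h.exQ
  obtain ⟨f, φ, k⟩ := e.ac_of hg.2
  have φ0 : φ 0 = 0 := by simpa using e.ac_addZ k 0 0
  obtain ⟨t, e1⟩ := e.ac_pz k (0, 0, 1) 0
  obtain ⟨t', e2⟩ := e.ac_pz k (0, 1, 0) 0
  refine h.NP_F hg.2 h1 (by
    rw [h.ud, e2, h.uv_P]
    exact pt_z (f (0, 0, 1)) (by rw [e.ac_sqf k, ← φ0]; rfl) (h.uv_P.1 (e1 ▸ h.ur 1 ▸ h1)) _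
      (by rw [e.ac_sqf k, ← φ0]; rfl) (by
        rw [e.ac_cm k]
        exact e.z_inj ((k.2 (0, 1)).symm.trans (by rw [h.az_z]; exact mem_C1_iff_conj.1 hg.1))))

theorem NP_Z (hg : g ∈ N[X.Q1]) (h1 : g ∈ N[X.Z]) : g ∈ N[X.P] := by
  have e := h.exQ
  obtain ⟨f, φ, k⟩ := e.ac_of hg
  have φ0 : φ 0 = 0 := by simpa using e.ac_addZ k 0 0
  have k1 : ∀ c, (φ (0, c)).1 = 0 := fun c =>
    h.a_mem_Z (c := (φ (0, c)).2) (by rw [← az, ← k.2, h.az_z]; exact conj_mem h1 (z_Z c))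
  obtain ⟨t, e1⟩ := e.ac_pz k (0, 0, 1) 0
  obtain ⟨t', e2⟩ := e.ac_pz k (0, 1, 0) 0
  have := pt_Z (f (0, 0, 1)) (by rw [e.ac_sqf k, ← φ0]; rfl) (f (0, 1, 0))
    (by rw [e.ac_sqf k, ← φ0]; rfl) (by rw [e.ac_cm k]; exact k1 1)
    (by rw [e.ac_cm k]; exact fun e' => absurd (e.ac_injZ k e') (by decide)) (f (0, om, 0))
    (by rw [e.ac_sqf k, ← φ0]; rfl) (by rw [e.ac_cm k]; exact k1 om)
    (by rw [e.ac_cm k]; exact fun e' => absurd (e.ac_injZ k e') (by decide))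
    (by rw [e.ac_cm k, ← φ0]; rfl) fun e' => absurd (e.ac_inj k (v := (0, 1, 0) + (0, om, 0))
      (by rw [e.ac_add k, e', e.vv])) (by decide)
  exact h.NP_F hg (by rw [h.ur, e1, h.uv_P]; exact this.1) (by rw [h.ud, e2, h.uv_P]; exact this.2)

theorem uv_E (h1 : w.1 = 0) (h2 : w.2.1 = 0) : X.uv w * X.az t ∈ X.R ⊔ X.A := by
  rw [uv, h1, h2, h.q0, h.d0, one_mul, one_mul]
  exact mul_mem (mem_sup_left (r_R (h.top _))) (mem_sup_right (az_A t))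

theorem CA_pt (hg : g ∈ N[X.Q1]) (h1 : g ∈ C[X.A]) : g * X.r 1 * g⁻¹ ∈ X.R ⊔ X.A := by
  have e := h.exQ
  obtain ⟨f, φ, k⟩ := e.ac_of hg
  have k1 : ∀ t, φ t = t := fun t => e.z_inj ((k.2 t).symm.trans (conj_eq_of_mem_C h1 (az_A t)))
  obtain ⟨t, e1⟩ := e.ac_pz k (0, 0, 1) 0
  have k2 := h.uv_P.1 (e1 ▸ h.ur 1 ▸ conj_mem (h.NP_Z hg (C_le_N _ (C_anti Z_A h1))) (h.rP 1))
  rw [h.ur, e1]
  exact h.uv_E k2 (pt_A _ (by rw [e.ac_sqf k, k1]; rfl) k2 (f (1, 0, 0))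
    (by rw [e.ac_sqf k, k1]; rfl) (by rw [e.ac_cm k, k1]; rfl) (f (om, 0, 0))
    (by rw [e.ac_sqf k, k1]; rfl) (by rw [e.ac_cm k, k1]; rfl) (by rw [e.ac_cm k, k1]; rfl))

theorem CE1 (hu : u ∈ X.Q1) (he : e ∈ X.R ⊔ X.A) (h1 : e ∉ X.A) (h2 : u * e = e * u) :
    u ∈ X.R ⊔ X.A := by
  obtain ⟨w, t, rfl⟩ := h.memQ.1 hu
  obtain ⟨x, -, y, c, rfl⟩ := h.mem_E.1 he
  have e : X.r x * X.a y * X.z c = X.uv (0, 0, x) * X.az (y, c) := by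
    simp [uv, az, h.q0, h.d0, mul_assoc]
  rw [e] at h1 h2
  have := (by decide +kernel : ∀ x : F4, ((0, 0, x) : V3) ≠ 0 → ∀ w : V3, bQ w (0, 0, x) +
    bQ (0, 0, x) w = 0 → w.1 = 0 ∧ w.2.1 = 0) x (fun e => h1 (h.uv_A.2 e)) w (h.exQ.comm_iff.1 h2)
  exact h.uv_E this.1 this.2

end NC

end Dat

end H24.Sz
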