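import Mathlib
import Cfsg.Agent.H24.SuF2

/-! Fusion in `Q₁`. -/

set_option autoImplicit false
set_option linter.unusedSectionVars false
set_option synthInstance.maxSize 4096
set_option maxRecDepth 100000

namespace H24.Sz

open H26 H26.Gold Subgroup
open H9 (F4)
open H7.SJ (p2 mem_of_odd)

namespace Dat

variable {G : Type*} [Group G] {X : Dat G} [Finite G] {g u e : G} {x y c : F4} {v : V4} {w : V3}
  {t : F4 × F4}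

theorem Fr.w_NA (h : X.Fr) : X.w ∈ N[X.A] := mem_N_of_finite fun u hu => by
  obtain ⟨x, c, rfl⟩ := h.mem_A.1 hu
  rw [← conj_mul, h.wa, h.wz]
  exact mul_mem (z_A _) (a_A _)

theorem Fr.h_NA (h : X.Fr) : X.h ∈ N[X.A] := mem_N_of_finite fun u hu => by
  obtain ⟨x, c, rfl⟩ := h.mem_A.1 hu
  rw [← conj_mul, h.ha, h.hz]
  exact mul_mem (a_A _) (z_A _)

theorem Fr.trans_Z (h : X.Fr) (hc : c ≠ 0) : ∃ n ∈ zpowers X.h, n * X.z c * n⁻¹ = X.z 1 := by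
  rcases f4_cases c with rfl | rfl | rfl | rfl
  · exact absurd rfl hc
  · exact ⟨1, one_mem _, by simp⟩
  · refine ⟨X.h * X.h, mul_mem (mem_zpowers _) (mem_zpowers _), ?_⟩
    rw [show X.h * X.h * X.z om * (X.h * X.h)⁻¹ = X.h * (X.h * X.z om * X.h⁻¹) * X.h⁻¹ by group,
      h.hz, h.hz]; rfl
  · exact ⟨X.h, mem_zpowers _, h.hz _⟩

theorem Fr.trans_A (h : X.Fr) (hu : u ∈ X.A) (h1 : u ≠ 1) :
    ∃ n ∈ X.L ⊓ N[X.A], n * u * n⁻¹ = X.z 1 := by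
  have k : zpowers X.h ≤ X.L ⊓ N[X.A] := zpowers_le.2 ⟨h.hL, h.h_NA⟩
  obtain ⟨x, c, rfl⟩ := h.mem_A.1 hu
  by_cases hx : x = 0
  · rw [hx, h.a0, one_mul] at h1 ⊢
    obtain ⟨n, hn, e⟩ := h.trans_Z (c := c) fun e => h1 (e ▸ h.z0)
    exact ⟨n, k hn, e⟩
  obtain ⟨n, hn, e⟩ := h.trans_Z hx
  refine ⟨n * (X.w * X.b (x⁻¹ * c)), mul_mem (k hn) (mul_mem ⟨h.wL, h.w_NA⟩
    ⟨h.bL _, h.S_NA (b_S _)⟩), ?_⟩
  have e1 : X.b (x⁻¹ * c) * (X.a x * X.z c) * (X.b (x⁻¹ * c))⁻¹ = X.a x := by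
    rw [← conj_mul, h.bab, mul_inv_cancel_left₀ hx, ← h.bz, mul_inv_cancel_right, mul_assoc, h.zz,
      mul_one]
  rw [← e, ← h.wa x]
  conv_rhs => rw [← e1]
  group

namespace NC

variable (h : X.NC)
include h

theorem not_I_A (hu : u ∈ X.A) : ¬ X.I u := h.IL u (h.S_L (A_S hu))

theorem ex_y : ∃ y ∈ X.Y1, y ∈ C[X.O] ∧ y⁻¹ * X.r 1 * y ∉ X.P := by
  have e := h.exP
  have k := e.ac_mul (h.ap_q' 1) (h.ap_q 1)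
  have k' := e.ac_inv k (f' := fun v => f1 1 (f2 1 v)) (φ' := fun c => c) (by decide +kernel)
    fun _ => rfl
  have mO : X.symm.q 1 * X.q 1 ∈ C[X.O] := mul_mem (h.symm.qO 1) (h.qO 1)
  generalize X.symm.q 1 * X.q 1 = m at k k' mO
  have k1 : H24.cj m X.B = X.A := eq_of_card_eq (cj_le_iff.2 (B_le (fun x => mem_cj.2 (by
    obtain ⟨c, e⟩ := k.1 (0, x, 0, 0)
    rw [inv_inv, ← h.pb, e]; exact h.mem_A_iff.2 (by clear e; revert x; decide)))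
    fun c => mem_cj.2 (by rw [inv_inv, k.2]; exact z_A _))) (by rw [card_cj, h.card_A, h.card_B])
  have k2 : ∀ y, ∃ c, m⁻¹ * X.r y * m = X.symm.uv (0, y, 0) * X.symm.az c := fun y => by
    obtain ⟨c, e⟩ := k'.1 (0, 0, 0, y)
    refine ⟨(y, c), ?_⟩
    rw [h.symm.uv_pv, h.symm_pv, ← h.pr, ← inv_inv m, inv_inv m⁻¹, e, mul_zero, h.z0, mul_one]
    exact congrArg (X.pv · * _) ((by decide : ∀ y, f1 1 (f2 1 (0, 0, 0, y)) = (0, y, y, 0)) y)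
  have k3 := h.NQ_tr h.symm k1 fun y => by obtain ⟨c, e⟩ := k2 y; exact e ▸ pz_Hs _ _
  have k4 : m * X.w' * m⁻¹ ∈ N[X.Q1] := by
    rw [← k3, ← cj_N]; exact conj_mem_cj m (h.symm.LA_Q h.wL' h.symm.w_NA)
  obtain ⟨n, hn, k5⟩ := h.trans_A (conj_mem' (h.NQ_A k4) (z_A 1))
    (fun e => h.z1 (conj_eq_one_iff'.1 (by rwa [inv_inv])))
  refine ⟨n * (m * X.w' * m⁻¹)⁻¹, mem_inf.2 ⟨mem_C1_iff_conj.2 (by
    conv_rhs => rw [← k5]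
    group), mul_mem (h.LA_Q hn.1 hn.2) (inv_mem k4)⟩, mul_mem (h.L_O hn.1)
      (inv_mem (conj_mem (norm_self _ mO) (h.L_O h.wL'))), fun e1 => ?_⟩
  obtain ⟨c, k6⟩ := k2 1
  rw [show (n * (m * X.w' * m⁻¹)⁻¹)⁻¹ * X.r 1 * (n * (m * X.w' * m⁻¹)⁻¹) =
    m * (X.w' * (m⁻¹ * (n⁻¹ * (X.r 1 * n)) * m) * X.w'⁻¹) * m⁻¹ by group,
    conj_mem_iff (H := X.P) k.norm, ← mem_C.1 (h.rk 1) n hn.1, inv_mul_cancel_left, k6, ← conj_mul,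
    mul_mem_cancel_right (h.S_P (B_S (conj_mem (g := X.w') h.symm.w_NA (az_A c)))), ← h.symm_P] at e1
  exact one_ne_zero (h.symm.q_P (by
    simp only [uv, h.symm.q0, h.symm.r0, one_mul, mul_one] at e1; exact e1))

theorem ex_k : ∃ k ∈ X.Y1, k ∈ C[X.A] ∧ k ∈ C[X.O] ∧ (X.AP k (nf 1 om false false) fun c => c) ∧
    ∀ x, k * X.r x * k⁻¹ = X.r (om * om * x) := by
  obtain ⟨k, hk, h1, h2⟩ := h.exists_k
  have h3 := C_anti (A_S.trans h.S_L) hk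
  refine ⟨k, ⟨C_le_C1 (z_A 1) h3, h.NPA_Q h2.norm (C_le_N _ h3)⟩, h3, h1, h2, fun x => ?_⟩
  obtain ⟨c, e⟩ := h2.1 (0, 0, 0, x)
  rw [show nf 1 om false false (0, 0, 0, x) = (0, 0, 0, om * om * x) by simp [nf, fr], h.pr,
    h.pr] at e
  rw [e, mem_bot.1 (h.LK.le ⟨h.zL c, (mul_mem_cancel_left (h.rk _)).1
    (e ▸ conj_mem (norm_self _ hk) (h.rk x))⟩), mul_one]

theorem toR (hu : u ∈ X.R ⊔ X.A) (h1 : u ∉ X.A) : ∃ g ∈ X.Y1, g * u * g⁻¹ = X.r 1 := by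
  obtain ⟨k, hk, -, -, -, k1⟩ := h.ex_k
  obtain ⟨x, -, y, c, rfl⟩ := h.mem_E.1 hu
  have hx : x ≠ 0 := fun e => h1 (by rw [e, h.r0, one_mul]; exact mul_mem (a_A _) (z_A _))
  have k2 : ∃ g ∈ X.Y1, g * X.r x * g⁻¹ = X.r 1 := by
    rcases f4_cases x with rfl | rfl | rfl | rfl
    · exact absurd rfl hx
    · exact ⟨1, one_mem _, by simp⟩
    · exact ⟨k, hk, k1 _⟩
    · refine ⟨k * k, mul_mem hk hk, ?_⟩
      rw [show ∀ u, k * k * u * (k * k)⁻¹ = k * (k * u * k⁻¹) * k⁻¹ by intros; group, k1, k1]; rfl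
  obtain ⟨g, hg, k2⟩ := k2
  refine ⟨g * (X.q (x⁻¹ * y) * X.d (x⁻¹ * c))⁻¹, mul_mem hg (inv_mem (h.Q_Y1
    (mul_mem (h.qQ _) (h.dQ _)))), ?_⟩
  rw [← k2, ← mul_inv_cancel_left₀ hx y, ← h.qr _ (h.top x), ← conj_eq_of_mem_C (h.qA (x⁻¹ * y)) (z_A c),
    conj_mul, ← mul_inv_cancel_left₀ hx c, ← h.dr _ _ (h.top x), mul_inv_cancel_left₀ hx,
    mul_inv_cancel_left₀ hx]
  group

section
variable {y : G} (hy : y ∈ X.Y1) (h1 : y⁻¹ * X.r 1 * y ∉ X.P)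
include hy h1

theorem y_NZ : y ∉ N[X.Z] := fun e => h1 (conj_mem' (h.NP_Z hy.2 e) (h.rP 1))

theorem tau_CZ : y * X.b 1 * y⁻¹ ∉ C[X.Z] := fun e => h.y_NZ hy h1 (inv_mem_iff.1
  (mem_N_of_finite fun u hu => by
    obtain ⟨x, c, e1⟩ := h.mem_A.1 (conj_mem (inv_mem (h.NQ_A hy.2)) (Z_A hu))
    have e2 : X.b 1 * (X.a x * X.z c) * (X.b 1)⁻¹ = X.a x * X.z c := by
      rw [← e1]
      conv_rhs => rw [← conj_eq_of_mem_C e hu]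
      group
    rw [← conj_mul, h.bab, ← h.bz, mul_inv_cancel_right, mul_left_inj, mul_eq_left, mul_one] at e2
    rw [e1, h.z_inj _ e2, h.a0, one_mul]
    exact z_Z c))

theorem tau_r : ∃ t, y * X.b 1 * y⁻¹ * X.r 1 * (y * X.b 1 * y⁻¹)⁻¹ = X.uv (0, 1, 0) * X.az t := by
  have e := h.exQ
  obtain ⟨w, t, e1⟩ := h.memQ.1 (conj_mem' hy.2 (h.rQ 1))
  obtain ⟨w', t', e2⟩ := h.memQ.1 (conj_mem (mul_mem (mul_mem hy.2 (h.P_NQ (h.bP' 1))) (inv_mem hy.2))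
    (h.rQ 1))
  obtain ⟨t1, e3⟩ := e.ac_pz (h.aq_b 1) w t
  have s1 : bQ w w = 0 := e.z_inj (by
    rw [← e.sq w t, ← e1, e.z0]; simpa using H26.Gold.conj_sq (h.rr h.one) y⁻¹)
  have s2 : bQ w' w' = 0 := e.z_inj (by
    rw [← e.sq w' t', ← e2, e.z0]; exact H26.Gold.conj_sq (h.rr h.one) _)
  have s3 := e.cm w t (fb 1 w) t1
  rw [(by decide +kernel : ∀ w, bQ w w = 0 → w.1 ≠ 0 → bQ w (fb 1 w) + bQ (fb 1 w) w = (0, 1)) w s1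
    (fun e => h1 (e1 ▸ h.uv_P.2 e)), ← e3, ← e1, h.az_z] at s3
  have s4 := e.cm (0, 0, 1) 0 w' t'
  rw [← h.ur, ← e2, show X.r 1 * (y * X.b 1 * y⁻¹ * X.r 1 * (y * X.b 1 * y⁻¹)⁻¹) * (X.r 1)⁻¹ *
    (y * X.b 1 * y⁻¹ * X.r 1 * (y * X.b 1 * y⁻¹)⁻¹)⁻¹ = y * (y⁻¹ * X.r 1 * y *
      (X.b 1 * (y⁻¹ * X.r 1 * y) * (X.b 1)⁻¹) * (y⁻¹ * X.r 1 * y)⁻¹ *
      (X.b 1 * (y⁻¹ * X.r 1 * y) * (X.b 1)⁻¹)⁻¹) * y⁻¹ by group, s3, mem_C1_iff_conj.1 hy.1,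
    ← h.az_z] at s4
  exact ⟨t', by rw [e2, (by decide +kernel : ∀ w : V3, bQ w w = 0 → (0, 1) = bQ (0, 0, 1) w +
    bQ w (0, 0, 1) → w = (0, 1, 0)) w' s2 (e.z_inj s4)]⟩

theorem tau_Y : y * X.b 1 * y⁻¹ ∈ X.Y1 := conj_mem (norm_self _ hy) (h.P_Y1 (h.bP' 1))

theorem tau_P : y * X.b 1 * y⁻¹ ∈ N[X.P] := h.NP_z (h.tau_Y hy h1) (by
  obtain ⟨t, e⟩ := h.tau_r hy h1; exact e ▸ h.uv_P.2 rfl)

end

theorem toE (hu : u ∈ X.Q1) (h1 : u ∉ X.A) (h2 : u * u = 1) : ∃ g ∈ X.Y1, g * u * g⁻¹ = X.r 1 := by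
  have e := h.exQ
  have r1 : X.r 1 ∉ X.A := fun e => h.not_I_A e (h.I_r h.one one_ne_zero)
  suffices ∃ g ∈ X.Y1, u * (g⁻¹ * X.r 1 * g) = g⁻¹ * X.r 1 * g * u by
    obtain ⟨g, hg, k⟩ := this
    obtain ⟨g', hg', k'⟩ := h.toR (h.CE1 (conj_mem hg.2 hu) (mem_sup_left (r_R h.one)) r1 (by
      rw [← mul_left_inj g, ← mul_right_inj g⁻¹]; simpa [mul_assoc] using k))
      fun k => h1 ((conj_mem_iff (h.NQ_A hg.2)).1 k)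
    exact ⟨g' * g, mul_mem hg' hg, by rw [← k']; group⟩
  obtain ⟨w, t, rfl⟩ := h.memQ.1 hu
  have s1 : bQ w w = 0 := e.z_inj (by rw [← e.sq w t, h2, e.z0])
  obtain ⟨y, hy, -, k1⟩ := h.ex_y
  by_cases k2 : w.1 = 0
  · obtain ⟨t', k3⟩ := h.tau_r hy k1
    rcases (by decide +kernel : ∀ w : V3, bQ w w = 0 → w.1 = 0 → bQ w (0, 0, 1) + bQ (0, 0, 1) w = 0 ∨
      bQ w (0, 1, 0) + bQ (0, 1, 0) w = 0) w s1 k2 with k | k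
    · exact ⟨1, one_mem _, by simpa [← h.ur] using (e.comm_iff (c := t) (c' := 0)).2 k⟩
    · exact ⟨_, inv_mem (h.tau_Y hy k1), by rw [inv_inv, k3]; exact e.comm_iff.2 k⟩
  obtain ⟨w', t', e1⟩ := h.memQ.1 (conj_mem' hy.2 (h.rQ 1))
  obtain ⟨β, k3⟩ := pt_b w s1 k2 w' (e.z_inj (by
    rw [← e.sq w' t', ← e1, e.z0]; simpa using H26.Gold.conj_sq (h.rr h.one) y⁻¹))
    fun e => k1 (e1 ▸ h.uv_P.2 e)
  obtain ⟨t1, e3⟩ := e.ac_pz (h.aq_b β) w t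
  refine ⟨y * X.b β, mul_mem hy (h.P_Y1 (h.bP' β)), ?_⟩
  have := (e.comm_iff (c := t1) (c' := t')).2 k3
  rw [← e3, ← e1] at this
  rw [← mul_left_inj (X.b β)⁻¹, ← mul_right_inj (X.b β)]
  simpa [mul_assoc] using this

end NC

end Dat

end H24.Sz
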