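import Mathlib
import Cfsg.Agent.H24.SuF3

/-! The extraspecial group `Q`. -/

set_option autoImplicit false
set_option linter.unusedSectionVars false
set_option synthInstance.maxSize 4096
set_option maxRecDepth 100000

namespace H24.Sz

open H26 H26.Gold Subgroup
open H9 (F4)
open H7.SJ (p2 mem_of_odd mem_zp)

section
variable {G : Type*} [Group G] {z g u : G} {M : Subgroup G} {s : Set G}

/-- the centraliser modulo `z`. -/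
def Cz (z : G) (s : Set G) : Subgroup G where
  carrier := {g | g ∈ C{z} ∧ ∀ u ∈ s, g * u * g⁻¹ * u⁻¹ ∈ zpowers z}
  one_mem' := ⟨one_mem _, by simp⟩
  mul_mem' {a b} ha hb := ⟨mul_mem ha.1 hb.1, fun u hu => by
    rw [show a * b * u * (a * b)⁻¹ * u⁻¹ = a * (b * u * b⁻¹ * u⁻¹) * a⁻¹ * (a * u * a⁻¹ * u⁻¹) by group]
    exact mul_mem (conj_mem (norm_zpowers_of_cent le_rfl ha.1) (hb.2 u hu)) (ha.2 u hu)⟩
  inv_mem' {a} ha := ⟨inv_mem ha.1, fun u hu => by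
    rw [show a⁻¹ * u * a⁻¹⁻¹ * u⁻¹ = a⁻¹ * (a * u * a⁻¹ * u⁻¹)⁻¹ * a by group]
    exact conj_mem' (norm_zpowers_of_cent le_rfl ha.1) (inv_mem (ha.2 u hu))⟩

theorem mem_Cz1 : g ∈ Cz z {u} ↔ g ∈ C{z} ∧ g * u * g⁻¹ * u⁻¹ ∈ zpowers z :=
  ⟨fun h => ⟨h.1, h.2 u rfl⟩, fun h => ⟨h.1, fun _ e => e ▸ h.2⟩⟩

theorem cm_symm (h : g * u * g⁻¹ * u⁻¹ ∈ M) : u * g * u⁻¹ * g⁻¹ ∈ M := by
  simpa [mul_assoc] using inv_mem h

theorem Cz_intro (hg : g ∈ C{z}) (h : M ≤ Cz z {g}) : g ∈ Cz z M :=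
  ⟨hg, fun _ hu => cm_symm (mem_Cz1.1 (h hu)).2⟩

theorem Cz_conj (hg : g ∈ C{z}) (h1 : g ∈ N[M]) (hu : u ∈ Cz z M) : g * u * g⁻¹ ∈ Cz z M :=
  ⟨conj_mem (norm_self _ hg) hu.1, fun v hv => by
    have := conj_mem (norm_zpowers_of_cent le_rfl hg) (hu.2 _ (conj_mem' h1 hv))
    rwa [show g * (u * (g⁻¹ * v * g) * u⁻¹ * (g⁻¹ * v * g)⁻¹) * g⁻¹ =
      g * u * g⁻¹ * v * (g * u * g⁻¹)⁻¹ * v⁻¹ by group] at this⟩

end

theorem v0_add : ∀ v, V0 v → ∀ v', V0 v' → V0 (v + v') := by decide +kernel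
theorem v0_nd : ∀ v : V4, BP v (1, 0, 0, 0) = 0 → BP v (0, 1, 0, 0) = 0 → BP v (0, 0, 1, 1) = 0 →
    BP v (0, 0, om, om * om) = 0 → v = 0 := by decide +kernel
theorem BP_add : ∀ u v w : V4, BP (u + v) w = BP u w + BP v w := fun u v w => by
  simp only [BP, bP, Prod.fst_add, Prod.snd_add]; ring

namespace Dat

variable {G : Type*} [Group G] (X : Dat G)

/-- the group over the prime field form. -/
def P0 : Subgroup G := closure {u | ∃ v c, V0 v ∧ u = X.pv v * X.z c}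

/-- the extraspecial group. -/
def Q (σ : G) : Subgroup G := X.P0 ⊔ zpowers σ

/-- the extra generator of `Q`. -/
structure Sg (σ : G) : Prop extends X.NC where
  two : TwoE σ
  Y : σ ∈ X.Y1
  CO : σ ∈ C[X.O]
  ap : X.AP σ (nf 1 1 true true) (fr true)
  cz0 : σ ∈ Cz (X.z 1) X.P0

variable {X} [Finite G] {g u e σ : G} {x y c : F4} {v : V4} {w : V3} {t : F4 × F4} {f : V4 → V4}
  {φ : F4 → F4} {M : Subgroup G}

namespace NC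

variable (h : X.NC)
include h

theorem z_zp : X.z c ∈ zpowers (X.z 1) ↔ c * c = c := by
  refine ⟨fun e => ?_, fun e => ?_⟩
  · rcases mem_zp (h.zz 1) e with e | e
    · rw [h.z_inj c e, mul_zero]
    · rw [h.z_eq e, mul_one]
  · rcases (by decide : ∀ c : F4, c * c = c → c = 0 ∨ c = 1) c e with rfl | rfl
    exacts [h.z0 ▸ one_mem _, mem_zpowers _]

theorem zp_Z : zpowers (X.z 1) ≤ X.Z := zpowers_le.2 (z_Z 1)

theorem mem0 : u ∈ X.P0 ↔ ∃ v c, V0 v ∧ u = X.pv v * X.z c :=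
  ⟨fun hu => (closure_le (K := h.exP.sub V0 (by decide) fun v v' a b => v0_add v a v' b)).2
    (fun _ h => h) hu, fun h => subset_closure h⟩

theorem pv_P0 : X.pv v * X.z c ∈ X.P0 ↔ V0 v :=
  ⟨fun e => by obtain ⟨v', c', h1, e⟩ := h.mem0.1 e; rwa [(h.exP.eq e).1],
    fun e => h.mem0.2 ⟨v, c, e, rfl⟩⟩

theorem P0_P : X.P0 ≤ X.P := fun u hu => by obtain ⟨v, c, -, rfl⟩ := h.mem0.1 hu; exact pz_Hs _ _
theorem Z_P0 : X.Z ≤ X.P0 := Z_le fun c => h.pz' c ▸ h.pv_P0.2 (by decide)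
theorem pv_P0' (e : V0 v) : X.pv v ∈ X.P0 := by simpa [h.z0] using (h.pv_P0 (c := 0)).2 e

theorem pv_add {v' : V4} (hZ : X.Z ≤ M) (h1 : X.pv v ∈ M) (h2 : X.pv v' ∈ M) : X.pv (v + v') ∈ M :=
  (mul_mem_cancel_right (hZ (z_Z _))).1 (h.exP.mul v v' ▸ mul_mem h1 h2)

theorem V0_le (hZ : X.Z ≤ M) (h1 : X.pv (1, 0, 0, 0) ∈ M) (h2 : v.2.1 = 0 ∨ X.pv (0, 1, 0, 0) ∈ M)
    (h3 : X.pv (0, 0, 1, 1) ∈ M) (h4 : X.pv (0, 0, om, om * om) ∈ M) (hv : V0 v) : X.pv v ∈ M := by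
  have k0 : X.pv 0 ∈ M := h.pv0 ▸ one_mem M
  obtain ⟨x, y, δ, ρ⟩ := v
  obtain rfl : ρ = δ * δ := hv.2.2
  rw [show ((x, y, δ, δ * δ) : V4) = (x, 0, 0, 0) + (0, y, 0, 0) + (0, 0, δ, δ * δ) by simp]
  have k : ∀ c : F4, c * c = c → c = 0 ∨ c = 1 := by decide
  refine h.pv_add hZ (h.pv_add hZ ?_ ?_) ?_
  · rcases k x hv.1 with rfl | rfl
    exacts [k0, h1]
  · rcases k y hv.2.1 with rfl | rfl
    exacts [k0, h2.resolve_left one_ne_zero]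
  · rcases f4_cases δ with rfl | rfl | rfl | rfl
    exacts [k0, h3, h4, h.pv_add hZ h3 h4]

theorem P0_le (hZ : X.Z ≤ M) (h1 : X.pv (1, 0, 0, 0) ∈ M) (h2 : X.pv (0, 1, 0, 0) ∈ M)
    (h3 : X.pv (0, 0, 1, 1) ∈ M) (h4 : X.pv (0, 0, om, om * om) ∈ M) : X.P0 ≤ M := fun u hu => by
  obtain ⟨v, c, hv, rfl⟩ := h.mem0.1 hu
  exact mul_mem (h.V0_le hZ h1 (Or.inr h2) h3 h4 hv) (hZ (z_Z c))

theorem fix_of (k : X.AP g f φ) (e : g * X.pv v * g⁻¹ * (X.pv v)⁻¹ ∈ X.Z) : f v = v := by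
  obtain ⟨c, e⟩ := h.mem_Z.1 e
  rw [mul_inv_eq_iff_eq_mul, h.exP.cen] at e
  exact h.exP.ac_eq k (c := 0) (c' := c) (by rw [h.z0, mul_one, e])

theorem cm_P (v : V4) (c : F4) (v' : V4) :
    X.pv v * X.z c * X.pv v' * (X.pv v * X.z c)⁻¹ * (X.pv v')⁻¹ = X.z (BP v v') := by
  simpa [h.z0, BP] using h.exP.cm v c v' 0

theorem P_Cz : X.P ≤ C{X.z 1} := h.P_CZ.trans (C_le_C1 (z_Z 1))

theorem P0_cz : X.P0 ≤ Cz (X.z 1) X.P0 := fun u hu => ⟨h.P_Cz (h.P0_P hu), fun u' hu' => by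
  obtain ⟨v, c, hv, rfl⟩ := h.mem0.1 hu
  obtain ⟨v', c', hv', rfl⟩ := h.mem0.1 hu'
  rw [h.exP.cm, h.z_zp]
  exact (by decide +kernel : ∀ v, V0 v → ∀ v', V0 v' → BP v v' * BP v v' = BP v v') v hv v' hv'⟩

theorem NP0 (k : X.AP g f φ) (h1 : ∀ v, V0 v → V0 (f v)) : g ∈ N[X.P0] :=
  mem_N_of_finite fun u hu => by
    obtain ⟨v, c, hv, rfl⟩ := h.mem0.1 hu
    obtain ⟨c', e⟩ := h.exP.ac_pz k v c
    exact e ▸ h.pv_P0.2 (h1 v hv)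

theorem ex_sg : ∃ σ, X.Sg σ := by
  have e := h.exP
  obtain ⟨y, hy, yO, h1⟩ := h.ex_y
  obtain ⟨x, n, s, l, -, k⟩ := h.nf2 (h.tau_P hy h1) (h.NQ_A (h.tau_Y hy h1).2) (h.tau_Y hy h1).1
  obtain rfl : l = true := by
    cases l
    exacts [absurd (h.CZ_of k) (h.tau_CZ hy h1), rfl]
  obtain ⟨t, k1⟩ := h.tau_r hy h1
  rw [h.pr', h.uv_pv] at k1
  obtain ⟨rfl, rfl⟩ := (by decide +kernel : ∀ x n s a, f1 x (nf 1 n s true (0, 0, 0, 1)) = (a, 0, 1, 0) →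
    n = 1 ∧ s = true) x n s _ (e.ac_eq k (v := (0, 0, 0, 1)) k1)
  have k2 := (e.ac_mul (h.ap_q x) k).congr (f' := nf 1 1 true true) (φ' := fr true)
    (fun v => (by decide +kernel : ∀ x v, f1 x (f1 x v) = v) _ _) fun _ => rfl
  have k3 := mul_mem (h.Q_Y1 (h.qQ x)) (h.tau_Y hy h1)
  have k4 := mul_mem (h.qO x) (conj_mem (norm_self _ yO) (h.L_O (h.bL 1)))
  generalize X.q x * (y * X.b 1 * y⁻¹) = g at k2 k3 k4
  obtain ⟨c1, e1⟩ := k2.1 (1, 0, 0, 0)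
  obtain ⟨c2, e2⟩ := k2.1 (0, 1, 0, 0)
  obtain ⟨c3, e3⟩ := k2.1 (0, 0, 1, 1)
  obtain ⟨c4, e4⟩ := k2.1 (0, 0, om, om * om)
  obtain ⟨δ, ρ, a3, a4⟩ := (by decide +kernel : ∀ c3 c4 : F4, ∃ δ ρ : F4, ρ + δ + c3 = 0 ∧
    (ρ * om + om * om * δ + c4) * (ρ * om + om * om * δ + c4) = ρ * om + om * om * δ + c4) c3 c4
  have k5 := e.ac_mul (e.ac_in (pz_Hs (c2, c1, δ, ρ) 0)) k2
  have k6 := mul_mem (h.P_Y1 (pz_Hs (c2, c1, δ, ρ) 0)) k3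
  have k7 := mul_mem (h.P_O (pz_Hs (c2, c1, δ, ρ) 0)) k4
  have k8 : ∀ v c, g * X.pv v * g⁻¹ = X.pv v * X.z c → (BP (c2, c1, δ, ρ) v + c) *
      (BP (c2, c1, δ, ρ) v + c) = BP (c2, c1, δ, ρ) v + c →
      X.pv v ∈ Cz (X.z 1) {X.pv (c2, c1, δ, ρ) * X.z 0 * g} := fun v c a b =>
    mem_Cz1.2 ⟨h.P_Cz (p_Hs v), cm_symm (by
      rw [show ∀ p, p * g * X.pv v * (p * g)⁻¹ = p * (g * X.pv v * g⁻¹) * p⁻¹ by intros; group, a,
        e.conj, ← e.cen, mul_inv_cancel_right, h.z_zp]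
      exact b)⟩
  have k9 := Cz_intro k6.1 (h.P0_le (Z_le fun c => mem_Cz1.2 ⟨h.P_Cz (z_Hs c), cm_symm (by
      rw [k5.2, h.zi, ← h.z_add, h.z_zp]; clear k8; revert c; decide)⟩)
    (k8 _ c1 e1 (by simp [BP, bP])) (k8 _ c2 e2 (by simp [BP, bP]))
    (k8 _ c3 e3 (by simp [BP, bP, a3])) (k8 _ c4 e4 (by simpa [BP, bP] using a4)))
  generalize X.pv (c2, c1, δ, ρ) * X.z 0 * g = g at k5 k6 k7 k9
  obtain ⟨s, o, b1, b2, b3, ⟨j, rfl⟩, b5⟩ := exists_piElt_decomp {2} g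
  have b6 : g ^ j ∈ X.P ⊔ X.O := mem_of_odd b2 (by
    rw [← Commute.mul_zpow (Commute.refl g)]
    exact zpow_mem (h.CP ((e.ac_mul k5 k5).congr (by decide +kernel) (by decide))) j)
  exact ⟨s, h, b1, zpowers_le.2 k6 b3, zpowers_le.2 k7 b3, by
    rw [eq_mul_inv_of_mul_eq b5.symm]; exact e.ac_mul k5 (h.ap_PO (inv_mem b6)), zpowers_le.2 k9 b3⟩

theorem fix0 (k : X.AP g f fun c => c) (h1 : ∀ v, V0 v → f v = v) (v : V4) : f v = v := by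
  have k1 : ∀ w, V0 w → BP (f v + v) w = 0 := fun w hw => by
    rw [BP_add, ← h1 w hw, BP, h.exP.ac_cm k, h1 w hw, BP, f4_add_self]
  have := v0_nd _ (k1 _ (by decide)) (k1 _ (by decide)) (k1 _ (by decide)) (k1 _ (by decide))
  rw [← add_zero (f v), ← v4_two v, ← add_assoc, this, zero_add]

theorem cz_PO (h1 : g ∈ N[X.P]) (h2 : g ∈ Cz (X.z 1) X.P0) (h3 : g ∈ C[X.Z]) : g ∈ X.P0 ⊔ X.O := by
  obtain ⟨f, φ, k⟩ := h.ap_ex h1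
  have k' := k.congr (fun _ => rfl) (h.ap_CZ k h3)
  obtain ⟨p, hp, o, ho, rfl⟩ := (mem_sup_of_norm (norm_of_cent (cents_symm h.P_O))).1
    (h.CP (k'.congr (h.fix0 k' fun v hv => h.fix_of k (h.zp_Z (h2.2 _ (h.pv_P0' hv)))) fun _ => rfl))
  refine mul_mem (mem_sup_left ?_) (mem_sup_right ho)
  obtain ⟨v, c, rfl⟩ := h.memP.1 hp
  have k1 : ∀ w, V0 w → BP v w * BP v w = BP v w := fun w hw => by
    have := h2.2 _ (h.pv_P0' hw)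
    rwa [show ∀ p, p * o * X.pv w * (p * o)⁻¹ = p * (o * X.pv w * o⁻¹) * p⁻¹ by intros; group,
      conj_eq_of_mem_C (cents_symm h.P_O ho) (p_Hs w), h.cm_P, h.z_zp] at this
  exact h.pv_P0.2 ((by decide +kernel : ∀ v : V4, (∀ w, V0 w → BP v w * BP v w = BP v w) → V0 v) v k1)

theorem phi_cases (k : X.AP g f φ) (h1 : g ∈ C{X.z 1}) : ∃ l, ∀ c, φ c = fr l c := by
  obtain ⟨l, e⟩ := add_semi (h.exP.ac_addZ k) fun _ => h.exP.ac_injZ k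
  exact ⟨l, fun c => by rw [e, h.ap_z k h1, one_mul]⟩

theorem NPz_P0 (h1 : g ∈ N[X.P]) (h2 : g ∈ C{X.z 1}) : g ∈ N[X.P0] := by
  have e := h.exP
  have q1 : ∀ x, X.q x ∈ N[X.P0] := fun x => h.NP0 (h.ap_q x) (by revert x; decide +kernel)
  have q2 : ∀ x, X.symm.q x ∈ N[X.P0] := fun x => h.NP0 (h.ap_q' x) (by revert x; decide +kernel)
  obtain ⟨f, φ, k⟩ := h.ap_ex h1
  obtain ⟨x, y, k1⟩ := n5_orb _ (h.n5_ap k (v := (1, 0, 0, 0)) (by decide))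
  have k2 := e.ac_mul (h.ap_q' y) (e.ac_mul (h.ap_q x) k)
  obtain ⟨x', m, n, s, l, -, n0, k3, k4⟩ := h.nf1 k2 k1
  obtain rfl : m = 1 := (by decide : ∀ m : F4, m * m * 1 = 1 → m = 1) m (by
    rw [← fr_one l, ← k4, h.ap_z k h2, fr_one])
  have := h.NP0 (e.ac_mul (h.ap_q x') k2) fun v hv => by
    rw [k3]; exact (by decide +kernel : ∀ n s l, n ≠ 0 → ∀ v, V0 v → V0 (nf 1 n s l v)) n s l n0 v hv
  rwa [mul_mem_cancel_left (q1 _), mul_mem_cancel_left (q2 _), mul_mem_cancel_left (q1 _)] at this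

end NC

end Dat

end H24.Sz
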