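import Mathlib
import Cfsg.Agent.H24.SuF4

/-! The normaliser of `Q`. -/

set_option autoImplicit false
set_option linter.unusedSectionVars false
set_option synthInstance.maxSize 4096
set_option maxRecDepth 100000

namespace H24.Sz

open H26 H26.Gold Subgroup
open H9 (F4)
open H7.SJ (p2 mem_of_odd mem_zp)

namespace Dat

variable {G : Type*} [Group G] {X : Dat G} [Finite G] {g u e σ : G} {x y c : F4} {v : V4} {w : V3}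
  {t : F4 × F4} {f : V4 → V4} {φ : F4 → F4} {M : Subgroup G}

theorem NC.x2 (h : X.NC) (e : X.pv v * X.z c ∈ C[X.A]) : v.2.1 = 0 := by
  obtain ⟨x, y, δ, ρ⟩ := v
  have := h.exP.comm_iff.1 (h.pa' 1 ▸ mem_C.1 e _ (a_A 1))
  simpa [bP] using this

namespace Sg

variable (h : X.Sg σ)
include h

theorem nP : σ ∈ N[X.P] := h.ap.norm
theorem nP0 : σ ∈ N[X.P0] := h.NPz_P0 h.nP h.Y.1
theorem not_CZ : σ ∉ C[X.Z] := fun e => absurd (h.ap_CZ h.ap e om) (by decide)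
theorem P0_CZ : X.P0 ≤ C[X.Z] := h.P0_P.trans h.P_CZ

theorem sq : σ * σ ∈ zpowers (X.z 1) := by
  have e := h.exP
  obtain ⟨v, c, k⟩ := h.memP.1 (h.CP2 ((e.ac_mul h.ap h.ap).congr (by decide +kernel) (by decide))
    (h.two.mul h.two rfl))
  have k1 : ∀ w, V0 w → BP v w = 0 := fun w hw => h.z_inj _ (by
    have := h.cz0.2 _ (h.pv_P0' hw)
    rw [← h.cm_P v c, ← k, show σ * σ * X.pv w * (σ * σ)⁻¹ * (X.pv w)⁻¹ = σ * (σ * X.pv w * σ⁻¹ *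
      (X.pv w)⁻¹) * σ⁻¹ * (σ * X.pv w * σ⁻¹ * (X.pv w)⁻¹) by group,
      mem_C1_iff_conj.1 (C1_le_C1_of_mem_zpowers this h.Y.1)]
    exact (h.eaZ.sq (h.zp_Z this)))
  rw [v0_nd v (k1 _ (by decide)) (k1 _ (by decide)) (k1 _ (by decide)) (k1 _ (by decide)), h.pv0,
    one_mul] at k
  rw [k, h.z_zp]
  exact h.z_eq ((h.ap.2 c).symm.trans (by rw [← k]; group))

theorem mem_Q : u ∈ X.Q σ ↔ u ∈ X.P0 ∨ u * σ ∈ X.P0 := by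
  have s2 := h.Z_P0 (h.zp_Z h.sq)
  refine ⟨fun hu => ?_, fun hu => hu.elim mem_sup_left fun e =>
    (mul_mem_cancel_right (mem_sup_right (mem_zpowers σ))).1 (mem_sup_left e)⟩
  obtain ⟨p, hp, _, ⟨k, rfl⟩, rfl⟩ := (mem_sup_of_norm (zpowers_le.2 h.nP0)).1 hu
  obtain ⟨j, rfl | rfl⟩ := Int.even_or_odd' k
  · exact Or.inl (mul_mem hp (by simpa [zpow_mul, _root_.sq] using zpow_mem s2 j))
  · exact Or.inr (by
      rw [mul_assoc]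
      exact mul_mem hp (by simpa [zpow_mul, _root_.sq, zpow_add, mul_assoc] using zpow_mem s2 (j + 1)))

theorem P0_Q : X.P0 ≤ X.Q σ := le_sup_left
theorem s_Q : σ ∈ X.Q σ := mem_sup_right (mem_zpowers σ)
theorem Q_le' (h1 : X.P0 ≤ M) (h2 : σ ∈ M) : X.Q σ ≤ M := sup_le h1 (zpowers_le.2 h2)
theorem twoQ : TwoG (X.Q σ) := (h.twoP.of_le h.P0_P).sup h.two.isPi (zpowers_le.2 h.nP0)
theorem Q_CO : X.Q σ ≤ C[X.O] := h.Q_le' (h.P0_P.trans h.P_O) h.CO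
theorem Q_nP : X.Q σ ≤ N[X.P] := h.Q_le' (h.P0_P.trans (norm_self _)) h.nP
theorem Q_Y : X.Q σ ≤ X.Y1 := h.Q_le' (h.P0_P.trans h.P_Y1) h.Y
theorem Q_cz : X.Q σ ≤ Cz (X.z 1) X.P0 := h.Q_le' h.P0_cz h.cz0

theorem Q_P0 (h1 : u ∈ X.Q σ) (h2 : u ∈ C[X.Z]) : u ∈ X.P0 :=
  (h.mem_Q.1 h1).resolve_right fun e => h.not_CZ ((mul_mem_cancel_left h2).1 (h.P0_CZ e))

theorem CZ_or (h1 : g ∈ N[X.P]) (h2 : g ∈ C{X.z 1}) : g ∈ C[X.Z] ∨ g * σ ∈ C[X.Z] := by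
  obtain ⟨f, φ, k⟩ := h.ap_ex h1
  obtain ⟨l, k1⟩ := h.phi_cases k h2
  cases l
  · exact Or.inl (h.CZ_of (k.congr (fun _ => rfl) k1))
  · exact Or.inr (h.CZ_of ((h.exP.ac_mul k h.ap).congr (fun _ => rfl) fun c => by
      rw [k1]; revert c; decide))

theorem Qchar (h1 : g ∈ N[X.P]) (h2 : g ∈ Cz (X.z 1) X.P0) (h3 : TwoE g) : g ∈ X.Q σ := by
  refine two_mem h.twoQ O_odd (cents_symm h.Q_CO) ?_ h3
  have k : X.P0 ⊔ X.O ≤ X.Q σ ⊔ X.O := sup_le_sup_right h.P0_Q _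
  rcases h.CZ_or h1 h2.1 with e | e
  · exact k (h.cz_PO h1 h2 e)
  · exact (mul_mem_cancel_right (mem_sup_left h.s_Q)).1
      (k (h.cz_PO (mul_mem h1 h.nP) (mul_mem h2 h.cz0) e))

theorem NPz_Q (h1 : g ∈ N[X.P]) (h2 : g ∈ C{X.z 1}) : g ∈ N[X.Q σ] :=
  mem_N_of_finite fun _ hu => h.Qchar (conj_mem (norm_self _ h1) (h.Q_nP hu))
    (Cz_conj h2 (h.NPz_P0 h1 h2) (h.Q_cz hu)) ((h.twoQ.piElt hu).conj g)

theorem sqQ (hu : u ∈ X.Q σ) : u * u ∈ zpowers (X.z 1) := by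
  have k : ∀ u ∈ X.P0, u * u ∈ zpowers (X.z 1) := fun u hu => by
    obtain ⟨v, c, hv, rfl⟩ := h.mem0.1 hu
    rw [h.exP.sq, h.z_zp]
    exact (by decide +kernel : ∀ v, V0 v → bP v v * bP v v = bP v v) v hv
  rcases h.mem_Q.1 hu with e | e
  · exact k u e
  · have := mul_mem (mul_mem (k _ e) (cm_symm ((inv_mem h.cz0).2 _ (inv_mem e)))) (inv_mem h.sq)
    rwa [show u * σ * (u * σ) * ((u * σ)⁻¹ * σ⁻¹ * (u * σ)⁻¹⁻¹ * σ⁻¹⁻¹) * (σ * σ)⁻¹ = u * u by group]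
      at this

theorem card_Q : ♯(X.Q σ) = 2 ^ 7 := by
  have k1 : ♯X.P0 = 64 := by
    have : Function.Bijective fun v : {v // V0 v} × F4 =>
        (⟨X.pv v.1 * X.z v.2, h.pv_P0.2 v.1.2⟩ : X.P0) :=
      ⟨fun v v' e => Prod.ext (Subtype.ext (h.exP.eq (congrArg Subtype.val e)).1)
        (h.exP.eq (congrArg Subtype.val e)).2,
        fun ⟨u, hu⟩ => by obtain ⟨v, c, hv, rfl⟩ := h.mem0.1 hu; exact ⟨(⟨v, hv⟩, c), rfl⟩⟩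
    rw [← Nat.card_eq_of_bijective _ this, Nat.card_eq_fintype_card]; decide +kernel
  have k2 : X.P0.relIndex (X.Q σ) = 2 := index_eq_two_iff.2 ⟨⟨σ, h.s_Q⟩, fun b => by
    simp only [mem_subgroupOf, coe_mul]
    rcases h.mem_Q.1 b.2 with e | e
    · exact Or.inr ⟨e, fun e' => h.not_CZ (h.P0_CZ ((mul_mem_cancel_left e).1 e'))⟩
    · exact Or.inl ⟨e, fun e' => h.not_CZ (h.P0_CZ ((mul_mem_cancel_left e').1 e))⟩⟩
  rw [← card_mul_relIndex h.P0_Q, k1, k2]; rfl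

theorem mem00 : u ∈ X.P0 ⊓ X.Q1 ↔ ∃ v c, V0 v ∧ v.2.1 = 0 ∧ u = X.pv v * X.z c := by
  refine ⟨fun hu => ?_, ?_⟩
  · obtain ⟨v, c, hv, rfl⟩ := h.mem0.1 hu.1
    exact ⟨v, c, hv, h.x2 (h.Q_CA hu.2), rfl⟩
  · rintro ⟨⟨x, y, δ, ρ⟩, c, hv, rfl, rfl⟩
    exact ⟨h.pv_P0.2 hv, h.uv_pv δ ρ (x, c) ▸ pz_Hs _ _⟩

theorem mem_Nn : u ∈ X.P0 ⊓ X.Q1 ⊔ X.A ↔ u ∈ X.Q1 ∧ (u ∈ X.A ∨ u * u = X.z 1) := by
  refine ⟨fun hu => ⟨sup_le inf_le_right h.A_Q hu, ?_⟩, fun ⟨h1, h2⟩ => h2.elim mem_sup_right fun h2 => ?_⟩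
  · obtain ⟨p, hp, a, ha, rfl⟩ := (mem_sup_of_norm (norm_of_cent (cents_symm
      (inf_le_right.trans h.Q_CA)))).1 hu
    obtain ⟨⟨x, y, δ, ρ⟩, c, hv, rfl, rfl⟩ := h.mem00.1 hp
    obtain ⟨t, rfl⟩ := h.memA.1 ha
    obtain rfl : ρ = δ * δ := hv.2.2
    rw [← h.uv_pv δ _ (x, c), mul_assoc, ← h.exQ.z_add, h.exQ.sq, h.uv_A, ← h.az_z]
    exact ((by decide : ∀ δ : F4, ((0, δ, δ * δ) : V3) = 0 ∨ bQ (0, δ, δ * δ) (0, δ, δ * δ) = (0, 1))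
      δ).imp id (congrArg _)
  · obtain ⟨w, t, rfl⟩ := h.memQ.1 h1
    rw [h.exQ.sq, ← h.az_z] at h2
    rw [(by decide +kernel : ∀ w : V3, bQ w w = (0, 1) → w = (0, w.2.1, w.2.1 * w.2.1)) w (h.exQ.z_inj h2)]
    refine mul_mem (mem_sup_left (h.mem00.2 ⟨(0, 0, w.2.1, w.2.1 * w.2.1), 0, by simp [V0], rfl, ?_⟩))
      (mem_sup_right (az_A t))
    exact ((congrArg (_ * ·) h.az0).trans (mul_one _)).symm.trans (h.uv_pv _ _ 0)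

theorem Q0_eq : X.P0 ⊓ X.Q1 = ⁅C[X.A] ⊓ N[X.Q1], X.P0 ⊓ X.Q1 ⊔ X.A⁆ := by
  have e := h.exP
  refine le_antisymm (fun u hu => ?_) (commutator_le.2 fun g hg u hu => ?_)
  · have k : ∀ g ∈ C[X.A] ⊓ N[X.Q1], ∀ f, (X.AP g f fun c => c) → ∀ v, V0 v → v.2.1 = 0 → ∃ c,
        X.pv (f v + v) * X.z c ∈ ⁅C[X.A] ⊓ N[X.Q1], X.P0 ⊓ X.Q1 ⊔ X.A⁆ := fun g hg f k v h1 h2 => by
      have := commutator_mem_commutator hg (mem_sup_left (T := X.A) (h.mem00.2 ⟨v, 0, h1, h2, rfl⟩))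
      obtain ⟨c, e1⟩ := e.ac_pz k v 0
      rw [commutatorElement_def, e1, e.inv, e.mulz] at this
      exact ⟨_, this⟩
    have hZ : X.Z ≤ ⁅C[X.A] ⊓ N[X.Q1], X.P0 ⊓ X.Q1 ⊔ X.A⁆ := Z_le fun c => by
      have := commutator_mem_commutator (g₁ := X.r c) (H₁ := C[X.A] ⊓ N[X.Q1])
        ⟨h.Q_CA (h.rQ c), norm_self _ (h.rQ c)⟩
        (mem_sup_left (T := X.A) (h.mem00.2 ⟨(0, 0, 1, 1), 0, by decide, rfl, rfl⟩))
      rw [commutatorElement_def, h.pr', e.cm] at this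
      simpa [bP] using this
    obtain ⟨k0, b1, b2, -, b3, -⟩ := h.ex_k
    obtain ⟨v, c, h1, h2, rfl⟩ := h.mem00.1 hu
    obtain ⟨c1, a1⟩ := k _ ⟨h.qA om, norm_self _ (h.qQ om)⟩ _ (h.ap_q om) (0, 0, 1, 1) (by decide) rfl
    obtain ⟨c2, a2⟩ := k _ ⟨b2, b1.2⟩ _ b3 (0, 0, om, om * om) (by decide) rfl
    obtain ⟨c3, a3⟩ := k _ ⟨b2, b1.2⟩ _ b3 (0, 0, 1 + om, om) (by decide) rfl
    rw [mul_mem_cancel_right (hZ (z_Z _))] at a1 a2 a3 ⊢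
    exact h.V0_le hZ a1 (Or.inl h2) a2 a3 h1
  · have k : g ∈ N[X.P0 ⊓ X.Q1] := norm_inf (X := C[X.A] ⊓ N[X.Q1]) (fun g hg => h.NPz_P0
      (h.NP_Z hg.2 (C_le_N _ (C_anti Z_A hg.1))) (C_le_C1 (z_A 1) hg.1)) inf_le_right hg
    obtain ⟨p, hp, a, ha, rfl⟩ := (mem_sup_of_norm (norm_of_cent (cents_symm
      (inf_le_right.trans h.Q_CA)))).1 hu
    rw [commutatorElement_def, ← conj_mul, conj_eq_of_mem_C hg.1 ha, mul_inv_rev, mul_assoc,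
      mul_inv_cancel_left]
    exact mul_mem (conj_mem k hp) (inv_mem hp)

theorem Y_Q0 (hg : g ∈ X.Y1) : g ∈ N[X.P0 ⊓ X.Q1] := by
  rw [h.Q0_eq]
  refine norm_comm (X := X.Y1) (norm_inf (norm_C (inf_le_right.trans h.NQ_A)) (norm_N inf_le_right))
    (fun g hg => mem_N_of_finite fun u hu => ?_) hg
  rw [h.mem_Nn] at hu ⊢
  exact ⟨conj_mem hg.2 hu.1, hu.2.imp (conj_mem (h.NQ_A hg.2)) fun e => by
    rw [conj_mul, e, mem_C1_iff_conj.1 hg.1]⟩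

theorem chi (h0 : TwoE e) (h1 : e ∈ N[X.Q1]) (h2 : e ∈ Cz (X.z 1) (X.P0 ⊓ X.Q1 : Subgroup G))
    (h3 : e * e ∈ zpowers (X.z 1)) (h4 : e ∉ X.Q1) : e ∈ X.Q σ := by
  have E := h.exP
  have hP := h.NP_Z h1 (mem_N_of_finite fun u hu => (mul_mem_cancel_right (inv_mem hu)).1
    (h.zp_Z (h2.2 u ⟨h.Z_P0 hu, h.A_Q (Z_A hu)⟩)))
  have QA : X.A ≤ N[X.Q σ] := fun a ha => h.NPz_Q (norm_self _ (h.S_P (A_S ha))) (h.P_Cz (h.S_P (A_S ha)))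
  have k : ∀ g ∈ N[X.P], g ∈ N[X.A] → g ∈ Cz (X.z 1) (X.P0 ⊓ X.Q1 : Subgroup G) → g ∈ C[X.Z] →
      g ∈ X.Q σ ⊔ X.A ⊔ X.O := fun g g1 g2 g3 g4 => by
    obtain ⟨x, n, s, l, n0, k⟩ := h.nf2 g1 g2 g3.1
    have k1 : ∀ v, V0 v → v.2.1 = 0 → f1 x (nf 1 n s l v) = v := fun v a b => h.fix_of k
      (h.zp_Z (g3.2 _ (h.mem00.2 ⟨v, 0, a, b, by rw [h.z0, mul_one]⟩)))
    obtain ⟨p, hp, o, ho, rfl⟩ := (mem_sup_of_norm (norm_of_cent (cents_symm h.P_O))).1 (h.CP (k.congr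
      ((by decide +kernel : ∀ x n s l, fr l om = om → f1 x (nf 1 n s l (0, 0, 1, 1)) = (0, 0, 1, 1) →
        f1 x (nf 1 n s l (0, 0, om, om * om)) = (0, 0, om, om * om) → ∀ v, f1 x (nf 1 n s l v) = v)
        x n s l (h.ap_CZ k g4 om) (k1 _ (by decide) rfl) (k1 _ (by decide) rfl)) (h.ap_CZ k g4)))
    refine mul_mem (mem_sup_left ?_) (mem_sup_right ho)
    obtain ⟨v, c, rfl⟩ := h.memP.1 hp
    have k2 : ∀ w, V0 w → w.2.1 = 0 → BP v w * BP v w = BP v w := fun w hw hw' => by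
      have := g3.2 _ (h.mem00.2 ⟨w, 0, hw, hw', rfl⟩)
      rwa [show ∀ p u, p * o * u * (p * o)⁻¹ = p * (o * u * o⁻¹) * p⁻¹ by intros; group,
        conj_eq_of_mem_C (cents_symm h.P_O ho) (pz_Hs w 0), E.cm, h.z_zp] at this
    have := h.pv_P0' ((by decide +kernel : ∀ v : V4, (∀ w, V0 w → w.2.1 = 0 → BP v w * BP v w = BP v w) →
      V0 (v + (v.1, 0, 0, 0))) v k2)
    have hZ : X.Z ≤ X.Q σ ⊔ X.A := Z_A.trans le_sup_right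
    refine mul_mem ?_ (hZ (z_Z c))
    have k3 := h.pv_add hZ (mem_sup_left (h.P0_Q this))
      (v' := (v.1, 0, 0, 0)) (h.pa _ ▸ mem_sup_right (a_A _))
    rwa [add_assoc, v4_two, add_zero] at k3
  have k1 : e ∈ X.Q σ ⊔ X.A := two_mem (h.twoQ.sup h.eaA.two QA) O_odd
    (cents_symm (sup_le h.Q_CO (h.A_Q.trans h.Q_O))) (by
      rcases h.CZ_or hP h2.1 with e' | e'
      · exact k e hP (h.NQ_A h1) h2 e'
      · exact (mul_mem_cancel_right (mem_sup_left (mem_sup_left h.s_Q))).1 (k _ (mul_mem hP h.nP)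
          (h.NQ_A (mul_mem h1 h.Y.2)) (mul_mem h2 ⟨h.cz0.1, fun u hu => h.cz0.2 u hu.1⟩) e')) h0
  obtain ⟨p, hp, a, ha, rfl⟩ := (mem_sup_of_norm QA).1 k1
  obtain ⟨x, c, rfl⟩ := h.mem_A.1 ha
  by_cases hx : x * x = x
  · exact mul_mem hp (h.P0_Q (h.pa x ▸ h.pv_P0.2 (by simp [V0, hx])))
  have k2 : p * (X.a x * X.z c) * p⁻¹ * (X.a x * X.z c)⁻¹ ∈ zpowers (X.z 1) := by
    have := conj_mem (norm_zpowers_of_cent le_rfl (h.Q_Y hp).1) (mul_mem (inv_mem (h.sqQ hp)) h3)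
    rwa [show p * ((p * p)⁻¹ * (p * (X.a x * X.z c) * (p * (X.a x * X.z c)))) * p⁻¹ = (X.a x * X.z c) *
      (p * (X.a x * X.z c) * p⁻¹) by group, h.eaA.comm ha (conj_mem (h.NQ_A (h.Q_Y hp).2) ha),
      ← congrArg (_ * ·) (h.eaA.inv ha)] at this
  rcases h.mem_Q.1 hp with e' | e'
  · obtain ⟨v, c', hv, rfl⟩ := h.mem0.1 e'
    rw [← h.pa, E.cm, h.z_zp] at k2
    exact absurd (mul_mem (h.mem00.2 ⟨v, c', hv, (by decide +kernel : ∀ x : F4, x * x ≠ x → ∀ v, V0 v →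
      BP v (x, 0, 0, 0) * BP v (x, 0, 0, 0) = BP v (x, 0, 0, 0) → v.2.1 = 0) x hx v hv k2, rfl⟩).2
      (h.A_Q ha)) h4
  · have k3 := E.ac_mul (E.ac_in (h.P0_P e')) (E.ac_inv h.ap (f' := nf 1 1 true true) (φ' := fr true)
      (by decide +kernel) (by decide))
    rw [mul_inv_cancel_right] at k3
    obtain ⟨c', k4⟩ := h.mem_Z.1 (h.zp_Z k2)
    rw [mul_inv_eq_iff_eq_mul, ← h.pa, ← mul_assoc (X.z c'), E.cen, mul_assoc _ (X.z c'),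
      ← h.z_add] at k4
    exact absurd (congrArg Prod.fst (E.ac_eq k3 (v := (x, 0, 0, 0)) k4)) (by simpa [nf, fr] using hx)

theorem Q_inf : X.Q σ ⊓ X.Q1 = X.P0 ⊓ X.Q1 := le_antisymm
  (fun _ hu => ⟨h.Q_P0 hu.1 (C_anti Z_A (h.Q_CA hu.2)), hu.2⟩) (inf_le_inf_right _ h.P0_Q)

theorem Y_Q : X.Y1 ≤ N[X.Q σ] := fun g hg => mem_N_of_finite fun u hu => by
  by_cases e : u ∈ X.Q1
  · exact h.P0_Q (conj_mem (h.Y_Q0 hg) (h.Q_inf.le ⟨hu, e⟩)).1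
  exact h.chi ((h.twoQ.piElt hu).conj g) (conj_mem (norm_self _ hg.2) (h.Q_Y hu).2)
    (Cz_conj hg.1 (h.Y_Q0 hg) ⟨(h.Q_cz hu).1, fun v hv => (h.Q_cz hu).2 v hv.1⟩)
    (by rw [conj_mul]; exact conj_mem (norm_zpowers_of_cent le_rfl hg.1) (h.sqQ hu))
    fun e' => e ((conj_mem_iff hg.2).1 e')

end Sg

end Dat

end H24.Sz
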