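import Mathlib
import Cfsg.Agent.H24.SuF5

/-! Involutions normalising `P`. -/

set_option autoImplicit false
set_option linter.unusedSectionVars false
set_option synthInstance.maxSize 4096
set_option maxRecDepth 100000

namespace H24.Sz

open H26 H26.Gold Subgroup
open H9 (F4)
open H7.SJ (p2 mem_of_odd mem_zp)

theorem mem_of_cube {G : Type*} [Group G] [Finite G] {g : G} {M : Subgroup G} (h : TwoE g)
    (h1 : g * (g * g) ∈ M) : g ∈ M := by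
  obtain ⟨k, hk⟩ := h.exists_pow p2
  obtain ⟨m, e⟩ := exists_pow_eq_self_of_coprime (x := g) (n := 3) (by
    rw [hk]; exact Nat.Coprime.pow_right _ (by decide))
  exact e ▸ pow_mem (by rwa [pow_three]) m

namespace Dat

variable {G : Type*} [Group G] (X : Dat G)

/-- the overgroup of the Sylow subgroup. -/
def M1 : Subgroup G := N[X.P] ⊓ N[X.A] ⊓ C{X.z 1}

/-- the four types. -/
def Tp (e : G) : Prop := e ∈ X.P ∨ (e ∈ X.Q1 ∧ e ∉ X.A ∧ e * e = 1) ∨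
  X.AP e (nf 1 1 false true) (fr true) ∨ X.AP e sw fun c => c

variable {X} [Finite G] {g u e σ : G} {x y c n : F4} {v : V4} {w : V3}
  {t : F4 × F4} {f f' : V4 → V4} {φ : F4 → F4} {M : Subgroup G}

namespace NC

variable (h : X.NC)
include h

theorem M_Y : X.M1 ≤ X.Y1 := fun _ hg => ⟨hg.2, h.NPA_Q hg.1.1 hg.1.2⟩
theorem P_M : X.P ≤ X.M1 := le_inf (le_inf (norm_self _) h.P_NA) h.P_Cz
theorem Q_M : X.Q1 ≤ X.M1 :=
  le_inf (le_inf h.Q_NP (h.Q_CA.trans (C_le_N _))) (h.Q_Y1.trans inf_le_left)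

theorem ex_kn (hn : n ≠ 0) : ∃ k, X.AP k (nf 1 n false false) fun c => c := by
  obtain ⟨k, -, -, k1⟩ := h.exists_k
  rcases f4_cases n with rfl | rfl | rfl | rfl
  · exact absurd rfl hn
  · exact ⟨1, (h.exP.ac_in (one_mem _)).congr (by decide +kernel) fun _ => rfl⟩
  · exact ⟨k, k1⟩
  · exact ⟨_, (h.exP.ac_mul k1 k1).congr (by decide +kernel) fun _ => rfl⟩

theorem ap_conj {f1 f2 : V4 → V4} (k : X.AP g f1 fun c => c) (h1 : ∀ v, f2 (f1 v) = v)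
    (k' : X.AP e f φ) : X.AP (g * e * g⁻¹) (fun v => f1 (f (f2 v))) φ := by
  have := h.exP.ac_mul (h.exP.ac_mul k k') (h.exP.ac_inv k (φ' := fun c => c) h1 fun _ => rfl)
  exact this

theorem cl_f (hn : n ≠ 0) (k : X.AP e (fun v => f1 x (nf 1 n false true v)) (fr true)) (h2 : e * e ∈ X.P) :
    ∃ g ∈ N[X.P] ⊓ C{X.z 1}, X.AP (g * e * g⁻¹) (nf 1 1 false true) (fr true) := by
  obtain ⟨y, m, m0, k1⟩ := (by decide +kernel : ∀ x n : F4, n ≠ 0 → (∀ v, f1 x (nf 1 n false true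
    (f1 x (nf 1 n false true v))) = v) → ∃ y m, m ≠ 0 ∧ ∀ v, nf 1 m false false (f1 y (f1 x
      (nf 1 n false true (f1 y (nf 1 (m * m) false false v))))) = nf 1 1 false true v) x n hn
        (h.exP.ac_sq k h2).1
  obtain ⟨k0, k2⟩ := h.ex_kn m0
  have k3 := h.exP.ac_mul k2 (h.ap_q y)
  exact ⟨_, ⟨k3.norm, h.Cz_of k3 rfl⟩, (h.ap_conj k3 (f2 := fun v => f1 y (nf 1 (m * m) false false v))
    ((by decide +kernel : ∀ m y : F4, m ≠ 0 → ∀ v, f1 y (nf 1 (m * m) false false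
      (nf 1 m false false (f1 y v))) = v) m y m0) k).congr k1 fun _ => rfl⟩

theorem cl_g (hn : n ≠ 0) (k : X.AP e (fun v => f1 x (nf 1 n true false v)) (fr false))
    (h2 : e * e ∈ X.P) : ∃ g ∈ N[X.P] ⊓ C{X.z 1}, X.AP (g * e * g⁻¹) sw fun c => c := by
  obtain ⟨a, b, c, k1⟩ := (by decide +kernel : ∀ x n : F4, n ≠ 0 → (∀ v, f1 x (nf 1 n true false
    (f1 x (nf 1 n true false v))) = v) → ∃ a b c, ∀ v, f1 a (f2 b (f1 c (f1 x
      (nf 1 n true false (f1 c (f2 b (f1 a v))))))) = sw v) x n hn (h.exP.ac_sq k h2).1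
  have k3 := h.exP.ac_mul (h.ap_q a) (h.exP.ac_mul (h.ap_q' b) (h.ap_q c))
  have i1 : ∀ x v, f1 x (f1 x v) = v := by decide +kernel
  exact ⟨_, ⟨k3.norm, h.Cz_of k3 rfl⟩, (h.ap_conj k3 (f2 := fun v => f1 c (f2 b (f1 a v)))
    (fun v => by rw [i1, (by decide +kernel : ∀ x v, f2 x (f2 x v) = v), i1]) k).congr k1 fun _ => rfl⟩

theorem twoT1 : TwoG (X.Q1 ⊔ X.P) := h.exQ.two.sup h.twoP h.P_NQ

theorem cl_e (hn : n ≠ 0) (k : X.AP e (fun v => f1 x (nf 1 n false false v)) (fr false))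
    (h1 : TwoE e) (h2 : e * e ∈ zpowers (X.z 1)) : X.Tp e := by
  obtain rfl := (by decide +kernel : ∀ x n : F4, n ≠ 0 → (∀ v, f1 x (nf 1 n false false
    (f1 x (nf 1 n false false v))) = v) → n = 1) x n hn (h.exP.ac_sq k (h.S_P (Z_S (h.zp_Z h2)))).1
  have k1 := h.CP ((h.exP.ac_mul (h.ap_q x) k).congr (by clear k; revert x; decide +kernel) fun _ => rfl)
  have k2 : e ∈ X.Q1 ⊔ X.P := two_mem h.twoT1 O_odd (cents_symm (sup_le h.Q_O h.P_O))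
    ((mul_mem_cancel_left (mem_sup_left (mem_sup_left (h.qQ x)))).1
      (sup_le_sup_right le_sup_right X.O k1)) h1
  by_cases k3 : e ∈ X.P
  · exact Or.inl k3
  obtain ⟨u, hu, p, hp, rfl⟩ := (mem_sup_of_norm h.P_NQ).1 k2
  obtain ⟨⟨a, b, δ, ρ⟩, c, rfl⟩ := h.memP.1 hp
  have e1 : X.pv (a, b, δ, ρ) * X.z c = X.uv (0, δ, ρ) * X.az (a, c) * X.b b := by
    rw [h.uv_pv, h.pb', h.exP.mulz]; simp [bP]
  rw [e1, ← mul_assoc u _ (X.b b)] at h2 k3 ⊢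
  obtain ⟨w, t, e2⟩ := h.memQ.1 (mul_mem hu (pz_Hs (0, δ, ρ) (a, c)))
  rw [e2] at h2 k3 ⊢
  obtain ⟨t', e3⟩ := h.exQ.ac_pz (h.aq_b b) w t
  have w0 : w.1 ≠ 0 := fun e => k3 (mul_mem (h.uv_P.2 e) (h.bP' b))
  have k4 := Z_A (h.zp_Z h2)
  rw [show ∀ u, u * X.b b * (u * X.b b) = u * (X.b b * u * (X.b b)⁻¹) by simp [h.bi, mul_assoc], e3,
    h.exQ.mulz, h.uv_A] at k4
  obtain rfl := (by decide +kernel : ∀ w : V3, w.1 ≠ 0 → ∀ b, w + fb b w = 0 → b = 0) w w0 b k4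
  rw [h.b0, mul_one] at h2 k3 ⊢
  refine Or.inr (Or.inl ⟨pz_Hs _ _, fun e => k3 (h.S_P (A_S e)), ?_⟩)
  rw [h.exQ.sq] at h2 ⊢
  rw [(by decide +kernel : ∀ w : V3, w.1 ≠ 0 → (bQ w w).1 = 0 → bQ w w = 0) w w0
    (h.a_mem_Z (h.zp_Z h2)), h.az0]

theorem I_conj' : X.I e ↔ IsConj (X.r 1) e := by
  refine ⟨fun ⟨h1, h2, g, hg⟩ => ?_, fun k => ?_⟩
  · obtain ⟨k, -, k1⟩ := Sylow_Jsub p2 h.sylR (twoE_of_sq (H26.Gold.conj_sq h2 g)).isPi (zpowers_le.2 hg)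
    have k2 := k1 (conj_mem_cj k (mem_zpowers _))
    obtain ⟨m, -, k3⟩ := h.toR (mem_sup_left k2) fun e => h1 (conj_eq_one_iff'.1 (conj_eq_one_iff'.1
      (mem_bot.1 (h.LK.le ⟨h.S_L (A_S e), h.sylR.le k2⟩))))
    exact (isConj_iff.2 ⟨m * k * g, by rw [← k3]; group⟩).symm
  · obtain ⟨g, rfl⟩ := isConj_iff.1 k
    exact (h.I_r h.one one_ne_zero).conj g

theorem I_lk {l k : G} (hl : l ∈ X.L) (hk : k ∈ X.K) (k1 : k ≠ 1) (h2 : l * k * (l * k) = 1) :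
    X.I (l * k) := by
  rw [mul_assoc, ← mul_assoc k, ← mem_C.1 hk l hl, mul_assoc, ← mul_assoc, mul_eq_one_iff_eq_inv] at h2
  have l2 : l * l = 1 := mem_bot.1 (h.LK.le (mem_inf.2 ⟨mul_mem hl hl, h2 ▸ inv_mem (mul_mem hk hk)⟩))
  have k2 : k * k = 1 := by rwa [l2, eq_comm, inv_eq_one] at h2
  by_cases l1 : l = 1
  · rw [l1, one_mul]; exact ⟨k1, k2, 1, by simpa using hk⟩
  obtain ⟨m, hm, e1⟩ := h.inv l hl l1 l2
  obtain ⟨k0, hk0, e2⟩ := Sylow_Jsub p2 h.sylR (twoE_of_sq k2).isPi (zpowers_le.2 hk)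
  obtain ⟨x, -, e3⟩ := h.mem_R.1 (e2 (conj_mem_cj k0 (mem_zpowers _)))
  have x0 : x ≠ 0 := fun e => k1 (conj_eq_one_iff'.1 (by rw [e3, e, h.r0]))
  rw [← I_conj (g := m), ← conj_mul, e1, mem_C.1 hk m hm, mul_inv_cancel_right, ← I_conj (g := k0),
    ← conj_mul, e3, conj_eq_of_mem_C hk0 (h.zL 1), mem_C.1 (h.rS x) _ (z_S 1),
    ← mul_inv_cancel₀ x0, ← h.dr _ _ (h.top x), I_conj]
  exact h.I_r (h.top x) x0

theorem fixv (k : X.AP e f φ) (h2 : e * e ∈ X.Z) (v : V4) (h3 : BP (f v) v = 0) :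
    ∃ c, e ∈ C{X.pv (f v + v) * X.z c} := by
  obtain ⟨c, e1⟩ := h.exP.ac_pz k v 0
  refine ⟨bP (f v) v + c + 0, mem_C1_iff_conj.2 ?_⟩
  rw [← h.exP.mulz _ c v 0, ← e1, ← conj_mul, show ∀ u, e * (e * u * e⁻¹) * e⁻¹ = e * e * u * (e * e)⁻¹ by
    intros; group, conj_eq_of_mem_C (cents_symm h.P_CZ h2) (pz_Hs v 0), e1]
  exact (h.exP.comm_iff.2 h3).symm

theorem xa (k : X.AP e (nf 1 1 false true) (fr true)) (h2 : e * e = 1) :
    ∃ x, e ∈ C{x} ∧ X.AP x (f1 1) fun c => c := by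
  have E := h.exP
  obtain ⟨w, t, e1⟩ := h.memQ.1 (conj_mem (h.NPA_Q k.norm (h.NA_of k (by decide))) (h.qQ 1))
  have k1 := E.ac_mul (E.ac_mul k (h.ap_q 1)) (E.ac_inv k (f' := nf 1 1 false true) (φ' := fr true)
    (by decide +kernel) (by decide))
  have k2 := (by decide : ∀ x, nf 1 1 false true (f1 1 (nf 1 1 false true (0, 1, 0, 0))) =
    f1 x (0, 1, 0, 0) → x = 1) w.1 ((E.ac_uniq k1 (e1 ▸ h.ap_uv w t)).1 _)
  obtain ⟨y, hy, k3⟩ := E.fix k h2 (by decide +kernel) (by decide) (x := X.q 1) (by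
    rw [e1, h.uv_q, k2, inv_mul_cancel_left]; exact pz_Hs _ _)
  exact ⟨_, mem_C1_iff_conj.2 k3, E.ac_mul (h.ap_q 1) (E.ac_in hy)⟩

theorem notI_f (k : X.AP e (nf 1 1 false true) (fr true)) (h2 : e * e = 1) : ¬ X.I e := fun hI => by
  have E := h.exP
  obtain ⟨g, rfl⟩ := isConj_iff.1 (h.I_conj'.1 hI)
  obtain ⟨c1, a0⟩ := h.fixv k (h2 ▸ one_mem _) (om, 0, 0, 0) (by decide)
  obtain ⟨c2, b0⟩ := h.fixv k (h2 ▸ one_mem _) (0, om, 0, 0) (by decide)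
  rw [mem_C1_comm] at a0 b0
  have h' := h.cj g
  have k1 := h'.sq_mem (h'.C_r h.one one_ne_zero (mul_mem a0 b0))
    (h.twoP.piElt (mul_mem (pz_Hs _ _) (pz_Hs _ _)))
  rw [E.mulz, E.sq] at k1
  obtain ⟨l, hl, k0, hk, k2⟩ := h'.mem_LK.1 k1
  obtain rfl : k0 = 1 := by_contra fun e => h.not_I_A (z_A _) (k2 ▸ cj_I.1 (h'.I_lk hl hk e (k2 ▸ h.zz _)))
  rw [mul_one] at k2
  obtain ⟨m, hm, k3⟩ := h'.inv _ (k2 ▸ hl) h.z1 (h.zz 1)
  have h'' := h'.cj m⁻¹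
  have k4 : ((X.cj g).cj m⁻¹).r 1 = g * X.r 1 * g⁻¹ := conj_eq_of_mem_C (cents_symm le_rfl (inv_mem hm))
    (h'.rk 1)
  have k5 : ((X.cj g).cj m⁻¹).z 1 = X.z 1 := by
    change m⁻¹ * (X.cj g).z 1 * m⁻¹⁻¹ = _
    rw [← k3]; group
  obtain ⟨x1, a1, a2⟩ := h.xa k h2
  obtain ⟨x2, b1, b2⟩ := h.symm.xa ((h.symm.of_symm k).congr (by decide +kernel) fun _ => rfl) h2
  have k6 := E.ac_mul a2 (h.of_symm b2)
  obtain ⟨s, o, s2, o2, ⟨j, rfl⟩, ho, k7⟩ := exists_piElt_decomp {2} (x1 * x2)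
  have k8 := mem_of_cube s2 (M := X.P ⊔ X.O) (by
    rw [← Commute.mul_zpow (Commute.refl _), ← Commute.mul_zpow (by simp)]
    exact zpow_mem (h.CP ((E.ac_mul k6 (E.ac_mul k6 k6)).congr (by decide +kernel) fun _ => rfl)) j)
  have k9 := E.ac_mul (h.ap_PO (inv_mem k8)) k6
  rw [inv_mul_eq_of_eq_mul k7] at k9
  have o1 := h''.Ct_odd one_ne_zero (k4 ▸ zpowers_le.2 (mul_mem (mem_C1_comm.1 a1) (mem_C1_comm.1 b1)) ho)
    (k5 ▸ h.Cz_of k9 rfl) o2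
  have := (h.twoP.inf_eq_bot (O_odd (X := (X.cj g).cj m⁻¹))).le (mem_inf.2 ⟨mul_mem
    (conj_mem k9.norm (pz_Hs _ c1)) (inv_mem (pz_Hs _ c1)), by
      rw [mul_assoc, mul_assoc, ← mul_assoc (X.pv _ * _)]
      exact mul_mem o1 (conj_mem (h''.C_NO one_ne_zero (k4 ▸ a0)) (inv_mem o1))⟩)
  exact absurd (E.ac_eq k9 (mul_inv_eq_one.1 (mem_bot.1 this))) (by decide)

end NC

end Dat

end H24.Sz
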