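import Mathlib
import Cfsg.Agent.H24.SuG1

/-! The classification of the elements squaring into `⟨z⟩`, and the Sylow subgroup. -/

set_option autoImplicit false
set_option linter.unusedSectionVars false
set_option synthInstance.maxSize 4096
set_option maxRecDepth 100000

namespace H24.Sz

open H26 H26.Gold Subgroup
open H9 (F4)
open H7.SJ (p2 mem_of_odd mem_zp)

namespace Dat

variable {G : Type*} [Group G] {X : Dat G} [Finite G] {g u e σ : G} {x y c n : F4} {v : V4} {w : V3}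
  {t : F4 × F4} {f f' : V4 → V4} {φ : F4 → F4} {M : Subgroup G} {s l : Bool}

namespace NC

variable (h : X.NC)
include h

theorem s_false (hn : n ≠ 0) (k : X.AP e (fun v => f1 x (nf 1 n s l v)) φ)
    (h1 : e * X.r 1 * e⁻¹ ∈ X.R ⊔ X.A) : s = false := by
  obtain ⟨a, -, b, c, e1⟩ := h.mem_E.1 h1
  rw [h.pr' 1, ← h.pr a, ← h.pa, h.exP.mul, mul_assoc _ (X.z _), ← h.z_add] at e1
  exact (by decide +kernel : ∀ x n s l a b, n ≠ 0 → f1 x (nf 1 n s l (0, 0, 0, 1)) =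
    (0, 0, 0, a) + (b, 0, 0, 0) → s = false) x n s l a b hn (h.exP.ac_eq k (v := (0, 0, 0, 1)) e1)

theorem notI_f' (h1 : u ∈ N[X.R]) (h2 : u ∈ N[X.A]) (h3 : u ∈ N[X.S]) (h4 : u * u = 1)
    (h5 : u ∉ C[X.Z]) : ¬ X.I u := by
  obtain ⟨f, φ, k⟩ := h.ap_ex (h.NRS h1 h3)
  obtain ⟨c, hc⟩ := not_forall.1 fun e : ∀ c, φ c = c => h5 (h.CZ_of (k.congr (fun _ => rfl) e))
  obtain ⟨m, hm, k1⟩ := h.trans_Z (c := φ c + c) fun e =>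
    hc ((by decide : ∀ a b : F4, a + b = 0 → a = b) _ _ e)
  have mR : zpowers X.h ≤ N[X.R] :=
    zpowers_le.2 (C_le_N _ (cents_symm (h.sylR.le.trans le_rfl) h.hL))
  have mA : zpowers X.h ≤ N[X.A] := zpowers_le.2 h.h_NA
  have mS : zpowers X.h ≤ N[X.S] := norm_sup mA (zpowers_le.2 h.symm.h_NA)
  have k2 := conj_mem (norm_self _ (mR hm)) h1
  obtain ⟨x, n, s, l, n0, k3⟩ := h.nf2 (h.NRS k2 (conj_mem (norm_self _ (mS hm)) h3))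
    (conj_mem (norm_self _ (mA hm)) h2) (by
      rw [← k1, ← cj_C1]
      refine conj_mem_cj m (mem_C1_iff_conj.2 ?_)
      rw [k.2, h.exP.ac_addZ k, (h.exP.ac_sq k (h4 ▸ one_mem _)).2, add_comm])
  obtain rfl := h.s_false n0 k3 (mem_sup_left (conj_mem k2 (r_R h.one)))
  cases l
  · exact absurd ((conj_mem_iff (N_le_NC _ (h.N_Z (mS hm)))).1 (h.CZ_of k3)) h5
  obtain ⟨g, -, k4⟩ := h.cl_f n0 k3 (by rw [H26.Gold.conj_sq h4]; exact one_mem _)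
  rw [← I_conj (g := m), ← I_conj (g := g)]
  exact h.notI_f k4 (H26.Gold.conj_sq (H26.Gold.conj_sq h4 m) g)

theorem inner (h1 : u ∈ H24.cj g X.K) (u1 : u ≠ 1) (u2 : u * u = 1) (h2 : u ∈ X.S ⊔ X.K)
    (h3 : u ∈ C{X.r 1}) : X.r 1 ∈ H24.cj g (X.L ⊔ X.K) := by
  have nn : N[X.L] ≤ N[X.L ⊔ X.K] := norm_sup le_rfl (N_le_NC _)
  obtain ⟨s, hs, k, hk, rfl⟩ := h.mem_SK.1 h2
  have hl := h.S_L hs
  have u3 := u2
  rw [mul_assoc, ← mul_assoc k, ← mem_C.1 hk s hl, mul_assoc, ← mul_assoc, mul_eq_one_iff_eq_inv] at u3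
  have l2 : s * s = 1 := mem_bot.1 (h.LK.le (mem_inf.2 ⟨mul_mem hl hl, u3 ▸ inv_mem (mul_mem hk hk)⟩))
  have k2 : k * k = 1 := by rwa [l2, eq_comm, inv_eq_one] at u3
  obtain ⟨x, -, rfl⟩ := h.mem_R.1 (two_mem h.eaR.two O_odd O_R (h.CKR ▸ mem_inf.2 ⟨hk, h.CK one_ne_zero
    ⟨hk, (mul_mem_cancel_left (mem_C1_comm.1 (C_le_C1 hs (h.rS 1)))).1 h3⟩⟩) (twoE_of_sq k2))
  by_cases s1 : s = 1
  · rw [cj_of_mem_N (nn (h.toSt.ti (mul_mem (s1 ▸ one_mem _) hk) u1 u2 h1))]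
    exact mem_sup_right (h.rk 1)
  have x0 : x ≠ 0 := fun e => h.IL _ (by rwa [e, h.r0, mul_one])
    ⟨u1, u2, g⁻¹, by simpa using mem_cj.1 h1⟩
  obtain ⟨m, hm, e1⟩ := h.inv s hl s1 l2
  have e2 : s * X.r x = m⁻¹ * X.d x⁻¹ * X.r x * (m⁻¹ * X.d x⁻¹)⁻¹ := by
    rw [show m⁻¹ * X.d x⁻¹ * X.r x * (m⁻¹ * X.d x⁻¹)⁻¹ = m⁻¹ * (X.d x⁻¹ * X.r x * (X.d x⁻¹)⁻¹) * m by
      group, h.dr _ _ (h.top x), mul_inv_cancel₀ x0, ← mem_C.1 (h.rS x) _ (z_S 1), ← e1, mul_assoc,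
      mul_assoc _ (X.r x), ← mem_C.1 hk m hm]
    group
  have e3 := h.toSt.ti (g := (m⁻¹ * X.d x⁻¹)⁻¹ * g) hk (h.I_r (h.top x) x0).1 k2 (by
    rw [cj_mul, mem_cj, inv_inv, ← e2]; exact h1)
  rw [← mul_inv_cancel_left (m⁻¹ * X.d x⁻¹) g, cj_mul, cj_of_mem_N (nn e3), mem_cj,
    show (m⁻¹ * X.d x⁻¹)⁻¹ * X.r 1 * (m⁻¹ * X.d x⁻¹) = (X.d x⁻¹)⁻¹ * (m * X.r 1 * m⁻¹) * (X.d x⁻¹)⁻¹⁻¹ by
      group, mem_C.1 (h.rk 1) m hm, mul_inv_cancel_right, h.di, h.dr _ _ h.one]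
  exact mul_mem (mem_sup_right (h.rk 1)) (mem_sup_left (h.zL _))

theorem sw_A (k : X.AP e sw φ) : H24.cj e X.A = X.B :=
  eq_of_card_eq (cj_le_iff.2 (A_le (fun x => mem_cj.2 (by
    obtain ⟨c, e⟩ := k.1 (x, 0, 0, 0)
    rw [inv_inv, ← h.pa, e]; exact mul_mem (h.pb x ▸ b_B x) (z_B c)))
    fun c => mem_cj.2 (by rw [inv_inv, k.2]; exact z_B _))) (by rw [card_cj, h.card_A, h.card_B])

theorem sw_B (k : X.AP e sw φ) : H24.cj e X.B = X.A := h.symm.sw_A (h.symm.of_symm k)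

theorem tr_sw (k : X.AP e sw φ) :
    ∃ c, X.d c * e ∈ C[X.R] ∧ ∀ x, e * X.r x * e⁻¹ = X.r x * X.z (x * c) :=
  h.tr' fun x => by obtain ⟨c, e⟩ := k.1 (0, 0, 0, x); exact h.pr x ▸ h.pzZ e

theorem notI_g0 (k : X.AP e sw φ) (h2 : e * e = 1) (h3 : e ∈ C[X.R]) : ¬ X.I e := fun hI => by
  have k1 : e ∉ X.L ⊔ X.K := fun e1 => by
    obtain ⟨l, hl, k0, hk, rfl⟩ := h.mem_LK.1 e1
    have kS := C_anti h.S_L hk
    have e2 : l * k0 ∈ N[X.S] := mem_N_iff_cj.2 (by rw [S, cj_sup, h.sw_A k, h.sw_B k, sup_comm])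
    rw [mul_assoc, ← mul_assoc k0, ← mem_C.1 hk l hl, mul_assoc, ← mul_assoc,
      mul_eq_one_iff_eq_inv] at h2
    have l2 : l * l = 1 := mem_bot.1 (h.LK.le (mem_inf.2 ⟨mul_mem hl hl, h2 ▸ inv_mem (mul_mem hk hk)⟩))
    have e3 := h.syl.le_of_norm (twoE_of_sq l2).isPi (zpowers_le.2 hl)
      (zpowers_le.2 ((mul_mem_cancel_right (C_le_N _ kS)).1 e2)) (mem_zpowers l)
    exact h.A_ne_B ((cj_of_mem_N (mul_mem (h.S_NA e3) (C_le_N _ (C_anti A_S kS)))).symm.trans (h.sw_A k))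
  obtain ⟨g, rfl⟩ := isConj_iff.1 (h.I_conj'.1 hI)
  have h' := h.cj g
  have k2 : X.R ≤ C{g * X.r 1 * g⁻¹} := mem_C_iff_le_C1.1 h3
  obtain ⟨l, hl, k3⟩ := h'.ex_conj h.eaR.two (k2.trans (h'.C_r h.one one_ne_zero))
  have h'' := h'.cj l⁻¹
  have k4 : ((X.cj g).cj l⁻¹).r 1 = g * X.r 1 * g⁻¹ := conj_eq_of_mem_C (cents_symm le_rfl (inv_mem hl))
    (h'.rk 1)
  rw [cj_le_iff, cj_N, ← cj_S] at k3
  rw [← k4] at k1 k2
  obtain ⟨u, hu, u1, u2, u3⟩ := h''.four h.eaR.two (k2.trans (h''.C_r h.one one_ne_zero)) k3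
    (eq_bot_iff.2 fun u hu => mem_bot.2 (by_contra fun u1 => k1 (by
      have := h''.inner (g := g⁻¹ * l) (by simpa [cj_mul] using h.sylR.le hu.1) u1 (h.eaR.sq hu.1) hu.2
        (k2 hu.1)
      simpa [cj_mul, cj_sup] using this))) h.card_R.ge
  obtain ⟨x, -, rfl⟩ := h.mem_R.1 hu
  exact h''.notI_f' (h''.C_NR one_ne_zero (k2 hu)) u1 (k3 hu) (h.eaR.sq hu) u3
    (cj_I.2 (cj_I.2 (h.I_r (h.top x) fun e => u3 (by rw [e, h.r0]; exact one_mem _))))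

theorem nf_two (hn : n ≠ 0) (k : X.AP g (nf 1 n false false) (fr false)) (h1 : TwoE g) : g ∈ X.P :=
  two_mem h.twoP O_odd (cents_symm h.P_O) (mem_of_cube h1 (h.CP ((h.exP.ac_mul k (h.exP.ac_mul k k)).congr
    (by clear k; revert n; decide +kernel) fun _ => rfl))) h1

end NC

namespace Sg

variable (h : X.Sg σ)
include h

theorem s_M : σ ∈ X.M1 := ⟨⟨h.nP, h.NQ_A h.Y.2⟩, h.Y.1⟩
theorem W_Q : N[X.P] ⊓ C{X.z 1} ≤ N[X.Q σ] := fun _ hg => h.NPz_Q hg.1 hg.2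
theorem M_Q : X.M1 ≤ N[X.Q σ] := h.M_Y.trans h.Y_Q

theorem red_g (k : X.AP e sw fun c => c) (h2 : e * e = 1) :
    ∃ g, (X.AP (g * e * g⁻¹) sw fun c => c) ∧ g * e * g⁻¹ ∈ C[X.R] := by
  have E := h.exP
  have k' := (E.ac_mul (E.ac_mul h.ap k) (E.ac_inv h.ap (f' := nf 1 1 true true) (φ' := fr true)
    (by decide +kernel) (by decide))).congr (f' := sw) (φ' := fun c => c) (by decide +kernel) (by decide)
  obtain ⟨c, a1, a2⟩ := h.tr_sw k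
  obtain ⟨c', b1, b2⟩ := h.tr_sw k'
  by_cases c0 : c = 0
  · exact ⟨1, by simpa using k, by simpa [c0, h.d0] using a1⟩
  by_cases c1 : c' = 0
  · exact ⟨σ, k', by simpa [c1, h.d0] using b1⟩
  obtain ⟨c2, e1⟩ := h.ap.1 (0, 0, c, 0)
  rw [show nf 1 1 true true (0, 0, c, 0) = (0, 0, 0, c * c) by simp [nf, fr], h.pd, h.pr] at e1
  have e2 : X.d c * e * (X.d c * e) = σ⁻¹ * X.z (c * c * c') * σ := by
    rw [← mul_left_inj σ⁻¹, ← mul_right_inj σ, ← mul_assoc σ, show σ * (X.d c * e * (X.d c * e)) * σ⁻¹ =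
      σ * X.d c * σ⁻¹ * (σ * e * σ⁻¹ * (σ * X.d c * σ⁻¹) * (σ * e * σ⁻¹)⁻¹) * (σ * (e * e) * σ⁻¹) by group,
      h2, e1, ← conj_mul (b := σ * e * σ⁻¹), b2, k'.2, ← h.pr, mul_assoc (X.pv _) (X.z _) (X.z _), ← h.z_add,
      E.mulz, E.vv, h.pv0, add_comm (c * c * c'), add_assoc, ← add_assoc c2, E.cc]
    simp [bP, mul_assoc]
  have k1 := E.ac_mul (E.ac_in (h.dP c)) k
  have := h.g3 (h.C_r h.one one_ne_zero (C_le_C1 (r_R h.one) a1)) (h.sw_A k1) (h.sw_B k1) (h.CZ_of k1)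
    (e2 ▸ conj_mem' h.ap.normZ (z_Z _))
  rw [e2, ← inv_inv σ, inv_inv σ⁻¹, conj_eq_one_iff'] at this
  exact absurd (h.z_inj _ this) (by simp [c0, c1])

theorem notI_g (k : X.AP e sw fun c => c) (h2 : e * e = 1) : ¬ X.I e := by
  obtain ⟨g, k1, k2⟩ := h.red_g k h2
  rw [← I_conj (g := g)]
  exact h.notI_g0 k1 (H26.Gold.conj_sq h2 g) k2

theorem cl0 (hn : n ≠ 0) (k : X.AP e (fun v => f1 x (nf 1 n s l v)) (fr l)) (h0 : s = false ∨ l = false)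
    (h1 : TwoE e) (h2 : e * e ∈ zpowers (X.z 1)) : ∃ y ∈ N[X.Q σ], X.Tp (y * e * y⁻¹) := by
  have k1 := h.S_P (Z_S (h.zp_Z h2))
  cases s <;> cases l
  · exact ⟨1, one_mem _, by simpa using h.cl_e hn k h1 h2⟩
  · obtain ⟨g, hg, k2⟩ := h.cl_f hn k k1
    exact ⟨g, h.W_Q hg, Or.inr (Or.inr (Or.inl k2))⟩
  · obtain ⟨g, hg, k2⟩ := h.cl_g hn k k1
    exact ⟨g, h.W_Q hg, Or.inr (Or.inr (Or.inr k2))⟩
  · simp at h0

theorem cl (he : e ∈ X.M1) (h1 : TwoE e) (h2 : e * e ∈ zpowers (X.z 1)) :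
    ∃ y ∈ N[X.Q σ], X.Tp (y * e * y⁻¹) := by
  have E := h.exQ
  obtain ⟨x, n, s, l, n0, k⟩ := h.nf2 he.1.1 he.1.2 he.2
  by_cases h0 : s = false ∨ l = false
  · exact h.cl0 n0 k h0 h1 h2
  obtain ⟨rfl, rfl⟩ : s = true ∧ l = true := by simpa using h0
  obtain ⟨F, Φ, k1⟩ := E.ac_of (h.M_Y he).2
  have Φ0 : Φ 0 = 0 := by simpa using E.ac_addZ k1 0 0
  obtain ⟨i1, i2⟩ := E.ac_sq k1 (h.A_Q (Z_A (h.zp_Z h2)))
  have k2 : ∀ β w, F (fb β w) = fb (β * β) (F w) := fun β w => by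
    obtain ⟨c, e1⟩ := k.1 (0, β, 0, 0)
    have e2 : (f1 x (nf 1 n true true (0, β, 0, 0))).2.1 = β * β := by simp [f1, nf, fr]
    beta_reduce at e1
    generalize f1 x (nf 1 n true true (0, β, 0, 0)) = v at e1 e2
    have e3 : X.pv v * X.z c = X.uv (0, v.2.2) * X.az (v.1, c) * X.b (β * β) := by
      rw [h.uv_pv, h.pb', h.exP.mulz, ← e2]; obtain ⟨v1, v2, v3, v4⟩ := v; simp [bP]
    have a1 := E.ac_mul (E.ac_mul k1 (h.aq_b β)) (E.ac_inv k1 i1 i2)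
    rw [← h.pb, e1, e3] at a1
    simpa [i1] using (E.ac_uniq a1 (E.ac_mul (E.ac_in (pz_Hs _ _)) (h.aq_b _))).1 (F w)
  obtain ⟨t, e1⟩ := E.ac_pz k1 (1, 0, 0) 0
  have w1 : (F (1, 0, 0)).1 ≠ 0 := fun e2 => one_ne_zero
    (h.uv_P.1 ((conj_mem_iff he.1.1).1 (e1 ▸ h.uv_P.2 e2)))
  have w2 : bQ (F (1, 0, 0)) (F (1, 0, 0)) = 0 := by rw [E.ac_sqf k1, ← Φ0]; rfl
  obtain ⟨c, k3⟩ := pt_b (1, 0, 0) (by decide) (by decide) _ w2 w1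
  have k4 := E.ac_cm k1 (fb c (1, 0, 0)) (F (1, 0, 0))
  rw [k3, Φ0, i1, k2] at k4
  obtain ⟨β, k5⟩ := (by decide +kernel : ∀ w : V3, w.1 ≠ 0 → bQ w w = 0 → ∀ c,
    bQ (fb c (1, 0, 0)) w + bQ w (fb c (1, 0, 0)) = 0 → bQ (fb (c * c) w) (1, 0, 0) +
      bQ (1, 0, 0) (fb (c * c) w) = 0 → ∃ β, bQ (fb (β * β) w) (fb β (1, 0, 0)) +
        bQ (fb β (1, 0, 0)) (fb (β * β) w) = 0) _ w1 w2 c k3 k4
  obtain ⟨y, hy, k6⟩ := h.toE (pz_Hs (fb β (1, 0, 0)) 0) (fun e => absurd (h.uv_A.1 e) (by simp [fb]))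
    (by rw [E.sq]; simp only [bQ, fb]; simp; exact h.az0)
  obtain ⟨t', e2⟩ := E.ac_pz k1 (fb β (1, 0, 0)) 0
  have k7 := (E.comm_iff (c := t') (c' := 0)).2 (k2 β _ ▸ k5)
  have hY := conj_mem (norm_self _ hy) (h.M_Y he)
  have k8 := h.CE1 (conj_mem hY.2 (h.rQ 1)) (mem_sup_left (r_R h.one))
    (fun e => h.not_I_A e (h.I_r h.one one_ne_zero)) (by
      rw [← e2] at k7
      rw [← k6, ← mul_left_inj y, ← mul_right_inj y⁻¹]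
      simpa [mul_assoc] using k7)
  obtain ⟨x, n, s, l, n0, k⟩ := h.nf2 (h.NP_z hY (sup_le h.R_P (A_S.trans h.S_P) k8)) (h.NQ_A hY.2) hY.1
  obtain ⟨y', hy', k9⟩ := h.cl0 n0 k (Or.inl (h.s_false n0 k k8)) (h1.conj y)
    (by rw [conj_mul]; exact conj_mem (norm_zpowers_of_cent le_rfl hy.1) h2)
  exact ⟨y' * y, mul_mem hy' (h.Y_Q hy), by
    rwa [show y' * y * e * (y' * y)⁻¹ = y' * (y * e * y⁻¹) * y'⁻¹ by group]⟩

end Sg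

end Dat

end H24.Sz
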