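import Mathlib
import Cfsg.Agent.H24.SuG2

/-! The Sylow subgroup. -/

set_option autoImplicit false
set_option linter.unusedSectionVars false
set_option synthInstance.maxSize 4096
set_option maxRecDepth 100000

namespace H24.Sz

open H26 H26.Gold Subgroup
open H9 (F4)
open H7.SJ (p2 mem_of_odd mem_zp)

namespace Dat

variable {G : Type*} [Group G] (X : Dat G)

/-- the Sylow subgroup. -/
structure Sy (σ : G) (T : Subgroup G) : Prop extends X.Sg σ where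
  sylM : Syl 2 X.M1 T
  QT1 : X.Q1 ≤ T
  PT : X.P ≤ T
  sT : σ ∈ T

variable {X} [Finite G] {g u e σ : G} {x y c n : F4} {v : V4} {w : V3}
  {t : F4 × F4} {f f' : V4 → V4} {φ : F4 → F4} {M T : Subgroup G} {s l : Bool}

namespace NC

variable (h : X.NC)
include h

theorem cP (h0 : e ∈ N[X.P]) (h1 : TwoE e) (h2 : e ∈ Cz (X.z 1) X.P) : e ∈ X.Z := by
  obtain ⟨f, φ, k⟩ := h.ap_ex h0
  have k1 : ∀ v, f v = v := fun v => h.fix_of k (h.zp_Z (h2.2 _ (p_Hs v)))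
  obtain ⟨v, c, rfl⟩ := h.memP.1 (h.CP2 (k.congr k1 fun c => by
    simpa [k1, bP] using (h.exP.ac_cm k (c, 0, 0, 0) (0, 1, 0, 0)).symm) h1)
  rw [(by decide +kernel : ∀ v : V4, (∀ w, BP v w * BP v w = BP v w) → v = 0) v fun w => by
    rw [← h.z_zp, ← h.cm_P v c]; exact h2.2 _ (p_Hs w), h.pv0, one_mul]
  exact z_Z c

theorem Z_cz (h0 : g ∈ N[X.P]) (h1 : g ∈ C{X.z 1}) :
    X.z c * g * (X.z c)⁻¹ * g⁻¹ ∈ zpowers (X.z 1) := by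
  obtain ⟨f, φ, k⟩ := h.ap_ex h0
  obtain ⟨l, k1⟩ := h.phi_cases k h1
  refine cm_symm ?_
  rw [k.2, k1, h.zi, ← h.z_add, h.z_zp]
  clear k k1; revert l c; decide

end NC

namespace Sg

variable (h : X.Sg σ)
include h

theorem ex_sy : ∃ T, X.Sy σ T := by
  obtain ⟨T, hT, k⟩ := Sylow_superset p2 (h.twoT1.sup h.two.isPi (zpowers_le.2
    (norm_sup inf_le_left inf_le_right (mem_inf.2 ⟨h.Y.2, h.nP⟩))))
    (sup_le (sup_le h.Q_M h.P_M) (zpowers_le.2 h.s_M))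
  exact ⟨T, h, hT, le_sup_left.trans (le_sup_left.trans k), le_sup_right.trans (le_sup_left.trans k),
    k (mem_sup_right (mem_zpowers σ))⟩

theorem z_fix (e : σ * X.z c * σ⁻¹ = X.z c) : X.z c ∈ zpowers (X.z 1) :=
  h.z_zp.2 (h.z_eq ((h.ap.2 c).symm.trans e))

theorem CQ (h0 : e ∈ N[X.P]) (h1 : TwoE e) (h2 : e ∈ C[X.Q σ]) : e ∈ zpowers (X.z 1) := by
  obtain ⟨f, φ, k⟩ := h.ap_ex h0
  have k' := k.congr (fun _ => rfl) (h.ap_CZ k (C_anti (h.Z_P0.trans h.P0_Q) h2))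
  obtain ⟨v, c, rfl⟩ := h.memP.1 (h.CP2 (k'.congr (h.fix0 k' fun v hv => h.fix_of k (by
    rw [conj_eq_of_mem_C h2 (h.P0_Q (h.pv_P0' hv)), mul_inv_cancel]; exact one_mem _)) fun _ => rfl) h1)
  have k1 : ∀ w, V0 w → BP v w = 0 := fun w hw =>
    h.exP.comm_iff.1 (mem_C'.1 h2 _ (h.P0_Q ((h.pv_P0 (c := 0)).2 hw)))
  rw [v0_nd v (k1 _ (by decide)) (k1 _ (by decide)) (k1 _ (by decide)) (k1 _ (by decide)), h.pv0,
    one_mul] at h2 ⊢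
  exact h.z_fix (mul_inv_eq_iff_eq_mul.2 (mem_C.1 h2 _ h.s_Q))

theorem zQ (c : F4) : X.z c ∈ X.Q σ := h.P0_Q (h.Z_P0 (z_Z c))

theorem NQ_z : N[X.Q σ] ≤ C{X.z 1} := fun g hg => by
  have k := conj_mem hg (h.zQ 1)
  exact mem_C1_iff_conj.2 ((mem_zp (h.zz 1) (h.CQ (h.Q_nP k) (h.twoQ.piElt k) (conj_mem (N_le_NC _ hg)
    (mem_C_iff_le_C1.2 (h.Q_Y.trans inf_le_left))))).resolve_left fun e => h.z1 (conj_eq_one_iff'.1 e))

end Sg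

namespace Sy

variable (h : X.Sy σ T)
include h

theorem T_M : T ≤ X.M1 := h.sylM.le
theorem T_P (he : e ∈ T) : e ∈ N[X.P] := (h.T_M he).1.1
theorem T_two (he : e ∈ T) : TwoE e := h.sylM.pi.piElt he

theorem CA_T : T ⊓ C[X.A] = X.Q1 := by
  refine le_antisymm (fun e he => ?_) (le_inf h.QT1 h.Q_CA)
  obtain ⟨x, n, s, l, n0, k⟩ := h.nf2 (h.T_P he.1) (h.T_M he.1).1.2 (h.T_M he.1).2
  obtain rfl := h.s_false n0 k (h.CA_pt (h.M_Y (h.T_M he.1)).2 he.2)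
  obtain rfl : l = false := by
    have := h.ap_CZ k (C_anti Z_A he.2) om
    clear k; revert l; decide
  exact (mul_mem_cancel_left (h.qQ x)).1 (h.PA_Q (h.nf_two n0 ((h.exP.ac_mul (h.ap_q x) k).congr
    (fun v => (by decide +kernel : ∀ x v, f1 x (f1 x v) = v) _ _) fun _ => rfl)
    (h.T_two (mul_mem (h.QT1 (h.qQ x)) he.1))) (mul_mem (h.qA x) he.2))

theorem NT_A (hg : g ∈ N[T]) : g ∈ N[X.A] := by
  have E := h.exP
  have AT : X.A ≤ T := h.A_Q.trans h.QT1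
  have n1 : T ≤ N[H24.cj g X.A] := by
    rw [← cj_N, ← cj_of_mem_N hg]; exact cj_mono g fun e he => (h.T_M he).1.2
  have ea := H7.SJ.ea_cj h.eaA g
  have k1 : ∀ v c, X.pv v * X.z c ∈ H24.cj g X.A → v.2 = 0 := fun v c hv => by
    by_cases v0 : v = 0
    · rw [v0]; rfl
    have a1 : N5 v := by_contra fun e => h.not_I_A (mem_cj.1 hv) (by
      simpa using ((h.I_pz v0 c).2 (h.I_iff.2 ⟨v0, h.z_inj _ (by rw [← E.sq v c, ea.sq hv]), e⟩)).conj g⁻¹)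
    refine ((by decide +kernel : ∀ v, N5 v → v.2 = 0 ∨ ∃ ξ, BP v (f1 ξ v) ≠ 0) v a1).resolve_right
      fun ⟨ξ, a2⟩ => a2 ?_
    obtain ⟨c', a3⟩ := E.ac_pz (h.ap_q ξ) v c
    exact E.comm_iff.1 (ea.comm hv (a3 ▸ conj_mem (n1 (h.QT1 (h.qQ ξ))) hv))
  refine mem_N_of_cj_le fun y hy => ?_
  have yT := cj_le_of_mem_N AT hg hy
  obtain ⟨x, n, s, l, n0, k⟩ := h.nf2 (h.T_P yT) (h.T_M yT).1.2 (h.T_M yT).2
  obtain ⟨rfl, a⟩ := (by decide +kernel : ∀ x n s l, n ≠ 0 → (∀ v, (f1 x (nf 1 n s l v) + v).2 = 0) →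
    l = false ∧ ∀ v, f1 x (nf 1 n s l v) = v) x n s l n0 fun v => by
      obtain ⟨c, e1⟩ := E.ac_pz k v 0
      have := mul_mem hy (conj_mem (n1 (h.PT (pz_Hs v 0))) (inv_mem hy))
      rw [← mul_assoc, ← mul_assoc, e1, E.inv, E.mulz] at this
      exact k1 _ _ this
  obtain ⟨v, c, rfl⟩ := h.memP.1 (h.CP2 (k.congr a fun _ => rfl) (h.T_two yT))
  exact h.mem_A_iff.2 (k1 v c hy)

theorem syl' : Syl 2 ⊤ T := by
  refine h.sylM.of_norm_le p2 le_top fun g ⟨_, hg⟩ => ?_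
  have ZT : X.Z ≤ T := Z_S.trans (h.S_P.trans h.PT)
  have k0 := h.NT_A hg
  have k1 : g ∈ N[X.Q1] := h.CA_T ▸ norm_inf inf_le_left (norm_C inf_le_right) (mem_inf.2 ⟨hg, k0⟩)
  have k2 : g ∈ C{X.z 1} := by
    have a1 := conj_mem hg (ZT (z_Z 1))
    have a2 := conj_mem (N_le_NC _ hg) (mem_C_iff_le_C1.2 fun e he => (h.T_M he).2)
    obtain ⟨c, a3⟩ := h.mem_Z.1 (h.cP (h.T_P a1) (h.T_two a1) ⟨(h.T_M a1).2, fun p hp => by
      rw [conj_eq_of_mem_C a2 (h.PT hp), mul_inv_cancel]; exact one_mem _⟩)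
    exact mem_C1_iff_conj.2 ((mem_zp (h.zz 1) (a3 ▸ h.z_fix (mul_inv_eq_iff_eq_mul.2
      (mem_C.1 (a3 ▸ a2) _ h.sT)))).resolve_left fun e => h.z1 (conj_eq_one_iff'.1 e))
  refine ⟨⟨h.NP_Z k1 (mem_N_of_finite fun u hu => ?_), k0⟩, k2⟩
  have a1 := conj_mem hg (ZT hu)
  obtain ⟨c, rfl⟩ := h.mem_Z.1 hu
  have a2 := Cz_conj k2 hg (u := X.z c) ⟨h.P_Cz (z_Hs c), fun e he =>
    h.Z_cz (h.T_P he) (h.T_M he).2⟩
  exact h.cP (h.T_P a1) (h.T_two a1) ⟨a2.1, fun p hp => a2.2 p (h.PT hp)⟩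

theorem big : 2 ^ 11 ∣ Nat.card G := by
  obtain ⟨k, hk⟩ := h.sylM.pi.card_eq_pow p2
  have k1 := card_lt (lt_of_le_of_ne h.QT1 fun e => one_ne_zero
    (h.x2 (v := (0, 1, 0, 0)) (h.pb' 1 ▸ h.Q_CA (e ▸ h.PT (h.bP' 1)))))
  rw [hk, Q1, h.exQ.card, show Fintype.card V3 * Fintype.card (F4 × F4) = 2 ^ 10 from rfl] at k1
  exact (pow_dvd_pow 2 ((Nat.pow_lt_pow_iff_right one_lt_two).1 k1)).trans
    (hk ▸ card_subgroup_dvd_card T)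

end Sy

end Dat

end H24.Sz
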