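import Mathlib
import Cfsg.Agent.H24.SuG3
import Cfsg.Agent.H24.SuEn

/-! The data of the last step in the noncyclic case. -/

set_option autoImplicit false
set_option linter.unusedSectionVars false
set_option synthInstance.maxSize 4096
set_option maxRecDepth 100000

namespace H24.Sz

open H26 H26.Gold Subgroup
open H9 (F4)
open H7.SJ (p2 mem_of_odd mem_zp)

namespace Dat

variable {G : Type*} [Group G] {X : Dat G} [Finite G] {g u e σ : G} {x y c n : F4} {v : V4} {w : V3}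
  {t : F4 × F4} {f f' : V4 → V4} {φ : F4 → F4} {M T : Subgroup G} {s l : Bool}

namespace NC

variable (h : X.NC)
include h

theorem omax {D : Subgroup G} (hD : OddG D) (h1 : X.P ≤ N[D]) : D ≤ X.O :=
  H7.SJ.gen1 h.eaR h.card_R.ge hD (h.R_P.trans h1) fun a ha a1 => by
    obtain ⟨x, -, rfl⟩ := h.mem_R.1 ha
    have x0 : x ≠ 0 := fun e => a1 (by rw [e, h.r0])
    have k := h.odd_K (hD.inf_left C{X.r x}) (inf_le_right.trans (h.C_r (h.top x) x0))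
      (norm_inf (h.S_P.trans h1) ((mem_C_iff_le_C1.1 (h.rS x)).trans (norm_self _)))
    refine H7.SJ.odd_le O_odd h.eaR.two (norm_of_cent (cents_symm O_R)) (hD.inf_left _) ?_
    rw [sup_comm, ← h.CKR]
    exact le_inf k ((le_inf k inf_le_right).trans (h.CK x0))

theorem N_ap (hZ : X.Z ≤ M) (hg : g ∈ N[M]) (k : X.AP g f φ) (h1 : X.pv v ∈ M) : X.pv (f v) ∈ M := by
  obtain ⟨c, e⟩ := k.1 v
  exact (mul_mem_cancel_right (hZ (z_Z c))).1 (e ▸ conj_mem hg h1)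

theorem I_cm : ∃ ρ, ρ ≠ 0 ∧ X.z (ρ * c) ∈ zpowers (X.z 1) := by
  simp only [h.z_zp]; revert c; decide

end NC

namespace Sg

variable (h : X.Sg σ)
include h

theorem ap_NQ (k : X.AP g f fun c => c) : g ∈ N[X.Q σ] := h.NPz_Q k.norm (h.Cz_of k rfl)
theorem P_NQ' : X.P ≤ N[X.Q σ] := h.P_M.trans h.M_Q

theorem pv_Q : X.pv v * X.z c ∈ X.Q σ ↔ V0 v :=
  ⟨fun e => h.pv_P0.1 (h.Q_P0 e (h.P_CZ (pz_Hs v c))), fun e => h.P0_Q (h.pv_P0.2 e)⟩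

theorem IY (he : e ∈ X.M1) (hI : X.I e) : ∃ y ∈ N[X.Q σ], y * e * y⁻¹ = X.r 1 := by
  have E := h.exP
  obtain ⟨y, hy, k⟩ := h.cl he (twoE_of_sq hI.2.1) (hI.2.1 ▸ one_mem _)
  have k1 := hI.conj y
  suffices ∃ g ∈ N[X.Q σ], g * (y * e * y⁻¹) * g⁻¹ = X.r 1 by
    obtain ⟨g, hg, k2⟩ := this
    exact ⟨g * y, mul_mem hg hy, by rw [← k2]; group⟩
  generalize y * e * y⁻¹ = e at k k1
  rcases k with k | k | k | k
  · obtain ⟨v, c, rfl⟩ := h.memP.1 k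
    have v0 : v ≠ 0 := fun e => h.not_I_A (h.mem_A_iff.2 (by rw [e]; rfl)) k1
    obtain ⟨-, a1, a2⟩ := h.I_iff.1 ((h.I_pz v0 c).1 k1)
    obtain ⟨x1, x2, x3, b1, b2, b3⟩ := i_orb v v0 a1 a2
    have k2 := E.ac_mul (h.ap_q x3) (E.ac_mul (h.ap_q' x2) (h.ap_q x1))
    obtain ⟨c', k3⟩ := E.ac_pz k2 v c
    generalize f1 x3 (f2 x2 (f1 x1 v)) = w at b1 b2 b3 k3
    obtain ⟨w1, w2, w3, w4⟩ := w
    obtain rfl : w2 = 0 := b1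
    obtain rfl : w3 = 0 := b2
    obtain ⟨g, hg, k4⟩ := h.toR (u := X.pv (w1, 0, 0, w4) * X.z c') (h.uv_pv 0 w4 (w1, c') ▸ h.uv_E rfl rfl)
      fun e => b3 (congrArg (·.2.2) (h.mem_A_iff.1 e))
    exact ⟨g * _, mul_mem (h.Y_Q hg) (h.ap_NQ k2), by rw [← k4, ← k3]; group⟩
  · obtain ⟨g, hg, k2⟩ := h.toE k.1 k.2.1 k.2.2
    exact ⟨g, h.Y_Q hg, k2⟩
  · exact absurd k1 (h.notI_f k k1.2.1)
  · exact absurd k1 (h.notI_g k k1.2.1)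

theorem cm0 (k : X.Tp e) (h2 : e * e ∈ zpowers (X.z 1)) :
    ∃ u ∈ N[X.Q σ], X.I u ∧ e * u * e⁻¹ * u⁻¹ ∈ zpowers (X.z 1) := by
  rcases k with k | k | k | k
  · obtain ⟨v, c, rfl⟩ := h.memP.1 k
    obtain ⟨ρ, r0, k1⟩ := h.I_cm (c := v.2.2.1)
    exact ⟨X.r ρ, h.P_NQ' (h.rP ρ), h.I_r (h.top ρ) r0, by rw [← h.pr, h.cm_P]; simpa [BP, bP] using k1⟩
  · obtain ⟨g, -, k2⟩ := h.toE k.1 k.2.1 k.2.2
    exact ⟨e, h.Y_Q (h.Q_Y1 k.1), I_conj.1 (k2 ▸ h.I_r h.one one_ne_zero), by simp⟩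
  · obtain ⟨c, k1⟩ := h.fixv k (h.zp_Z h2) (0, 0, 0, om) (by decide)
    exact ⟨_, h.P_NQ' (pz_Hs _ c), (h.I_pz (v := nf 1 1 false true (0, 0, 0, om) + (0, 0, 0, om))
      (by decide) c).2 (h.I_iff.2 (by decide)), by
      rw [mem_C1_iff_conj.1 k1, mul_inv_cancel]; exact one_mem _⟩
  · obtain ⟨c, -, k1⟩ := h.tr_sw k
    obtain ⟨ρ, r0, k2⟩ := h.I_cm (c := c)
    exact ⟨X.r ρ, h.P_NQ' (h.rP ρ), h.I_r (h.top ρ) r0, by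
      rwa [k1, ← mem_C.1 (h.rS ρ) _ (z_S _), mul_inv_cancel_right]⟩

theorem cm (he : e ∈ X.M1) (h1 : TwoE e) (h2 : e * e ∈ zpowers (X.z 1)) :
    ∃ u ∈ N[X.Q σ], X.I u ∧ e * u * e⁻¹ * u⁻¹ ∈ zpowers (X.z 1) := by
  obtain ⟨y, hy, k⟩ := h.cl he h1 h2
  have k1 := norm_zpowers_of_cent le_rfl (h.NQ_z hy)
  obtain ⟨u, hu, k2, k3⟩ := h.cm0 k (by rw [conj_mul]; exact conj_mem k1 h2)
  exact ⟨y⁻¹ * u * y, conj_mem' (norm_self _ hy) hu, by simpa using k2.conj y⁻¹, by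
    simpa [mul_assoc] using conj_mem' k1 k3⟩

theorem gen_sp (hN : N[X.Q σ] ≤ N[M]) (hZ : X.Z ≤ M) (h1 : X.pv (x, 0, 0, 0) ∈ M) :
    X.pv (0, x, 0, 0) ∈ M ∧ ∀ t, t ≠ 0 → X.pv (0, 0, x * t, x * (t * t)) ∈ M := by
  have k1 := fun t => h.N_ap hZ (hN (h.ap_NQ (h.ap_q' t))) (h.ap_q' t) h1
  have k2 := h.N_ap hZ (hN (h.ap_NQ (h.ap_q 1))) (h.ap_q 1) (k1 1)
  rw [(by decide : ∀ x, f1 1 (f2 1 (x, 0, 0, 0)) = (0, x, 0, 0))] at k2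
  refine ⟨k2, fun t t0 => ?_⟩
  rw [(by decide +kernel : ∀ x t : F4, t ≠ 0 → ((0, 0, x * t, x * (t * t)) : V4) =
    f2 t (x, 0, 0, 0) + (x, 0, 0, 0) + (0, x, 0, 0)) x t t0]
  exact h.pv_add hZ (h.pv_add hZ (k1 t) h1) k2

theorem genQ (hN : N[X.Q σ] ≤ N[M]) (h1 : X.z 1 ∈ M) (h2 : X.z om ∈ M) : X.Q σ ≤ M := by
  have hZ : X.Z ≤ M := Z_le fun c => by
    rcases f4_cases c with rfl | rfl | rfl | rfl
    exacts [h.z0 ▸ one_mem _, h1, h2, h.z_add _ _ ▸ mul_mem h1 h2]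
  obtain ⟨y, hy, -, k⟩ := h.ex_y
  obtain ⟨u, hu, k1⟩ : ∃ u ∈ X.Z, y * u * y⁻¹ ∉ X.Z := by
    by_contra! e
    exact h.y_NZ hy k (mem_N_of_finite e)
  obtain ⟨x, c, k2⟩ := h.mem_A.1 (conj_mem (h.NQ_A hy.2) (Z_A hu))
  have k3 := conj_mem (h.Y_Q hy) (h.P0_Q (h.Z_P0 hu))
  have k4 := conj_mem (hN (h.Y_Q hy)) (hZ hu)
  rw [k2] at k1
  rw [k2, ← h.pa] at k3 k4
  obtain rfl : x = 1 := ((by decide : ∀ c : F4, c * c = c → c = 0 ∨ c = 1) x (h.pv_Q.1 k3).1).resolve_left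
    fun e => k1 (by rw [e, h.a0, one_mul]; exact z_Z c)
  rw [mul_mem_cancel_right (hZ (z_Z c))] at k4
  obtain ⟨a1, a2⟩ := h.gen_sp hN hZ k4
  have k5 := h.P0_le hZ k4 a1 (a2 1 (by decide)) (a2 om (by decide))
  have b1 : X.b 1 ∈ X.P0 := h.pb 1 ▸ h.pv_P0' (by decide)
  exact h.Q_le' k5 ((mul_mem_cancel_left (conj_mem (hN (h.Y_Q hy)) (k5 b1))).1 (k5 ((h.mem_Q.1
    (conj_mem (h.Y_Q hy) (h.P0_Q b1))).resolve_left fun e => h.tau_CZ hy k (h.P0_CZ e))))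

theorem genP (hN : N[X.Q σ] ≤ N[M]) (hQ : X.Q σ ≤ M) (h1 : X.pv v ∈ M) (h2 : ¬ V0 v) : X.P ≤ M := by
  have hZ := h.Z_P0.trans (h.P0_Q.trans hQ)
  have k0 : ∀ v, V0 v → X.pv v ∈ M := fun v hv => hQ (h.P0_Q (h.pv_P0' hv))
  have k1 : ∀ v ξ, X.pv v ∈ M → X.pv (f1 ξ v + v) ∈ M := fun v ξ hv =>
    h.pv_add hZ (h.N_ap hZ (hN (h.ap_NQ (h.ap_q ξ))) (h.ap_q ξ) hv) hv
  have k2 : ∀ v, X.pv v ∈ M → V0 (v + (om, 0, 0, 0)) → X.pv (om, 0, 0, 0) ∈ M := fun v a b => by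
    have := h.pv_add hZ a (k0 _ b)
    rwa [← add_assoc, v4_two, zero_add] at this
  have k3 : X.pv (om, 0, 0, 0) ∈ M := by
    rcases (by decide +kernel : ∀ v, ¬ V0 v → V0 (v + (om, 0, 0, 0)) ∨ ∃ ξ, V0 (f1 ξ v + v + (om, 0, 0, 0)) ∨
      ∃ ξ', V0 (f1 ξ' (f1 ξ v + v) + (f1 ξ v + v) + (om, 0, 0, 0))) v h2 with k | ⟨ξ, k | ⟨ξ', k⟩⟩
    exacts [k2 _ h1 k, k2 _ (k1 _ _ h1) k, k2 _ (k1 _ _ (k1 _ _ h1)) k]
  have k4 : ∀ x, X.pv (x, 0, 0, 0) ∈ M := fun x => by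
    rcases f4_cases x with rfl | rfl | rfl | rfl
    exacts [k0 _ (by decide), k0 _ (by decide), k3, h.pv_add hZ (k0 (1, 0, 0, 0) (by decide)) k3]
  refine Hs_le (fun v => ?_) fun c => hZ (z_Z c)
  obtain ⟨x, y, e⟩ := (by decide +kernel : ∀ v : V4, ∃ x y, v = (v.1, 0, 0, 0) + (0, v.2.1, 0, 0) +
    (0, 0, x * 1, x * (1 * 1)) + (0, 0, y * om, y * (om * om))) v
  rw [e]
  exact h.pv_add hZ (h.pv_add hZ (h.pv_add hZ (k4 _) (h.gen_sp hN hZ (k4 _)).1)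
    ((h.gen_sp hN hZ (k4 _)).2 _ (by decide))) ((h.gen_sp hN hZ (k4 _)).2 _ (by decide))

theorem nP' (hN : N[X.Q σ] ≤ N[M]) (hP : X.P ≤ M) : ¬ M ≤ X.M1 := fun e => by
  obtain ⟨y, hy, -, k⟩ := h.ex_y
  obtain ⟨w, t, k1⟩ := h.memQ.1 (conj_mem' hy.2 (h.rQ 1))
  have k2 := h.ap_conj (h.ap_q' 1) (f2 := f2 1) (by decide +kernel) (h.ap_uv w t)
  exact k (k1 ▸ h.uv_P.2 ((by decide : ∀ x, (f2 1 (f1 x (f2 1 (1, 0, 0, 0)))).2 = 0 → x = 0) _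
    (h.ap_A k2 (e (conj_mem (hN (h.ap_NQ (h.ap_q' 1)))
      (k1 ▸ conj_mem' (hN (h.Y_Q hy)) (hP (h.rP 1))))).1.2 1)))

theorem cmQ (h1 : g ∈ X.Q σ) (h2 : u ∈ X.Q σ) : g * u * g⁻¹ * u⁻¹ ∈ zpowers (X.z 1) := by
  rw [show g * u * g⁻¹ * u⁻¹ = g * u * (g * u) * (u⁻¹ * (g * g)⁻¹ * u) * (u * u)⁻¹ by group]
  exact mul_mem (mul_mem (h.sqQ (mul_mem h1 h2)) (conj_mem' (norm_zpowers_of_cent le_rfl (h.Q_Y h2).1)
    (inv_mem (h.sqQ h1)))) (inv_mem (h.sqQ h2))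

theorem Rz (hx : x ≠ 0) (hg : g ∈ N[X.Q σ]) (h1 : g * X.r x * g⁻¹ * (X.r x)⁻¹ ∈ X.Q σ) :
    g * X.z om * g⁻¹ * (X.z om)⁻¹ ∈ zpowers (X.z 1) := by
  have E := h.exP
  obtain ⟨δ, k0⟩ := (by decide : ∀ x : F4, x ≠ 0 → ∃ δ, BP (0, 0, 0, x) (0, 0, δ, δ * δ) = om) x hx
  have k1 := h.cm_P (0, 0, 0, x) 0 (0, 0, δ, δ * δ)
  rw [k0, ← h.pr'] at k1
  have k2 := conj_mem hg (h.P0_Q (h.pv_P0' (v := (0, 0, δ, δ * δ)) (by simp [V0])))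
  have k3 := h.zp_Z (h.cmQ h1 (conj_mem (h.P_NQ' (h.rP x)) k2))
  have k4 : g * X.z om * g⁻¹ * (g * X.z om * g⁻¹) = 1 := H26.Gold.conj_sq (h.zz _) g
  generalize X.pv (0, 0, δ, δ * δ) = p at k1 k2 k3
  rw [show g * X.r x * g⁻¹ * (X.r x)⁻¹ * (X.r x * (g * p * g⁻¹) * (X.r x)⁻¹) *
    (g * X.r x * g⁻¹ * (X.r x)⁻¹)⁻¹ * (X.r x * (g * p * g⁻¹) * (X.r x)⁻¹)⁻¹ =
    g * (X.r x * p * (X.r x)⁻¹ * p⁻¹) * g⁻¹ * (g * p * g⁻¹ * X.r x * (g * p * g⁻¹)⁻¹ * (X.r x)⁻¹) by group,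
    k1, h.ri] at k3
  generalize g * p * g⁻¹ = p at k2 k3
  rcases h.mem_Q.1 k2 with e | e
  · obtain ⟨c, k5⟩ := h.mem_Z.1 ((mul_mem_cancel_right (h.cmZ (h.P0_P e) (h.rP x))).1 k3)
    have k6 : c * c ≠ c := fun e => absurd (h.z_zp.1 ((conj_mem_iff
      (norm_zpowers_of_cent le_rfl (h.NQ_z hg))).1 (k5 ▸ h.z_zp.2 e))) (by decide)
    rw [k5, h.zi, ← h.z_add, h.z_zp]
    clear k5; revert c; decide
  · have k5 := E.ac_mul (E.ac_in (h.P0_P e)) (E.ac_inv h.ap (f' := nf 1 1 true true) (φ' := fr true)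
      (by decide +kernel) (by decide))
    rw [mul_inv_cancel_right] at k5
    obtain ⟨c, k6⟩ := E.ac_pz k5 (0, 0, 0, x) 0
    obtain ⟨c', k7⟩ := h.mem_Z.1 k3
    rw [h.pr', k6, E.mulz, ← eq_mul_inv_iff_mul_eq, E.inv, ← mul_assoc, E.cen,
      mul_assoc (X.pv _), ← h.z_add] at k7
    rw [k7, E.sq] at k4
    exact absurd (h.z_inj _ k4) (by clear k0 k1 k6 k7 h1 k3 k4; revert x; decide)

theorem zc (he : e ∈ X.M1) (h2 : e * e = 1) : (∃ y ∈ N[X.Q σ], y * e * y⁻¹ ∈ X.A) ∨ X.I e ∨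
    ∃ u, X.I u ∧ u * e = e * u ∧ ¬ X.I (u * e) := by
  have E := h.exP
  have k0 : ∀ {e} g, (∃ u, X.I u ∧ u * (g * e * g⁻¹) = g * e * g⁻¹ * u ∧ ¬ X.I (u * (g * e * g⁻¹))) →
      ∃ u, X.I u ∧ u * e = e * u ∧ ¬ X.I (u * e) := fun {e} g ⟨u, a, b, c⟩ =>
    ⟨g⁻¹ * u * g, by simpa using a.conj g⁻¹, by
      rw [← mul_left_inj g⁻¹, ← mul_right_inj g]; simpa [mul_assoc] using b,
      fun k => c (by simpa [mul_assoc] using k.conj g)⟩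
  have sq : ∀ {u e : G}, u * u = 1 → e * e = 1 → u * e = e * u → u * e * (u * e) = 1 :=
    fun {u e} a b c => by rw [mul_assoc, ← mul_assoc e, ← c, mul_assoc, b, mul_one, a]
  obtain ⟨y, hy, k⟩ := h.cl he (twoE_of_sq h2) (h2 ▸ one_mem _)
  have k1 := H26.Gold.conj_sq h2 y
  rcases k with k | k | k | k
  · obtain ⟨v, c, k2⟩ := h.memP.1 k
    by_cases v0 : v = 0
    · exact Or.inl ⟨y, hy, k2 ▸ h.mem_A_iff.2 (by rw [v0]; rfl)⟩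
    by_cases v1 : N5 v
    · obtain ⟨x1, x2, k3⟩ := n5_orb v v1
      have k4 := E.ac_mul (h.ap_q' x2) (h.ap_q x1)
      obtain ⟨c', k5⟩ := E.ac_pz k4 v c
      exact Or.inl ⟨_ * y, mul_mem (h.ap_NQ k4) hy, by
        rw [show ∀ m, m * y * e * (m * y)⁻¹ = m * (y * e * y⁻¹) * m⁻¹ by intros; group, k2, k5]
        exact h.mem_A_iff.2 k3⟩
    exact Or.inr (Or.inl (I_conj.1 (k2 ▸ (h.I_pz v0 c).2 (h.I_iff.2 ⟨v0, h.z_inj _ (by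
      rw [← E.sq v c, ← k2, k1]), v1⟩))))
  · obtain ⟨g, -, k2⟩ := h.toE k.1 k.2.1 k.2.2
    exact Or.inr (Or.inl (I_conj.1 (I_conj.1 (k2 ▸ h.I_r h.one one_ne_zero))))
  · obtain ⟨c, k2⟩ := h.fixv k (k1 ▸ one_mem _) (0, 0, 0, om) (by decide)
    have k3 := (h.I_pz (v := nf 1 1 false true (0, 0, 0, om) + (0, 0, 0, om)) (by decide) c).2
      (h.I_iff.2 (by decide))
    exact Or.inr (Or.inr (k0 y ⟨_, k3, (mem_C1.1 k2).symm, h.notI_f ((E.ac_mul (E.ac_in (pz_Hs _ c)) k).congr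
      (fun _ => rfl) fun _ => rfl) (sq k3.2.1 k1 (mem_C1.1 k2).symm)⟩))
  · obtain ⟨g, k2, k3⟩ := h.red_g k k1
    have k4 := mem_C.1 k3 _ (r_R h.one)
    exact Or.inr (Or.inr (k0 y (k0 g ⟨_, h.I_r h.one one_ne_zero, k4, h.notI_g
      (E.ac_mul (E.ac_in (h.rP 1)) k2) (sq (h.rr h.one) (H26.Gold.conj_sq k1 g) k4)⟩)))

end Sg

namespace Sy

variable (h : X.Sy σ T)
include h

theorem dich (hN : N[X.Q σ] ≤ N[M]) (hQ : X.Q σ ≤ M) : M ⊓ T ≤ X.Q σ ∨ X.P ≤ M := by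
  have E := h.exP
  have hZ := h.Z_P0.trans (h.P0_Q.trans hQ)
  refine or_iff_not_imp_left.2 fun k => ?_
  obtain ⟨e, he, k1⟩ := SetLike.not_le_iff_exists.1 k
  have k2 : ∀ e ∈ M ⊓ T, e ∉ X.Q σ → (X.AP e (fun v => v) fun c => c) → X.P ≤ M := fun e a b d => by
    obtain ⟨v, c, rfl⟩ := h.memP.1 (h.CP2 d (h.T_two a.2))
    exact h.genP hN hQ ((mul_mem_cancel_right (hZ (z_Z c))).1 a.1) fun e => b (h.pv_Q.2 e)
  obtain ⟨x, n, s, l, n0, k3⟩ := h.nf2 (h.T_P he.2) (h.T_M he.2).1.2 (h.T_M he.2).2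
  rcases (by decide +kernel : ∀ x n s l, n ≠ 0 → (∃ v, ¬ V0 (f1 x (nf 1 n s l v) + v)) ∨
    (l = false ∧ ∀ v, f1 x (nf 1 n s l v) = v) ∨
    (l = true ∧ ∀ v, f1 x (nf 1 n s l (nf 1 1 true true v)) = v)) x n s l n0 with ⟨v, a⟩ | ⟨rfl, a⟩ | ⟨rfl, a⟩
  · obtain ⟨c, e1⟩ := E.ac_pz k3 v 0
    have := mul_mem he.1 (conj_mem (hN (h.P_NQ' (pz_Hs v 0))) (inv_mem he.1))
    rw [← mul_assoc, ← mul_assoc, e1, E.inv, E.mulz] at this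
    exact h.genP hN hQ ((mul_mem_cancel_right (hZ (z_Z _))).1 this) a
  · exact k2 e he k1 (k3.congr a fun _ => rfl)
  · exact k2 (e * σ) (mul_mem he ⟨hQ h.s_Q, h.sT⟩) (fun e => k1 ((mul_mem_cancel_right h.s_Q).1 e))
      ((E.ac_mul k3 h.ap).congr a (by decide))

theorem en : En (X.z 1) (X.z om) (X.r 1) (X.Q σ) T X.O X.P X.A X.R where
  syl := h.syl'
  big := h.big
  z1 := h.z1
  z2 := h.zz 1
  zQ := h.zQ 1
  z'Q := h.zQ om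
  Tz := h.T_M.trans inf_le_right
  QT := h.Q_le' (h.P0_P.trans h.PT) h.sT
  nQ := h.T_M.trans h.M_Q
  card := h.card_Q
  sq := fun _ => h.sqQ
  CQ := fun _ he => h.CQ (h.T_P he) (h.T_two he)
  t2 := h.rr h.one
  tP := h.rP 1
  tQ := fun e => absurd (h.pv_Q.1 (h.pr' 1 ▸ e)) (by decide)
  PT := h.PT
  tz := fun e => h.not_I_A (z_A 1) (h.I_conj'.2 e)
  ttz := isConj_iff.2 ⟨_, (h.dr 1 1 h.one).trans (by rw [mul_one])⟩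
  IY := fun u hu e => by
    obtain ⟨y, hy, k⟩ := h.IY (h.T_M hu) (h.I_conj'.2 e)
    exact ⟨y⁻¹, inv_mem hy, by rw [← k]; group⟩
  Ct := fun _ hg => h.NPz_Q (h.Ct one_ne_zero hg.1 hg.2) hg.2
  cm := fun e he h2 => by
    obtain ⟨u, hu, k1, k2⟩ := h.cm (h.T_M he) (h.T_two he) h2
    exact ⟨u, hu, h.I_conj'.1 k1, k2⟩
  odd := O_odd
  OQ := cents_symm h.Q_CO
  omax := fun _ hD h1 => h.omax hD (h.PT.trans h1)
  cP := fun e he h1 => by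
    obtain ⟨c, rfl⟩ := h.mem_Z.1 (h.cP (h.T_P he) (h.T_two he) ⟨(h.T_M he).2, h1⟩)
    rw [← h.z_add, h.z_zp, h.z_zp]
    clear he h1; revert c; decide
  genQ := fun _ => h.genQ
  dich := fun _ => h.dich
  nP := fun _ h1 h2 e => h.nP' h1 h2 (e.trans h.T_M)
  eaR := h.eaR
  R4 := h.card_R.ge
  RT := h.R_P.trans h.PT
  RQ := eq_bot_iff.2 fun u hu => by
    obtain ⟨x, -, rfl⟩ := h.mem_R.1 hu.1
    rw [show x = 0 from (h.pv_Q.1 (h.pr' x ▸ hu.2)).2.2.trans (mul_zero _), h.r0]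
    exact one_mem _
  Rz := fun r hr r1 g hg => by
    obtain ⟨x, -, rfl⟩ := h.mem_R.1 hr
    exact h.Rz (fun e => r1 (by rw [e, h.r0])) hg
  eaA := h.eaA
  zA := z_A 1
  Az := fun a ha a1 => by
    obtain ⟨n, hn, k⟩ := h.trans_A ha a1
    exact ⟨n⁻¹, inv_mem (h.L_O hn.1), by rw [← k]; group⟩
  zc := fun e he h2 => by simpa only [← h.I_conj'] using h.zc (h.T_M he) h2

end Sy

end Dat

end H24.Sz
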