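import Mathlib
import Cfsg.Agent.H24.SuEn
import Cfsg.Agent.H24.HeS
import Cfsg.Agent.S1175
import Cfsg.Agent.S1762
import Cfsg.Agent.H13.SuH1

/-! The identification of the group. -/

set_option autoImplicit false
set_option linter.unusedSectionVars false

namespace H24.Sz

open H26 H26.Gold Subgroup
open H7.SJ (p2)

theorem En.iso {G : Type*} [Group G] [Finite G] [IsSimpleGroup G] {z z' t : G}
    {Q T O P A R : Subgroup G} (h : En z z' t Q T O P A R) : Cfsg.Spor.IsoSuz G := by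
  have hz := H6.orderOf_eq_two_of h.z2 h.z1
  have QX := h.QT.trans h.Tz
  have e0 : Cfsg.pCore 2 C{z} = Q.subgroupOf C{z} := by
    rw [← h.O2, pcore_singleton p2, subgroupOf_map_subtype']
  have e1 : Cfsg.generalizedFittingSubgroup C{z} = Q.subgroupOf C{z} := by
    rw [← e0, H23.fstar_eq_pCore_iff, e0]
    exact fun g hg => h.ZQ (h.CQ1 (mem_C.2 fun q hq =>
      congrArg Subtype.val (mem_C.1 hg ⟨q, QX hq⟩ hq)))
  have zp : ∀ x : C{z}, (x : G) ∈ zpowers z → x ∈ zpowers (⟨z, self_mem_C1 z⟩ : C{z}) :=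
    fun x hx => by
      rcases H7.SJ.mem_zp h.z2 hx with e | e
      exacts [(Subtype.ext e : x = 1) ▸ one_mem _,
        (Subtype.ext e : x = ⟨z, self_mem_C1 z⟩) ▸ mem_zpowers _]
  have xs : H3.XS 2 (⟨z, self_mem_C1 z⟩ : C{z}) (Q.subgroupOf C{z}) :=
    ⟨(orderOf_coe _).symm.trans hz, h.zQ, fun x _ => Subtype.ext (mem_C1.1 x.2).symm,
      fun x hx y hy => zp _ ((cv1 (h.TN (h.QT hy))).1 (h.qc hx hy)),
      fun x hx => zp _ (by rw [pow_two]; exact h.sq x hx),
      fun x hx k => zp _ (h.CQ1 (mem_C'.2 fun q hq => congrArg Subtype.val (k ⟨q, QX hq⟩ hq).eq))⟩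
  have hc : Nat.card (Q.subgroupOf C{z}) = 2 ^ 7 := by rw [card_subgroupOf_of_le QX, h.card]
  have big := h.big
  rcases H6.XS.s1762 hz (e1 ▸ xs.isExtraspecial fun e => by
    rw [← e, card_zpowers', xs.ord] at hc; omega) (e1 ▸ hc) with ⟨⟨e⟩⟩ | ⟨⟨e⟩⟩ | ⟨⟨e⟩⟩ | ⟨⟨e⟩⟩ | e
  · have := H7.card_psl (F := ZMod 2) (q := 2) rfl 5 (by norm_num)
    rw [← Nat.card_congr e.toEquiv] at this
    simp only [Fin.prod_univ_five] at this
    norm_num at this
    omega
  · have := H7.card_psu (F := H0.F4) (q := 2) H0.F4.card 5 (by norm_num)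
    rw [← Nat.card_congr e.toEquiv] at this
    simp only [Finset.prod_range_succ] at this
    norm_num at this
    omega
  · rw [Nat.card_congr e.toEquiv, H9.card_M24] at big
    omega
  · rw [Nat.card_congr e.toEquiv, H28.Held.card_He] at big
    omega
  · exact e

end H24.Sz
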