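import Mathlib
import Cfsg.Agent.H24.SuA
import Cfsg.Agent.H24.SuC
import Cfsg.Agent.H24.SuD
import Cfsg.Agent.H24.SuE
import Cfsg.Agent.H24.SuG4
import Cfsg.Agent.H24.SuH

/-! A standard subgroup of type `L₃(4)`. -/

set_option autoImplicit false
set_option linter.unusedSectionVars false

namespace H24.Sz

open H26 H26.Gold Subgroup
open H9 (F4)
open H7.SJ (p2)

theorem main {G : Type*} [Group G] [Finite G] [IsSimpleGroup G] {L : Subgroup G}
    (hL : Cfsg.IsStandardSubgroup L) {F : Type*} [Field F] [Fintype F] (hF : Fintype.card F = 4)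
    (e : L ≃* Matrix.ProjectiveSpecialLinearGroup (Fin 3) F) : Cfsg.Spor.IsoSuz G := by
  obtain ⟨X, rfl, h⟩ := exists_fr L hF e
  obtain ⟨-, ⟨h1, h2⟩, h3, h4⟩ := hL
  have hS : X.St := by
    refine ⟨h, fun g u hu u1 u2 k => h4 ▸ inv_mem_iff.1 (by_contra fun k1 => ?_), fun g k => ?_, ?_⟩
    · have k2 := orderOf_dvd_natCard (⟨u, hu, mem_cj.2 (by rwa [inv_inv])⟩ : ↥(X.K ⊓ H24.cj g⁻¹ X.K))
      rw [← orderOf_coe, H6.orderOf_eq_two_of u2 u1] at k2
      exact Nat.not_even_iff_odd.2 (h2 _ k1) (even_iff_two_dvd.2 k2)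
    · by_cases k1 : H24.cj g X.L = X.L
      · exact h.not_K (h.zL 1) h.z1 (k (k1.ge (h.zL 1)))
      · exact h3 g k1 (commutator_eq_bot_iff_le_centralizer.2 (cents_symm k))
    · have := Fact.mk p2
      obtain ⟨u, hu⟩ := exists_prime_orderOf_dvd_card' 2 (even_iff_two_dvd.1 h1)
      rw [← orderOf_coe] at hu
      exact ⟨u, u.2, fun e => by simp [e] at hu, by rw [← sq, ← hu, pow_orderOf_eq_one]⟩
  obtain ⟨X1, h1⟩ := hS.exists_S2
  obtain ⟨X2, h2⟩ := h1.cases.resolve_left fun ⟨_, k⟩ => k.elim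
  obtain ⟨σ, h3⟩ := h2.ex_sg
  obtain ⟨T, h4⟩ := h3.ex_sy
  exact h4.en.iso

end H24.Sz
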