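import Mathlib
import Cfsg.Agent.H24.Base5
import Cfsg.Agent.H25.Rank2
import Cfsg.Agent.H26.S01a
import Cfsg.Agent.H13.ZJFusion
import Cfsg.Agent.H12.QuadSL

/-!
# Groups whose two-generated subgroups are solvable: local analysis
-/

set_option autoImplicit false
set_option linter.unusedSectionVars false

namespace H24

open Cfsg Subgroup
open H25 hiding abl_iff cyc_zpowers cyc_bot exists_prime_dvd_card cyc_cj
open H26 hiding Fitting_stab_chief

universe u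

/-- A minimal counterexample. -/
structure TG (G : Type u) [Group G] : Prop where
  simple : IsSimpleGroup G
  nsol : ¬ Sol (⊤ : Subgroup G)
  two : ∀ a b : G, Sol (closure ({a, b} : Set G))
  proper : ∀ H : Subgroup G, H ≠ ⊤ → Sol H

variable {G : Type u} [Group G] [Finite G] {p : ℕ}

namespace TG

theorem ne_top_of_sol (h : TG G) {H : Subgroup G} (hH : Sol H) : H ≠ ⊤ := fun e => h.nsol (e ▸ hH)

theorem eq_bot_of_nml (h : TG G) {H : Subgroup G} (hn : H ⊴ ⊤) (hH : H ≠ ⊤) : H = ⊥ := by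
  haveI := h.simple
  exact ((nml_top_iff.1 hn).eq_bot_or_eq_top).resolve_right hH

theorem N_ne_top (h : TG G) {H : Subgroup G} (hH : Sol H) (h1 : H ≠ ⊥) : N[H] ≠ ⊤ := fun e =>
  h1 (h.eq_bot_of_nml ⟨le_top, e.ge⟩ (h.ne_top_of_sol hH))

theorem C1_ne_top (h : TG G) {x : G} (hx : x ≠ 1) : C{x} ≠ ⊤ := fun e =>
  h.N_ne_top (cyc_zpowers x).sol (by simpa using hx)
    (top_le_iff.1 (norm_zpowers_of_cent e.ge))

theorem sol_N (h : TG G) {H : Subgroup G} (hH : Sol H) (h1 : H ≠ ⊥) : Sol N[H] :=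
  h.proper _ (h.N_ne_top hH h1)

theorem sol_C1 (h : TG G) {x : G} (hx : x ≠ 1) : Sol C{x} := h.proper _ (h.C1_ne_top hx)

/-- Powell's argument. -/
theorem powell (h : TG G) (hp : p.Prime) (hd : p ∣ Nat.card G) {d : G}
    (hD : ∀ g : G, ∃ H K : Subgroup G, K ⊴ H ∧ IsPi {p}ᶜ K ∧ d ∈ K ∧ g ∈ H) : d = 1 := by
  set D : Set G := {d | ∀ g : G, ∃ H K : Subgroup G, K ⊴ H ∧ IsPi {p}ᶜ K ∧ d ∈ K ∧ g ∈ H} with hDdef
  have hmul : ∀ x ∈ D, ∀ y, PiElt {p}ᶜ y → PiElt {p}ᶜ (x * y) ∧ PiElt {p}ᶜ (x⁻¹ * y) := by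
    intro x hx y hy
    obtain ⟨H, K, hKH, hK, hxK, hyH⟩ := hx y
    have h1 : IsPi {p}ᶜ (K ⊔ zpowers y) :=
      hK.sup hy.isPi ((zpowers_le.2 hyH).trans hKH.norm)
    exact ⟨h1.piElt (mul_mem (mem_sup_left hxK) (mem_sup_right (mem_zpowers y))),
      h1.piElt (mul_mem (mem_sup_left (inv_mem hxK)) (mem_sup_right (mem_zpowers y)))⟩
  have hpi : IsPi {p}ᶜ (closure D) := by
    rw [isPi_iff_piElt]
    intro x hx
    induction hx using closure_induction_left with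
    | one => exact piElt_one _
    | mul_left x hx y _ ih => exact (hmul x hx y ih).1
    | inv_mul_cancel x hx y _ ih => exact (hmul x hx y ih).2
  have hn : closure D ⊴ ⊤ := by
    refine ⟨le_top, norm_closure fun a _ s hs => subset_closure fun g => ?_⟩
    obtain ⟨H, K, hKH, hK, hxK, hyH⟩ := hs (a⁻¹ * g * a)
    exact ⟨cj a H, cj a K, hKH.cj a, hK.cj a, conj_mem_cj a hxK, mem_cj.2 hyH⟩
  have hne : closure D ≠ ⊤ := by
    intro e
    rw [e, isPi_compl_iff hp, Subgroup.card_top] at hpi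
    exact hpi hd
  have : d ∈ closure D := subset_closure hD
  rwa [h.eq_bot_of_nml hn hne, mem_bot] at this

theorem pcore_C1 (h : TG G) (hp : p.Prime) {x : G} (hx : PiElt {p} x) (h1 : x ≠ 1) :
    O[{p}ᶜ, C{x}] = ⊥ := by
  have hd : p ∣ Nat.card G := (hx.dvd_orderOf h1).trans (orderOf_dvd_natCard x)
  rw [eq_bot_iff]
  intro d hdO
  rw [mem_bot]
  refine h.powell hp hd fun g => ?_
  have hdp : PiElt {p}ᶜ d := (pcore_pi _ _).piElt hdO
  have hc : x * d = d * x := (mem_C1.1 (pcore_le _ _ hdO)).symm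
  set H := closure ({x * d, g} : Set G) with hH
  have hxd : zpowers (x * d) ≤ H := zpowers_le.2 (subset_closure (by simp))
  have hxH : x ∈ H := hxd (mem_zpowers_mul_left hc (hx.coprime hdp))
  have hdH : d ∈ H := hxd (mem_zpowers_mul_right hc (hx.coprime hdp))
  refine ⟨H, O[{p}ᶜ, H], pcore_nml _ _, pcore_pi _ _, ?_, subset_closure (by simp)⟩
  refine p'core_cent_pgroup hp hx.isPi (zpowers_le.2 hxH) (h.two _ _) ?_
  rw [C_zpowers]
  exact pcore_inf_le _ inf_le_right ⟨hdO, hdH, pcore_le _ _ hdO⟩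

theorem pcore_N (h : TG G) (hp : p.Prime) {R : Subgroup G} (hR : IsPi {p} R) (h1 : R ≠ ⊥) :
    O[{p}ᶜ, N[R]] = ⊥ := by
  obtain ⟨z, hz, hz1⟩ := exists_ne_one ((hR.nil hp).center_ne_bot h1)
  have hzR : z ∈ R := hz.1
  have hRz : R ≤ C{z} := mem_C_iff_le_C1.1 hz.2
  have a1 : O[{p}ᶜ, N[R]] ≤ C[R] := pcore_compl_cents hR (nml_N R)
  have a2 : O[{p}ᶜ, N[R]] ≤ O[{p}ᶜ, C{z} ⊓ C[R]] :=
    (le_inf le_rfl (le_inf (a1.trans (C_le_C1 hzR)) a1)).trans
      (pcore_inf_le _ (inf_le_right.trans (C_le_N R)))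
  have a3 := p'core_cent_pgroup hp hR hRz (h.sol_C1 hz1)
  rw [h.pcore_C1 hp (hR.piElt hzR) hz1] at a3
  exact le_bot_iff.1 (a2.trans a3)

theorem cent_pcore_N (h : TG G) (hp : p.Prime) {R : Subgroup G} (hR : IsPi {p} R) (h1 : R ≠ ⊥) :
    N[R] ⊓ C[O[{p}, N[R]]] ≤ O[{p}, N[R]] :=
  cent_sub_pcore hp (h.sol_N (hR.sol hp) h1) (h.pcore_N hp hR h1)

open MatrixGroups in
theorem not_involves (h : TG G) [Fact p.Prime] (h5 : 5 ≤ p) :
    ¬ H12.Involves G SL(2, ZMod p) := by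
  have hp : p.Prime := Fact.out
  have h2 : (2 : ZMod p) ≠ 0 := by
    intro e
    have : p ∣ 2 := (ZMod.natCast_eq_zero_iff 2 p).1 (by exact_mod_cast e)
    have := Nat.le_of_dvd (by norm_num) this
    omega
  have h3 : (2 : ZMod p) ^ 2 ≠ 1 := by
    intro e
    have : p ∣ 3 := (ZMod.natCast_eq_zero_iff 3 p).1 (by
      have : ((3 : ℕ) : ZMod p) = 2 ^ 2 - 1 := by norm_num
      rw [this, e, sub_self])
    have := Nat.le_of_dvd (by norm_num) this
    omega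
  have hne : (-1 : SL(2, ZMod p)) ≠ 1 := by
    intro e
    have := congrArg (fun A : SL(2, ZMod p) => A.1 0 0) e
    simp at this
    exact h2 (by linear_combination -this)
  haveI : Nontrivial SL(2, ZMod p) := ⟨⟨_, _, hne⟩⟩
  haveI : Group.IsPerfect SL(2, ZMod p) := ⟨Matrix.SL2.commutator_eq_top h2 h3⟩
  rintro ⟨K, f, hf⟩
  by_cases hK : K = ⊤
  · subst hK
    haveI := h.simple
    haveI : IsSimpleGroup (⊤ : Subgroup G) := Subgroup.topEquiv.isSimpleGroup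
    haveI : IsSimpleGroup SL(2, ZMod p) := IsSimpleGroup.isSimpleGroup_of_surjective f hf
    rcases (inferInstance : (center SL(2, ZMod p)).Normal).eq_bot_or_eq_top with e | e
    · have : (-1 : SL(2, ZMod p)) ∈ center SL(2, ZMod p) := by
        rw [mem_center_iff]; intro g; simp
      rw [e, mem_bot] at this
      exact hne this
    · exact Group.IsPerfect.not_isSolvable SL(2, ZMod p) (Group.isSolvable_of_comm fun a b =>
        (mem_center_iff.1 (e ▸ mem_top b : b ∈ center _) a))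
  · haveI : Group.IsSolvable K := h.proper K hK
    exact Group.IsPerfect.not_isSolvable SL(2, ZMod p) (Group.isSolvable_of_surjective hf)

/-- A proper subgroup containing a Sylow `p`-subgroup and controlling strong `p`-fusion. -/
theorem exists_control (h : TG G) (hp : p.Prime) (h5 : 5 ≤ p) {P : Subgroup G} (hP : Syl p ⊤ P)
    (hP1 : P ≠ ⊥) : ∃ Z : Subgroup G, IsPi {p} Z ∧ Z ≠ ⊥ ∧ P ≤ N[Z] ∧
      ∀ R : Subgroup G, IsPi {p} R → R ≤ N[Z] → ∀ g : G, cj g R ≤ N[Z] →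
        ∃ n ∈ N[Z], n * g ∈ C[R] := by
  haveI : Fact p.Prime := ⟨hp⟩
  obtain ⟨S, rfl⟩ := hP.exists_sylow_top hp
  have hp2 : p ≠ 2 := by omega
  have hq := H12.not_quadInvolved_of_not_involves hp2 (h.not_involves h5)
  set Z := centerThompsonOf p (S : Subgroup G) with hZ
  have hSN : (S : Subgroup G) ≤ N[Z] :=
    (norm_self _).trans (H13.normalizer_le_normalizer_centerThompson p _)
  refine ⟨Z, hP.pi.of_le (H13.centerThompsonOf_le _ _),
    H13.centerThompsonOf_ne_bot (Or.inr rfl) S.isPGroup' hP1, hSN, fun R hR hRM g hg => ?_⟩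
  have hS : Syl p N[Z] (S : Subgroup G) := hP.of_le hSN le_top
  obtain ⟨m, hm, hmR⟩ := Sylow_Jsub hp hS hR hRM
  obtain ⟨m', hm', hmR'⟩ := Sylow_Jsub hp hS (hR.cj g) hg
  obtain ⟨n, hn, hf⟩ := H13.zj_controls_fusion hp2 (Or.inr rfl) hq S (cj m R) hmR
    (m' * g * m⁻¹)⁻¹ (by
      rintro _ ⟨a, ha, rfl⟩
      refine hmR' ?_
      have ha' : m⁻¹ * a * m ∈ R := mem_cj.1 ha
      rw [mem_cj, mem_cj]
      convert ha' using 1
      group)
  refine ⟨m⁻¹ * n * m', mul_mem (mul_mem (inv_mem hm) hn) hm', mem_C'.2 fun r hr => ?_⟩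
  have := hf (m * r * m⁻¹) (conj_mem_cj m hr)
  calc m⁻¹ * n * m' * g * r
      = m⁻¹ * n * ((m' * g * m⁻¹)⁻¹⁻¹ * (m * r * m⁻¹) * (m' * g * m⁻¹)⁻¹) * m' * g := by group
    _ = r * (m⁻¹ * n * m' * g) := by rw [← this]; group

section noncyc

variable {Z P : Subgroup G}

theorem N_le_control (h : TG G) (hp : p.Prime) (hP : Syl p ⊤ P) (hPZ : P ≤ N[Z])
    (hc : ∀ R : Subgroup G, IsPi {p} R → R ≤ N[Z] → ∀ g : G, cj g R ≤ N[Z] →
        ∃ n ∈ N[Z], n * g ∈ C[R]) (R : Subgroup G) :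
    IsPi {p} R → R ≠ ⊥ → R ≤ N[Z] → N[R] ≤ N[Z] := by
  induction R using subgroup_ind_up with | h R ih => ?_
  intro hR h1 hRM
  have hRQ : R ≤ O[{p}, N[R]] := pcore_max hR (nml_N R)
  have hQM : O[{p}, N[R]] ≤ N[Z] := by
    obtain ⟨g, -, hg⟩ := Sylow_Jsub hp hP (pcore_pi {p} N[R]) le_top
    obtain ⟨n, hn, hng⟩ := hc R hR hRM g (((cj_mono g hRQ).trans hg).trans hPZ)
    have e : cj (n * g) O[{p}, N[R]] = O[{p}, N[R]] :=
      cj_of_mem_N ((pcore_nml _ _).norm (C_le_N R hng))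
    rw [← e, cj_mul]
    exact cj_le_of_mem (hg.trans hPZ) hn
  rcases hRQ.eq_or_lt with e | hlt
  · intro g hg
    obtain ⟨n, hn, hng⟩ := hc R hR hRM g (by rw [cj_of_mem_N hg]; exact hRM)
    have : n * g ∈ N[Z] := hQM (h.cent_pcore_N hp hR h1 ⟨C_le_N R hng, by rwa [← e]⟩)
    simpa using mul_mem (inv_mem hn) this
  · exact (pcore_nml _ _).norm.trans (ih _ hlt (pcore_pi _ _) (ne_bot_of_le h1 hRQ) hQM)

theorem cyc_of_syl (h : TG G) (hp : p.Prime) (h5 : 5 ≤ p) (hP : Syl p ⊤ P) : Cyc P := by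
  by_contra hnc
  have hP1 : P ≠ ⊥ := fun e => hnc (e ▸ cyc_bot)
  obtain ⟨Z, hZ, hZ1, hPZ, hc⟩ := h.exists_control hp h5 hP hP1
  have hN := h.N_le_control hp hP hPZ hc
  set M := N[Z] with hM
  have hMsol : Sol M := h.sol_N (hZ.sol hp) hZ1
  -- a `p`-subgroup meeting `M` lies in `M`
  have hT : ∀ R T : Subgroup G, R ≠ ⊥ → R ≤ M → R ≤ T → IsPi {p} T → T ≤ M := by
    intro R T h1 hRM hRT hT
    obtain ⟨g, -, hg⟩ := Sylow_Jsub hp hP hT le_top
    obtain ⟨n, hn, hng⟩ := hc R (hT.of_le hRT) hRM g (((cj_mono g hRT).trans hg).trans hPZ)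
    have hgM : g ∈ M := by
      simpa using mul_mem (inv_mem hn) (hN R (hT.of_le hRT) h1 hRM (C_le_N R hng))
    rw [← cj_inv_cj g T]
    exact cj_le_of_mem (hg.trans hPZ) (inv_mem hgM)
  have hL : ∀ R L : Subgroup G, IsPi {p} R → R ≠ ⊥ → R ≤ M → R ≤ L → O[{p}, L] ≠ ⊥ → L ≤ M := by
    intro R L hR h1 hRM hRL hO
    have := hT R (O[{p}, L] ⊔ R) h1 hRM le_sup_right
      ((pcore_pi _ _).sup hR (hRL.trans (pcore_nml _ _).norm))
    exact (pcore_nml _ _).norm.trans (hN _ (pcore_pi _ _) hO (le_sup_left.trans this))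
  have hF : ∀ R L : Subgroup G, L ≠ ⊤ → IsPi {p} R → R ≠ ⊥ → R ≤ L → O[{p}, L] = ⊥ →
      IsPi {p}ᶜ F[L] ∧ ¬ R ≤ C[F[L]] := by
    intro R L hL hR h1 hRL hO
    have hF : IsPi {p}ᶜ F[L] := by
      rw [isPi_compl_iff hp, ← pcore_ne_bot_iff_dvd_Fitting hp]
      simpa using hO
    exact ⟨hF, fun hc => h1 (hR.eq_bot (hF.of_le (le_Fitting_of_cent (h.proper L hL) hRL hc)))⟩
  set Q := O[{p}, M] with hQ
  have hQnc : ¬ Cyc Q := by
    intro hQc
    have hPM : Syl p M P := hP.of_le hPZ le_top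
    have a1 : ⁅M, M⁆ ≤ Q := (le_inf (der1_le M) (cyc_der1_norm_le_cent hQc (pcore_nml _ _).norm)).trans
      (h.cent_pcore_N hp hZ hZ1)
    have a2 : P ≤ Q := pcore_max hP.pi (nml_of_der1_le (a1.trans (pcore_le_Hall hPM)) hPZ)
    exact hnc (hQc.of_le a2)
  have hodd : Odd ♯Q := by
    obtain ⟨k, hk⟩ := (pcore_pi {p} M).card_eq_pow hp
    rw [hk]
    exact (hp.odd_of_ne_two (by omega)).pow
  obtain ⟨U, hU⟩ := (prank_geP hp).1 (odd_pgroup_two_le_prank hp (pcore_pi _ _) hodd hQnc)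
  have hUQ : U ≤ Q := hU.le
  have hQM : Q ≤ M := pcore_le _ _
  have hUp : IsPi {p} U := (pcore_pi _ _).of_le hUQ
  have hUnc : ¬ Cyc U := hU.not_cyc hp le_rfl
  have hU1 : U ≠ ⊥ := fun e => hUnc (e ▸ cyc_bot)
  have hUa : Abl U := hU.elem.abl
  -- claim B
  have hB : ∀ L : Subgroup G, L ≠ ⊤ → U ≤ L → L ≤ M := by
    intro L hLt hUL
    by_cases hO : O[{p}, L] = ⊥
    · obtain ⟨hF1, hF2⟩ := hF U L hLt hUp hU1 hUL hO
      have hUF : U ≤ N[F[L]] := hUL.trans (Fitting_nml L).norm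
      have hFM : F[L] ≤ M := coprime_abelian_gen_cent1 hUa hUnc hUF (hF1.coprime' hUp)
        fun a ha ha1 => inf_le_right.trans ((norm_zpowers_of_cent le_rfl).trans
          (hN _ (hUp.piElt ha).isPi (by simpa using ha1) (zpowers_le.2 (hQM (hUQ ha)))))
      refine absurd (comm_eq_bot.1 (le_bot_iff.1 ?_)) hF2
      rw [← (pcore_pi {p} M).inf_eq_bot hF1]
      exact le_inf ((comm_mono_left hUQ).trans (comm_le_left (hFM.trans (pcore_nml _ _).norm)))
        (comm_le_right hUF)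
    · exact hL U L hUp hU1 (hUQ.trans hQM) hUL hO
  obtain ⟨x, hxU, hx1⟩ := exists_ne_one hU1
  have hX : PnElem p 1 U (zpowers x) := pnElem_zpowers_of_elem hp hU.elem hxU hx1
  obtain ⟨Y, hY, hYX⟩ := hU.exists_ne hp hX
  obtain ⟨u, hu, -, -, rfl⟩ := hY.exists_generator hp
  have huU : u ∈ U := hY.le hu
  have hXY : zpowers x ⊔ zpowers u = U := hU.sup_eq_of_ne hp hX hY hX.le hY.le hYX.symm
  have hxp : IsPi {p} (zpowers x) := hUp.of_le hX.le
  have hx1' : zpowers x ≠ ⊥ := by simpa using hx1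
  -- claim C
  have hC : ∀ B : Subgroup G, IsPi {p}ᶜ B → x ∈ N[B] → zpowers x ≤ C[B] := by
    intro B hBp hxB
    rw [zpowers_le, mem_C]
    intro b hb
    have hsd : SD B (zpowers x) (B ⊔ zpowers x) :=
      SD.mk_sup (zpowers_le.2 hxB) (hBp.inf_eq_bot' hxp)
    have s1 : Syl p (B ⊔ zpowers x) (zpowers x) := hsd.hall_right hBp hxp
    have s2 : Syl p (B ⊔ zpowers x) (zpowers (b * x * b⁻¹)) := by
      rw [← cj_zpowers]; exact s1.cj_mem (mem_sup_left hb)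
    set A := zpowers x ⊔ zpowers (b * x * b⁻¹) with hA
    have hAle : A ≤ B ⊔ zpowers x := sup_le s1.le s2.le
    obtain ⟨a, ha, hae⟩ := Sylow_trans hp (s1.of_le le_sup_left hAle) (s2.of_le le_sup_right hAle)
    set L := closure ({x, a * u} : Set G) with hLdef
    have hxL : x ∈ L := subset_closure (by simp)
    have hauL : a * u ∈ L := subset_closure (by simp)
    have hcx : (a * u) * x * (a * u)⁻¹ = a * x * a⁻¹ := by
      have := hUa.comm huU hxU
      calc (a * u) * x * (a * u)⁻¹ = a * (u * x) * u⁻¹ * a⁻¹ := by group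
        _ = a * x * a⁻¹ := by rw [this]; group
    have hAL : A ≤ L := by
      refine sup_le (zpowers_le.2 hxL) ?_
      rw [hae, cj_zpowers, ← hcx, zpowers_le]
      exact mul_mem (mul_mem hauL hxL) (inv_mem hauL)
    have huL : u ∈ L := by simpa using mul_mem (inv_mem (hAL ha)) hauL
    have hLM : L ≤ M := hB L (h.ne_top_of_sol (h.two _ _))
      (hXY ▸ sup_le (zpowers_le.2 hxL) (zpowers_le.2 huL))
    have hy : b * x * b⁻¹ ∈ Q := by
      have : zpowers (b * x * b⁻¹) ≤ Q := by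
        rw [hae]
        exact cj_le_of_mem_N (hX.le.trans hUQ) ((pcore_nml _ _).norm (hLM (hAL ha)))
      exact this (mem_zpowers _)
    have : b * x * b⁻¹ * x⁻¹ ∈ Q ⊓ B := ⟨Q.mul_mem hy (Q.inv_mem (hUQ hxU)), by
      have := mul_mem hb (conj_mem hxB (inv_mem hb))
      simpa [mul_assoc] using this⟩
    rw [(pcore_pi {p} M).inf_eq_bot hBp, mem_bot] at this
    calc b * x = (b * x * b⁻¹ * x⁻¹) * (x * b) := by group
      _ = x * b := by rw [this, one_mul]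
  -- claim D
  refine h.ne_top_of_sol hMsol (top_le_iff.1 fun g _ => ?_)
  set L := closure ({x, g} : Set G) with hLdef
  have hxL : zpowers x ≤ L := zpowers_le.2 (subset_closure (by simp))
  have hLt : L ≠ ⊤ := h.ne_top_of_sol (h.two _ _)
  have hLM : L ≤ M := by
    by_cases hO : O[{p}, L] = ⊥
    · obtain ⟨hF1, hF2⟩ := hF _ L hLt hxp hx1' hxL hO
      exact absurd (hC _ hF1 ((Fitting_nml L).norm (hxL (mem_zpowers x)))) hF2
    · exact hL _ L hxp hx1' (hX.le.trans (hUQ.trans hQM)) hxL hO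
  exact hLM (subset_closure (by simp))

end noncyc

end TG

end H24
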