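import Mathlib
import Cfsg.Agent.H24.TwoGen1
import Cfsg.Agent.H27.Char
import Cfsg.Agent.H4.Central

/-!
# Groups whose two-generated subgroups are solvable: the cyclic case and the theorem
-/

set_option autoImplicit false
set_option linter.unusedSectionVars false

namespace H24

open Cfsg Subgroup
open H25 hiding abl_iff cyc_zpowers cyc_bot exists_prime_dvd_card cyc_cj
open H26 hiding Fitting_stab_chief
open H27 hiding conj_mem_iff relIndex_pos mem_classSupp
open scoped ComplexConjugate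

universe u

theorem twogen_num {ι : Type*} (s : Finset ι) (m : ι → ℤ) (d : ι → ℕ) (e : ℕ) {o : ι} (ho : o ∈ s)
    (hmo : m o = 1) (hdo : d o = 1) (hd : ∀ i ∈ s, 0 < d i)
    (hlt : ∀ i ∈ s, i ≠ o → m i < d i) (hsq : ∑ i ∈ s, m i ^ 2 = e + 1)
    (h0 : ∑ i ∈ s, m i * d i = 0) (he : 0 < e)
    (hmain : (e : ℝ) * ∑ i ∈ s, (m i : ℝ) ^ 3 / d i = (e : ℝ) ^ 2 - 1) : e < 2 := by
  classical
  obtain ⟨j, hj, hmj⟩ : ∃ j ∈ s, m j < 0 := by
    by_contra hc
    push Not at hc
    have := Finset.single_le_sum (f := fun i => m i * d i)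
      (fun i hi => mul_nonneg (hc i hi) (Int.natCast_nonneg _)) ho
    simp only [hmo, hdo, h0] at this
    norm_num at this
  have hjo : j ≠ o := fun e => by rw [e, hmo] at hmj; norm_num at hmj
  have hj' : j ∈ s.erase o := Finset.mem_erase.2 ⟨hjo, hj⟩
  set t := (s.erase o).erase j with ht
  have split : ∀ {M : Type} [AddCommMonoid M] (f : ι → M), ∑ i ∈ s, f i = f o + (f j + ∑ i ∈ t, f i) := by
    intro M _ f
    rw [Finset.add_sum_erase _ _ hj', Finset.add_sum_erase _ _ ho]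
  have h1 : ∑ i ∈ t, m i ^ 2 ≤ e - 1 := by
    rw [split, hmo] at hsq
    nlinarith
  have heR : (1 : ℝ) ≤ e := by exact_mod_cast he
  have h2 : ∀ i ∈ t, (m i : ℝ) ^ 3 / d i ≤ (m i : ℝ) ^ 2 * ((e - 1) / e) := by
    intro i hi
    have his : i ∈ s := Finset.mem_of_mem_erase (Finset.mem_of_mem_erase hi)
    have hio : i ≠ o := (Finset.mem_erase.1 (Finset.mem_of_mem_erase hi)).1
    have hdi : (0 : ℝ) < d i := by exact_mod_cast hd i his
    rcases le_or_gt (m i) 0 with hm | hm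
    · have hm' : (m i : ℝ) ≤ 0 := by exact_mod_cast hm
      refine le_trans (div_nonpos_of_nonpos_of_nonneg ?_ hdi.le) (by positivity)
      have : (m i : ℝ) ^ 3 = m i * m i ^ 2 := by ring
      rw [this]
      exact mul_nonpos_of_nonpos_of_nonneg hm' (sq_nonneg _)
    · have a1 : m i ^ 2 ≤ e - 1 :=
        (Finset.single_le_sum (f := fun i => m i ^ 2) (fun i _ => sq_nonneg _) hi).trans h1
      have a2 : m i ≤ e - 1 := by nlinarith
      have a3 : m i + 1 ≤ d i := hlt i his hio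
      have a4 : m i * e ≤ (e - 1) * d i := by nlinarith
      have a5 : (m i : ℝ) * e ≤ (e - 1) * d i := by exact_mod_cast a4
      have : (m i : ℝ) ^ 3 / d i = (m i : ℝ) ^ 2 * (m i / d i) := by ring
      rw [this]
      refine mul_le_mul_of_nonneg_left ?_ (sq_nonneg _)
      rw [div_le_div_iff₀ hdi (by linarith)]
      exact a5
  have h3 : ∑ i ∈ t, (m i : ℝ) ^ 3 / d i ≤ (e - 1) * ((e - 1) / e) := by
    refine (Finset.sum_le_sum h2).trans ?_
    rw [← Finset.sum_mul]
    refine mul_le_mul_of_nonneg_right ?_ (div_nonneg (by linarith) (by linarith))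
    exact_mod_cast h1
  have h4 : (m j : ℝ) ^ 3 / d j < 0 := by
    have hm' : (m j : ℝ) < 0 := by exact_mod_cast hmj
    have hdj : (0 : ℝ) < d j := by exact_mod_cast hd j hj
    exact div_neg_of_neg_of_pos (Odd.pow_neg (by decide) hm') hdj
  rw [split, hmo, hdo] at hmain
  have h5 : (e : ℝ) * ((e - 1) * ((e - 1) / e)) = (e - 1) ^ 2 := by field_simp
  have h6 : (e : ℝ) < 2 := by
    have b1 := mul_le_mul_of_nonneg_left h3 (by linarith : (0 : ℝ) ≤ e)
    have b2 := mul_neg_of_pos_of_neg (by linarith : (0 : ℝ) < e) h4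
    push_cast at hmain
    nlinarith
  exact_mod_cast h6

variable {G : Type u} [Group G] [Finite G] {p : ℕ} {P : Subgroup G}

namespace TG

theorem cent_eq (h : TG G) (hp : p.Prime) (hP : Syl p ⊤ P) (hc : Cyc P) {x : G} (hx : x ∈ P)
    (h1 : x ≠ 1) : C{x} = P := by
  have hPC : P ≤ C{x} := mem_C_iff_le_C1.1 (hc.abl.le_C hx)
  have hxp := hP.pi.piElt hx
  have hS : Syl p C{x} P := hP.of_le hPC le_top
  have hsol := h.sol_C1 h1
  have hO := cent_sub_pcore hp hsol (h.pcore_C1 hp hxp h1)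
  have hOP : O[{p}, C{x}] ≤ P := pcore_le_Hall hS
  have e : O[{p}, C{x}] = P := le_antisymm hOP ((le_inf hPC (hc.abl.cents le_rfl hOP)).trans hO)
  have hn : C{x} ≤ N[P] := e ▸ (pcore_nml _ _).norm
  obtain ⟨H, hH⟩ := Hall_exists {p}ᶜ hsol
  have hHP : H ≤ C[P] := coprime_abelian_faithful_Ohm1 (hH.le.trans hn) (hP.pi.coprime hH.pi) hc.abl
    fun y hy hy' => by
      have hyp : orderOf y = p := (hP.pi.piElt hy) _ hy' dvd_rfl
      have : zpowers y ≤ zpowers x := cyc_le_of_card_dvd hc (zpowers_le.2 hy) (zpowers_le.2 hx)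
        (by rw [card_zpowers', card_zpowers', hyp]; exact hxp.dvd_orderOf h1)
      exact mem_C_iff_le_C1.2 (hH.le.trans (C1_le_C1_of_mem_zpowers (this (mem_zpowers y))))
  rw [e] at hO
  rw [← (hS.isProd hH).sup_eq, sup_eq_left]
  exact (le_inf hH.le hHP).trans hO

theorem ti (h : TG G) (hp : p.Prime) (hP : Syl p ⊤ P) (hc : Cyc P) {x g : G} (hx : x ∈ P)
    (h1 : x ≠ 1) (hg : g * x * g⁻¹ ∈ P) : g ∈ N[P] := by
  rw [mem_N_iff_cj]
  conv_lhs => rw [← h.cent_eq hp hP hc hx h1, cj_C1]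
  exact h.cent_eq hp hP hc hg (by rwa [Ne, conj_eq_one_iff'])

theorem key (h : TG G) (hp : p.Prime) (hP : Syl p ⊤ P) (hc : Cyc P) (g : G) :
    ∃ n ∈ N[P], ∀ a ∈ P, ∀ b ∈ P, (n * a * n⁻¹ * b = 1 → PiElt {p}ᶜ (g * a * g⁻¹ * b)) ∧
      (n * a * n⁻¹ * b ≠ 1 → ∃ k, k * (n * a * n⁻¹ * b) * k⁻¹ = g * a * g⁻¹ * b) := by
  obtain ⟨x, hx, hxP⟩ := hc.exists_gen
  set H := closure ({x, g * x * g⁻¹} : Set G) with hH
  have hsol : Sol H := h.two _ _
  have hPH : P ≤ H := hxP ▸ zpowers_le.2 (subset_closure (by simp))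
  have hPgH : cj g P ≤ H := by
    rw [← hxP, cj_zpowers, zpowers_le]; exact subset_closure (by simp)
  have hS : Syl p H P := hP.of_le hPH le_top
  have hS' : Syl p H (cj g P) := (hP.cj_mem (mem_top g)).of_le hPgH le_top
  have hl : PLen1 p H := by
    rw [plen1_iff_syl_le hS]
    have h1 : Syl p (Opp p H) (P ⊓ Opp p H) := hS.inf_nml (core2_nml _ _ _)
    exact (le_inf hPH (hc.abl.cents le_rfl inf_le_left)).trans (solvable_p_constrained hp hsol h1)
  set K := O[{p}ᶜ, H] with hK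
  have hKH : K ⊴ H := pcore_nml _ _
  have hKp : IsPi {p}ᶜ K := pcore_pi _ _
  obtain ⟨y, hy, hye⟩ := Sylow_trans hp hS hS'
  obtain ⟨k, hk, n, hn, rfl⟩ := (hl.isProd hp hS).mul y hy
  have hgk : k⁻¹ * g ∈ N[P] := by
    rw [← cj_eq_cj_iff, hye, cj_mul, cj_of_mem_N hn.2]
  refine ⟨k⁻¹ * g, hgk, fun a ha b hb => ?_⟩
  set a' := k⁻¹ * g * a * (k⁻¹ * g)⁻¹ with ha'
  have ha'P : a' ∈ P := conj_mem hgk ha
  have hk' : k * (a' * k⁻¹ * a'⁻¹) ∈ K := mul_mem hk (hKH.conj_mem (hPH ha'P) (inv_mem hk))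
  have e : g * a * g⁻¹ * b = k * (a' * k⁻¹ * a'⁻¹) * (a' * b) := by rw [ha']; group
  refine ⟨fun h1 => ?_, fun h1 => ?_⟩
  · rw [e, h1, mul_one]; exact hKp.piElt hk'
  · have hw : a' * b ∈ P := mul_mem ha'P hb
    obtain ⟨k1, -, hk1⟩ := exists_conj_of_fpf (hKH.norm (hPH hw))
      (by rw [h.cent_eq hp hP hc hw h1]; exact hKp.inf_eq_bot' hP.pi) hk'
    exact ⟨k1, hk1.trans e.symm⟩

theorem lin_conj_ne (h : TG G) (hp : p.Prime) (hP : Syl p ⊤ P) (hc : Cyc P) {lam : G → ℂ}
    (hl : IsLin P lam) (h1 : lam ≠ cfOne P) {n : G} (hn : n ∈ N[P]) (hnP : n ∉ P) :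
    cfConj n lam ≠ lam := by
  intro e
  refine h1 ((irr_eq_cfOne_iff hl.irr).2 fun y hy => hl.mem_cfker.2 ⟨hy, ?_⟩)
  have hf : P ⊓ C{n⁻¹} = ⊥ := by
    rw [eq_bot_iff]
    rintro z ⟨hz, hzc⟩
    by_contra hz1
    have := mem_C1_comm.1 hzc
    rw [h.cent_eq hp hP hc hz hz1] at this
    exact hnP (by simpa using this)
  obtain ⟨k, hk, hke⟩ := exists_conj_of_fpf (inv_mem hn) hf hy
  have e1 : y = k * (n⁻¹ * k⁻¹ * n) := by
    calc y = y * n⁻¹ * n := by group
      _ = k * (n⁻¹ * k⁻¹ * n) := by rw [← hke]; group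
  have e2 : lam (n⁻¹ * k⁻¹ * n) = lam k⁻¹ := by
    conv_lhs => rw [← e, cfConj_apply]
    congr 1; group
  rw [e1, hl.apply_mul hk (conj_mem' hn (inv_mem hk)), e2, hl.mul_inv hk]

theorem not_cyc (h : TG G) (hp : p.Prime) (hP : Syl p ⊤ P) (hP1 : P ≠ ⊥) : ¬ Cyc P := by
  intro hc
  classical
  have hPt : P ≠ ⊤ := h.ne_top_of_sol hc.sol
  set N := N[P] with hN
  have hPN : P ≤ N := norm_self P
  set e := P.relIndex N with he
  set q : ℂ := (Nat.card P : ℂ) with hq
  have hq0 : q ≠ 0 := cardC_ne_zero P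
  have hNe : (Nat.card N : ℂ) = q * e := by
    rw [card_eq_mul_relIndex hPN]; push_cast; rfl
  obtain ⟨lam, hlam, hl1⟩ : ∃ lam ∈ Irr P, lam ≠ cfOne P := by
    apply Finset.exists_mem_ne
    rw [card_Irr_of_abl hc.abl]
    exact one_lt_card hP1
  have hl : IsLin P lam := irr_lin_of_abl hc.abl hlam
  set mu := cfOne P - lam with hmu
  have hmuv : mu ∈ vchar P := sub_mem (cfOne_vchar P) (irr_vchar hlam)
  have hmu1 : mu 1 = 0 := by simp [hmu, cfOne_apply_one, hl.one]
  set th := cfInd ⊤ P mu with hth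
  have hthv : th ∈ vchar ⊤ := vchar_ind hmuv le_top
  have hthC : th ∈ CF ⊤ := vchar_CF hthv
  have th0 : ∀ y, PiElt {p}ᶜ y → th y = 0 := fun y hy =>
    cfInd_eq_zero_of ⊤ fun g _ hg => by
      rw [(hP.pi.piElt hg).eq_one (hy.conj g), hmu1]
  have thP : ∀ w ∈ P, th w = q⁻¹ * ∑ n ∈ fs (N : Set G), cfConj n mu w := by
    intro w hw
    rw [hth, cfInd_of_mem P mu (mem_top w), cfRes_CF (vchar_CF hmuv)]
    congr 1
    refine (sum_fs_subset (Set.subset_univ _) _ fun g _ hg => ?_).symm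
    by_cases h1 : w = 1
    · simp [h1, hmu1]
    · exact CF_zero (vchar_CF hmuv) fun hg' => hg (h.ti hp hP hc hw h1 hg')
  have thdot : ∀ φ, cfdot P th φ = q⁻¹ * ∑ n ∈ fs (N : Set G), cfdot P (cfConj n mu) φ := by
    intro φ
    rw [← cfdot_sum_left, ← cfdot_smul_left]
    refine cfdot_congr (fun x hx => ?_) fun _ _ => rfl
    rw [thP x hx]; simp
  have hcm : ∀ n ∈ N, cfConj n mu = cfOne P - cfConj n lam := fun n hn => by
    rw [hmu, map_sub, cfConj_cfOne hn]
  have d1 : ∀ n ∈ N, cfdot P (cfConj n lam) (cfOne P) = 0 := fun n hn => by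
    rw [← cfConj_cfOne hn, cfdot_cfConj hn]
    exact irr_dot_ne hlam (cfOne_mem_Irr P) hl1
  have d2 : ∀ n ∈ N, cfdot P (cfConj n lam) lam = if n ∈ P then 1 else 0 := fun n hn => by
    split_ifs with hnP
    · rw [cfConj_CF (irr_CF hlam) hnP, irr_dot_self hlam]
    · exact irr_dot_ne (irr_conj hlam hn) hlam (h.lin_conj_ne hp hP hc hl hl1 hn hnP)
  have d3 : cfdot P (cfOne P) lam = 0 := irr_dot_ne (cfOne_mem_Irr P) hlam hl1.symm
  have sumP : ∀ c : ℂ, ∑ n ∈ fs (N : Set G), (if n ∈ P then c else 0) = q * c := by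
    intro c
    rw [← sum_fs_subset (A := (P : Set G)) hPN (fun n => if n ∈ P then c else 0)
      fun x _ hx => if_neg hx,
      sum_fs_congr (A := (P : Set G)) (f := fun n => if n ∈ P then c else 0) (g := fun _ => c)
      fun x hx => if_pos hx, sum_fs_const]
    simp [hq]
  have sumN : ∀ c : ℂ, ∑ _n ∈ fs (N : Set G), c = q * e * c := by
    intro c
    rw [sum_fs_const, ← hNe]; simp
  have t1 : cfdot P th (cfOne P) = e := by
    rw [thdot, sum_fs_congr (g := fun _ => 1) fun n hn => by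
      rw [hcm n hn, cfdot_sub_left, d1 n hn, cfdot_cfOne_cfOne, sub_zero], sumN]
    field_simp
  have t2 : cfdot P th lam = -1 := by
    rw [thdot, sum_fs_congr (g := fun n => if n ∈ P then -1 else 0) fun n hn => by
      rw [hcm n hn, cfdot_sub_left, d2 n hn, d3]; split_ifs <;> simp, sumP]
    field_simp
  obtain ⟨m, hm, -, hnorm⟩ := vchar_coeff hthv
  have hm' : ∀ χ ∈ Irr (⊤ : Subgroup G), cfdot P mu χ = m χ := fun χ hχ => by
    rw [← hm χ hχ, hth, cfdot_cfInd_left le_top _ (irr_CF hχ)]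
  have t3 : ∀ χ ∈ Irr (⊤ : Subgroup G), cfdot P th χ = e * m χ := fun χ hχ => by
    rw [thdot, sum_fs_congr (g := fun _ => (m χ : ℂ)) fun n hn => by
      rw [← hm' χ hχ, ← cfdot_cfConj hn mu χ, cfConj_CF (irr_CF hχ) (mem_top n)], sumN]
    field_simp
  -- the norm
  have hsq : ∑ χ ∈ Irr (⊤ : Subgroup G), m χ ^ 2 = e + 1 := by
    have : cfdot ⊤ th th = ((e + 1 : ℝ) : ℂ) := by
      conv_lhs => enter [3]; rw [hth]
      rw [cfdot_cfInd_right le_top hthC, hmu, cfdot_sub_right, t1, t2]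
      push_cast; ring
    rw [cfnorm_eq_of_cfdot this] at hnorm
    exact_mod_cast hnorm.symm
  have h0 : ∑ χ ∈ Irr (⊤ : Subgroup G), m χ * deg χ = 0 := by
    have := CF_apply_eq_sum hthC 1
    rw [th0 1 (piElt_one _), Finset.sum_congr rfl fun χ hχ => by
      rw [hm χ hχ, irr_one_eq hχ]] at this
    exact_mod_cast this.symm
  have hmo : m (cfOne ⊤) = 1 := by
    have := hm' _ (cfOne_mem_Irr ⊤)
    rw [← cfdot_cfRes_right, cfRes_cfOne le_top, hmu, cfdot_sub_left, cfdot_cfOne_cfOne,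
      irr_dot_ne hlam (cfOne_mem_Irr P) hl1, sub_zero] at this
    exact_mod_cast this.symm
  have hlt : ∀ χ ∈ Irr (⊤ : Subgroup G), χ ≠ cfOne ⊤ → m χ < deg χ := by
    intro χ hχ hχ1
    have hr : IsChar P (cfRes P χ) := (irr_char hχ).res le_top
    obtain ⟨a, ha⟩ := char_dot_nat hr (isChar_cfOne P)
    obtain ⟨b, hb⟩ := char_dot_nat hr hl.char
    have e1 : m χ = a - b := by
      have := cfdot_symm_int (hm' χ hχ)
      rw [← cfdot_cfRes_left, hmu, cfdot_sub_right, ha, hb] at this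
      exact_mod_cast this.symm
    have hs := hr.sub_dot_smul (cfOne_mem_Irr P)
    have hs1 := hs.one_eq
    have hne : cfRes P χ - cfdot P (cfRes P χ) (cfOne P) • cfOne P ≠ 0 := by
      intro e0
      have hk : P ≤ cfker ⊤ χ := ((irr_char hχ).le_cfker le_top).2 fun x hx => by
        have e2 := congrFun e0 x
        have e3 := congrFun e0 1
        simp only [Pi.sub_apply, Pi.smul_apply, cfRes_of_mem _ hx, cfOne_of_mem hx,
          cfRes_apply_one, cfOne_apply_one, Pi.zero_apply] at e2 e3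
        linear_combination e2 - e3
      have : cfker ⊤ χ = ⊤ := by
        by_contra hne
        exact hP1 (eq_bot_of_le (h.eq_bot_of_nml (cfker_nml (irr_CF hχ)) hne) hk)
      exact hχ1 ((irr_eq_cfOne_iff hχ).2 this.ge)
    have hpos := hs.deg_pos hne
    rw [ha] at hs1 hpos
    simp only [Pi.sub_apply, Pi.smul_apply, cfRes_apply_one, cfOne_apply_one, smul_eq_mul,
      mul_one, irr_one_eq hχ] at hs1
    have : (deg χ : ℤ) - a = deg (cfRes P χ - (a : ℂ) • cfOne P) := by exact_mod_cast hs1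
    omega
  -- the main computation
  have inner : ∀ a ∈ P, ∑ b ∈ fs (P : Set G), th (a * b) * conj (mu b) = q * e + q * lam a := by
    intro a ha
    have : ∑ b ∈ fs (P : Set G), th (a * b) * conj (mu b) =
        q * cfdot P (q⁻¹ • ∑ n ∈ fs (N : Set G), (cfOne P - cfConj n lam a • cfConj n lam)) mu := by
      rw [cfdot_def, ← mul_assoc, mul_inv_cancel₀ hq0, one_mul]
      refine sum_fs_congr fun b hb => ?_
      rw [thP _ (mul_mem ha hb)]
      simp only [Pi.smul_apply, Finset.sum_apply, smul_eq_mul, Pi.sub_apply]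
      congr 2
      refine sum_fs_congr fun n hn => ?_
      rw [hcm n hn, Pi.sub_apply, cfOne_of_mem (mul_mem ha hb), cfOne_of_mem hb,
        (hl.conj hn).apply_mul ha hb]
    rw [this, cfdot_smul_left, ← mul_assoc, mul_inv_cancel₀ hq0, one_mul, cfdot_sum_left,
      sum_fs_congr (g := fun n => 1 + if n ∈ P then lam a else 0) fun n hn => by
        rw [cfdot_sub_left, cfdot_smul_left, hmu, cfdot_sub_right, cfdot_sub_right, d1 n hn,
          d2 n hn, d3, cfdot_cfOne_cfOne]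
        split_ifs with hnP
        · rw [cfConj_CF (irr_CF hlam) hnP]; ring
        · ring, Finset.sum_add_distrib, sumN, sumP, mul_one]
  have hT : ∑ a ∈ fs (P : Set G), ∑ b ∈ fs (P : Set G), th (a * b) * conj (mu b) * conj (th a) =
      q ^ 2 * (e ^ 2 - 1) := by
    have : ∑ a ∈ fs (P : Set G), ∑ b ∈ fs (P : Set G), th (a * b) * conj (mu b) * conj (th a) =
        q * cfdot P ((q * e) • cfOne P + q • lam) th := by
      rw [cfdot_def, ← mul_assoc, mul_inv_cancel₀ hq0, one_mul]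
      refine sum_fs_congr fun a ha => ?_
      rw [← Finset.sum_mul, inner a ha]
      simp [cfOne_of_mem ha]
    rw [this, cfdot_add_left, cfdot_smul_left, cfdot_smul_left, ← conj_cfdot, t1, ← conj_cfdot, t2]
    simp only [map_natCast, map_neg, map_one]
    ring
  have hg : ∀ g : G, ∑ a ∈ fs (P : Set G), ∑ b ∈ fs (P : Set G),
      th (g * a * g⁻¹ * b) * conj (mu b) * conj (th a) = q ^ 2 * (e ^ 2 - 1) := by
    intro g
    obtain ⟨n, hn, hk⟩ := h.key hp hP hc g
    rw [← hT]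
    conv_rhs => rw [← sum_fs_conj hn]
    refine sum_fs_congr fun a ha => sum_fs_congr fun b hb => ?_
    rw [CF_conj hthC (mem_top n)]
    congr 2
    by_cases h1 : n * a * n⁻¹ * b = 1
    · rw [h1, th0 _ ((hk a ha b hb).1 h1), th0 1 (piElt_one _)]
    · obtain ⟨k, hk'⟩ := (hk a ha b hb).2 h1
      rw [← hk', CF_conj hthC (mem_top k)]
  have hG0 : (Nat.card (⊤ : Subgroup G) : ℂ) ≠ 0 := cardC_ne_zero ⊤
  have hS : ∑ g ∈ fs ((⊤ : Subgroup G) : Set G), ∑ a ∈ fs (P : Set G), ∑ b ∈ fs (P : Set G),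
      th (g * a * g⁻¹ * b) * conj (mu b) * conj (th a) =
      Nat.card (⊤ : Subgroup G) * (q ^ 2 * (e * ∑ χ ∈ Irr (⊤ : Subgroup G), (m χ : ℂ) ^ 3 / deg χ)) := by
    have e1 : ∀ a b : G, ∑ g ∈ fs ((⊤ : Subgroup G) : Set G), th (g * a * g⁻¹ * b) =
        ∑ χ ∈ Irr (⊤ : Subgroup G), m χ * (Nat.card (⊤ : Subgroup G) * χ a * χ b / deg χ) := by
      intro a b
      rw [Finset.sum_congr rfl fun g _ => CF_apply_eq_sum hthC _, Finset.sum_comm]
      refine Finset.sum_congr rfl fun χ hχ => ?_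
      rw [← Finset.mul_sum, irr_sum_conj_mul hχ (mem_top a) (mem_top b), hm χ hχ, irr_one_eq hχ]
    have e2 : ∀ χ ∈ Irr (⊤ : Subgroup G), ∑ a ∈ fs (P : Set G), χ a * conj (th a) = q * (e * m χ) := by
      intro χ hχ
      have := cfdot_def P χ th
      rw [← conj_cfdot, t3 χ hχ] at this
      simp only [map_mul, map_natCast, map_intCast] at this
      rw [this, ← mul_assoc, mul_inv_cancel₀ hq0, one_mul]
    have e3 : ∀ χ ∈ Irr (⊤ : Subgroup G), ∑ b ∈ fs (P : Set G), χ b * conj (mu b) = q * m χ := by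
      intro χ hχ
      have := cfdot_def P χ mu
      rw [cfdot_symm_int (hm' χ hχ)] at this
      rw [this, ← mul_assoc, mul_inv_cancel₀ hq0, one_mul]
    calc _ = ∑ a ∈ fs (P : Set G), ∑ b ∈ fs (P : Set G),
          (∑ g ∈ fs ((⊤ : Subgroup G) : Set G), th (g * a * g⁻¹ * b)) * conj (mu b) * conj (th a) := by
          rw [Finset.sum_comm]
          refine Finset.sum_congr rfl fun a _ => ?_
          rw [Finset.sum_comm]
          refine Finset.sum_congr rfl fun b _ => ?_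
          rw [Finset.sum_mul, Finset.sum_mul]
      _ = ∑ χ ∈ Irr (⊤ : Subgroup G), m χ * Nat.card (⊤ : Subgroup G) / deg χ *
          ((∑ a ∈ fs (P : Set G), χ a * conj (th a)) * ∑ b ∈ fs (P : Set G), χ b * conj (mu b)) := by
          simp only [e1, Finset.sum_mul, Finset.mul_sum]
          conv_rhs => rw [Finset.sum_comm]
          conv_lhs => rw [Finset.sum_comm]
          refine Finset.sum_congr rfl fun b _ => ?_
          rw [Finset.sum_comm]
          refine Finset.sum_congr rfl fun χ _ => Finset.sum_congr rfl fun a _ => ?_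
          ring
      _ = _ := by
          rw [Finset.mul_sum, Finset.mul_sum, Finset.mul_sum]
          refine Finset.sum_congr rfl fun χ hχ => ?_
          rw [e2 χ hχ, e3 χ hχ]
          ring
  rw [Finset.sum_congr rfl fun g _ => hg g, sum_fs_const, nsmul_eq_mul] at hS
  have hS' := mul_left_cancel₀ (pow_ne_zero 2 hq0) (mul_left_cancel₀ hG0 hS)
  have he2 : e < 2 := twogen_num (Irr (⊤ : Subgroup G)) m deg e (cfOne_mem_Irr ⊤) hmo (deg_cfOne ⊤)
    (fun χ hχ => irr_deg_pos hχ) hlt hsq h0 (relIndex_pos _ _) (by exact_mod_cast hS'.symm)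
  have he1 : e = 1 := by have := relIndex_pos P N; omega
  have hNP : N ≤ P := relIndex_eq_one.1 he1
  have hsd := Burnside_normal_complement hp hP (inf_le_right.trans (hNP.trans hc.abl.le_C))
  by_cases hO : O[{p}ᶜ, (⊤ : Subgroup G)] = ⊤
  · exact hP1 (hP.pi.eq_bot ((isPi_of_pcore_eq hO).of_le le_top))
  · rw [h.eq_bot_of_nml (pcore_nml _ _) hO] at hsd
    exact hPt hsd.eq_of_left_bot

theorem false (h : TG G) : False := by
  obtain ⟨p, hp, hd, h5⟩ : ∃ p, p.Prime ∧ p ∣ Nat.card G ∧ 5 ≤ p := by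
    by_contra hc
    push Not at hc
    refine h.nsol (sol_top_iff.2 (H4.isSolvable_of_primes Nat.prime_two Nat.prime_three
      fun r hr hd => ?_))
    have := hc r hr hd
    have := hr.two_le
    interval_cases r
    · simp
    · simp
    · norm_num at hr
  obtain ⟨P, hP⟩ := Sylow_exists hp (⊤ : Subgroup G)
  exact h.not_cyc hp hP (hP.ne_bot hp rfl (by rwa [Subgroup.card_top])) (h.cyc_of_syl hp h5 hP)

end TG

theorem solvable_of_two_aux (n : ℕ) : ∀ (G : Type u) [Group G] [Finite G], Nat.card G = n →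
    (∀ a b : G, Sol (closure ({a, b} : Set G))) → Group.IsSolvable G := by
  induction n using Nat.strong_induction_on with | _ n ih => ?_
  intro G _ _ hn h
  by_contra hns
  have hprop : ∀ H : Subgroup G, H ≠ ⊤ → Sol H := by
    intro H hH
    refine ih _ (by
      rw [← hn, ← Subgroup.card_top (G := G)]; exact card_lt (lt_top_iff_ne_top.2 hH)) H rfl
      fun a b => ?_
    rw [← sol_map_iff H.subtype_injective, MonoidHom.map_closure, Set.image_pair]
    exact h _ _
  haveI : Nontrivial G := by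
    by_contra hc
    rw [not_nontrivial_iff_subsingleton] at hc
    exact hns inferInstance
  refine TG.false (G := G) ⟨⟨fun K hK => ?_⟩, fun e => hns (sol_top_iff.1 e), h, hprop⟩
  by_contra hc
  push Not at hc
  haveI : Group.IsSolvable K := hprop K hc.2
  haveI : Group.IsSolvable (G ⧸ K) := by
    refine ih _ ?_ (G ⧸ K) rfl fun a b => ?_
    · rw [← hn, ← K.index_eq_card, ← K.index_mul_card]
      exact lt_mul_of_one_lt_right (Nat.pos_of_ne_zero K.index_ne_zero_of_finite)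
        (one_lt_card hc.1)
    · obtain ⟨a, rfl⟩ := QuotientGroup.mk'_surjective K a
      obtain ⟨b, rfl⟩ := QuotientGroup.mk'_surjective K b
      rw [← Set.image_pair, ← MonoidHom.map_closure]
      exact (h a b).map _
  exact hns ((Group.isSolvable_iff_subgroup_quotient K).2 ⟨inferInstance, inferInstance⟩)

theorem solvable_of_two (h : ∀ a b : G, Sol (closure ({a, b} : Set G))) : Group.IsSolvable G :=
  solvable_of_two_aux _ G rfl h

end H24
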